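import Mathlib
import Cfsg.Prelude.Def_CaseTheorems

set_option autoImplicit false

/-!
A finite `p`-group, `p` odd, all of whose elementary abelian subgroups have order at most `p`
(`Cfsg.PRankLE p 1`) is cyclic.  Also: class-2 power formula, facts on maximal subgroups of `p`-groups.
By helper49.
-/

namespace Cfsg.Agent.Lib.Helper49

universe u

variable {P : Type u} [Group P]

/-- class 2 power formula, preparatory: if `c = h g h⁻¹ g⁻¹` is central then `hⁿ g = cⁿ g hⁿ`. -/
theorem pow_mul_comm_of_central {g h : P} (hc : h * g * h⁻¹ * g⁻¹ ∈ Subgroup.center P) (n : ℕ) :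
    h ^ n * g = (h * g * h⁻¹ * g⁻¹) ^ n * g * h ^ n := by
  set c := h * g * h⁻¹ * g⁻¹ with hcdef
  have hcc : ∀ x : P, c * x = x * c := fun x => (Subgroup.mem_center_iff.mp hc x).symm
  have h1 : h * g = c * g * h := by rw [hcdef]; group
  induction n with
  | zero => simp
  | succ n ih =>
    calc h ^ (n + 1) * g = h * (h ^ n * g) := by rw [pow_succ']; group
      _ = h * (c ^ n * g * h ^ n) := by rw [ih]
      _ = h * c ^ n * g * h ^ n := by group
      _ = c ^ n * (h * g) * h ^ n := by
          have : h * c ^ n = c ^ n * h := by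
            have := (Commute.pow_left (show Commute c h from hcc h) n)
            exact this.eq.symm
          rw [this]; group
      _ = c ^ n * (c * g * h) * h ^ n := by rw [h1]
      _ = c ^ (n + 1) * g * h ^ (n + 1) := by rw [pow_succ, pow_succ]; group

theorem mul_pow_of_central {g h : P} (hc : h * g * h⁻¹ * g⁻¹ ∈ Subgroup.center P) (n : ℕ) :
    (g * h) ^ n = g ^ n * h ^ n * (h * g * h⁻¹ * g⁻¹) ^ (n.choose 2) := by
  set c := h * g * h⁻¹ * g⁻¹ with hcdef
  have hcc : ∀ x : P, c * x = x * c := fun x => (Subgroup.mem_center_iff.mp hc x).symm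
  induction n with
  | zero => simp
  | succ n ih =>
    have h2 := pow_mul_comm_of_central hc n
    rw [← hcdef] at h2
    have hcn : ∀ (k : ℕ) (x : P), c ^ k * x = x * c ^ k := fun k x =>
      (Commute.pow_left (show Commute c x from hcc x) k).eq
    calc (g * h) ^ (n + 1) = (g * h) ^ n * (g * h) := pow_succ _ _
      _ = g ^ n * h ^ n * c ^ (n.choose 2) * (g * h) := by rw [ih]
      _ = g ^ n * (h ^ n * g) * h * c ^ (n.choose 2) := by
          rw [mul_assoc (g ^ n * h ^ n), hcn]; group
      _ = g ^ n * (c ^ n * g * h ^ n) * h * c ^ (n.choose 2) := by rw [h2]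
      _ = g ^ n * (c ^ n * (g * h ^ n * h)) * c ^ (n.choose 2) := by group
      _ = g ^ n * ((g * h ^ n * h) * c ^ n) * c ^ (n.choose 2) := by rw [hcn n]
      _ = g ^ n * g * h ^ n * h * (c ^ n * c ^ (n.choose 2)) := by group
      _ = g ^ (n + 1) * h ^ (n + 1) * c ^ ((n + 1).choose 2) := by
          rw [← pow_add, ← pow_succ, mul_assoc (g ^ (n + 1)), ← pow_succ]
          congr 2
          rw [Nat.choose_succ_succ' n 1, Nat.choose_one_right]

/-- In a group where commutators and `p`-th powers are central (`p` an odd prime), the `p`-power map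
is multiplicative. -/
theorem mul_pow_prime_of_central {p : ℕ} [hp : Fact p.Prime] (hp2 : p ≠ 2)
    (hcomm : ∀ g h : P, h * g * h⁻¹ * g⁻¹ ∈ Subgroup.center P)
    (hpow : ∀ g : P, g ^ p ∈ Subgroup.center P) (g h : P) :
    (g * h) ^ p = g ^ p * h ^ p := by
  have h1 := mul_pow_of_central (hcomm g h) p
  have h2 := pow_mul_comm_of_central (hcomm g h) p
  -- c^p = 1
  have hcp : (h * g * h⁻¹ * g⁻¹) ^ p = 1 := by
    have h3 : h ^ p * g = g * h ^ p := (Subgroup.mem_center_iff.mp (hpow h) g).symm
    rw [h3] at h2
    have hcc := (Commute.pow_left (show Commute (h * g * h⁻¹ * g⁻¹) g from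
      (Subgroup.mem_center_iff.mp (hcomm g h) g).symm) p).eq
    rw [hcc, mul_assoc] at h2
    have := mul_left_cancel h2
    -- h^p = c^p * h^p
    exact (mul_eq_right.mp this.symm)
  have hdvd : p ∣ p.choose 2 := by
    apply hp.out.dvd_choose_self (by norm_num)
    have := hp.out.two_le
    omega
  obtain ⟨k, hk⟩ := hdvd
  rw [h1, hk, pow_mul, hcp, one_pow, mul_one]

/-- The rank-one hypothesis passes to subgroups. -/
theorem pRankLE_one_subgroup {p : ℕ} (h : Cfsg.PRankLE p 1 P) (H : Subgroup P) :
    Cfsg.PRankLE p 1 H := by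
  intro A hA hexp
  have h1 := h (A.map H.subtype) inferInstance (by
    rintro _ ⟨a, ha, rfl⟩
    have := hexp a ha
    simpa using congrArg Subtype.val this)
  rwa [Subgroup.card_map_of_injective H.subtype_injective] at h1

/-- In a nontrivial finite `p`-group of rank one, the elements killed by `p` lie in `⟨z⟩` for a central
element `z` of order `p`. -/
theorem exists_central_zpowers {p : ℕ} [hp : Fact p.Prime] [Finite P] [Nontrivial P]
    (hP : IsPGroup p P) (h : Cfsg.PRankLE p 1 P) :
    ∃ z ∈ Subgroup.center P, orderOf z = p ∧ ∀ g : P, g ^ p = 1 → g ∈ Subgroup.zpowers z := by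
  have hZnt : Nontrivial (Subgroup.center P) := hP.center_nontrivial
  have hZp : IsPGroup p (Subgroup.center P) := hP.to_subgroup _
  obtain ⟨k, hk⟩ := hZp.exists_card_eq
  have hk0 : k ≠ 0 := by
    rintro rfl
    rw [pow_zero] at hk
    have := (Nat.card_eq_one_iff_unique.mp hk).1
    exact not_subsingleton _ this
  have hdvd : p ∣ Nat.card (Subgroup.center P) := by
    rw [hk]; exact dvd_pow_self p hk0
  obtain ⟨z', hz'⟩ := exists_prime_orderOf_dvd_card' p hdvd
  refine ⟨z', z'.2, by rw [← hz', Subgroup.orderOf_coe], ?_⟩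
  intro g hg
  have hzc : ∀ x : P, (z' : P) * x = x * z' := fun x => (Subgroup.mem_center_iff.mp z'.2 x).symm
  set A := Subgroup.closure ({(z' : P), g} : Set P) with hA
  have hAcomm : IsMulCommutative A := by
    apply Subgroup.isMulCommutative_closure
    intro x hx y hy
    rcases hx with rfl | rfl
    · exact hzc y
    · rcases hy with rfl | rfl
      · exact (hzc x).symm
      · rfl
  have hzp : (z' : P) ^ p = 1 := by
    rw [← Subgroup.orderOf_coe] at hz'
    rw [← hz']; exact pow_orderOf_eq_one _
  have hAexp : ∀ a ∈ A, a ^ p = 1 := by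
    intro a ha
    induction ha using Subgroup.closure_induction with
    | mem x hx =>
      rcases hx with rfl | rfl
      · exact hzp
      · exact hg
    | one => simp
    | mul x y hx hy ihx ihy =>
      have hc : Commute x y := by
        have := hAcomm.is_comm.comm ⟨x, hx⟩ ⟨y, hy⟩
        exact congrArg Subtype.val this
      rw [hc.mul_pow, ihx, ihy, one_mul]
    | inv x hx ihx => rw [inv_pow, ihx, inv_one]
  have hAcard : Nat.card A ≤ p := by
    have := h A hAcomm hAexp
    simpa using this
  have hzA : Subgroup.zpowers (z' : P) ≤ A := by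
    rw [Subgroup.zpowers_le]
    exact Subgroup.subset_closure (by simp)
  have hzcard : Nat.card (Subgroup.zpowers (z' : P)) = p := by
    rw [Nat.card_zpowers, Subgroup.orderOf_coe, hz']
  have heq : Subgroup.zpowers (z' : P) = A :=
    Subgroup.eq_of_le_of_card_ge hzA (by rw [hzcard]; exact hAcard)
  rw [heq]
  exact Subgroup.subset_closure (by simp)

/-- Facts on coatoms (maximal subgroups) of finite `p`-groups: normal, contain `p`-th powers and
commutators. -/
theorem coatom_facts {p : ℕ} [hp : Fact p.Prime] [Finite P] (hP : IsPGroup p P)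
    {M : Subgroup P} (hM : IsCoatom M) :
    (∀ g : P, g ^ p ∈ M) ∧ ∀ g h : P, h * g * h⁻¹ * g⁻¹ ∈ M := by
  have hnil : Group.IsNilpotent P := hP.isNilpotent
  have hNC : NormalizerCondition P := Group.normalizerCondition_of_isNilpotent
  have hMn : M.Normal := Subgroup.NormalizerCondition.normal_of_coatom M hNC hM
  -- the quotient is generated by the image of any element outside M
  have hgen : ∀ g : P, g ∉ M → ∀ x : P ⧸ M, x ∈ Subgroup.zpowers (QuotientGroup.mk g : P ⧸ M) := by
    intro g hg x
    have hcomap : (Subgroup.zpowers (QuotientGroup.mk g : P ⧸ M)).comap (QuotientGroup.mk' M) = ⊤ := by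
      apply hM.2
      apply lt_of_le_of_ne
      · intro m hm
        rw [Subgroup.mem_comap, QuotientGroup.mk'_apply, (QuotientGroup.eq_one_iff m).mpr hm]
        exact Subgroup.one_mem _
      · intro heq
        apply hg
        rw [heq, Subgroup.mem_comap]
        exact Subgroup.mem_zpowers _
    obtain ⟨y, rfl⟩ := QuotientGroup.mk_surjective x
    have : y ∈ (Subgroup.zpowers (QuotientGroup.mk g : P ⧸ M)).comap (QuotientGroup.mk' M) := by
      rw [hcomap]; trivial
    exact this
  constructor
  · intro g
    by_cases hg : g ∈ M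
    · exact M.pow_mem hg p
    · -- the subgroup M' = preimage of ⟨(gM)^p⟩ is proper, hence equals M
      set q : P ⧸ M := QuotientGroup.mk g with hq
      have hq1 : q ≠ 1 := by
        intro h1
        exact hg ((QuotientGroup.eq_one_iff g).mp h1)
      have hne : (Subgroup.zpowers (q ^ p)).comap (QuotientGroup.mk' M) ≠ ⊤ := by
        intro htop
        have h1 : g ∈ (Subgroup.zpowers (q ^ p)).comap (QuotientGroup.mk' M) := by
          rw [htop]; trivial
        rw [Subgroup.mem_comap, QuotientGroup.mk'_apply, Subgroup.mem_zpowers_iff] at h1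
        obtain ⟨k, hk⟩ := h1
        have h2 : q ^ ((p : ℤ) * k - 1) = 1 := by
          rw [zpow_sub, zpow_mul, zpow_natCast, hk, zpow_one, mul_inv_cancel]
        have h3 : (orderOf q : ℤ) ∣ (p : ℤ) * k - 1 := orderOf_dvd_iff_zpow_eq_one.mpr h2
        obtain ⟨j, hj⟩ := (hP.to_quotient M) q
        have h4 : orderOf q ∣ p ^ j := orderOf_dvd_of_pow_eq_one hj
        obtain ⟨i, _, hi⟩ := (Nat.dvd_prime_pow hp.out).mp h4
        have hi0 : i ≠ 0 := by
          rintro rfl
          rw [pow_zero, orderOf_eq_one_iff] at hi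
          exact hq1 hi
        have h5 : (p : ℤ) ∣ (orderOf q : ℤ) := by
          rw [hi]; exact_mod_cast dvd_pow_self p hi0
        have h6 : (p : ℤ) ∣ (p : ℤ) * k - 1 := h5.trans h3
        have h7 : (p : ℤ) ∣ 1 := by
          have : (p : ℤ) ∣ (p : ℤ) * k - ((p : ℤ) * k - 1) := dvd_sub (dvd_mul_right _ _) h6
          simpa using this
        have := Int.eq_one_of_dvd_one (by positivity) h7
        have hp1 : p = 1 := by exact_mod_cast this
        exact hp.out.ne_one hp1
      have hle : M ≤ (Subgroup.zpowers (q ^ p)).comap (QuotientGroup.mk' M) := by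
        intro m hm
        rw [Subgroup.mem_comap, QuotientGroup.mk'_apply, (QuotientGroup.eq_one_iff m).mpr hm]
        exact Subgroup.one_mem _
      have heq : (Subgroup.zpowers (q ^ p)).comap (QuotientGroup.mk' M) = M := by
        by_contra hne'
        exact hne (hM.2 _ (lt_of_le_of_ne hle (Ne.symm hne')))
      rw [← heq, Subgroup.mem_comap, QuotientGroup.mk'_apply, QuotientGroup.mk_pow]
      exact Subgroup.mem_zpowers _
  · intro g h
    by_cases hg : g ∈ M
    · have : h * g * h⁻¹ ∈ M := hMn.conj_mem g hg h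
      exact M.mul_mem this (M.inv_mem hg)
    · have h1 := hgen g hg (QuotientGroup.mk h)
      obtain ⟨k, hk⟩ := Subgroup.mem_zpowers_iff.mp h1
      rw [← QuotientGroup.eq_one_iff]
      simp only [QuotientGroup.mk_mul, QuotientGroup.mk_inv]
      rw [← hk]
      have hc : Commute ((QuotientGroup.mk g : P ⧸ M) ^ k) (QuotientGroup.mk g : P ⧸ M) :=
        (Commute.refl _).zpow_left k
      rw [hc.eq, mul_inv_cancel_right, mul_inv_cancel]

theorem isCyclic_of_pRankLE_one_aux {p : ℕ} [hp : Fact p.Prime] (hp2 : p ≠ 2) :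
    ∀ n : ℕ, ∀ (P : Type u) [Group P] [Finite P], Nat.card P = n → IsPGroup p P →
      Cfsg.PRankLE p 1 P → IsCyclic P := by
  intro n
  induction n using Nat.strong_induction_on with
  | _ n ih =>
    intro P _ _ hcard hP hrk
    by_contra hncyc
    have hnt : Nontrivial P := by
      by_contra h
      rw [not_nontrivial_iff_subsingleton] at h
      exact hncyc isCyclic_of_subsingleton
    -- proper subgroups are cyclic
    have hsub : ∀ H : Subgroup P, H ≠ ⊤ → IsCyclic H := by
      intro H hH
      apply ih (Nat.card H) _ H rfl (hP.to_subgroup H) (pRankLE_one_subgroup hrk H)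
      rw [← hcard]
      apply lt_of_le_of_ne (Subgroup.card_le_card_group H)
      intro heq
      exact hH (Subgroup.eq_top_of_card_eq H heq)
    -- two distinct coatoms
    obtain ⟨M₁, hM₁, -⟩ := (eq_top_or_exists_le_coatom (⊥ : Subgroup P)).resolve_left bot_ne_top
    obtain ⟨g, hg⟩ : ∃ g : P, g ∉ M₁ := by
      by_contra hcon
      push Not at hcon
      exact hM₁.1 (eq_top_iff.mpr fun x _ => hcon x)
    have hzg : Subgroup.zpowers g ≠ ⊤ := by
      intro h
      apply hncyc
      refine ⟨g, fun x => ?_⟩
      have : x ∈ Subgroup.zpowers g := by rw [h]; trivial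
      exact this
    obtain ⟨M₂, hM₂, hgM₂⟩ := (eq_top_or_exists_le_coatom (Subgroup.zpowers g)).resolve_left hzg
    have hne : M₁ ≠ M₂ := by
      rintro rfl
      exact hg (hgM₂ (Subgroup.mem_zpowers g))
    obtain ⟨hpow₁, hcomm₁⟩ := coatom_facts hP hM₁
    obtain ⟨hpow₂, hcomm₂⟩ := coatom_facts hP hM₂
    have hcyc₁ : IsCyclic M₁ := hsub M₁ hM₁.1
    have hcyc₂ : IsCyclic M₂ := hsub M₂ hM₂.1
    have hab : ∀ (M : Subgroup P), IsCyclic M → ∀ a ∈ M, ∀ b ∈ M, a * b = b * a := by
      intro M hMc a ha b hb
      have : IsMulCommutative M := inferInstance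
      have := this.is_comm.comm ⟨a, ha⟩ ⟨b, hb⟩
      exact congrArg Subtype.val this
    -- the intersection is central
    have hcent : M₁ ⊓ M₂ ≤ Subgroup.center P := by
      intro x hx
      rw [Subgroup.mem_center_iff]
      have htop : Subgroup.centralizer ({x} : Set P) = ⊤ := by
        rw [eq_top_iff, ← hM₁.sup_eq_top_of_ne hM₂ hne]
        apply sup_le
        · intro m hm
          rw [Subgroup.mem_centralizer_singleton_iff]
          exact hab M₁ hcyc₁ m hm x hx.1
        · intro m hm
          rw [Subgroup.mem_centralizer_singleton_iff]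
          exact hab M₂ hcyc₂ m hm x hx.2
      intro y
      have : y ∈ Subgroup.centralizer ({x} : Set P) := by rw [htop]; trivial
      rw [Subgroup.mem_centralizer_singleton_iff] at this
      exact this
    have hmul := mul_pow_prime_of_central (P := P) hp2
      (fun g h => hcent ⟨hcomm₁ g h, hcomm₂ g h⟩) (fun g => hcent ⟨hpow₁ g, hpow₂ g⟩)
    let φ : P →* P := { toFun := fun g => g ^ p, map_one' := one_pow p, map_mul' := hmul }
    have hφ : ∀ g, φ g = g ^ p := fun _ => rfl
    obtain ⟨z, hzc, hzord, hzall⟩ := exists_central_zpowers hP hrk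
    have hker : φ.ker ≤ Subgroup.zpowers z := fun g hg => hzall g (by
      rw [MonoidHom.mem_ker, hφ] at hg; exact hg)
    have hkercard : Nat.card φ.ker ≤ p := by
      have := Subgroup.card_le_of_le hker
      rwa [Nat.card_zpowers, hzord] at this
    have hzker : z ∈ φ.ker := by
      rw [MonoidHom.mem_ker, hφ, ← hzord]; exact pow_orderOf_eq_one z
    have hz1 : z ≠ 1 := by
      intro h
      rw [h, orderOf_one] at hzord
      exact hp.out.ne_one hzord.symm
    have hprod : Nat.card φ.ker * Nat.card φ.range = Nat.card P := by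
      rw [← Subgroup.index_ker φ]; exact Subgroup.card_mul_index φ.ker
    have hker_gt : 1 < Nat.card φ.ker := by
      rw [Subgroup.one_lt_card_iff_ne_bot]
      intro h
      rw [h, Subgroup.mem_bot] at hzker
      exact hz1 hzker
    have hPpos : 0 < Nat.card P := Nat.card_pos
    have hrange_ne : φ.range ≠ ⊤ := by
      intro h
      have h1 : Nat.card φ.range = Nat.card P := by rw [h, Subgroup.card_top]
      rw [h1] at hprod
      nlinarith
    obtain ⟨y', hy'⟩ := (hsub φ.range hrange_ne).exists_generator
    obtain ⟨c, hc⟩ := y'.2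
    have hordy : orderOf (φ c) = Nat.card φ.range := by
      rw [hc, Subgroup.orderOf_coe]
      exact orderOf_eq_card_of_forall_mem_zpowers hy'
    rw [hφ] at hordy
    obtain ⟨a, ha⟩ := (IsPGroup.iff_orderOf.mp hP) c
    rcases Nat.eq_zero_or_pos a with ha0 | ha0
    · -- c = 1
      rw [ha0, pow_zero, orderOf_eq_one_iff] at ha
      rw [ha, one_pow, orderOf_one] at hordy
      rw [← hordy, mul_one] at hprod
      -- card P = card ker ≤ p
      obtain ⟨k, hk⟩ := hP.exists_card_eq
      have hk0 : k ≠ 0 := by
        rintro rfl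
        rw [pow_zero] at hk
        rw [hk] at hprod
        omega
      have hge : p ≤ Nat.card P := by
        rw [hk]; exact Nat.le_self_pow hk0 p
      have hPp : Nat.card P = p := le_antisymm (hprod ▸ hkercard) hge
      exact hncyc (isCyclic_of_prime_card hPp)
    · have hgcd : Nat.gcd (orderOf c) p = p := by
        rw [ha]
        exact Nat.gcd_eq_right (dvd_pow_self p ha0.ne')
      have h1 : orderOf (c ^ p) = orderOf c / p := by
        rw [orderOf_pow' c hp.out.ne_zero, hgcd]
      have h2 : orderOf c = p * orderOf (c ^ p) := by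
        rw [h1, ha]
        rw [Nat.mul_div_cancel' (dvd_pow_self p ha0.ne')]
      have h3 : Nat.card P ≤ orderOf c := by
        rw [h2, hordy, ← hprod]
        exact Nat.mul_le_mul_right _ hkercard
      have h4 : orderOf c = Nat.card P := le_antisymm (orderOf_le_card) h3
      exact hncyc (isCyclic_of_orderOf_eq_card c h4)

/-- A finite `p`-group, `p` odd, in which every elementary abelian subgroup has order at most `p`
is cyclic. -/
theorem isCyclic_of_pRankLE_one {p : ℕ} [hp : Fact p.Prime] (hp2 : p ≠ 2) {P : Type u} [Group P]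
    [Finite P] (hP : IsPGroup p P) (hrk : Cfsg.PRankLE p 1 P) : IsCyclic P :=
  isCyclic_of_pRankLE_one_aux hp2 _ P rfl hP hrk

end Cfsg.Agent.Lib.Helper49
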