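import Mathlib
import Cfsg.Agent.Lib.Helper16.PF13Defs
import Cfsg.Agent.Lib.Helper75.Clifford
import Cfsg.Agent.Lib.Helper78.CharMore

/-!
# PF sec.13 module [ETAAVG] (helper49, for helper16): sums of `η ω` over a subgroup
-/

set_option autoImplicit false

namespace Cfsg.Agent.Lib.Helper49.PF13

open Cfsg Cfsg.Agent.Lib.Helper24.PFCyc Cfsg.Agent.Lib.Helper4.PF Cfsg.Agent.Lib.Helper16.PF13

universe u

variable {G : Type u} [Group G] [Fintype G] {S W₁ U W₂ : Subgroup G} [Fintype S]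
  {mu : WChar W₁ W₂ → (↥S → ℂ)} {dl : WChar W₁ W₂ → ℂ} {η : WChar W₁ W₂ → (G → ℂ)}

omit [Fintype G] in
/-- a `finsum` over a subgroup as a sum over the subtype -/
theorem finsum_mem_subgroup (P : Subgroup G) [Fintype P] (f : G → ℂ) :
    ∑ᶠ y ∈ (P : Set G), f y = ∑ y : P, f y := by
  rw [← finsum_eq_sum_of_fintype]
  exact (finsum_set_coe_eq_finsum_mem (f := f) (P : Set G)).symm

/-- the sum of a character over a subgroup is `|P|` times a natural number -/
theorem sum_character_subgroup {χ : G → ℂ} (hχ : IsCharacter G χ) (P : Subgroup G) [Fintype P] :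
    ∃ n : ℕ, ∑ y : P, χ y = (Nat.card P : ℂ) * (n : ℂ) := by
  obtain ⟨n, hn⟩ := Helper78.IsCharacter.exists_nat_classInner
    (Helper75.isCharacter_res P hχ) ⟨fun _ => 1, Helper78.isIrrCharacter_one⟩
  refine ⟨n, ?_⟩
  rw [← hn]
  unfold classInner
  have h0 : (Nat.card P : ℂ) ≠ 0 := Nat.cast_ne_zero.mpr Nat.card_pos.ne'
  rw [← mul_assoc, mul_inv_cancel₀ h0, one_mul]
  exact Finset.sum_congr rfl (fun y _ => by simp)

/-- **[ETAAVG]** -/
theorem eta_avg (hη : IsCyclicTIFamily W₁ W₂ η) (ω : WChar W₁ W₂) (P : Subgroup G) :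
    ∃ m : ℤ, ∑ᶠ y ∈ (P : Set G), η ω y = (Nat.card P : ℂ) * (m : ℂ) := by
  classical
  let _ : Fintype P := Fintype.ofFinite P
  rw [finsum_mem_subgroup]
  rcases hη.irr_or_neg ω with h | h
  · obtain ⟨n, hn⟩ := sum_character_subgroup (Helper78.IsIrrCharacter.isCharacter h) P
    exact ⟨(n : ℤ), by rw [hn]; push_cast; ring⟩
  · obtain ⟨n, hn⟩ := sum_character_subgroup (Helper78.IsIrrCharacter.isCharacter h) P
    refine ⟨-(n : ℤ), ?_⟩
    have h1 : ∑ y : P, η ω y = -∑ y : P, (-η ω) y := by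
      rw [← Finset.sum_neg_distrib]
      exact Finset.sum_congr rfl (fun y _ => by simp)
    rw [h1, hn]
    push_cast
    ring

end Cfsg.Agent.Lib.Helper49.PF13
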