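import Mathlib
import Cfsg.Agent.Lib.Helper16.PF13Defs
import Cfsg.Agent.Lib.Helper25.PF13W
import Cfsg.Agent.Lib.Helper77.Deflation
import Cfsg.Agent.Lib.Helper78.CharBasic

/-!
# PF sec.13 module [ZEQ] (helper49, for helper16): `calZ S` is helper25's `indIrrNot`
-/

set_option autoImplicit false

namespace Cfsg.Agent.Lib.Helper49.PF13

open Cfsg Cfsg.Agent.Lib.Helper24.PFCyc Cfsg.Agent.Lib.Helper4.PF Cfsg.Agent.Lib.Helper16.PF13

universe u

variable {G : Type u} [Group G] [Fintype G]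

/-- for an irreducible character `θ` of `K`: not constant on the cosets of `P` iff nontrivial on
`P ∩ K` -/
theorem not_transInv_iff {L : Type u} [Group L] [Finite L] (K P : Subgroup L) {θ : ↥K → ℂ}
    (hθ : IsCharacter ↥K θ) :
    ¬ Cfsg.Agent.Lib.Helper25.PF13W.TransInv K P θ ↔ ∃ h : ↥K, (h : L) ∈ P ∧ θ h ≠ θ 1 := by
  constructor
  · intro hnot
    by_contra hcon
    push Not at hcon
    apply hnot
    obtain ⟨N, -, hN, -, hmul⟩ := Helper77.exists_kernel hθ
    intro y hy a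
    exact hmul a y ((hN y).mpr (hcon y hy))
  · rintro ⟨h, hP, hne⟩ htr
    apply hne
    have := htr h hP 1
    rwa [mul_one] at this

/-- **[ZEQ]** -/
theorem calZ_eq_indIrrNot (S : Subgroup G) [Fintype S] :
    calZ S = Cfsg.Agent.Lib.Helper25.PF13W.indIrrNot (KM S) (PS S) := by
  ext φ
  unfold calZ Cfsg.Agent.Lib.Helper58.PF9.Sbook Cfsg.Agent.Lib.Helper58.PF9.Xset
    Cfsg.Agent.Lib.Helper25.PF13W.indIrrNot
  constructor
  · rintro ⟨θ, ⟨hθ, -, hne⟩, rfl⟩
    exact ⟨θ, hθ, (not_transInv_iff (KM S) (PS S)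
      (Helper78.IsIrrCharacter.isCharacter hθ)).mpr hne, rfl⟩
  · rintro ⟨θ, hθ, hnot, rfl⟩
    refine ⟨θ, ⟨hθ, ?_, (not_transInv_iff (KM S) (PS S)
      (Helper78.IsIrrCharacter.isCharacter hθ)).mp hnot⟩, rfl⟩
    intro a ha
    have h1 : a = 1 := by
      apply Subtype.ext
      rw [Subgroup.mem_bot] at ha
      exact ha
    rw [h1]

end Cfsg.Agent.Lib.Helper49.PF13
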