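import Mathlib
import Cfsg.Agent.Lib.Helper16.PF13Defs
import Cfsg.Agent.Lib.Helper60.PFCycB2
import Cfsg.Agent.Lib.Helper9.PFCycMuConst
import Cfsg.Agent.Lib.Helper77.Deflation
import Cfsg.Agent.Lib.Helper78.CharOrtho

/-!
# PF sec.13 module [MUSUB] (helper49, for helper16)

`musub_pair`: module [B2] for a `PSide` (Types II/III): the signs `δ_ψ` are constant and
`τ(μ_j - μ_j') = δ (∑_i η_{ij} - ∑_i η_{ij'})`.

Also: `coset_sum_eq_zero`, `apply_eq_zero_of_cent` (an irreducible character not trivial on a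
normal subgroup `P` vanishes at every `k` with `C_P(k) = 1`) and `mu_apply_eq_zero`.
-/

set_option autoImplicit false

namespace Cfsg.Agent.Lib.Helper49.PF13

open Cfsg Cfsg.Agent.Lib.Helper24.PFCyc Cfsg.Agent.Lib.Helper4.PF Cfsg.Agent.Lib.Helper16.PF13

universe u

section Abstract

variable {K : Type u} [Group K] [Fintype K]

/-- the sums of an irreducible character over the cosets of a normal subgroup that is not in its
kernel vanish -/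
theorem coset_sum_eq_zero (P : Subgroup K) [hPn : P.Normal] [Fintype P] {θ : K → ℂ}
    (hθ : IsIrrCharacter K θ) (hne : ∃ h ∈ P, θ h ≠ θ 1) (a : K) :
    ∑ y : P, θ ((y : K) * a) = 0 := by
  classical
  obtain ⟨n, σ, hσ, rfl⟩ := hθ
  set f : K → ℂ := fun g => if g ∈ P then 1 else 0 with hf
  have hfc : IsClassFunction K f := by
    intro g h
    have hiff : h * g * h⁻¹ ∈ P ↔ g ∈ P := by
      constructor
      · intro hh
        have h1 := hPn.conj_mem _ hh h⁻¹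
        have h2 : h⁻¹ * (h * g * h⁻¹) * h⁻¹⁻¹ = g := by group
        rwa [h2] at h1
      · intro hg
        exact hPn.conj_mem g hg h
    simp only [hf, hiff]
  have hT := Helper78.weightedSum_eq_smul_of_irreducible hfc σ hσ
  set c := (∑ g : K, f g * σ.character g) / (Module.finrank ℂ (Fin n → ℂ) : ℂ) with hc
  have hS : ∀ a : K, ∑ y : P, σ.character ((y : K) * a) = c * σ.character a := by
    intro a
    have h1 : ∑ y : P, σ.character ((y : K) * a) = ∑ g : K, f g * σ.character (g * a) := by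
      have h2 : ∀ g : K, f g * σ.character (g * a) =
          if g ∈ P then σ.character (g * a) else 0 := by
        intro g
        simp only [hf]
        split_ifs <;> simp
      rw [Finset.sum_congr rfl (fun g _ => h2 g), ← Finset.sum_filter]
      exact (Finset.sum_subtype (Finset.univ.filter (fun g => g ∈ P)) (by simp)
        (fun g => σ.character (g * a))).symm
    have h3 : ∑ g : K, f g * σ.character (g * a) =
        LinearMap.trace ℂ (Fin n → ℂ) (Helper78.weightedSum f σ * σ a) := by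
      unfold Helper78.weightedSum
      rw [Finset.sum_mul, map_sum]
      apply Finset.sum_congr rfl
      intro g _
      rw [smul_mul_assoc, map_smul, smul_eq_mul, ← map_mul]
      rfl
    rw [h1, h3, hT, smul_mul_assoc, map_smul, one_mul, smul_eq_mul]
    rfl
  have hinv : ∀ h ∈ P, ∀ a : K, ∑ y : P, σ.character ((y : K) * (h * a)) =
      ∑ y : P, σ.character ((y : K) * a) := by
    intro h hh a
    apply Fintype.sum_equiv (Equiv.mulRight (⟨h, hh⟩ : P))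
    intro y
    simp [mul_assoc]
  have hc0 : c = 0 := by
    by_contra hcne
    obtain ⟨h, hh, hne'⟩ := hne
    apply hne'
    have h1 := hinv h hh 1
    rw [hS, hS, mul_one] at h1
    exact mul_left_cancel₀ hcne h1
  rw [hS, hc0, zero_mul]

/-- an irreducible character that is not trivial on the normal subgroup `P` vanishes at every
element `k` with `C_P(k) = 1` -/
theorem apply_eq_zero_of_cent (P : Subgroup K) [hPn : P.Normal] [Fintype P] {θ : K → ℂ}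
    (hθ : IsIrrCharacter K θ) (hne : ∃ h ∈ P, θ h ≠ θ 1) (k : K)
    (hk : ∀ y ∈ P, k * y = y * k → y = 1) : θ k = 0 := by
  classical
  have hmem : ∀ y : P, (y : K) * k * (y : K)⁻¹ * k⁻¹ ∈ P := by
    intro y
    have h1 : k * (y : K)⁻¹ * k⁻¹ ∈ P := hPn.conj_mem _ (P.inv_mem y.2) k
    have h2 : (y : K) * k * (y : K)⁻¹ * k⁻¹ = (y : K) * (k * (y : K)⁻¹ * k⁻¹) := by group
    rw [h2]
    exact P.mul_mem y.2 h1
  set e : P → P := fun y => ⟨(y : K) * k * (y : K)⁻¹ * k⁻¹, hmem y⟩ with he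
  have hinj : Function.Injective e := by
    intro y y' hyy
    have h1 : (y : K) * k * (y : K)⁻¹ * k⁻¹ = (y' : K) * k * (y' : K)⁻¹ * k⁻¹ :=
      congrArg Subtype.val hyy
    have h2 : (y : K) * k * (y : K)⁻¹ = (y' : K) * k * (y' : K)⁻¹ := mul_right_cancel h1
    have h3 : k * ((y : K)⁻¹ * (y' : K)) = ((y : K)⁻¹ * (y' : K)) * k := by
      have : k = (y : K)⁻¹ * ((y' : K) * k * (y' : K)⁻¹) * (y : K) := by
        rw [← h2]; group
      calc k * ((y : K)⁻¹ * (y' : K))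
          = ((y : K)⁻¹ * ((y' : K) * k * (y' : K)⁻¹) * (y : K)) * ((y : K)⁻¹ * (y' : K)) := by
            rw [← this]
        _ = ((y : K)⁻¹ * (y' : K)) * k := by group
    have h4 := hk _ (P.mul_mem (P.inv_mem y.2) y'.2) h3
    apply Subtype.ext
    exact (inv_mul_eq_one.mp h4)
  have hbij : Function.Bijective e := hinj.bijective_of_finite
  have hcl := Helper78.isClassFunction_irr ⟨θ, hθ⟩
  have h1 : ∑ y : P, θ ((e y : K) * k) = ∑ y : P, θ ((y : K) * k) :=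
    hbij.sum_comp (fun z : P => θ ((z : K) * k))
  rw [coset_sum_eq_zero P hθ hne k] at h1
  have h2 : ∀ y : P, θ ((e y : K) * k) = θ k := by
    intro y
    have : (e y : K) * k = (y : K) * k * (y : K)⁻¹ := by
      simp only [he]
      group
    rw [this]
    exact hcl k (y : K)
  rw [Finset.sum_congr rfl (fun y _ => h2 y), Finset.sum_const, Finset.card_univ,
    nsmul_eq_mul] at h1
  have hcard : (Fintype.card P : ℂ) ≠ 0 := by
    have : Fintype.card P ≠ 0 := Fintype.card_ne_zero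
    exact_mod_cast this
  exact (mul_eq_zero.mp h1).resolve_left hcard

end Abstract

variable {G : Type u} [Group G] [Fintype G] {S W₁ U W₂ : Subgroup G} [Fintype S]
  {mu : WChar W₁ W₂ → (↥S → ℂ)} {dl : WChar W₁ W₂ → ℂ} {η : WChar W₁ W₂ → (G → ℂ)}

omit [Fintype G] [Fintype S] in
theorem mem_fittingHall_iff (x : ↥S) : x ∈ fittingHall ↥S ↔ (x : G) ∈ fittingHallOf S := by
  unfold fittingHallOf
  constructor
  · intro hx
    exact ⟨x, hx, rfl⟩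
  · rintro ⟨y, hy, hyx⟩
    have : y = x := Subtype.ext hyx
    rwa [← this]

/-- `μ_ω` is not trivial on `S_F` when `ω` is not trivial on `W₂` -/
theorem mu_not_trivial_on_P (hP : IsTypePWith S W₁ U W₂) (md : MuData S W₁ W₂ mu dl)
    (ω : WChar W₁ W₂) (hω : ∃ w : ↥(W₁ ⊔ W₂), (w : G) ∈ W₂ ∧ ω w ≠ 1) :
    ∃ h ∈ fittingHall ↥S, mu ω h ≠ mu ω 1 := by
  by_contra hcon
  push Not at hcon
  obtain ⟨N, -, hN, hmulr, -⟩ := Helper77.exists_kernel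
    (Helper78.IsIrrCharacter.isCharacter (md.irr ω))
  obtain ⟨w₂, hw₂, hne⟩ := hω
  obtain ⟨hW₁ne, -, hinf, -, -, -⟩ := hP.selfNormalizing
  obtain ⟨w₁, hw₁1⟩ := (Subgroup.ne_bot_iff_exists_ne_one.mp hW₁ne)
  have hw₁' : (w₁ : G) ≠ 1 := fun h => hw₁1 (Subtype.ext h)
  have hW₁S : W₁ ≤ S := hP.W₁_compl.2.1
  have hW₂P : W₂ ≤ fittingHallOf S := hP.W₂_le.trans inf_le_left
  have hPS : fittingHallOf S ≤ S := by
    unfold fittingHallOf
    rintro _ ⟨y, -, rfl⟩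
    exact y.2
  -- the three elements of `↥S`
  set m₁ : ↥S := ⟨(w₁ : G), hW₁S w₁.2⟩ with hm₁
  set m₂ : ↥S := ⟨(w₂ : G), hPS (hW₂P hw₂)⟩ with hm₂
  have hm₁W : ((m₁ * m₂ : ↥S) : G) ∈ W₁ ⊔ W₂ :=
    (W₁ ⊔ W₂).mul_mem (Subgroup.mem_sup_left w₁.2) (Subgroup.mem_sup_right hw₂)
  have hm₁W' : ((m₁ : ↥S) : G) ∈ W₁ ⊔ W₂ := Subgroup.mem_sup_left w₁.2
  have hnot₁ : ((m₁ : ↥S) : G) ∉ W₂ := by
    intro h
    have : (w₁ : G) ∈ W₁ ⊓ W₂ := ⟨w₁.2, h⟩
    rw [hinf, Subgroup.mem_bot] at this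
    exact hw₁' this
  have hnot : ((m₁ * m₂ : ↥S) : G) ∉ W₂ := by
    intro h
    apply hnot₁
    have h1 : ((m₁ : ↥S) : G) = ((m₁ * m₂ : ↥S) : G) * (w₂ : G)⁻¹ := by
      simp [hm₁, hm₂]
    rw [h1]
    exact W₂.mul_mem h (W₂.inv_mem hw₂)
  have hv := md.val ω (m₁ * m₂) hm₁W hnot
  have hv₁ := md.val ω m₁ hm₁W' hnot₁
  have hm₂N : m₂ ∈ N := (hN m₂).mpr (hcon m₂ ((mem_fittingHall_iff m₂).mpr (hW₂P hw₂)))
  rw [hmulr m₁ m₂ hm₂N, hv₁] at hv
  have hmul : (⟨((m₁ * m₂ : ↥S) : G), hm₁W⟩ : ↥(W₁ ⊔ W₂)) =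
      ⟨((m₁ : ↥S) : G), hm₁W'⟩ * w₂ := by
    apply Subtype.ext
    simp [hm₁, hm₂]
  rw [hmul, map_mul, Units.val_mul] at hv
  have hdl : dl ω ≠ 0 := by
    rcases md.sign ω with h | h <;> rw [h] <;> norm_num
  have h1 : ((ω ⟨((m₁ : ↥S) : G), hm₁W'⟩ : ℂˣ) : ℂ) ≠ 0 := Units.ne_zero _
  have h2 : ((ω w₂ : ℂˣ) : ℂ) = 1 := by
    have h3 := mul_left_cancel₀ hdl hv
    have h4 : ((ω ⟨((m₁ : ↥S) : G), hm₁W'⟩ : ℂˣ) : ℂ) * 1 =
        ((ω ⟨((m₁ : ↥S) : G), hm₁W'⟩ : ℂˣ) : ℂ) * ((ω w₂ : ℂˣ) : ℂ) := by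
      rw [mul_one]; exact h3
    exact (mul_left_cancel₀ h1 h4).symm
  exact hne (Units.ext h2)

/-- `μ_ω` vanishes at the `x ∈ S'#` outside `A(S)` when `ω` is not trivial on `W₂` -/
theorem mu_apply_eq_zero (h : PSide S W₁ U W₂ mu dl η) (ω : WChar W₁ W₂)
    (hω : ∃ w : ↥(W₁ ⊔ W₂), (w : G) ∈ W₂ ∧ ω w ≠ 1) (x : ↥S) (hxK : (x : G) ∈ ⁅S, S⁆)
    (hx1 : x ≠ 1) (hxA : (x : G) ∉ litA S) : mu ω x = 0 := by
  classical
  let _ : Fintype (fittingHall ↥S) := Fintype.ofFinite _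
  apply apply_eq_zero_of_cent (fittingHall ↥S) (h.md.irr ω) (mu_not_trivial_on_P h.hP h.md ω hω) x
  intro y hy hcomm
  by_contra hy1
  apply hxA
  refine h.hA_mem (x : G) hxK (fun hx => hx1 (Subtype.ext hx))
    ⟨(y : G), (mem_fittingHall_iff y).mp hy, fun hy' => hy1 (Subtype.ext hy'), ?_⟩
  exact congrArg Subtype.val hcomm

omit [Fintype G] [Fintype S] in
/-- a nontrivial `ψ` trivial on `W₁` is nontrivial on `W₂`; so is `φ ψ` for `φ` trivial on `W₂` -/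
theorem exists_W₂_ne_one (ψ : WChar W₁ W₂) (hψ : TrivOn W₁ ψ)
    (hψ1 : ψ ≠ 1) (φ : WChar W₁ W₂) (hφ : TrivOn W₂ φ) :
    ∃ w : ↥(W₁ ⊔ W₂), (w : G) ∈ W₂ ∧ (φ * ψ) w ≠ 1 := by
  by_contra hcon
  push Not at hcon
  apply hψ1
  apply Cfsg.Agent.Lib.Helper9.PFCyc.wchar_ext_of_eq_on
  · intro w hw
    rw [hψ w hw]
    rfl
  · intro w hw
    have h1 := hcon w hw
    rw [MonoidHom.mul_apply, hφ w hw, one_mul] at h1
    rw [h1]
    rfl

/-- **[MUSUB]** -/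
theorem musub_pair (h : PSide S W₁ U W₂ mu dl η) :
    ∃ δ : ℂ, (δ = 1 ∨ δ = -1) ∧ (∀ ψ : WChar W₁ W₂, TrivOn W₁ ψ → ψ ≠ 1 → dl ψ = δ) ∧
    ∀ ψ ψ' : WChar W₁ W₂, TrivOn W₁ ψ → TrivOn W₁ ψ' → ψ ≠ 1 → ψ' ≠ 1 → ψ ≠ ψ' →
      tauM S (muSum mu ψ - muSum mu ψ') = δ • (etaSum η ψ - etaSum η ψ') := by
  classical
  have hoddS : Odd (Nat.card S) := by
    have hdvd : Nat.card S ∣ Nat.card G := Subgroup.card_subgroup_dvd_card S
    exact Odd.of_dvd_nat h.hodd hdvd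
  have hconst := fun ψ ψ' hψ hψ' hψ1 hψ'1 =>
    Cfsg.Agent.Lib.Helper9.PFCyc.mu_const h.hP hoddS h.md h.hp ψ ψ' hψ hψ' hψ1 hψ'1
  by_cases hex : ∃ ψ₀ : WChar W₁ W₂, TrivOn W₁ ψ₀ ∧ ψ₀ ≠ 1
  · obtain ⟨ψ₀, hψ₀, hψ₀1⟩ := hex
    refine ⟨dl ψ₀, h.md.sign ψ₀, fun ψ hψ hψ1 => (hconst ψ ψ₀ hψ hψ₀ hψ1 hψ₀1).1, ?_⟩
    intro ψ ψ' hψ hψ' hψ1 hψ'1 hne
    obtain ⟨hdl, hdeg⟩ := hconst ψ ψ' hψ hψ' hψ1 hψ'1
    have hsupp : ∀ x : ↥S, (x : G) ∈ ⁅S, S⁆ → (x : G) ∉ litA0 S → x ≠ 1 →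
        ∀ φ : WChar W₁ W₂, TrivOn W₂ φ → mu (φ * ψ) x = mu (φ * ψ') x := by
      intro x hxK hxA0 hx1 φ hφ
      have hxA : (x : G) ∉ litA S := fun hx => hxA0 (Or.inl hx)
      rw [mu_apply_eq_zero h (φ * ψ) (exists_W₂_ne_one ψ hψ hψ1 φ hφ) x hxK hx1 hxA,
        mu_apply_eq_zero h (φ * ψ') (exists_W₂_ne_one ψ' hψ' hψ'1 φ hφ) x hxK hx1 hxA]
    have hmain := (Cfsg.Agent.Lib.Helper60.PFCycB.dade_mu_sub h.hP h.hD h.md hoddS η h.hη ψ ψ'
      hψ hψ' hψ1 hψ'1 hne hdl hdeg hsupp).2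
    rw [(hconst ψ ψ₀ hψ hψ₀ hψ1 hψ₀1).1] at hmain
    exact hmain
  · refine ⟨1, Or.inl rfl, fun ψ hψ hψ1 => absurd ⟨ψ, hψ, hψ1⟩ hex, ?_⟩
    intro ψ ψ' hψ _ hψ1 _ _
    exact absurd ⟨ψ, hψ, hψ1⟩ hex

end Cfsg.Agent.Lib.Helper49.PF13
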