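import Mathlib
import Cfsg.Agent.Lib.Helper10.PF14Defs
import Cfsg.Agent.Lib.Helper44.PF13Grp
import Cfsg.Agent.Lib.Helper49.PF13MuSub
import Cfsg.Agent.Lib.Helper26.PF13MuLoc
import Cfsg.Agent.Lib.Helper54.PFCycCover
import Cfsg.Agent.Lib.Helper9.PFCycMuGal
import Cfsg.Agent.Lib.Helper25.PFCycEta

/-!
# PF sec.14 module [BETA-S] (helper49, for helper10)

`beta_local`: the `S`-local facts on `β_ψ = Ind_{P W₁}^S 1 - μ_ψ`.
Statement verbatim from `Cfsg/Agent/Lib/Helper10/PF14_MODULES.md`.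
-/

set_option autoImplicit false

namespace Cfsg.Agent.Lib.Helper49.PF14

open Cfsg Cfsg.Agent.Lib.Helper24.PFCyc Cfsg.Agent.Lib.Helper4.PF Cfsg.Agent.Lib.Helper16.PF13
  Cfsg.Agent.Lib.Helper10.PF14
open scoped ComplexConjugate

universe u

section Abstract

variable {K : Type u} [Group K] [Fintype K]

theorem classInner_sub_sub (a b : K → ℂ) :
    classInner (a - b) (a - b) =
      classInner a a - classInner a b - classInner b a + classInner b b := by
  unfold classInner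
  have h : ∀ s : K, (a - b) s * conj ((a - b) s) =
      a s * conj (a s) - a s * conj (b s) - b s * conj (a s) + b s * conj (b s) := by
    intro s
    rw [Pi.sub_apply, map_sub]
    ring
  rw [Finset.sum_congr rfl (fun s _ => h s), Finset.sum_add_distrib, Finset.sum_sub_distrib,
    Finset.sum_sub_distrib]
  ring

theorem classInner_sub_left (a b c : K → ℂ) :
    classInner (a - b) c = classInner a c - classInner b c := by
  unfold classInner
  have h : ∀ s : K, (a - b) s * conj (c s) = a s * conj (c s) - b s * conj (c s) := by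
    intro s
    rw [Pi.sub_apply]
    ring
  rw [Finset.sum_congr rfl (fun s _ => h s), Finset.sum_sub_distrib]
  ring

end Abstract

variable {G : Type u} [Group G] [Fintype G] {S W₁ U W₂ : Subgroup G} [Fintype S]
  {mu : WChar W₁ W₂ → (↥S → ℂ)} {dl : WChar W₁ W₂ → ℂ} {η : WChar W₁ W₂ → (G → ℂ)}

omit [Fintype G] in
/-- the number of elements of `↥S` lying in a subgroup `H ≤ S` -/
theorem card_filter_mem (H : Subgroup G) (hHS : H ≤ S) [DecidablePred fun s : ↥S => (s : G) ∈ H] :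
    (Finset.univ.filter (fun s : ↥S => (s : G) ∈ H)).card = Nat.card H := by
  rw [← Fintype.card_subtype]
  rw [← Nat.card_eq_fintype_card]
  exact Nat.card_congr (Subgroup.subgroupOfEquivOfLe hHS).toEquiv

omit [Fintype G] [Fintype S] in
/-- an element of `W ∖ W₂` is not in `S'` -/
theorem not_mem_der_of_mem_W (hP : IsTypePWith S W₁ U W₂) {w : G} (hw : w ∈ W₁ ⊔ W₂)
    (hw₂ : w ∉ W₂) : w ∉ ⁅S, S⁆ := by
  intro hwK
  have hW := hP.selfNormalizing
  have hcomm := hW.2.2.2.1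
  have hW₂K : W₂ ≤ ⁅S, S⁆ := (hP.W₂_le.trans inf_le_left).trans hP.U_compl.1
  obtain ⟨a, ha, b, hb, rfl⟩ : ∃ a ∈ W₁, ∃ b ∈ W₂, w = a * b := by
    refine Cfsg.Agent.Lib.Helper3.Dade.mem_sup_decomp W₂ W₁ ?_ (by rwa [sup_comm])
    intro k hk u hu
    rw [hcomm k hk u hu, mul_inv_cancel_right]
    exact hu
  have haK : a ∈ ⁅S, S⁆ := by
    have : a = a * b * b⁻¹ := by group
    rw [this]
    exact Subgroup.mul_mem _ hwK (Subgroup.inv_mem _ (hW₂K hb))
  have ha1 : a = 1 := by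
    have : a ∈ ⁅S, S⁆ ⊓ W₁ := ⟨haK, ha⟩
    rw [hP.W₁_compl.2.2.1] at this
    exact Subgroup.mem_bot.mp this
  apply hw₂
  rw [ha1, one_mul]
  exact hb

/-- **PF14-[BETA-S]** -/
theorem beta_local (h : PSide S W₁ U W₂ mu dl η)
    (hπ : IsCharacter ↥S (piS S W₁) ∧
      (∀ s : ↥S, (s : G) ∈ fittingHallOf S → piS S W₁ s = (Nat.card U : ℂ)) ∧
      (∀ s : ↥S, (s : G) ∈ ⁅S, S⁆ → (s : G) ∉ fittingHallOf S → piS S W₁ s = 0) ∧
      (∀ s : ↥S, (s : G) ∉ ⁅S, S⁆ → piS S W₁ s = 1))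
    (ψ : WChar W₁ W₂) (hψ : TrivOn W₁ ψ) (hψ1 : ψ ≠ 1)
    (hμ : mu ψ 1 = (Nat.card U : ℂ) ∧ dl ψ = 1 ∧
      ∀ s : ↥S, (s : G) ∈ ⁅S, S⁆ → (s : G) ∉ fittingHallOf S → mu ψ s = 0) :
    IsGeneralizedCharacter ↥S (betaS S mu ψ) ∧
    (∀ s : ↥S, (s : G) ∉ litA0 S → betaS S mu ψ s = 0) ∧
    (∃ N : ℕ, N * Nat.card W₁ + 1 = Nat.card U ∧
      classInner (betaS S mu ψ) (betaS S mu ψ) = (N : ℂ) + 2) ∧
    classInner (betaS S mu ψ) (fun _ => (1 : ℂ)) = 1 ∧
    conjFun (betaS S mu ψ) = betaS S mu ψ⁻¹ ∧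
    (∀ (s : ↥S) (hs : (s : G) ∈ W₁ ⊔ W₂), (s : G) ∉ W₁ → (s : G) ∉ W₂ →
      betaS S mu ψ s = 1 - ((ψ ⟨(s : G), hs⟩ : ℂˣ) : ℂ)) := by
  classical
  obtain ⟨hπc, hπP, hπK, hπS⟩ := hπ
  obtain ⟨hμ1, hdl, hμK⟩ := hμ
  have sg := Cfsg.Agent.Lib.Helper44.PF13.sideGrp_of h
  have hKS : (⁅S, S⁆ : Subgroup G) ≤ S := sg.K_le
  have hPK : fittingHallOf S ≤ ⁅S, S⁆ := sg.P_le
  have hPS : fittingHallOf S ≤ S := hPK.trans hKS
  have hoddS : Odd (Nat.card S) := Odd.of_dvd_nat h.hodd (Subgroup.card_subgroup_dvd_card S)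
  have hμirr : IsIrrCharacter ↥S (mu ψ) := h.md.irr ψ
  have hμcl : IsClassFunction ↥S (mu ψ) := Helper78.isClassFunction_irr ⟨mu ψ, hμirr⟩
  have hπcl : IsClassFunction ↥S (piS S W₁) :=
    Cfsg.Agent.Lib.Helper25.isClassFunction_of_isCharacter hπc
  -- `K` is normal in `S`
  have hKconj : ∀ x s : ↥S, ((x * s * x⁻¹ : ↥S) : G) ∈ ⁅S, S⁆ ↔ (s : G) ∈ ⁅S, S⁆ := by
    intro x s
    constructor
    · intro hx
      have := sg.K_normal (x⁻¹ : ↥S) (x⁻¹ : ↥S).2 _ hx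
      simpa [mul_assoc] using this
    · intro hs
      have := sg.K_normal (x : ↥S) x.2 _ hs
      simpa using this
  -- conj of mu
  have hμconj : ∀ s : ↥S, conj (mu ψ s) = mu ψ⁻¹ s := by
    intro s
    have h1 := (Cfsg.Agent.Lib.Helper9.PFCyc.mu_galChar h.hP hoddS h.md
      Complex.conjAe.toRingEquiv ψ).1
    rw [Cfsg.Agent.Lib.Helper25.PFCyc.galChar_conj] at h1
    rw [h1]
    rfl
  -- values on `W ∖ W₂`
  have hW : ∀ (s : ↥S) (hs : (s : G) ∈ W₁ ⊔ W₂), (s : G) ∉ W₂ →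
      betaS S mu ψ s = 1 - ((ψ ⟨(s : G), hs⟩ : ℂˣ) : ℂ) := by
    intro s hs hs₂
    have hsK : (s : G) ∉ ⁅S, S⁆ := not_mem_der_of_mem_W h.hP hs hs₂
    rw [betaS_apply, hπS s hsK, h.md.val ψ s hs hs₂, hdl, one_mul]
  -- sums
  have hsumP : ∑ s ∈ Finset.univ.filter (fun s : ↥S => (s : G) ∈ fittingHallOf S), mu ψ s = 0 := by
    have hω : ∃ w : ↥(W₁ ⊔ W₂), (w : G) ∈ W₂ ∧ ψ w ≠ 1 := by
      have := Cfsg.Agent.Lib.Helper49.PF13.exists_W₂_ne_one ψ hψ hψ1 1 (trivOn_one W₂)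
      simpa using this
    have hne := Cfsg.Agent.Lib.Helper49.PF13.mu_not_trivial_on_P h.hP h.md ψ hω
    have h0 := @Cfsg.Agent.Lib.Helper26.PF13.sum_normal_eq_zero ↥S _ _ (fittingHall ↥S) _
      (Subtype.fintype _) (mu ψ) hμirr hne
    rw [Finset.sum_subtype (p := fun s : ↥S => s ∈ fittingHall ↥S) _
      (by intro x; simp [Cfsg.Agent.Lib.Helper49.PF13.mem_fittingHall_iff])]
    exact h0
  have hsumS : ∑ s : ↥S, mu ψ s = 0 := by
    apply Cfsg.Agent.Lib.Helper26.PF13.sum_irr_eq_zero (mu ψ) hμirr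
    intro heq
    rw [heq] at hsumP
    simp only [Finset.sum_const, nsmul_eq_mul, mul_one] at hsumP
    rw [card_filter_mem (fittingHallOf S) hPS] at hsumP
    have : (Nat.card (fittingHallOf S)) ≠ 0 := Nat.card_pos.ne'
    exact this (by exact_mod_cast hsumP)
  -- the three parts of `↥S`
  set FP : Finset ↥S := Finset.univ.filter (fun s : ↥S => (s : G) ∈ fittingHallOf S) with hFP
  set FK : Finset ↥S := Finset.univ.filter (fun s : ↥S => (s : G) ∈ ⁅S, S⁆) with hFK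
  set FKP : Finset ↥S := FK.filter (fun s : ↥S => (s : G) ∉ fittingHallOf S) with hFKP
  set FN : Finset ↥S := Finset.univ.filter (fun s : ↥S => (s : G) ∉ ⁅S, S⁆) with hFN
  have hsplit : ∀ f : ↥S → ℂ, ∑ s, f s = ∑ s ∈ FP, f s + ∑ s ∈ FKP, f s + ∑ s ∈ FN, f s := by
    intro f
    rw [← Finset.sum_filter_add_sum_filter_not Finset.univ (fun s : ↥S => (s : G) ∈ ⁅S, S⁆) f]
    congr 1
    rw [← Finset.sum_filter_add_sum_filter_not FK (fun s : ↥S => (s : G) ∈ fittingHallOf S) f]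
    congr 2
    rw [hFK, hFP, Finset.filter_filter]
    apply Finset.filter_congr
    intro s _
    exact ⟨fun hh => hh.2, fun hh => ⟨hPK hh, hh⟩⟩
  have hcardFP : (FP.card : ℂ) = (Nat.card (fittingHallOf S) : ℂ) := by
    rw [hFP, card_filter_mem (fittingHallOf S) hPS]
  have hcardFN : (FN.card : ℂ) = (Nat.card S : ℂ) - (Nat.card (⁅S, S⁆ : Subgroup G) : ℂ) := by
    have h1 := Finset.card_filter_add_card_filter_not (s := (Finset.univ : Finset ↥S))
      (fun s : ↥S => (s : G) ∈ ⁅S, S⁆)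
    rw [card_filter_mem (⁅S, S⁆ : Subgroup G) hKS, Finset.card_univ,
      ← Nat.card_eq_fintype_card] at h1
    rw [hFN, ← h1]
    push_cast
    ring
  have hsumKP : ∑ s ∈ FKP, mu ψ s = 0 := by
    apply Finset.sum_eq_zero
    intro s hs
    rw [hFKP, hFK, Finset.mem_filter, Finset.mem_filter] at hs
    exact hμK s hs.1.2 hs.2
  have hsumN : ∑ s ∈ FN, mu ψ s = 0 := by
    have h1 := hsplit (mu ψ)
    rw [hsumS, hsumP, hsumKP, zero_add, zero_add] at h1
    exact h1.symm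
  -- values of `π` on the parts
  have hπFP : ∀ s ∈ FP, piS S W₁ s = (Nat.card U : ℂ) := by
    intro s hs
    rw [hFP, Finset.mem_filter] at hs
    exact hπP s hs.2
  have hπFKP : ∀ s ∈ FKP, piS S W₁ s = 0 := by
    intro s hs
    rw [hFKP, hFK, Finset.mem_filter, Finset.mem_filter] at hs
    exact hπK s hs.1.2 hs.2
  have hπFN : ∀ s ∈ FN, piS S W₁ s = 1 := by
    intro s hs
    rw [hFN, Finset.mem_filter] at hs
    exact hπS s hs.2
  have hπreal : ∀ s : ↥S, conj (piS S W₁ s) = piS S W₁ s := by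
    intro s
    by_cases hsK : (s : G) ∈ ⁅S, S⁆
    · by_cases hsP : (s : G) ∈ fittingHallOf S
      · rw [hπP s hsP, Complex.conj_natCast]
      · rw [hπK s hsK hsP, map_zero]
    · rw [hπS s hsK, map_one]
  -- cardinalities
  have hcS : (Nat.card S : ℂ) = (Nat.card W₁ : ℂ) * (Nat.card (⁅S, S⁆ : Subgroup G) : ℂ) := by
    exact_mod_cast sg.card_S
  have hcK : (Nat.card (⁅S, S⁆ : Subgroup G) : ℂ) =
      (Nat.card (fittingHallOf S) : ℂ) * (Nat.card U : ℂ) := by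
    have := sg.card_K
    rw [← sg.card_P] at this
    exact_mod_cast this
  have hq0 : (Nat.card W₁ : ℂ) ≠ 0 := by
    have := h.hq.pos
    exact_mod_cast this.ne'
  have hP0 : (Nat.card (fittingHallOf S) : ℂ) ≠ 0 := by
    have : 0 < Nat.card (fittingHallOf S) := Nat.card_pos
    exact_mod_cast this.ne'
  have hU0 : (Nat.card U : ℂ) ≠ 0 := by
    have : 0 < Nat.card U := Nat.card_pos
    exact_mod_cast this.ne'
  -- the inner products
  have hππ : classInner (piS S W₁) (piS S W₁) =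
      ((Nat.card U : ℂ) + (Nat.card W₁ : ℂ) - 1) / (Nat.card W₁ : ℂ) := by
    unfold classInner
    have e1 : ∑ s ∈ FP, piS S W₁ s * conj (piS S W₁ s) =
        ∑ s ∈ FP, ((Nat.card U : ℂ) * (Nat.card U : ℂ)) :=
      Finset.sum_congr rfl (fun s hs => by rw [hπFP s hs, Complex.conj_natCast])
    have e2 : ∑ s ∈ FKP, piS S W₁ s * conj (piS S W₁ s) = ∑ s ∈ FKP, (0 : ℂ) :=
      Finset.sum_congr rfl (fun s hs => by rw [hπFKP s hs, zero_mul])
    have e3 : ∑ s ∈ FN, piS S W₁ s * conj (piS S W₁ s) = ∑ s ∈ FN, (1 : ℂ) :=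
      Finset.sum_congr rfl (fun s hs => by rw [hπFN s hs, map_one, mul_one])
    rw [hsplit, e1, e2, e3]
    rw [Finset.sum_const, Finset.sum_const, Finset.sum_const, nsmul_eq_mul, nsmul_eq_mul,
      nsmul_eq_mul, hcardFP, hcardFN, hcS, hcK]
    field_simp
    ring
  have hπμ : classInner (piS S W₁) (mu ψ) = 0 := by
    unfold classInner
    have e1 : ∑ s ∈ FP, piS S W₁ s * conj (mu ψ s) =
        (Nat.card U : ℂ) * conj (∑ s ∈ FP, mu ψ s) := by
      rw [map_sum, Finset.mul_sum]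
      exact Finset.sum_congr rfl (fun s hs => by rw [hπFP s hs])
    have e2 : ∑ s ∈ FKP, piS S W₁ s * conj (mu ψ s) = ∑ s ∈ FKP, (0 : ℂ) :=
      Finset.sum_congr rfl (fun s hs => by rw [hπFKP s hs, zero_mul])
    have e3 : ∑ s ∈ FN, piS S W₁ s * conj (mu ψ s) = conj (∑ s ∈ FN, mu ψ s) := by
      rw [map_sum]
      exact Finset.sum_congr rfl (fun s hs => by rw [hπFN s hs, one_mul])
    rw [hsplit, e1, e2, e3, hsumP, hsumN, Finset.sum_const_zero]
    simp
  have hμπ : classInner (mu ψ) (piS S W₁) = 0 := by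
    rw [← Helper78.classInner_conj_symm, hπμ, map_zero]
  have hπ1 : classInner (piS S W₁) (fun _ => (1 : ℂ)) = 1 := by
    unfold classInner
    have e1 : ∑ s ∈ FP, piS S W₁ s * conj ((fun _ : ↥S => (1 : ℂ)) s) =
        ∑ s ∈ FP, (Nat.card U : ℂ) :=
      Finset.sum_congr rfl (fun s hs => by rw [hπFP s hs, map_one, mul_one])
    have e2 : ∑ s ∈ FKP, piS S W₁ s * conj ((fun _ : ↥S => (1 : ℂ)) s) = ∑ s ∈ FKP, (0 : ℂ) :=
      Finset.sum_congr rfl (fun s hs => by rw [hπFKP s hs, zero_mul])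
    have e3 : ∑ s ∈ FN, piS S W₁ s * conj ((fun _ : ↥S => (1 : ℂ)) s) = ∑ s ∈ FN, (1 : ℂ) :=
      Finset.sum_congr rfl (fun s hs => by rw [hπFN s hs, map_one, mul_one])
    rw [hsplit, e1, e2, e3]
    rw [Finset.sum_const, Finset.sum_const, Finset.sum_const, nsmul_eq_mul, nsmul_eq_mul,
      nsmul_eq_mul, hcardFP, hcardFN, hcS, hcK]
    field_simp
    ring
  have hμ1' : classInner (mu ψ) (fun _ => (1 : ℂ)) = 0 := by
    unfold classInner
    rw [Finset.sum_congr rfl (fun s _ => by rw [map_one, mul_one]), hsumS, mul_zero]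
  refine ⟨?_, ?_, ?_, ?_, ?_, ?_⟩
  · exact ⟨piS S W₁, mu ψ, hπc, Helper78.IsIrrCharacter.isCharacter hμirr, rfl⟩
  · intro s hs
    by_cases hsK : (s : G) ∈ ⁅S, S⁆
    · by_cases hsP : (s : G) ∈ fittingHallOf S
      · by_cases hs1 : s = 1
        · rw [betaS_apply, hs1, hπP 1 (by simp), hμ1, sub_self]
        · exfalso
          apply hs
          left
          exact h.hA_mem (s : G) hsK (fun h1 => hs1 (Subtype.ext h1))
            ⟨(s : G), hsP, fun h1 => hs1 (Subtype.ext h1), rfl⟩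
      · rw [betaS_apply, hπK s hsK hsP, hμK s hsK hsP, sub_self]
    · obtain ⟨x, hxS, hxW, hxW₂⟩ :=
        Cfsg.Agent.Lib.Helper24.PFCyc.exists_conj_mem_W h.hP (s : G) s.2 hsK
      set t : ↥S := ⟨x, hxS⟩ * s * ⟨x, hxS⟩⁻¹ with ht
      have htG : (t : G) = x * s * x⁻¹ := rfl
      have hπt : piS S W₁ t = piS S W₁ s := hπcl s ⟨x, hxS⟩
      have hμt : mu ψ t = mu ψ s := hμcl s ⟨x, hxS⟩
      by_cases hxW₁ : x * s * x⁻¹ ∈ W₁
      · have htK : (t : G) ∉ ⁅S, S⁆ := fun h' => hsK ((hKconj ⟨x, hxS⟩ s).mp h')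
        have hval := h.md.val ψ t (by rw [htG]; exact hxW) (by rw [htG]; exact hxW₂)
        rw [betaS_apply, ← hπt, ← hμt, hπS t htK, hval, hdl, one_mul,
          hψ ⟨(t : G), by rw [htG]; exact hxW⟩ (by rw [htG]; exact hxW₁)]
        simp
      · exfalso
        apply hs
        right
        exact ⟨W₁, U, W₂, h.hP, x⁻¹, S.inv_mem hxS, x * s * x⁻¹, hxW, hxW₁, hxW₂, by group⟩
  · -- the norm
    obtain ⟨n, hn⟩ := h.md.deg ψ
    rw [hμ1, hdl] at hn
    have hz : ((Nat.card U : ℤ) - 1 : ℤ) = n * (Nat.card W₁ : ℤ) := by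
      have : (((Nat.card U : ℤ) - 1 : ℤ) : ℂ) = ((n * (Nat.card W₁ : ℤ) : ℤ) : ℂ) := by
        push_cast
        exact hn
      exact_mod_cast this
    have hqpos : (0 : ℤ) < (Nat.card W₁ : ℤ) := by
      have := h.hq.pos
      exact_mod_cast this
    have hupos : (1 : ℤ) ≤ (Nat.card U : ℤ) := by
      have : 0 < Nat.card U := Nat.card_pos
      exact_mod_cast this
    have hn0 : 0 ≤ n := by
      by_contra hneg
      push Not at hneg
      have : n * (Nat.card W₁ : ℤ) < 0 := mul_neg_of_neg_of_pos hneg hqpos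
      omega
    refine ⟨n.toNat, ?_, ?_⟩
    · have h1 : ((n.toNat : ℤ)) = n := Int.toNat_of_nonneg hn0
      have h2 : ((n.toNat * Nat.card W₁ + 1 : ℕ) : ℤ) = (Nat.card U : ℤ) := by
        push_cast
        rw [h1]
        omega
      exact_mod_cast h2
    · rw [show betaS S mu ψ = piS S W₁ - mu ψ from rfl, classInner_sub_sub, hππ, hπμ, hμπ,
        Helper78.classInner_irr_self hμirr]
      have h1 : ((n.toNat : ℕ) : ℂ) = (n : ℂ) := by
        have : ((n.toNat : ℤ)) = n := Int.toNat_of_nonneg hn0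
        exact_mod_cast this
      rw [h1]
      have hU : (Nat.card U : ℂ) = (n : ℂ) * (Nat.card W₁ : ℂ) + 1 := by
        rw [← hn]; ring
      rw [hU]
      field_simp
      ring
  · rw [show betaS S mu ψ = piS S W₁ - mu ψ from rfl, classInner_sub_left, hπ1, hμ1', sub_zero]
  · funext s
    show conj (betaS S mu ψ s) = betaS S mu ψ⁻¹ s
    rw [betaS_apply, betaS_apply, map_sub, hμconj s, hπreal s]
  · intro s hs _ hs₂
    exact hW s hs hs₂

end Cfsg.Agent.Lib.Helper49.PF14
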