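/-
helper49 library (project ASCH, module [NDESC], core form with [BURNSIDE] discharged):
if `S` is absolutely irreducible, normalised by `H`, and realisable over `F₀` via `B`, then every `h ∈ H` has
`c • (B h B⁻¹)` with entries in `F₀` for a suitable unit `c`.  Feeding [C5] / [C5]_R gives `geo_of_realisable(_R)`.
-/
import Mathlib
import Cfsg.Prelude.Def_GeometricClasses
import Cfsg.Agent.Lib.Helper99.AschDefs
import Cfsg.Agent.Lib.Helper39.AschBurnside
import Cfsg.Agent.Lib.Helper49.AschNDescOf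

set_option autoImplicit false
set_option linter.unusedSectionVars false

namespace Cfsg.Agent.Lib.Helper49.AschNDesc

open Cfsg Cfsg.Geo Cfsg.Agent.Lib.Helper99.Asch
open scoped MatrixGroups Matrix

variable {n : ℕ} {F : Type*} [Field F] [Fintype F]

/-- [NDESC], conclusion in the shape of the hypothesis of [C5] (so it feeds `geo_of_subfield` and
`geo_of_subfield_R` alike).  No hypothesis `F₀ ≠ ⊤` needed. -/
theorem exists_conj_smul_mem_of_realisable (H S : Subgroup (GL (Fin n) F))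
    (hS : ActsAbsolutelyIrreducibly (matrixSet S)) (hnrm : Nrm H S) (F₀ : Subfield F)
    (hreal : RealisableOver F₀ (matrixSet S)) :
    ∃ B : GL (Fin n) F, ∀ h ∈ H, ∃ c : Fˣ, ∀ i j,
      ((c : F) • ((B * h * B⁻¹ : GL (Fin n) F) : Matrix (Fin n) (Fin n) F)) i j ∈ F₀ := by
  obtain ⟨B, hB⟩ := hreal
  refine ⟨B, ?_⟩
  intro h hh
  apply exists_smul_mem_of_normalizes (conjSub B S)
    (span_conjSub B S (span_eq_top_of_absIrred S hS)) (comm_conjSub B S hS.2) F₀
  · intro s hs i j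
    obtain ⟨s', hs', rfl⟩ := (mem_matrixSet_conjSub B S s).1 hs
    exact hB s' hs' i j
  · intro y hy
    obtain ⟨x, hx, rfl⟩ := (mem_conjSub B S y).1 hy
    rw [mem_conjSub]
    refine ⟨h * x * h⁻¹, hnrm h hh x hx, ?_⟩
    group

/-- [NDESC] for an arbitrary conclusion `C H`, given the [C5]-shaped statement for `C`. -/
theorem of_realisable_of {C : Subgroup (GL (Fin n) F) → Prop}
    (hC5 : ∀ (H : Subgroup (GL (Fin n) F)) (F₀ : Subfield F), F₀ ≠ ⊤ → ∀ B : GL (Fin n) F,
      (∀ h ∈ H, ∃ c : Fˣ, ∀ i j,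
        ((c : F) • ((B * h * B⁻¹ : GL (Fin n) F) : Matrix (Fin n) (Fin n) F)) i j ∈ F₀) → C H)
    (H S : Subgroup (GL (Fin n) F))
    (hS : ActsAbsolutelyIrreducibly (matrixSet S)) (hnrm : Nrm H S) (F₀ : Subfield F)
    (hF₀ : F₀ ≠ ⊤) (hreal : RealisableOver F₀ (matrixSet S)) : C H := by
  obtain ⟨B, hB⟩ := exists_conj_smul_mem_of_realisable H S hS hnrm F₀ hreal
  exact hC5 H F₀ hF₀ B hB

end Cfsg.Agent.Lib.Helper49.AschNDesc
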