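/-
helper49 library (project ASCH, module [NDESC]): the sheet statements `geo_of_realisable` and `geo_of_realisable_R`, verbatim.
-/
import Mathlib
import Cfsg.Prelude.Def_GeometricClasses
import Cfsg.Agent.Lib.Helper99.AschDefs
import Cfsg.Agent.Lib.Helper99.AschDefsR
import Cfsg.Agent.Lib.Helper84.AschC5R
import Cfsg.Agent.Lib.Helper49.AschNDescKey

set_option autoImplicit false

namespace Cfsg.Agent.Lib.Helper99.Asch

open Cfsg Cfsg.Geo
open scoped MatrixGroups Matrix Kronecker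

variable {n : ℕ} {F : Type*} [Field F] [Fintype F]

/-- ASCH-[NDESC], refined conclusion. -/
theorem geo_of_realisable_R (H S : Subgroup (GL (Fin n) F))
    (hS : ActsAbsolutelyIrreducibly (matrixSet S)) (hnrm : Nrm H S) (F₀ : Subfield F)
    (hF₀ : F₀ ≠ ⊤) (hreal : RealisableOver F₀ (matrixSet S)) : GeoR H :=
  Cfsg.Agent.Lib.Helper49.AschNDesc.of_realisable_of
    (fun H F₀ h B hH => geo_of_subfield_R H F₀ h B hH) H S hS hnrm F₀ hF₀ hreal

/-- ASCH-[NDESC]. -/
theorem geo_of_realisable (H S : Subgroup (GL (Fin n) F))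
    (hS : ActsAbsolutelyIrreducibly (matrixSet S)) (hnrm : Nrm H S) (F₀ : Subfield F)
    (hF₀ : F₀ ≠ ⊤) (hreal : RealisableOver F₀ (matrixSet S)) : Geo H :=
  (geo_of_realisable_R H S hS hnrm F₀ hF₀ hreal).geo

end Cfsg.Agent.Lib.Helper99.Asch
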