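import Mathlib
import Cfsg.Prelude.Def_GeometricClasses
import Cfsg.Agent.Lib.Helper99.AschDefs
import Cfsg.Agent.Lib.Helper99.U92.Defs

/-!
# U92-[ABSIRR-SPAN] (helper49, for helper99's U92 sub-sheet)

A set of matrices spanning the full matrix algebra acts absolutely irreducibly.
-/

set_option autoImplicit false
set_option linter.unusedSectionVars false

namespace Cfsg.Agent.Lib.Helper49.U92AbsIrrSpan

open Cfsg Cfsg.Geo
open scoped Matrix

variable {ι : Type} [Fintype ι] [DecidableEq ι] {K : Type*} [Field K]

/-- a property of matrices which is closed under linear combinations and holds on a spanning set holds everywhere -/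
theorem forall_of_span_eq_top (S : Set (Matrix ι ι K)) (h : Submodule.span K S = ⊤)
    (P : Matrix ι ι K → Prop) (h0 : P 0) (hadd : ∀ A B, P A → P B → P (A + B))
    (hsmul : ∀ (c : K) A, P A → P (c • A)) (hS : ∀ s ∈ S, P s) (M : Matrix ι ι K) : P M := by
  have hM : M ∈ Submodule.span K S := by rw [h]; trivial
  induction hM using Submodule.span_induction with
  | mem x hx => exact hS x hx
  | zero => exact h0
  | add x y _ _ hx hy => exact hadd x y hx hy
  | smul c x _ hx => exact hsmul c x hx

theorem actsIrreducibly_of_span_eq_top (S : Set (Matrix ι ι K)) (h : Submodule.span K S = ⊤) :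
    ActsIrreducibly S := by
  intro W hW
  -- every matrix maps `W` into itself
  have hall : ∀ M : Matrix ι ι K, ∀ w ∈ W, M *ᵥ w ∈ W := by
    intro M
    refine forall_of_span_eq_top S h (fun M => ∀ w ∈ W, M *ᵥ w ∈ W) ?_ ?_ ?_ ?_ M
    · intro w _
      rw [Matrix.zero_mulVec]
      exact W.zero_mem
    · intro A B hA hB w hw
      rw [Matrix.add_mulVec]
      exact W.add_mem (hA w hw) (hB w hw)
    · intro c A hA w hw
      rw [Matrix.smul_mulVec]
      exact W.smul_mem c (hA w hw)
    · intro s hs w hw
      have := hW s hs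
      apply this
      refine ⟨w, hw, ?_⟩
      rw [Matrix.toLin'_apply]
  by_cases hbot : W = ⊥
  · exact Or.inl hbot
  · right
    obtain ⟨w, hw, hw0⟩ := (Submodule.ne_bot_iff W).mp hbot
    have : ∃ i, w i ≠ 0 := by
      by_contra hcon
      simp only [not_exists, not_not] at hcon
      exact hw0 (funext hcon)
    obtain ⟨i, hi⟩ := this
    rw [eq_top_iff]
    intro v _
    -- `v = (the matrix with column i equal to v / w i) *ᵥ w`
    have hv : v = (Matrix.of fun a b => if b = i then v a * (w i)⁻¹ else 0) *ᵥ w := by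
      funext a
      simp only [Matrix.mulVec, dotProduct, Matrix.of_apply]
      rw [Finset.sum_eq_single i]
      · simp only [if_true]
        rw [mul_assoc, inv_mul_cancel₀ hi, mul_one]
      · intro b _ hb
        rw [if_neg hb, zero_mul]
      · intro hi'
        exact absurd (Finset.mem_univ i) hi'
    rw [hv]
    exact hall _ w hw

theorem scalar_of_commute_of_span_eq_top (S : Set (Matrix ι ι K)) (h : Submodule.span K S = ⊤)
    (M : Matrix ι ι K) (hM : ∀ s ∈ S, M * s = s * M) : ∃ c : K, M = c • (1 : Matrix ι ι K) := by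
  have hall : ∀ N : Matrix ι ι K, M * N = N * M := by
    intro N
    refine forall_of_span_eq_top S h (fun N => M * N = N * M) ?_ ?_ ?_ hM N
    · simp
    · intro A B hA hB
      rw [Matrix.mul_add, Matrix.add_mul, hA, hB]
    · intro c A hA
      rw [Matrix.mul_smul, Matrix.smul_mul, hA]
  have hmem : M ∈ Set.range (Matrix.scalar ι) := by
    apply Matrix.mem_range_scalar_of_commute_single
    intro i j _
    exact (hall (Matrix.single i j 1)).symm
  obtain ⟨c, hc⟩ := hmem
  refine ⟨c, ?_⟩
  rw [← hc]
  ext a b
  simp [Matrix.scalar_apply, Matrix.diagonal_apply, Matrix.one_apply]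

end Cfsg.Agent.Lib.Helper49.U92AbsIrrSpan

namespace Cfsg.Agent.Lib.Helper99.U92

open Cfsg Cfsg.Geo
open scoped MatrixGroups Matrix

/-- U92-[ABSIRR-SPAN]. -/
theorem absIrred_of_span_eq_top {ι : Type} [Fintype ι] [DecidableEq ι] {K : Type*} [Field K]
    (S : Set (Matrix ι ι K)) (h : Submodule.span K S = ⊤) : ActsAbsolutelyIrreducibly S :=
  ⟨Cfsg.Agent.Lib.Helper49.U92AbsIrrSpan.actsIrreducibly_of_span_eq_top S h,
    fun M hM => Cfsg.Agent.Lib.Helper49.U92AbsIrrSpan.scalar_of_commute_of_span_eq_top S h M hM⟩

end Cfsg.Agent.Lib.Helper99.U92
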