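/-
helper49 library (project ASCHU of helper70/helper20, module [C5-ENTRY]): the three class-5 entries of the unitary case.
-/
import Mathlib
import Cfsg.Prelude.Def_GeometricClasses
import Cfsg.Agent.Lib.Helper99.AschDefs
import Cfsg.Agent.Lib.Helper70.AschU.Defs
import Cfsg.Agent.Lib.Helper37.Asch.FormKit2
import Cfsg.Agent.Lib.Helper44.SubF1

set_option autoImplicit false
set_option linter.unusedSectionVars false
set_option linter.unusedVariables false

namespace Cfsg.Agent.Lib.Helper49.AschUC5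

open Cfsg Cfsg.Geo
open scoped MatrixGroups Matrix

variable {n : ℕ} {F : Type*} [Field F]

/-- a subgroup whose elements are, in the coordinates `P` and up to scalars, written over `F₁` lies in the subfield group -/
theorem le_subfieldSubgroup_of_rat (H : Subgroup (GL (Fin n) F)) (F₁ : Subfield F) (P : GL (Fin n) F)
    (hHP : ∀ h ∈ H, ∃ c : Fˣ, ∀ i j,
      ((c : F) • ((P⁻¹ * h * P : GL (Fin n) F) : Matrix (Fin n) (Fin n) F)) i j ∈ F₁) :
    H ≤ subfieldSubgroup F₁ P := by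
  intro h hh
  obtain ⟨c, hc⟩ := hHP h hh
  have hmem : P⁻¹ * h * P ∈ Cfsg.Agent.Lib.Helper44.SubF.NGrp F₁ :=
    (Cfsg.Agent.Lib.Helper44.SubF.mem_NGrp_iff _).2 ⟨c, hc⟩
  refine ⟨P⁻¹ * h * P, hmem, ?_⟩
  show P * (P⁻¹ * h * P) * P⁻¹ = h
  group

end Cfsg.Agent.Lib.Helper49.AschUC5

namespace Cfsg.Agent.Lib.Helper70.AschU

open Cfsg Cfsg.Geo Cfsg.Agent.Lib.Helper99.Asch Cfsg.Agent.Lib.Helper37.Asch
open scoped MatrixGroups Matrix Kronecker

variable {n : ℕ} {F : Type*} [Field F] [Fintype F] {q : ℕ} {σ : F ≃+* F}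

/-- ASCHU-[C5-ENTRY], odd degree -/
theorem ugeo_of_formRational_odd (H : Subgroup (GL (Fin n) F)) (hH : H ≤ GU n F q) (F₁ : Subfield F) (r : ℕ)
    (hr : r.Prime) (hodd : Odd r) (hcard : Fintype.card F = Nat.card F₁ ^ r) (P : GL (Fin n) F)
    (hHP : ∀ h ∈ H, ∃ c : Fˣ, ∀ i j,
      ((c : F) • ((P⁻¹ * h * P : GL (Fin n) F) : Matrix (Fin n) (Fin n) F)) i j ∈ F₁)
    (hform : IsFormRationalStructure (hermForm n F q) F₁ 1 P) : UGeo q H := by
  refine ⟨subfieldSubgroup F₁ P ⊓ GU n F q, Or.inl ?_,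
    le_inf (Cfsg.Agent.Lib.Helper49.AschUC5.le_subfieldSubgroup_of_rat H F₁ P hHP) hH⟩
  unfold InUnitaryPartialClass
  intro f I
  right; right; right; right; left
  exact ⟨F₁, r, P, hr, hodd, hcard, hform, rfl⟩

/-- ASCHU-[C5-ENTRY], degree two, symmetric type -/
theorem ugeo_of_formRational_two_symm (H : Subgroup (GL (Fin n) F)) (hH : H ≤ GU n F q) (F₁ : Subfield F)
    (hq : Odd q) (hcard : Fintype.card F = Nat.card F₁ ^ 2) (P : GL (Fin n) F)
    (hHP : ∀ h ∈ H, ∃ c : Fˣ, ∀ i j,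
      ((c : F) • ((P⁻¹ * h * P : GL (Fin n) F) : Matrix (Fin n) (Fin n) F)) i j ∈ F₁)
    (hform : IsFormRationalStructure (hermForm n F q) F₁ 1 P) : UGeo q H := by
  refine ⟨subfieldSubgroup F₁ P ⊓ GU n F q, Or.inl ?_,
    le_inf (Cfsg.Agent.Lib.Helper49.AschUC5.le_subfieldSubgroup_of_rat H F₁ P hHP) hH⟩
  unfold InUnitaryPartialClass
  intro f I
  right; right; right; right; right; left
  exact ⟨F₁, P, hq, hcard, hform, rfl⟩

/-- ASCHU-[C5-ENTRY], degree two, alternating type -/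
theorem ugeo_of_formRational_two_alt (H : Subgroup (GL (Fin n) F)) (hH : H ≤ GU n F q) (F₁ : Subfield F)
    (hn : Even n) (hcard : Fintype.card F = Nat.card F₁ ^ 2) (P : GL (Fin n) F) (ζ : F) (hζ : ζ ≠ 0)
    (hζq : ζ + ζ ^ q = 0)
    (hHP : ∀ h ∈ H, ∃ c : Fˣ, ∀ i j,
      ((c : F) • ((P⁻¹ * h * P : GL (Fin n) F) : Matrix (Fin n) (Fin n) F)) i j ∈ F₁)
    (hform : IsFormRationalStructure (hermForm n F q) F₁ ζ P)
    (halt : ∀ u : Fin n → F, (∀ i, u i ∈ F₁) →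
      hermForm n F q ((P : Matrix (Fin n) (Fin n) F) *ᵥ u) ((P : Matrix (Fin n) (Fin n) F) *ᵥ u) = 0) :
    UGeo q H := by
  refine ⟨subfieldSubgroup F₁ P ⊓ GU n F q, Or.inl ?_,
    le_inf (Cfsg.Agent.Lib.Helper49.AschUC5.le_subfieldSubgroup_of_rat H F₁ P hHP) hH⟩
  unfold InUnitaryPartialClass
  intro f I
  right; right; right; right; right; right; left
  exact ⟨F₁, P, ζ, hn, hcard, hζ, hζq, hform, halt, rfl⟩

end Cfsg.Agent.Lib.Helper70.AschU
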