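/-
helper49 library (S2283, module [INST-8], hedge): the instance `q = 8` of `Good σ`.  All computations take place in
`𝔽₆₄ = 𝔽₂[e]/(e⁶+e³+1)`; the `linear_combination` certificates (cofactors of `e⁶+e³+1` and of `2`) are machine generated.
-/
import Mathlib
import Cfsg.Prelude.Def_Classical
import Cfsg.Agent.Lib.Helper13.SU3GDefs
import Cfsg.Agent.Lib.Helper23.SU3GFG

set_option autoImplicit false
set_option linter.unusedSimpArgs false
set_option linter.unusedVariables false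

namespace Cfsg.Agent.Lib.Helper49.SU3G

open Matrix Cfsg.Agent.Lib.Helper13.SU3G

variable {F : Type*} [Field F]
local notation "SL3" => Matrix.SpecialLinearGroup (Fin 3) F

/-- a field with 64 elements has characteristic two and a root of `e⁶+e³+1` -/
theorem exists_root_of_card_64 [Fintype F] (hF : Fintype.card F = 8 ^ 2) :
    ∃ e : F, e ^ 6 + e ^ 3 + 1 = 0 ∧ (2 : F) = 0 := by
  classical
  have h2 : (2 : F) = 0 := by
    have h64 : ((Fintype.card F : ℕ) : F) = 0 := Nat.cast_card_eq_zero F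
    rw [hF] at h64
    have h6 : (2 : F) ^ 6 = 0 := by
      have : ((8 ^ 2 : ℕ) : F) = (2 : F) ^ 6 := by norm_num
      rw [← this]; exact h64
    exact pow_eq_zero_iff (by norm_num) |>.1 h6
  obtain ⟨g, hg⟩ := IsCyclic.exists_generator (α := Fˣ)
  have ho : orderOf g = 63 := by
    rw [orderOf_eq_card_of_forall_mem_zpowers hg, Nat.card_eq_fintype_card, Fintype.card_units, hF]
    norm_num
  have h9 : (g ^ 7) ^ 9 = 1 := by
    rw [← pow_mul]
    have : 7 * 9 = orderOf g := by rw [ho]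
    rw [this]; exact pow_orderOf_eq_one g
  have h3 : (g ^ 7) ^ 3 ≠ 1 := by
    rw [← pow_mul]
    intro h
    have := orderOf_dvd_of_pow_eq_one h
    rw [ho] at this
    norm_num at this
  refine ⟨((g ^ 7 : Fˣ) : F), ?_, h2⟩
  have e9 : (((g ^ 7 : Fˣ) : F)) ^ 9 = 1 := by
    have := congrArg Units.val h9
    simpa using this
  have e3 : (((g ^ 7 : Fˣ) : F)) ^ 3 ≠ 1 := by
    intro h
    apply h3
    apply Units.ext
    simpa using h
  have hmul : ((((g ^ 7 : Fˣ) : F)) ^ 3 - 1) * ((((g ^ 7 : Fˣ) : F)) ^ 6 + (((g ^ 7 : Fˣ) : F)) ^ 3 + 1) = 0 := by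
    linear_combination e9
  rcases mul_eq_zero.mp hmul with h | h
  · exact absurd (sub_eq_zero.mp h) e3
  · exact h

/-- in characteristic two `(lS σ 1 d)⁻¹ = lS σ 1 (d + 1)` -/
theorem lS_one_inv_char_two (σ : F →+* F) (h2 : (2 : F) = 0) (d : F) :
    (lS σ 1 d)⁻¹ = lS σ 1 (d + 1) := by
  apply inv_eq_of_mul_eq_one_right
  apply Subtype.ext
  rw [Matrix.SpecialLinearGroup.coe_mul, coe_lS, coe_lS, Matrix.SpecialLinearGroup.coe_one]
  ext i j
  fin_cases i <;> fin_cases j <;>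
    simp [lM, Matrix.mul_apply, Fin.sum_univ_three] <;>
    first
      | linear_combination h2
      | linear_combination d * h2
      | linear_combination (-1 : F) * h2

theorem good_eight [Fintype F] (hF : Fintype.card F = 8 ^ 2) (σ : F →+* F)
    (hσq : ∀ x, σ x = x ^ 8) (hσ2 : ∀ x, σ (σ x) = x) : Good σ := by
  obtain ⟨e, he, h2⟩ := exists_root_of_card_64 hF
  have hσe : σ e = e ^ 2 + e ^ 5 := by
    rw [hσq]
    linear_combination (e ^ 2) * he + ((-1) * e ^ 2 + (-1) * e ^ 5) * h2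
  obtain ⟨a, ha⟩ : ∃ a : F, a = e + e ^ 2 + e ^ 5 := ⟨_, rfl⟩
  obtain ⟨b, hb⟩ : ∃ b : F, b = e ^ 2 := ⟨_, rfl⟩
  obtain ⟨d, hd⟩ : ∃ d : F, d = 1 + e ^ 3 + e ^ 4 + e ^ 5 := ⟨_, rfl⟩
  have hσa : σ a = a := by
    rw [ha]
    simp only [map_add, map_pow, map_one, hσe]
    linear_combination (e + 2 * e ^ 4 + (-1) * e ^ 7 + e ^ 10 + 5 * e ^ 13 + 4 * e ^ 16 + e ^ 19) * he + ((-1) * e + (-1) * e ^ 4) * h2
  have hσb : σ b = e + e ^ 4 := by
    rw [hb]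
    simp only [map_add, map_pow, map_one, hσe]
    linear_combination (e + e ^ 4) * he + ((-1) * e + (-1) * e ^ 4) * h2
  have hσd : σ d = d + 1 := by
    rw [hd]
    simp only [map_add, map_pow, map_one, hσe]
    linear_combination ((-1) + e ^ 4 + (-1) * e ^ 5 + 2 * e ^ 6 + (-1) * e ^ 7 + 2 * e ^ 8 + e ^ 9 + e ^ 10 + 3 * e ^ 11 + 5 * e ^ 13 + e ^ 14 + 4 * e ^ 16 + e ^ 19) * he + ((-1) * e ^ 4) * h2
  have ha0 : a ≠ 0 := by
    have h : a * (1 + e + e ^ 2 + e ^ 4) = 1 := by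
      rw [ha]
      linear_combination (1 + e + e ^ 3) * he + ((-1) + e ^ 2 + e ^ 5) * h2
    intro h0
    rw [h0, zero_mul] at h
    exact zero_ne_one h
  have hd0 : d ≠ 0 := by
    have h : d * (1 + e ^ 2 + e ^ 5) = 1 := by
      rw [hd]
      linear_combination (e ^ 2 + e ^ 3 + e ^ 4) * he + (e ^ 5) * h2
    intro h0
    rw [h0, zero_mul] at h
    exact zero_ne_one h
  -- the element `s`
  have hinv : (lS σ 1 d)⁻¹ = lS σ 1 (d + 1) := lS_one_inv_char_two σ h2 d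
  have hs : ((lS σ 1 d * uS σ a b * lS σ 1 d * uS σ a b * uS σ a b * (lS σ 1 d)⁻¹ : SL3) :
      Matrix (Fin 3) (Fin 3) F) = lM σ 1 d * uM σ a b * lM σ 1 d * uM σ a b * uM σ a b * lM σ 1 (d + 1) := by
    rw [hinv]
    simp only [Matrix.SpecialLinearGroup.coe_mul, coe_uS, coe_lS]
  have h10 : (lM σ 1 d * uM σ a b * lM σ 1 d * uM σ a b * uM σ a b * lM σ 1 (d + 1)) 1 0 = 0 := by
    simp only [uM, lM, Matrix.mul_apply, Fin.sum_univ_three, Matrix.of_apply,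
      Matrix.cons_val', Matrix.cons_val_zero, Matrix.cons_val_one, Matrix.cons_val_two, Matrix.empty_val',
      Matrix.cons_val_fin_one, Matrix.head_cons, Matrix.tail_cons, Matrix.head_fin_const, map_one, hσa]
    rw [ha, hb, hd]
    linear_combination ((-25) + 16 * e + 2 * e ^ 2 + (-17) * e ^ 3 + (-36) * e ^ 4 + (-16) * e ^ 5 + (-8) * e ^ 6 + (-17) * e ^ 7 + (-7) * e ^ 8 + 10 * e ^ 10 + 4 * e ^ 11 + 8 * e ^ 12 + 12 * e ^ 13 + 11 * e ^ 14 + 6 * e ^ 15 + 3 * e ^ 16 + 3 * e ^ 17 + 2 * e ^ 18 + e ^ 19) * he + (14 + (-8) * e + (-2) * e ^ 2 + 12 * e ^ 3 + 6 * e ^ 4) * h2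
  have h20 : (lM σ 1 d * uM σ a b * lM σ 1 d * uM σ a b * uM σ a b * lM σ 1 (d + 1)) 2 0 = 0 := by
    simp only [uM, lM, Matrix.mul_apply, Fin.sum_univ_three, Matrix.of_apply,
      Matrix.cons_val', Matrix.cons_val_zero, Matrix.cons_val_one, Matrix.cons_val_two, Matrix.empty_val',
      Matrix.cons_val_fin_one, Matrix.head_cons, Matrix.tail_cons, Matrix.head_fin_const, map_one, hσa]
    rw [ha, hb, hd]
    linear_combination (19 + (-6) * e + 4 * e ^ 2 + 28 * e ^ 3 + 55 * e ^ 4 + (-10) * e ^ 5 + (-10) * e ^ 6 + (-12) * e ^ 7 + (-26) * e ^ 8 + (-65) * e ^ 9 + (-80) * e ^ 10 + (-61) * e ^ 11 + (-57) * e ^ 12 + (-60) * e ^ 13 + (-63) * e ^ 14 + (-43) * e ^ 15 + (-27) * e ^ 16 + (-17) * e ^ 17 + (-12) * e ^ 18 + (-8) * e ^ 19 + (-3) * e ^ 20 + (-1) * e ^ 21) * he + ((-9) + 10 * e + 9 * e ^ 2 + (-15) * e ^ 3 + (-14) * e ^ 4 + 20 * e ^ 5) * h2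
  have h00 : (lM σ 1 d * uM σ a b * lM σ 1 d * uM σ a b * uM σ a b * lM σ 1 (d + 1)) 0 0 = 1 + e + e ^ 5 := by
    simp only [uM, lM, Matrix.mul_apply, Fin.sum_univ_three, Matrix.of_apply,
      Matrix.cons_val', Matrix.cons_val_zero, Matrix.cons_val_one, Matrix.cons_val_two, Matrix.empty_val',
      Matrix.cons_val_fin_one, Matrix.head_cons, Matrix.tail_cons, Matrix.head_fin_const, map_one, hσa]
    rw [ha, hb, hd]
    linear_combination ((-2) + 9 * e + (-4) * e ^ 2 + 2 * e ^ 3 + e ^ 4 + (-12) * e ^ 5 + (-12) * e ^ 6 + (-11) * e ^ 7 + (-7) * e ^ 8 + (-16) * e ^ 9 + (-15) * e ^ 10 + (-12) * e ^ 11 + (-6) * e ^ 12 + (-4) * e ^ 13 + (-4) * e ^ 14 + (-2) * e ^ 15 + (-1) * e ^ 16) * he + (1 + (-3) * e + 5 * e ^ 2 + (-4) * e ^ 4 + 5 * e ^ 5) * h2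
  have hσmu : σ (1 + e + e ^ 5) = 1 + e ^ 2 + e ^ 4 + e ^ 5 := by
    simp only [map_add, map_pow, map_one, hσe]
    linear_combination (e ^ 4 + (-1) * e ^ 7 + e ^ 10 + 5 * e ^ 13 + 4 * e ^ 16 + e ^ 19) * he + ((-1) * e ^ 4) * h2
  have hsmu0 : (1 + e ^ 2 + e ^ 4 + e ^ 5 : F) ≠ 0 := by
    have h : (1 + e ^ 2 + e ^ 4 + e ^ 5 : F) * (e + e ^ 3 + e ^ 4) = 1 := by
      linear_combination (1 + e + 2 * e ^ 2 + e ^ 3) * he + ((-1) + (-1) * e ^ 2) * h2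
    intro h0
    rw [h0, zero_mul] at h
    exact zero_ne_one h
  have hkap : (1 + e + e ^ 5 : F) ^ 2 / σ (1 + e + e ^ 5) = 1 + e + e ^ 2 + e ^ 3 := by
    rw [hσmu, div_eq_iff hsmu0]
    linear_combination ((-3) * e + (-1) * e ^ 2 + e ^ 4) * he + (2 * e + (-1) * e ^ 3) * h2
  have hk2 : ((1 + e + e ^ 2 + e ^ 3 : F) ^ 2 + (1 + e + e ^ 2 + e ^ 3)) * (e + e ^ 2 + e ^ 3 + e ^ 5) = 1 := by
    linear_combination (9 + 8 * e + 7 * e ^ 2 + 4 * e ^ 3 + 2 * e ^ 4 + e ^ 5) * he + ((-5) + (-3) * e + (-1) * e ^ 2 + (-2) * e ^ 3 + e ^ 4 + 3 * e ^ 5) * h2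
  have hk4 : ((1 + e + e ^ 2 + e ^ 3 : F) ^ 4 + (1 + e + e ^ 2 + e ^ 3)) * (e + e ^ 3 + e ^ 5) = 1 := by
    linear_combination ((-29) + (-10) * e + 17 * e ^ 2 + 42 * e ^ 3 + 58 * e ^ 4 + 61 * e ^ 5 + 53 * e ^ 6 + 38 * e ^ 7 + 23 * e ^ 8 + 11 * e ^ 9 + 4 * e ^ 10 + e ^ 11) * he + (14 + 6 * e + (-6) * e ^ 2 + (-11) * e ^ 4 + (-17) * e ^ 5) * h2
  have hk8 : ((1 + e + e ^ 2 + e ^ 3 : F) ^ 8 + (1 + e + e ^ 2 + e ^ 3)) * (e + e ^ 2 + e ^ 4) = 1 := by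
    linear_combination (3583 + 2746 * e + 631 * e ^ 2 + (-1747) * e ^ 3 + (-3210) * e ^ 4 + (-2925) * e ^ 5 + (-749) * e ^ 6 + 2741 * e ^ 7 + 6516 * e ^ 8 + 9519 * e ^ 9 + 11048 * e ^ 10 + 10937 * e ^ 11 + 9509 * e ^ 12 + 7359 * e ^ 13 + 5095 * e ^ 14 + 3156 * e ^ 15 + 1741 * e ^ 16 + 847 * e ^ 17 + 358 * e ^ 18 + 128 * e ^ 19 + 37 * e ^ 20 + 8 * e ^ 21 + e ^ 22) * he + ((-1792) + (-1372) * e + (-310) * e ^ 2 + (-895) * e ^ 3 + 312 * e ^ 4 + 1373 * e ^ 5) * h2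
  refine ⟨a, b, 1, d, a, lS σ 1 d * uS σ a b * lS σ 1 d * uS σ a b * uS σ a b * (lS σ 1 d)⁻¹,
    ha0, one_ne_zero, ?_, ?_, ?_, hd0, ?_, ?_, ?_, ?_⟩
  · rw [hσa, mul_one, sq, mul_div_assoc, div_self ha0, mul_one]
  · rw [hσa, hσb, ha, hb]
    linear_combination (2 + e + e ^ 4) * he + ((-1) + e ^ 2) * h2
  · rw [hσd, map_one, hd]
    linear_combination (0) * he + (2 + e ^ 3 + e ^ 4 + e ^ 5) * h2
  · have hu : uS σ a b ∈ Subgroup.closure ({uS σ a b, lS σ 1 d} : Set SL3) :=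
      Subgroup.subset_closure (Set.mem_insert _ _)
    have hv : lS σ 1 d ∈ Subgroup.closure ({uS σ a b, lS σ 1 d} : Set SL3) :=
      Subgroup.subset_closure (Set.mem_insert_of_mem _ (Set.mem_singleton _))
    exact Subgroup.mul_mem _ (Subgroup.mul_mem _ (Subgroup.mul_mem _ (Subgroup.mul_mem _
      (Subgroup.mul_mem _ hv hu) hv) hu) hu) (Subgroup.inv_mem _ hv)
  · rw [hs]; exact h10
  · rw [hs]; exact h20
  · rw [hs, h00, hkap]
    apply Cfsg.Agent.Lib.Helper23.SU3G.closure_eq_top_of_pow_ne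
    intro c m hc hm hcm
    rw [hF] at hcm
    have hm6 : m ≤ 6 := by
      by_contra hlt
      rw [not_le] at hlt
      have : 2 ^ 7 ≤ c ^ m := le_trans (Nat.pow_le_pow_right (by norm_num) hlt) (Nat.pow_le_pow_left hc m)
      omega
    have hc8 : c ≤ 8 := by
      by_contra hlt
      rw [not_le] at hlt
      have : 9 ^ 2 ≤ c ^ m := le_trans (Nat.pow_le_pow_left hlt 2) (Nat.pow_le_pow_right (by omega) hm)
      omega
    have key2 : (1 + e + e ^ 2 + e ^ 3 : F) ^ 2 ≠ 1 + e + e ^ 2 + e ^ 3 := by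
      intro h
      have : (1 : F) = 0 := by
        linear_combination (-1 : F) * hk2 + (e + e ^ 2 + e ^ 3 + e ^ 5) * h + ((1 + e + e ^ 2 + e ^ 3) * (e + e ^ 2 + e ^ 3 + e ^ 5)) * h2
      exact one_ne_zero this
    have key4 : (1 + e + e ^ 2 + e ^ 3 : F) ^ 4 ≠ 1 + e + e ^ 2 + e ^ 3 := by
      intro h
      have : (1 : F) = 0 := by
        linear_combination (-1 : F) * hk4 + (e + e ^ 3 + e ^ 5) * h + ((1 + e + e ^ 2 + e ^ 3) * (e + e ^ 3 + e ^ 5)) * h2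
      exact one_ne_zero this
    have key8 : (1 + e + e ^ 2 + e ^ 3 : F) ^ 8 ≠ 1 + e + e ^ 2 + e ^ 3 := by
      intro h
      have : (1 : F) = 0 := by
        linear_combination (-1 : F) * hk8 + (e + e ^ 2 + e ^ 4) * h + ((1 + e + e ^ 2 + e ^ 3) * (e + e ^ 2 + e ^ 4)) * h2
      exact one_ne_zero this
    interval_cases c <;> interval_cases m <;>
      first
        | (exfalso; norm_num at hcm; done)
        | exact key2
        | exact key4
        | exact key8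

end Cfsg.Agent.Lib.Helper49.SU3G
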