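/-
helper49 library (S2283, module [TVJ]): the unitary transvections `tvJ σ z c` of the antidiagonal model of `SU₃`.
-/
import Mathlib
import Cfsg.Prelude.Def_Classical
import Cfsg.Agent.S2644
import Cfsg.Agent.Lib.Helper13.SU3GDefs

set_option autoImplicit false

namespace Cfsg.Agent.Lib.Helper49.SU3G

open Matrix Cfsg.Agent.Lib.Helper13.SU3G

variable {F : Type*} [Field F]
local notation "SL3" => Matrix.SpecialLinearGroup (Fin 3) F

theorem tvJ_mulVec (σ : F →+* F) (z : Fin 3 → F) (c : F) (x : Fin 3 → F) :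
    tvJ σ z c *ᵥ x = x + (c * hJ σ x z) • z := by
  have h0 : Fin.rev (0 : Fin 3) = 2 := rfl
  have h1 : Fin.rev (1 : Fin 3) = 1 := rfl
  have h2 : Fin.rev (2 : Fin 3) = 0 := rfl
  unfold tvJ
  rw [Matrix.add_mulVec, Matrix.one_mulVec, Matrix.smul_mulVec, Matrix.vecMulVec_mulVec]
  ext i
  simp only [Pi.add_apply, Pi.smul_apply, smul_eq_mul, dotProduct, Fin.sum_univ_three, hJ, h0, h1, h2,
    MulOpposite.smul_eq_mul_unop, MulOpposite.unop_op]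
  ring

/-- two matrices with the same action on all vectors are equal -/
theorem mat_ext_mulVec {n : Type*} [Fintype n] [DecidableEq n] {A B : Matrix n n F}
    (h : ∀ y : n → F, A *ᵥ y = B *ᵥ y) : A = B := by
  rw [Matrix.ext_iff_mulVec]
  exact h

theorem tvJ_P (σ : F →+* F) (P : GL (Fin 3) F)
    (hP : ∀ x y : Fin 3 → F, Cfsg.Agent.S0837.hf σ ((P : Matrix (Fin 3) (Fin 3) F) *ᵥ x)
        ((P : Matrix (Fin 3) (Fin 3) F) *ᵥ y) = hJ σ x y) (z : Fin 3 → F) (c : F) :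
    (P : Matrix (Fin 3) (Fin 3) F) * tvJ σ z c * ((P⁻¹ : GL (Fin 3) F) : Matrix (Fin 3) (Fin 3) F) =
      Cfsg.Agent.S2644.tv σ ((P : Matrix (Fin 3) (Fin 3) F) *ᵥ z) c := by
  apply mat_ext_mulVec
  intro y
  have hPP : (P : Matrix (Fin 3) (Fin 3) F) * ((P⁻¹ : GL (Fin 3) F) : Matrix (Fin 3) (Fin 3) F) = 1 := by
    rw [← Matrix.GeneralLinearGroup.coe_mul, mul_inv_cancel]; rfl
  set y' : Fin 3 → F := ((P⁻¹ : GL (Fin 3) F) : Matrix (Fin 3) (Fin 3) F) *ᵥ y with hy'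
  have hyy : (P : Matrix (Fin 3) (Fin 3) F) *ᵥ y' = y := by
    rw [hy', Matrix.mulVec_mulVec, hPP, Matrix.one_mulVec]
  rw [← Matrix.mulVec_mulVec, ← Matrix.mulVec_mulVec, ← hy', tvJ_mulVec, Matrix.mulVec_add,
    Matrix.mulVec_smul, hyy, Cfsg.Agent.S2644.tv_mulVec, ← hP y' z, hyy]

theorem tvJ_conj (σ : F →+* F) {g : SL3} (hg : g ∈ GJ σ) (z : Fin 3 → F) (c : F) :
    (g : Matrix (Fin 3) (Fin 3) F) * tvJ σ z c * ((g⁻¹ : SL3) : Matrix (Fin 3) (Fin 3) F) =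
      tvJ σ ((g : Matrix (Fin 3) (Fin 3) F) *ᵥ z) c := by
  apply mat_ext_mulVec
  intro y
  have hgg : (g : Matrix (Fin 3) (Fin 3) F) * ((g⁻¹ : SL3) : Matrix (Fin 3) (Fin 3) F) = 1 := by
    rw [← Matrix.SpecialLinearGroup.coe_mul, mul_inv_cancel]; rfl
  set y' : Fin 3 → F := ((g⁻¹ : SL3) : Matrix (Fin 3) (Fin 3) F) *ᵥ y with hy'
  have hyy : (g : Matrix (Fin 3) (Fin 3) F) *ᵥ y' = y := by
    rw [hy', Matrix.mulVec_mulVec, hgg, Matrix.one_mulVec]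
  rw [← Matrix.mulVec_mulVec, ← Matrix.mulVec_mulVec, ← hy', tvJ_mulVec, Matrix.mulVec_add,
    Matrix.mulVec_smul, hyy, tvJ_mulVec, ← (mem_GJ_iff σ g).1 hg y' z, hyy]

theorem tvJ_smul (σ : F →+* F) (l : F) (z : Fin 3 → F) (c : F) :
    tvJ σ (l • z) c = tvJ σ z (l * σ l * c) := by
  ext i j
  simp only [tvJ, Matrix.add_apply, Matrix.smul_apply, Matrix.vecMulVec_apply, Pi.smul_apply,
    smul_eq_mul, map_mul]
  ring

theorem tvJ_e0 (σ : F →+* F) (c : F) : tvJ σ ![1, 0, 0] c = uM σ 0 c := by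
  ext i j
  rw [tvJ, Matrix.add_apply, Matrix.smul_apply, Matrix.vecMulVec_apply]
  fin_cases i <;> fin_cases j <;> simp [uM, Fin.rev]

end Cfsg.Agent.Lib.Helper49.SU3G
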