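/-
helper49 library (S2283, module [TVMEM]): a subgroup `H` of `SL₃` containing the full unipotent group `U_∞` of the
antidiagonal model and an element `v` of `GJ σ` moving `⟨e₀⟩` off the line `z₂ = 0` contains every unitary transvection.
-/
import Mathlib
import Cfsg.Prelude.Def_Classical
import Cfsg.Agent.Lib.Helper13.SU3GDefs
import Cfsg.Agent.Lib.Helper49.SU3GTvJ

set_option autoImplicit false
set_option linter.unusedSimpArgs false
set_option linter.unusedVariables false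

namespace Cfsg.Agent.Lib.Helper49.SU3G

open Matrix Cfsg.Agent.Lib.Helper13.SU3G

variable {F : Type*} [Field F]
local notation "SL3" => Matrix.SpecialLinearGroup (Fin 3) F

/-- local copy of [MEM] `uS_mem` -/
theorem uS_mem' (σ : F →+* F) (hσ2 : ∀ x, σ (σ x) = x) {a b : F} (h : b + σ b + a * σ a = 0) :
    uS σ a b ∈ GJ σ := by
  rw [mem_GJ_iff]
  intro x y
  simp only [hJ, coe_uS, uM, Matrix.mulVec, dotProduct, Fin.sum_univ_three, Matrix.of_apply,
    Matrix.cons_val', Matrix.cons_val_zero, Matrix.cons_val_one, Matrix.cons_val_two, Matrix.empty_val',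
    Matrix.cons_val_fin_one, Matrix.head_cons, Matrix.tail_cons, Matrix.head_fin_const]
  simp only [map_add, map_mul, map_neg, map_one, map_zero, hσ2]
  linear_combination (x 2 * σ (y 2)) * h

/-- the matrix `M` is the coercion of an element of `H` -/
def InS (H : Subgroup SL3) (M : Matrix (Fin 3) (Fin 3) F) : Prop :=
  ∃ g : SL3, g ∈ H ∧ (g : Matrix (Fin 3) (Fin 3) F) = M

theorem InS.conj {H : Subgroup SL3} {M : Matrix (Fin 3) (Fin 3) F} (h : InS H M) {g0 : SL3} (hg0 : g0 ∈ H) :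
    InS H ((g0 : Matrix (Fin 3) (Fin 3) F) * M * ((g0⁻¹ : SL3) : Matrix (Fin 3) (Fin 3) F)) := by
  obtain ⟨g, hg, rfl⟩ := h
  exact ⟨g0 * g * g0⁻¹, H.mul_mem (H.mul_mem hg0 hg) (H.inv_mem hg0), by
    rw [Matrix.SpecialLinearGroup.coe_mul, Matrix.SpecialLinearGroup.coe_mul]⟩

/-- `l σ(l) c` has trace zero when `c` has -/
theorem norm_mul_trace_zero (σ : F →+* F) (hσ2 : ∀ x, σ (σ x) = x) (l c : F) (hc : c + σ c = 0) :
    l * σ l * c + σ (l * σ l * c) = 0 := by
  simp only [map_mul, hσ2]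
  linear_combination (l * σ l) * hc

/-- an isotropic vector with last coordinate `≠ 0` is a multiple of `uM a b *ᵥ e₂` -/
theorem exists_uM_of_isotropic (σ : F →+* F) (hσ2 : ∀ x, σ (σ x) = x) (y : Fin 3 → F)
    (hy : hJ σ y y = 0) (hy2 : y 2 ≠ 0) :
    ∃ a b : F, b + σ b + a * σ a = 0 ∧ y = y 2 • (uM σ a b *ᵥ ![0, 0, 1]) := by
  have hs2 : σ (y 2) ≠ 0 := by
    intro h
    apply hy2
    have := congrArg σ h
    rwa [hσ2, map_zero] at this
  refine ⟨-σ (y 1 / y 2), y 0 / y 2, ?_, ?_⟩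
  · simp only [hJ] at hy
    simp only [map_neg, map_div₀, hσ2]
    field_simp
    linear_combination hy
  · ext i
    fin_cases i
    · simp [uM, Matrix.mulVec, dotProduct, Fin.sum_univ_three]
      field_simp
    · simp [uM, Matrix.mulVec, dotProduct, Fin.sum_univ_three, hσ2]
      field_simp
    · simp [uM, Matrix.mulVec, dotProduct, Fin.sum_univ_three]

theorem tvJ_mem (σ : F →+* F) (hσ2 : ∀ x, σ (σ x) = x)
    (H : Subgroup SL3) (hU : ∀ a b : F, b + σ b + a * σ a = 0 → uS σ a b ∈ H)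
    (v : SL3) (hvG : v ∈ GJ σ) (hv : v ∈ H) (hv20 : (v : Matrix (Fin 3) (Fin 3) F) 2 0 ≠ 0)
    (z : Fin 3 → F) (c : F) (hz : hJ σ z z = 0) (hc : c + σ c = 0) :
    ∃ g : SL3, g ∈ H ∧ (g : Matrix (Fin 3) (Fin 3) F) = tvJ σ z c := by
  -- (1) the transvections with centre `e₀`
  have h1 : ∀ c' : F, c' + σ c' = 0 → InS H (tvJ σ ![1, 0, 0] c') := by
    intro c' hc'
    refine ⟨uS σ 0 c', hU 0 c' (by rw [zero_mul, add_zero]; exact hc'), ?_⟩
    rw [coe_uS, tvJ_e0]
  -- conjugating a transvection by an element of `H ⊓ GJ`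
  have hconj : ∀ (g0 : SL3), g0 ∈ H → g0 ∈ GJ σ → ∀ (w : Fin 3 → F) (c' : F), InS H (tvJ σ w c') →
      InS H (tvJ σ ((g0 : Matrix (Fin 3) (Fin 3) F) *ᵥ w) c') := by
    intro g0 hg0 hg0G w c' h
    have := h.conj hg0
    rwa [tvJ_conj σ hg0G] at this
  -- (3) the transvections with centre `e₂`
  have h3 : ∀ c' : F, c' + σ c' = 0 → InS H (tvJ σ ![0, 0, 1] c') := by
    intro c' hc'
    set y : Fin 3 → F := (v : Matrix (Fin 3) (Fin 3) F) *ᵥ ![1, 0, 0] with hy
    have hy2 : y 2 = (v : Matrix (Fin 3) (Fin 3) F) 2 0 := by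
      rw [hy]
      show (fun j => (v : Matrix (Fin 3) (Fin 3) F) 2 j) ⬝ᵥ ![1, 0, 0] = _
      simp [dotProduct, Fin.sum_univ_three]
    have hyiso : hJ σ y y = 0 := by
      rw [hy, (mem_GJ_iff σ v).1 hvG]
      simp [hJ]
    have hy2' : y 2 ≠ 0 := by rw [hy2]; exact hv20
    obtain ⟨a, b, hab, hyk⟩ := exists_uM_of_isotropic σ hσ2 y hyiso hy2'
    have hkH : uS σ a b ∈ H := hU a b hab
    have hkG : uS σ a b ∈ GJ σ := uS_mem' σ hσ2 hab
    set g0 : SL3 := (uS σ a b)⁻¹ * v with hg0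
    have hg0H : g0 ∈ H := H.mul_mem (H.inv_mem hkH) hv
    have hg0G : g0 ∈ GJ σ := (GJ σ).mul_mem ((GJ σ).inv_mem hkG) hvG
    -- `g0 e₀ = y 2 • e₂`
    have hge : (g0 : Matrix (Fin 3) (Fin 3) F) *ᵥ ![1, 0, 0] = y 2 • ![0, 0, 1] := by
      have hinv : (((uS σ a b)⁻¹ : SL3) : Matrix (Fin 3) (Fin 3) F) * uM σ a b = 1 := by
        rw [← coe_uS, ← Matrix.SpecialLinearGroup.coe_mul, inv_mul_cancel]; rfl
      have hyk' : (v : Matrix (Fin 3) (Fin 3) F) *ᵥ ![1, 0, 0] = y 2 • (uM σ a b *ᵥ ![0, 0, 1]) := by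
        rw [← hy]; exact hyk
      rw [hg0, Matrix.SpecialLinearGroup.coe_mul, ← Matrix.mulVec_mulVec, hyk', Matrix.mulVec_smul,
        Matrix.mulVec_mulVec, hinv, Matrix.one_mulVec]
    have h4 := hconj g0 hg0H hg0G ![1, 0, 0] ((y 2)⁻¹ * σ (y 2)⁻¹ * c')
      (h1 _ (norm_mul_trace_zero σ hσ2 _ _ hc'))
    rw [hge, tvJ_smul] at h4
    have e : y 2 * σ (y 2) * ((y 2)⁻¹ * σ (y 2)⁻¹ * c') = c' := by
      have hs2 : σ (y 2) ≠ 0 := by
        intro h
        apply hy2'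
        have := congrArg σ h
        rwa [hσ2, map_zero] at this
      rw [map_inv₀]
      field_simp
    rwa [e] at h4
  -- (4) the general case
  by_cases hz2 : z 2 = 0
  · have hz1 : z 1 = 0 := by
      simp only [hJ, hz2, map_zero, mul_zero, zero_mul, add_zero, zero_add] at hz
      rcases mul_eq_zero.mp hz with h | h
      · exact h
      · have := congrArg σ h
        rwa [hσ2, map_zero] at this
    have hzz : z = z 0 • ![1, 0, 0] := by
      ext i
      fin_cases i <;> simp [hz1, hz2]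
    rw [hzz, tvJ_smul]
    exact h1 _ (norm_mul_trace_zero σ hσ2 _ _ hc)
  · obtain ⟨a, b, hab, hzk⟩ := exists_uM_of_isotropic σ hσ2 z hz hz2
    have hkH : uS σ a b ∈ H := hU a b hab
    have hkG : uS σ a b ∈ GJ σ := uS_mem' σ hσ2 hab
    have h4 := hconj (uS σ a b) hkH hkG ![0, 0, 1] (z 2 * σ (z 2) * c)
      (h3 _ (norm_mul_trace_zero σ hσ2 _ _ hc))
    rw [coe_uS] at h4
    rw [hzk, tvJ_smul]
    exact h4

end Cfsg.Agent.Lib.Helper49.SU3G
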