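import Mathlib.GroupTheory.Sylow
import Mathlib.GroupTheory.Nilpotent
import Cfsg.Prelude.Def_Solvable
import Cfsg.Prelude.Def_CaseTheorems

set_option autoImplicit false

/-!
Helper lemmas on groups of characteristic `p` (`C_G(O_p(G)) ≤ O_p(G)`), by helper49.
-/

namespace Cfsg.Agent.Lib.Helper49

open Cfsg

variable {G : Type*} [Group G]

/-- If `x g x⁻¹ = z g` with `z` commuting with `x` then `xⁿ g x⁻ⁿ = zⁿ g`. -/
theorem conj_pow_of_commute {x g z : G} (hz : Commute x z) (h : x * g * x⁻¹ = z * g) (n : ℕ) :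
    x ^ n * g * (x ^ n)⁻¹ = z ^ n * g := by
  induction n with
  | zero => simp
  | succ n ih =>
    have h1 : x ^ (n + 1) * g * (x ^ (n + 1))⁻¹ = x * (x ^ n * g * (x ^ n)⁻¹) * x⁻¹ := by
      rw [pow_succ']; group
    rw [h1, ih]
    have h2 : x * (z ^ n * g) * x⁻¹ = (x * z ^ n) * g * x⁻¹ := by group
    rw [h2, (hz.pow_right n).eq]
    have h3 : z ^ n * x * g * x⁻¹ = z ^ n * (x * g * x⁻¹) := by group
    rw [h3, h, pow_succ]; group

/-- A `p'`-element `x` commutes with `g` as soon as the commutator `x g x⁻¹ g⁻¹` is a `p`-element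
commuting with `x`. -/
theorem commute_of_coprime_of_commute_comm {p k : ℕ} {x g : G}
    (hx : (orderOf x).Coprime p)
    (hz : Commute x (x * g * x⁻¹ * g⁻¹)) (hzp : (x * g * x⁻¹ * g⁻¹) ^ (p ^ k) = 1) :
    Commute x g := by
  set z := x * g * x⁻¹ * g⁻¹ with hzdef
  have h : x * g * x⁻¹ = z * g := by rw [hzdef]; group
  have hn := conj_pow_of_commute hz h (orderOf x)
  rw [pow_orderOf_eq_one] at hn
  have hz1 : z ^ orderOf x = 1 := by
    have : g = z ^ orderOf x * g := by simpa using hn
    exact (mul_eq_right.mp this.symm)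
  have hd1 : orderOf z ∣ orderOf x := orderOf_dvd_of_pow_eq_one hz1
  have hd2 : orderOf z ∣ p ^ k := orderOf_dvd_of_pow_eq_one hzp
  have hcop : (orderOf x).Coprime (p ^ k) := Nat.Coprime.pow_right k hx
  have h1 : orderOf z = 1 := Nat.eq_one_of_dvd_coprimes hcop hd1 hd2
  have hz1 : z = 1 := orderOf_eq_one_iff.mp h1
  rw [hz1, one_mul] at h
  have : x * g = g * x := by
    calc x * g = x * g * x⁻¹ * x := by group
      _ = g * x := by rw [h]
  exact this

/-- In a finite group in which every element of order prime to `p` is trivial is a `p`-group. -/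
theorem isPGroup_of_forall_coprime_eq_one {p : ℕ} [hp : Fact p.Prime] [Finite G]
    (h : ∀ x : G, (orderOf x).Coprime p → x = 1) : IsPGroup p G := by
  intro g
  have hpos : orderOf g ≠ 0 := (orderOf_pos g).ne'
  obtain ⟨k, m, hm, hkm⟩ := Nat.exists_eq_pow_mul_and_not_dvd hpos p hp.out.ne_one
  refine ⟨k, ?_⟩
  have hord : orderOf (g ^ (p ^ k)) = m := by
    rw [orderOf_pow' g (pow_ne_zero k hp.out.ne_zero), hkm]
    rw [Nat.gcd_eq_right (Dvd.intro _ rfl)]
    exact Nat.mul_div_cancel_left m (pow_pos hp.out.pos k)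
  apply h
  rw [hord]
  exact ((Nat.Prime.coprime_iff_not_dvd hp.out).mpr hm).symm

/-- A normal `p`-subgroup lies in the `p`-core. -/
theorem le_pCore_of_normal_of_isPGroup {p : ℕ} {N : Subgroup G} (hN : N.Normal)
    (hp : IsPGroup p N) : N ≤ pCore p G :=
  le_sSup ⟨hN, hp⟩

/-- In a finite group, the `p`-core lies in every Sylow `p`-subgroup. -/
theorem pCore_le_sylow {p : ℕ} [Fact p.Prime] [Finite G] (P : Sylow p G) :
    pCore p G ≤ (P : Subgroup G) := by
  apply sSup_le
  rintro N ⟨hN, hNp⟩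
  obtain ⟨Q, hQ⟩ := hNp.exists_le_sylow
  obtain ⟨g, rfl⟩ := MulAction.exists_smul_eq G Q P
  intro x hx
  rw [Sylow.coe_subgroup_smul, Subgroup.mem_pointwise_smul_iff_inv_smul_mem]
  apply hQ
  simpa [MulAut.smul_def, MulAut.conj_apply] using hN.conj_mem x hx g⁻¹

/-- In a finite group, the `p`-core is a `p`-group. -/
theorem isPGroup_pCore (p : ℕ) [Fact p.Prime] (G : Type*) [Group G] [Finite G] :
    IsPGroup p (pCore p G) := by
  obtain ⟨P⟩ : Nonempty (Sylow p G) := inferInstance
  exact P.2.to_le (pCore_le_sylow P)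

/-- Every element of the `p`-core of a finite group is killed by a power of `p`. -/
theorem pow_eq_one_of_mem_pCore {p : ℕ} [Fact p.Prime] [Finite G] {z : G} (hz : z ∈ pCore p G) :
    ∃ k : ℕ, z ^ (p ^ k) = 1 := by
  obtain ⟨k, hk⟩ := isPGroup_pCore p G ⟨z, hz⟩
  exact ⟨k, by simpa using congrArg Subtype.val hk⟩

/-- Key lemma for groups of characteristic `p`: a `p'`-element `x` all of whose commutators with
elements of `O_p(G)` commute with `x` is trivial. -/
theorem eq_one_of_coprime_of_commute_comm {p : ℕ} [Fact p.Prime] [Finite G]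
    (hG : Subgroup.centralizer (pCore p G : Set G) ≤ pCore p G) {x : G}
    (hx : (orderOf x).Coprime p)
    (h : ∀ r ∈ pCore p G, Commute x (x * r * x⁻¹ * r⁻¹)) : x = 1 := by
  have hxc : x ∈ Subgroup.centralizer (pCore p G : Set G) := by
    rw [Subgroup.mem_centralizer_iff]
    intro r hr
    have hz : x * r * x⁻¹ * r⁻¹ ∈ pCore p G :=
      (pCore p G).mul_mem ((pCore_normal p G).conj_mem r hr x) ((pCore p G).inv_mem hr)
    obtain ⟨k, hk⟩ := pow_eq_one_of_mem_pCore hz
    exact (commute_of_coprime_of_commute_comm hx (h r hr) hk).eq.symm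
  obtain ⟨k, hk⟩ := pow_eq_one_of_mem_pCore (hG hxc)
  have hd : orderOf x ∣ p ^ k := orderOf_dvd_of_pow_eq_one hk
  have hcop : (orderOf x).Coprime (p ^ k) := Nat.Coprime.pow_right k hx
  have : orderOf x = 1 := Nat.eq_one_of_dvd_coprimes hcop dvd_rfl hd
  exact orderOf_eq_one_iff.mp this

/-- If every `p'`-element of `C_H(O_p(H))` is trivial, then `H` has characteristic `p`. -/
theorem centralizer_pCore_le_of_forall_coprime_eq_one {p : ℕ} [Fact p.Prime] {H : Type*} [Group H]
    [Finite H]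
    (h : ∀ x ∈ Subgroup.centralizer (pCore p H : Set H), (orderOf x).Coprime p → x = 1) :
    Subgroup.centralizer (pCore p H : Set H) ≤ pCore p H := by
  have hn : (Subgroup.centralizer (pCore p H : Set H)).Normal := Subgroup.normal_centralizer
  apply le_pCore_of_normal_of_isPGroup hn
  apply isPGroup_of_forall_coprime_eq_one
  intro x hx
  have := h x.1 x.2 (by rwa [Subgroup.orderOf_coe])
  exact Subtype.ext this

/-- The intersection of `O_p(G)` with a subgroup `L` normalized... in fact for any `L`, the elements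
of `O_p(G) ∩ L` lie in `O_p(L)` when `O_p(G) ∩ L` is normal in `L`; here stated for all `L`
(normality in `G` of `O_p(G)` suffices). -/
theorem mem_pCore_subgroup_of_mem_pCore {p : ℕ} [Fact p.Prime] [Finite G] (L : Subgroup G)
    {z : G} (hzL : z ∈ L) (hz : z ∈ pCore p G) : (⟨z, hzL⟩ : L) ∈ pCore p L := by
  have hn : ((pCore p G).subgroupOf L).Normal := Subgroup.Normal.subgroupOf (pCore_normal p G) L
  have hp : IsPGroup p ((pCore p G).subgroupOf L) :=
    (isPGroup_pCore p G).comap_subtype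
  exact le_pCore_of_normal_of_isPGroup hn hp (Subgroup.mem_subgroupOf.mpr hz)

/-- A `p'`-element of `C_G(O_p(G))` is trivial in a group of characteristic `p`. -/
theorem eq_one_of_coprime_of_mem_centralizer_pCore {p : ℕ} [Fact p.Prime] [Finite G]
    (hG : Subgroup.centralizer (pCore p G : Set G) ≤ pCore p G) {x : G}
    (hx : (orderOf x).Coprime p) (hxc : x ∈ Subgroup.centralizer (pCore p G : Set G)) : x = 1 := by
  obtain ⟨k, hk⟩ := pow_eq_one_of_mem_pCore (hG hxc)
  have hd : orderOf x ∣ p ^ k := orderOf_dvd_of_pow_eq_one hk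
  have hcop : (orderOf x).Coprime (p ^ k) := Nat.Coprime.pow_right k hx
  have : orderOf x = 1 := Nat.eq_one_of_dvd_coprimes hcop dvd_rfl hd
  exact orderOf_eq_one_iff.mp this

/-- pure group identity used in the `A × B` lemma -/
theorem commute_aux {x r q : G} (h1 : Commute x q)
    (h2 : Commute x (r * q * r⁻¹ * q⁻¹)) : Commute (x * r⁻¹ * x⁻¹ * r) q := by
  have h2' : x * (r * q * r⁻¹) = (r * q * r⁻¹) * x := by
    calc x * (r * q * r⁻¹) = x * (r * q * r⁻¹ * q⁻¹) * q := by group
      _ = (r * q * r⁻¹ * q⁻¹) * x * q := by rw [h2.eq]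
      _ = (r * q * r⁻¹ * q⁻¹) * (x * q) := by group
      _ = (r * q * r⁻¹ * q⁻¹) * (q * x) := by rw [h1.eq]
      _ = (r * q * r⁻¹) * x := by group
  have h3 : Commute q (r⁻¹ * x⁻¹ * r) := by
    show q * (r⁻¹ * x⁻¹ * r) = r⁻¹ * x⁻¹ * r * q
    calc q * (r⁻¹ * x⁻¹ * r) = r⁻¹ * x⁻¹ * (x * (r * q * r⁻¹)) * x⁻¹ * r := by group
      _ = r⁻¹ * x⁻¹ * ((r * q * r⁻¹) * x) * x⁻¹ * r := by rw [h2']
      _ = r⁻¹ * x⁻¹ * r * q := by group
  have h4 : Commute q (x * (r⁻¹ * x⁻¹ * r)) := h1.symm.mul_right h3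
  have h5 : x * r⁻¹ * x⁻¹ * r = x * (r⁻¹ * x⁻¹ * r) := by group
  rw [h5]
  exact h4.symm

/-- Thompson's `A × B` lemma, elementwise form: `T` a finite `p`-subgroup containing `R` and `Q`, with
`Q` normalizing `R`; `x` a `p'`-element normalizing `R`, centralizing `Q` and centralizing `C_R(Q)`.
Then `x` centralizes `R`. -/
theorem commute_of_AxB {p : ℕ} [Fact p.Prime] [Finite G] {T R Q : Subgroup G}
    (hT : IsPGroup p T) (hRT : R ≤ T) (hQT : Q ≤ T)
    (hQR : Q ≤ Subgroup.normalizer (R : Set G)) {x : G} (hxR : x ∈ Subgroup.normalizer (R : Set G))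
    (hx : (orderOf x).Coprime p) (hxQ : ∀ q ∈ Q, Commute x q)
    (hC : ∀ r ∈ R, (∀ q ∈ Q, Commute r q) → Commute x r) :
    ∀ r ∈ R, Commute x r := by
  have : Group.IsNilpotent T := hT.isNilpotent
  obtain ⟨n, hn⟩ := Group.IsNilpotent.nilpotent' (G := T)
  have key : ∀ i : ℕ, ∀ r : T, (r : G) ∈ R → r ∈ Subgroup.upperCentralSeries T i →
      Commute x (r : G) := by
    intro i
    induction i with
    | zero =>
      intro r _ hr
      rw [Subgroup.upperCentralSeries_zero, Subgroup.mem_bot] at hr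
      rw [hr]; simp
    | succ i ih =>
      intro r hrR hr
      rw [Subgroup.mem_upperCentralSeries_succ_iff] at hr
      have hcq : ∀ q ∈ Q, Commute x ((r : G) * q * (r : G)⁻¹ * q⁻¹) := by
        intro q hq
        have h1 := hr ⟨q, hQT hq⟩
        rw [commutatorElement_def] at h1
        have h2 : ((r * (⟨q, hQT hq⟩ : T) * r⁻¹ * (⟨q, hQT hq⟩ : T)⁻¹ : T) : G)
            = (r : G) * q * (r : G)⁻¹ * q⁻¹ := by
          simp
        have h3 : (r : G) * q * (r : G)⁻¹ * q⁻¹ ∈ R := by
          have : q * (r : G)⁻¹ * q⁻¹ ∈ R :=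
            (Subgroup.mem_normalizer_iff.mp (hQR hq) _).mp (R.inv_mem hrR)
          have h4 : (r : G) * q * (r : G)⁻¹ * q⁻¹ = (r : G) * (q * (r : G)⁻¹ * q⁻¹) := by group
          rw [h4]
          exact R.mul_mem hrR this
        have := ih _ (by rw [h2]; exact h3) h1
        rwa [h2] at this
      -- the element z' = x r⁻¹ x⁻¹ r
      have hz'R : x * (r : G)⁻¹ * x⁻¹ * (r : G) ∈ R := by
        have : x * (r : G)⁻¹ * x⁻¹ ∈ R :=
          (Subgroup.mem_normalizer_iff.mp hxR _).mp (R.inv_mem hrR)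
        exact R.mul_mem this hrR
      have hz'Q : ∀ q ∈ Q, Commute (x * (r : G)⁻¹ * x⁻¹ * (r : G)) q := fun q hq =>
        commute_aux (hxQ q hq) (hcq q hq)
      have hxz' : Commute x (x * (r : G)⁻¹ * x⁻¹ * (r : G)) := hC _ hz'R hz'Q
      obtain ⟨k, hk⟩ := hT ⟨_, hRT hz'R⟩
      have hk' : (x * (r : G)⁻¹ * x⁻¹ * (r : G)) ^ (p ^ k) = 1 := by
        simpa using congrArg Subtype.val hk
      have hfin : Commute x (r : G)⁻¹ := by
        apply commute_of_coprime_of_commute_comm (p := p) (k := k) hx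
        · simpa using hxz'
        · simpa using hk'
      simpa using hfin.inv_right
  intro r hr
  exact key n ⟨r, hRT hr⟩ hr (by rw [hn]; trivial)

/-- The normalizer of a subgroup normalizes its centralizer. -/
theorem normalizer_le_normalizer_centralizer (H : Subgroup G) :
    Subgroup.normalizer (H : Set G) ≤
      Subgroup.normalizer ((Subgroup.centralizer (H : Set G) : Subgroup G) : Set G) := by
  intro n hn
  have key : ∀ m : G, m ∈ Subgroup.normalizer (H : Set G) →
      ∀ c ∈ Subgroup.centralizer (H : Set G), m * c * m⁻¹ ∈ Subgroup.centralizer (H : Set G) := by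
    intro m hm c hc
    rw [Subgroup.mem_centralizer_iff] at hc ⊢
    intro h hh
    have h1 : m⁻¹ * h * m ∈ H := by
      have := (Subgroup.mem_normalizer_iff.mp (Subgroup.inv_mem _ hm) h).mp hh
      simpa using this
    have h2 := hc _ h1
    calc h * (m * c * m⁻¹) = m * ((m⁻¹ * h * m) * c) * m⁻¹ := by group
      _ = m * (c * (m⁻¹ * h * m)) * m⁻¹ := by rw [h2]
      _ = m * c * m⁻¹ * h := by group
  rw [Subgroup.mem_normalizer_iff]
  intro c
  constructor
  · exact key n hn c
  · intro hc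
    have := key n⁻¹ (Subgroup.inv_mem _ hn) _ hc
    simpa [mul_assoc] using this

/-- In a group of characteristic `p`, a normal subgroup `Q` of a Sylow `p`-subgroup `T` with
`C_T(Q) ≤ Q` satisfies `C_G(Q) ≤ Q`. -/
theorem centralizer_le_of_normal_in_sylow {p : ℕ} [Fact p.Prime] [Finite G]
    (hG : Subgroup.centralizer (pCore p G : Set G) ≤ pCore p G) (T : Sylow p G) (Q : Subgroup G)
    (hQT : Q ≤ (T : Subgroup G)) (hQn : (T : Subgroup G) ≤ Subgroup.normalizer (Q : Set G))
    (hC : (T : Subgroup G) ⊓ Subgroup.centralizer (Q : Set G) ≤ Q) :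
    Subgroup.centralizer (Q : Set G) ≤ Q := by
  have hR_T : pCore p G ≤ (T : Subgroup G) := pCore_le_sylow T
  have hRn : ∀ g : G, g ∈ Subgroup.normalizer ((pCore p G : Subgroup G) : Set G) := by
    intro g
    rw [Subgroup.normalizer_eq_top_iff.mpr (pCore_normal p G)]
    trivial
  have step1 : ∀ x ∈ Subgroup.centralizer (Q : Set G), (orderOf x).Coprime p → x = 1 := by
    intro x hx hcop
    apply eq_one_of_coprime_of_mem_centralizer_pCore hG hcop
    rw [Subgroup.mem_centralizer_iff]
    intro r hr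
    have hxQ : ∀ q ∈ Q, Commute x q := fun q hq =>
      ((Subgroup.mem_centralizer_iff.mp hx) q hq).symm
    have := commute_of_AxB (T := (T : Subgroup G)) (R := pCore p G) (Q := Q) T.2 hR_T hQT
      (fun q _ => hRn q) (hRn x) hcop hxQ
      (fun r hr hrq => hxQ r (hC ⟨hR_T hr, by
        show r ∈ Subgroup.centralizer (Q : Set G)
        rw [Subgroup.mem_centralizer_iff]
        intro q hq
        exact (hrq q hq).eq.symm⟩)) r hr
    exact this.eq.symm
  have hCp : IsPGroup p (Subgroup.centralizer (Q : Set G)) := by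
    apply isPGroup_of_forall_coprime_eq_one
    intro x hx
    have := step1 x.1 x.2 (by rwa [Subgroup.orderOf_coe])
    exact Subtype.ext this
  have hTn : (T : Subgroup G) ≤
      Subgroup.normalizer ((Subgroup.centralizer (Q : Set G) : Subgroup G) : Set G) :=
    hQn.trans (normalizer_le_normalizer_centralizer Q)
  have hsup : IsPGroup p ((T : Subgroup G) ⊔ Subgroup.centralizer (Q : Set G) : Subgroup G) :=
    IsPGroup.to_sup_of_normal_right' T.2 hCp hTn
  have hmax := T.is_maximal' hsup le_sup_left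
  have hCT : Subgroup.centralizer (Q : Set G) ≤ (T : Subgroup G) := by
    rw [← hmax]; exact le_sup_right
  exact fun x hx => hC ⟨hCT hx, hx⟩

end Cfsg.Agent.Lib.Helper49
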