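import Cfsg.Agent.Lib.Helper49.CharP

set_option autoImplicit false

/-!
More on groups of characteristic `p`: `O_p(L)` viewed inside the ambient group, invariance under
isomorphism, overgroups of self-centralizing `p`-subgroups. By helper49.
-/

namespace Cfsg.Agent.Lib.Helper49

open Cfsg

variable {G : Type*} [Group G]

theorem mem_normalizer_inf {A B : Subgroup G} {l : G}
    (h1 : l ∈ Subgroup.normalizer ((A : Subgroup G) : Set G))
    (h2 : l ∈ Subgroup.normalizer ((B : Subgroup G) : Set G)) :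
    l ∈ Subgroup.normalizer (((A ⊓ B : Subgroup G)) : Set G) := by
  rw [Subgroup.mem_normalizer_iff] at h1 h2 ⊢
  intro g
  rw [Subgroup.mem_inf, Subgroup.mem_inf, ← h1 g, ← h2 g]

/-- `O_p(L)` as a subgroup of the ambient group. -/
def pCoreIn (p : ℕ) (L : Subgroup G) : Subgroup G := (pCore p L).map L.subtype

theorem pCoreIn_le (p : ℕ) (L : Subgroup G) : pCoreIn p L ≤ L := Subgroup.map_subtype_le _

theorem mem_pCoreIn_iff {p : ℕ} {L : Subgroup G} {z : G} (hz : z ∈ L) :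
    z ∈ pCoreIn p L ↔ (⟨z, hz⟩ : L) ∈ pCore p L := by
  constructor
  · rintro ⟨y, hy, rfl⟩
    exact hy
  · intro h
    exact ⟨⟨z, hz⟩, h, rfl⟩

theorem pow_eq_one_of_mem_pCoreIn {p : ℕ} [Fact p.Prime] [Finite G] {L : Subgroup G} {z : G}
    (hz : z ∈ pCoreIn p L) : ∃ k : ℕ, z ^ (p ^ k) = 1 := by
  obtain ⟨y, hy, rfl⟩ := hz
  obtain ⟨k, hk⟩ := pow_eq_one_of_mem_pCore hy
  exact ⟨k, by simpa using congrArg Subtype.val hk⟩

theorem le_normalizer_pCoreIn (p : ℕ) (L : Subgroup G) :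
    L ≤ Subgroup.normalizer ((pCoreIn p L : Subgroup G) : Set G) := by
  have key : ∀ l ∈ L, ∀ z ∈ pCoreIn p L, l * z * l⁻¹ ∈ pCoreIn p L := by
    rintro l hl _ ⟨y, hy, rfl⟩
    exact ⟨⟨l, hl⟩ * y * ⟨l, hl⟩⁻¹, (pCore_normal p L).conj_mem y hy ⟨l, hl⟩, by simp⟩
  intro l hl
  rw [Subgroup.mem_normalizer_iff]
  intro z
  constructor
  · exact key l hl z
  · intro hz
    have := key l⁻¹ (L.inv_mem hl) _ hz
    simpa [mul_assoc] using this

theorem le_pCoreIn_of_normalized {p : ℕ} {L N : Subgroup G} (hNL : N ≤ L)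
    (hn : L ≤ Subgroup.normalizer (N : Set G)) (hp : IsPGroup p N) : N ≤ pCoreIn p L := by
  have hnorm : (N.subgroupOf L).Normal := (Subgroup.normal_subgroupOf_iff_le_normalizer hNL).mpr hn
  have hpg : IsPGroup p (N.subgroupOf L) := hp.comap_subtype
  intro z hz
  rw [mem_pCoreIn_iff (hNL hz)]
  exact le_pCore_of_normal_of_isPGroup hnorm hpg (Subgroup.mem_subgroupOf.mpr hz)

theorem mem_centralizer_pCore_iff {p : ℕ} {L : Subgroup G} (x : L) :
    x ∈ Subgroup.centralizer (pCore p L : Set L) ↔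
      (x : G) ∈ Subgroup.centralizer ((pCoreIn p L : Subgroup G) : Set G) := by
  rw [Subgroup.mem_centralizer_iff, Subgroup.mem_centralizer_iff]
  constructor
  · rintro h _ ⟨y, hy, rfl⟩
    have := congrArg Subtype.val (h y hy)
    simpa using this
  · intro h y hy
    apply Subtype.ext
    have := h (y : G) ⟨y, hy, rfl⟩
    simpa using this

theorem pCore_inf_le_pCoreIn {p : ℕ} [Fact p.Prime] [Finite G] (L : Subgroup G) :
    pCore p G ⊓ L ≤ pCoreIn p L := by
  rintro z ⟨hz, hzL⟩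
  rw [mem_pCoreIn_iff hzL]
  exact mem_pCore_subgroup_of_mem_pCore L hzL hz

/-- Characteristic `p` for a subgroup, in ambient terms: it is enough that every `p'`-element of `L`
centralizing `O_p(L)` is trivial. -/
theorem charP_subgroup_of_forall {p : ℕ} [Fact p.Prime] [Finite G] (L : Subgroup G)
    (h : ∀ x ∈ L, x ∈ Subgroup.centralizer ((pCoreIn p L : Subgroup G) : Set G) →
      (orderOf x).Coprime p → x = 1) :
    Subgroup.centralizer (pCore p L : Set L) ≤ pCore p L := by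
  apply centralizer_pCore_le_of_forall_coprime_eq_one
  intro x hx hcop
  have := h x.1 x.2 ((mem_centralizer_pCore_iff x).mp hx) (by rwa [Subgroup.orderOf_coe])
  exact Subtype.ext this

/-- The subgroup of elements of `L` acting trivially on `R` modulo `L`. -/
def trivModSubgroup (R L : Subgroup G) (hR : R.Normal) : Subgroup G where
  carrier := {g | g ∈ L ∧ ∀ r ∈ R, g * r * g⁻¹ * r⁻¹ ∈ L}
  one_mem' := ⟨L.one_mem, fun r _ => by simp⟩
  mul_mem' := by
    rintro g h ⟨hg, hg'⟩ ⟨hh, hh'⟩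
    refine ⟨L.mul_mem hg hh, fun r hr => ?_⟩
    have h1 : g * h * r * (g * h)⁻¹ * r⁻¹ = g * (h * r * h⁻¹ * r⁻¹) * g⁻¹ * (g * r * g⁻¹ * r⁻¹) := by
      group
    rw [h1]
    exact L.mul_mem (L.mul_mem (L.mul_mem hg (hh' r hr)) (L.inv_mem hg)) (hg' r hr)
  inv_mem' := by
    rintro g ⟨hg, hg'⟩
    refine ⟨L.inv_mem hg, fun r hr => ?_⟩
    have hr' : g⁻¹ * r * g ∈ R := by simpa using hR.conj_mem r hr g⁻¹
    have h1 := hg' _ hr'
    have h2 : g⁻¹ * r * g⁻¹⁻¹ * r⁻¹ = (g * (g⁻¹ * r * g) * g⁻¹ * (g⁻¹ * r * g)⁻¹)⁻¹ := by group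
    rw [h2]
    exact L.inv_mem h1

theorem mem_trivModSubgroup {R L : Subgroup G} {hR : R.Normal} {g : G} :
    g ∈ trivModSubgroup R L hR ↔ g ∈ L ∧ ∀ r ∈ R, g * r * g⁻¹ * r⁻¹ ∈ L := Iff.rfl

theorem trivModSubgroup_le (R L : Subgroup G) (hR : R.Normal) : trivModSubgroup R L hR ≤ L :=
  fun _ h => h.1

theorem le_normalizer_trivModSubgroup (R L : Subgroup G) (hR : R.Normal) :
    L ≤ Subgroup.normalizer ((trivModSubgroup R L hR : Subgroup G) : Set G) := by
  have key : ∀ l ∈ L, ∀ g ∈ trivModSubgroup R L hR, l * g * l⁻¹ ∈ trivModSubgroup R L hR := by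
    rintro l hl g ⟨hg, hg'⟩
    refine ⟨L.mul_mem (L.mul_mem hl hg) (L.inv_mem hl), fun r hr => ?_⟩
    have hr' : l⁻¹ * r * l ∈ R := by simpa using hR.conj_mem r hr l⁻¹
    have h1 := hg' _ hr'
    have h2 : l * g * l⁻¹ * r * (l * g * l⁻¹)⁻¹ * r⁻¹
        = l * (g * (l⁻¹ * r * l) * g⁻¹ * (l⁻¹ * r * l)⁻¹) * l⁻¹ := by group
    rw [h2]
    exact L.mul_mem (L.mul_mem hl h1) (L.inv_mem hl)
  intro l hl
  rw [Subgroup.mem_normalizer_iff]
  intro g
  constructor
  · exact key l hl g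
  · intro hg
    have := key l⁻¹ (L.inv_mem hl) _ hg
    simpa [mul_assoc] using this

/-- In a group of characteristic `p`, if `Q` is normal in a Sylow `p`-subgroup `T` and
`C_T(Q) ≤ Q`, then every subgroup containing `Q` has characteristic `p`. -/
theorem charP_of_le_of_normal_in_sylow {p : ℕ} [Fact p.Prime] [Finite G]
    (hG : Subgroup.centralizer (pCore p G : Set G) ≤ pCore p G) (T : Sylow p G) (Q : Subgroup G)
    (hQT : Q ≤ (T : Subgroup G)) (hQn : (T : Subgroup G) ≤ Subgroup.normalizer (Q : Set G))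
    (hC : (T : Subgroup G) ⊓ Subgroup.centralizer (Q : Set G) ≤ Q) (L : Subgroup G) (hQL : Q ≤ L) :
    Subgroup.centralizer (pCore p L : Set L) ≤ pCore p L := by
  have hCQ := centralizer_le_of_normal_in_sylow hG T Q hQT hQn hC
  have hR_T : pCore p G ≤ (T : Subgroup G) := pCore_le_sylow T
  have hRnorm : (pCore p G).Normal := pCore_normal p G
  set K := trivModSubgroup (pCore p G) L hRnorm with hK
  set P' := pCoreIn p L with hP'
  set D' := L ⊓ Subgroup.centralizer (P' : Set G) with hD'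
  have hLD' : L ≤ Subgroup.normalizer ((D' : Subgroup G) : Set G) := by
    intro l hl
    have h1 : l ∈ Subgroup.normalizer ((L : Subgroup G) : Set G) := Subgroup.le_normalizer hl
    have h2 : l ∈ Subgroup.normalizer ((Subgroup.centralizer (P' : Set G) : Subgroup G) : Set G) :=
      normalizer_le_normalizer_centralizer P' (le_normalizer_pCoreIn p L hl)
    exact mem_normalizer_inf h1 h2
  have hLK : L ≤ Subgroup.normalizer ((K : Subgroup G) : Set G) :=
    le_normalizer_trivModSubgroup _ _ _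
  have hQK : Q ≤ K := by
    intro q hq
    refine ⟨hQL hq, fun r hr => ?_⟩
    have : r * q⁻¹ * r⁻¹ ∈ Q :=
      (Subgroup.mem_normalizer_iff.mp (hQn (hR_T hr)) _).mp (Q.inv_mem hq)
    have h1 : q * r * q⁻¹ * r⁻¹ = q * (r * q⁻¹ * r⁻¹) := by group
    rw [h1]
    exact hQL (Q.mul_mem hq this)
  -- N = D' ⊓ K is a normal p-subgroup of L
  set N := D' ⊓ K with hN
  have hNL : N ≤ L := inf_le_left.trans inf_le_left
  have hLN : L ≤ Subgroup.normalizer ((N : Subgroup G) : Set G) := by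
    intro l hl
    exact mem_normalizer_inf (hLD' hl) (hLK hl)
  have hNp : IsPGroup p N := by
    apply isPGroup_of_forall_coprime_eq_one
    intro y hy
    have hy1 : (y : G) = 1 := by
      apply eq_one_of_coprime_of_commute_comm hG (by rwa [Subgroup.orderOf_coe])
      intro r hr
      have hyK : (y : G) ∈ K := y.2.2
      have hyD : (y : G) ∈ D' := y.2.1
      have hcL : (y : G) * r * (y : G)⁻¹ * r⁻¹ ∈ L := hyK.2 r hr
      have hcR : (y : G) * r * (y : G)⁻¹ * r⁻¹ ∈ pCore p G :=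
        (pCore p G).mul_mem (hRnorm.conj_mem r hr y) ((pCore p G).inv_mem hr)
      have hcP : (y : G) * r * (y : G)⁻¹ * r⁻¹ ∈ P' := pCore_inf_le_pCoreIn L ⟨hcR, hcL⟩
      exact ((Subgroup.mem_centralizer_iff.mp hyD.2) _ hcP).symm
    exact Subtype.ext hy1
  have hNP : N ≤ P' := le_pCoreIn_of_normalized hNL hLN hNp
  -- now the main argument
  apply charP_subgroup_of_forall
  intro x hxL hxc hcop
  have hxD : x ∈ D' := ⟨hxL, hxc⟩
  have hxQ : x ∈ Subgroup.centralizer (Q : Set G) := by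
    rw [Subgroup.mem_centralizer_iff]
    intro q hq
    have hqL := hQL hq
    have hc1 : x * q * x⁻¹ * q⁻¹ ∈ D' := by
      have : q * x⁻¹ * q⁻¹ ∈ D' :=
        (Subgroup.mem_normalizer_iff.mp (hLD' hqL) _).mp (D'.inv_mem hxD)
      have h1 : x * q * x⁻¹ * q⁻¹ = x * (q * x⁻¹ * q⁻¹) := by group
      rw [h1]
      exact D'.mul_mem hxD this
    have hc2 : x * q * x⁻¹ * q⁻¹ ∈ K := by
      have : x * q * x⁻¹ ∈ K := (Subgroup.mem_normalizer_iff.mp (hLK hxL) _).mp (hQK hq)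
      exact K.mul_mem this (K.inv_mem (hQK hq))
    have hcP : x * q * x⁻¹ * q⁻¹ ∈ P' := hNP ⟨hc1, hc2⟩
    obtain ⟨k, hk⟩ := pow_eq_one_of_mem_pCoreIn hcP
    have hcomm : Commute x (x * q * x⁻¹ * q⁻¹) :=
      ((Subgroup.mem_centralizer_iff.mp hxc) _ hcP).symm
    exact (commute_of_coprime_of_commute_comm hcop hcomm hk).eq.symm
  have hxT : x ∈ (T : Subgroup G) := hQT (hCQ hxQ)
  obtain ⟨k, hk⟩ := T.2 ⟨x, hxT⟩
  have hk' : x ^ (p ^ k) = 1 := by simpa using congrArg Subtype.val hk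
  have hd : orderOf x ∣ p ^ k := orderOf_dvd_of_pow_eq_one hk'
  have hcop' : (orderOf x).Coprime (p ^ k) := Nat.Coprime.pow_right k hcop
  have : orderOf x = 1 := Nat.eq_one_of_dvd_coprimes hcop' dvd_rfl hd
  exact orderOf_eq_one_iff.mp this

end Cfsg.Agent.Lib.Helper49
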