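import Mathlib
import Cfsg.Agent.S0493

set_option autoImplicit false

namespace Cfsg.Agent.Lib.Helper49.BrauerN

open Subgroup

/-- a finite nontrivial group has a simple quotient -/
theorem exists_simple_quotient_of_nontrivial {G : Type*} [Group G] [Finite G] [Nontrivial G] :
    ∃ (M : Subgroup G) (_ : M.Normal), IsSimpleGroup (G ⧸ M) := by
  classical
  obtain ⟨M, hM⟩ := (Set.toFinite {M : Subgroup G | M.Normal ∧ M ≠ ⊤}).exists_maximal
    ⟨⊥, Subgroup.normal_bot, bot_ne_top⟩
  have hMn : M.Normal := hM.prop.1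
  have hMt : M ≠ ⊤ := hM.prop.2
  refine ⟨M, hMn, ?_⟩
  set φ : G →* G ⧸ M := QuotientGroup.mk' M with hφdef
  have hφ : Function.Surjective φ := QuotientGroup.mk'_surjective M
  have : Nontrivial (G ⧸ M) := by
    obtain ⟨g, hg⟩ : ∃ g : G, g ∉ M := by
      by_contra hcon
      push Not at hcon
      exact hMt (eq_top_iff.mpr fun x _ => hcon x)
    exact ⟨⟨(g : G ⧸ M), 1, fun h => hg ((QuotientGroup.eq_one_iff g).mp h)⟩⟩
  refine IsSimpleGroup.mk ?_
  intro K hK
  by_cases hKt : K.comap φ = ⊤
  · right
    rw [← Subgroup.map_comap_eq_self_of_surjective hφ K, hKt, Subgroup.map_top_of_surjective φ hφ]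
  · left
    have hle : M ≤ K.comap φ := by
      have := MonoidHom.ker_le_comap φ K
      rwa [hφdef, QuotientGroup.ker_mk'] at this
    have h2 : K.comap φ = M := by
      have hmem : K.comap φ ∈ {M : Subgroup G | M.Normal ∧ M ≠ ⊤} := ⟨hK.comap φ, hKt⟩
      exact le_antisymm (hM.le_of_ge hmem hle) hle
    rw [← Subgroup.map_comap_eq_self_of_surjective hφ K, h2, hφdef, QuotientGroup.map_mk'_self]

/-- quotients of perfect groups are perfect -/
theorem commutator_quotient_eq_top {G : Type*} [Group G] (hperf : commutator G = ⊤) (M : Subgroup G)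
    [M.Normal] : commutator (G ⧸ M) = ⊤ := by
  have hφ : Function.Surjective (QuotientGroup.mk' M) := QuotientGroup.mk'_surjective M
  rw [commutator_def] at hperf ⊢
  have := congrArg (Subgroup.map (QuotientGroup.mk' M)) hperf
  rw [Subgroup.map_commutator, Subgroup.map_top_of_surjective _ hφ] at this
  exact this

/-- a perfect group with commuting elements is trivial -/
theorem subsingleton_of_perfect_of_comm {G : Type*} [Group G] (hperf : commutator G = ⊤)
    (hc : ∀ a b : G, a * b = b * a) : Subsingleton G := by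
  have h : commutator G = ⊥ := by
    rw [commutator_def, Subgroup.commutator_eq_bot_iff_le_centralizer]
    intro a _
    rw [Subgroup.mem_centralizer_iff]
    intro b _
    exact hc b a
  rw [h] at hperf
  refine ⟨fun a b => ?_⟩
  have ha : a ∈ (⊥ : Subgroup G) := hperf ▸ Subgroup.mem_top a
  have hb : b ∈ (⊥ : Subgroup G) := hperf ▸ Subgroup.mem_top b
  rw [Subgroup.mem_bot] at ha hb
  rw [ha, hb]

/-- a nontrivial finite perfect group has order at least 60 -/
theorem sixty_le_card_of_perfect {G : Type*} [Group G] [Finite G] [Nontrivial G]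
    (hperf : commutator G = ⊤) : 60 ≤ Nat.card G := by
  obtain ⟨M, hMn, hs⟩ := exists_simple_quotient_of_nontrivial (G := G)
  have hq := commutator_quotient_eq_top hperf M
  have hnc : ¬ IsCyclic (G ⧸ M) := by
    intro hcyc
    have hc : ∀ a b : G ⧸ M, a * b = b * a := fun a b => by
      have := hcyc
      obtain ⟨g, hg⟩ := IsCyclic.exists_generator (α := G ⧸ M)
      obtain ⟨m, rfl⟩ := Subgroup.mem_zpowers_iff.1 (hg a)
      obtain ⟨n, rfl⟩ := Subgroup.mem_zpowers_iff.1 (hg b)
      rw [← zpow_add, ← zpow_add, add_comm]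
    have := subsingleton_of_perfect_of_comm hq hc
    exact not_nontrivial_iff_subsingleton.2 this hs.toNontrivial
  have hle : Nat.card (G ⧸ M) ≤ Nat.card G := by
    have := Subgroup.card_eq_card_quotient_mul_card_subgroup M
    have hpos : 0 < Nat.card M := Nat.card_pos
    nlinarith
  by_contra hlt
  push Not at hlt
  have h60 := Cfsg.Agent.S0493.result (G := G ⧸ M) hnc (by omega)
  omega


/-- a Sylow `p`-subgroup with `Nat.card (Sylow p G) = 1` is normal -/
theorem sylow_normal_of_card_eq_one {G : Type*} [Group G] [Finite G] {p : ℕ} [Fact p.Prime]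
    (P : Sylow p G) (h : Nat.card (Sylow p G) = 1) : (P : Subgroup G).Normal := by
  rw [Sylow.card_eq_index_normalizer P, Subgroup.index_eq_one] at h
  exact Subgroup.normalizer_eq_top_iff.1 h

/-- **[SETUP]** -/
theorem brauer_setup {G : Type*} [Group G] [Finite G] (hperf : commutator G = ⊤) (p : ℕ)
    [Fact p.Prime] (hdvd : p ∣ Nat.card G) (hbig : Nat.card G < p ^ 3) (P : Sylow p G)
    (hP : ¬ (P : Subgroup G).Normal) :
    3 < p ∧ Nat.card (P : Subgroup G) = p ∧
    ∃ q w n : ℕ, 2 ≤ q ∧ 1 ≤ w ∧ 1 ≤ n ∧ q ∣ p - 1 ∧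
      (Subgroup.centralizer ((P : Subgroup G) : Set G)).relIndex
        (Subgroup.normalizer ((P : Subgroup G) : Set G)) = q ∧
      Nat.card (Subgroup.centralizer ((P : Subgroup G) : Set G)) = p * w ∧
      Nat.card (Subgroup.normalizer ((P : Subgroup G) : Set G)) = p * q * w ∧
      (Subgroup.centralizer ((P : Subgroup G) : Set G)).index = q * (1 + n * p) ∧
      Nat.card (Sylow p G) = 1 + n * p ∧
      Nat.card G = p * q * w * (1 + n * p) ∧
      (∀ x : G, x ∈ (P : Subgroup G) → x ≠ 1 →
        Subgroup.centralizer ({x} : Set G) = Subgroup.centralizer ((P : Subgroup G) : Set G)) := by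
  classical
  have hp : p.Prime := Fact.out
  have hGpos : 0 < Nat.card G := Nat.card_pos
  have : Nontrivial G := by
    rw [← Finite.one_lt_card_iff_nontrivial]
    exact lt_of_lt_of_le hp.one_lt (Nat.le_of_dvd hGpos hdvd)
  -- 3 < p
  have h60 := sixty_le_card_of_perfect hperf
  have hp3 : 3 < p := by
    by_contra hle
    push Not at hle
    have : p ^ 3 ≤ 3 ^ 3 := Nat.pow_le_pow_left hle 3
    omega
  -- Sylow count
  have hmod : Nat.card (Sylow p G) ≡ 1 [MOD p] := card_sylow_modEq_one p G
  have hne1 : Nat.card (Sylow p G) ≠ 1 := fun h => hP (sylow_normal_of_card_eq_one P h)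
  -- |P| = p
  have hPcard : Nat.card (P : Subgroup G) = p := by
    obtain ⟨k, hk⟩ := P.2.exists_card_eq
    have hPdvd : Nat.card (P : Subgroup G) ∣ Nat.card G := Subgroup.card_subgroup_dvd_card _
    have hk3 : k < 3 := by
      by_contra hk3
      push Not at hk3
      have h1 : p ^ 3 ≤ p ^ k := Nat.pow_le_pow_right hp.pos hk3
      have h2 : p ^ k ≤ Nat.card G := by rw [← hk]; exact Nat.le_of_dvd hGpos hPdvd
      omega
    have hk0 : k ≠ 0 := by
      rintro rfl
      rw [pow_zero] at hk
      have := P.card_eq_multiplicity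
      rw [hk] at this
      have hfac : (Nat.card G).factorization p = 0 := by
        by_contra h0
        have : 1 < p ^ (Nat.card G).factorization p := Nat.one_lt_pow h0 hp.one_lt
        omega
      have h1 : 1 ≤ (Nat.card G).factorization p :=
        (hp.dvd_iff_one_le_factorization hGpos.ne').1 hdvd
      omega
    have hk12 : k = 1 ∨ k = 2 := by omega
    rcases hk12 with rfl | rfl
    · rw [hk, pow_one]
    · exfalso
      have hidx : Nat.card (P : Subgroup G) * (P : Subgroup G).index = Nat.card G :=
        Subgroup.card_mul_index _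
      have hidxlt : (P : Subgroup G).index < p := by
        rw [hk] at hidx
        by_contra hge
        push Not at hge
        have : p ^ 2 * p ≤ p ^ 2 * (P : Subgroup G).index := Nat.mul_le_mul_left _ hge
        have : p ^ 3 = p ^ 2 * p := by ring
        omega
      have hidxpos : 0 < (P : Subgroup G).index := Nat.pos_of_ne_zero Subgroup.index_ne_zero_of_finite
      have hle : Nat.card (Sylow p G) ≤ (P : Subgroup G).index :=
        Nat.le_of_dvd hidxpos (P.card_dvd_index)
      have hlt : Nat.card (Sylow p G) < p := lt_of_le_of_lt hle hidxlt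
      have h1 : Nat.card (Sylow p G) % p = 1 % p := hmod
      rw [Nat.mod_eq_of_lt hlt, Nat.mod_eq_of_lt hp.one_lt] at h1
      exact hne1 h1
  refine ⟨hp3, hPcard, ?_⟩
  -- P cyclic
  have hPcyc : IsCyclic (P : Subgroup G) := isCyclic_of_prime_card hPcard
  -- zpowers x = P
  have hzp : ∀ x : G, x ∈ (P : Subgroup G) → x ≠ 1 → Subgroup.zpowers x = (P : Subgroup G) := by
    intro x hx hx1
    have hle : Subgroup.zpowers x ≤ (P : Subgroup G) := by
      rw [Subgroup.zpowers_le]; exact hx
    refine Subgroup.eq_of_le_of_card_ge hle ?_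
    rw [Nat.card_zpowers, hPcard]
    have hd : orderOf x ∣ p := by
      have := orderOf_dvd_natCard (⟨x, hx⟩ : (P : Subgroup G))
      rw [hPcard] at this
      rwa [← Subgroup.orderOf_mk x hx]
    rcases (Nat.dvd_prime hp).1 hd with h1 | h1
    · exact absurd (orderOf_eq_one_iff.1 h1) hx1
    · exact h1.ge
  have hcent : ∀ x : G, x ∈ (P : Subgroup G) → x ≠ 1 →
      Subgroup.centralizer ({x} : Set G) = Subgroup.centralizer ((P : Subgroup G) : Set G) := by
    intro x hx hx1
    apply le_antisymm
    · intro y hy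
      rw [Subgroup.mem_centralizer_iff] at hy ⊢
      intro z hz
      have hz' : z ∈ Subgroup.zpowers x := by rw [hzp x hx hx1]; exact hz
      obtain ⟨m, rfl⟩ := Subgroup.mem_zpowers_iff.1 hz'
      have hc : Commute x y := hy x rfl
      exact (hc.zpow_left m).eq
    · exact Subgroup.centralizer_le (Set.singleton_subset_iff.2 hx)
  -- P ≤ C ≤ N
  have hPC : (P : Subgroup G) ≤ Subgroup.centralizer ((P : Subgroup G) : Set G) := by
    intro y hy
    rw [Subgroup.mem_centralizer_iff]
    intro z hz
    obtain ⟨g, hg⟩ := IsCyclic.exists_generator (α := (P : Subgroup G))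
    obtain ⟨m, hm⟩ := Subgroup.mem_zpowers_iff.1 (hg ⟨y, hy⟩)
    obtain ⟨n, hn⟩ := Subgroup.mem_zpowers_iff.1 (hg ⟨z, hz⟩)
    have hy' : y = (g : G) ^ m := by rw [← Subgroup.coe_zpow, hm]
    have hz' : z = (g : G) ^ n := by rw [← Subgroup.coe_zpow, hn]
    rw [hy', hz', ← zpow_add, ← zpow_add, add_comm]
  have hCN : Subgroup.centralizer ((P : Subgroup G) : Set G) ≤
      Subgroup.normalizer ((P : Subgroup G) : Set G) := Subgroup.centralizer_le_normalizer _
  set C := Subgroup.centralizer ((P : Subgroup G) : Set G) with hC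
  set N := Subgroup.normalizer ((P : Subgroup G) : Set G) with hN
  have hpC : p ∣ Nat.card C := by
    rw [← hPcard]; exact Subgroup.card_dvd_of_le hPC
  obtain ⟨w, hw⟩ := hpC
  have hw1 : 1 ≤ w := by
    rcases Nat.eq_zero_or_pos w with h0 | h0
    · rw [h0, mul_zero] at hw
      exact absurd hw (Nat.card_pos (α := C)).ne'
    · exact h0
  -- q
  have hqdvd : C.relIndex N ∣ p - 1 := by
    have key := Subgroup.card_dvd_of_injective _
      (QuotientGroup.kerLift_injective (P : Subgroup G).normalizerMonoidHom)
    rw [Subgroup.normalizerMonoidHom_ker, ← Subgroup.index, ← Subgroup.relIndex] at key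
    rwa [hPcyc.card_mulAut, hPcard, Nat.totient_prime hp] at key
  have hNcard : Nat.card N = C.relIndex N * Nat.card C := by
    have h1 := Subgroup.relIndex_mul_index (H := C) (K := N) hCN
    have h2 := Subgroup.card_mul_index C
    have h3 := Subgroup.card_mul_index N
    have hNidx : 0 < N.index := Nat.pos_of_ne_zero Subgroup.index_ne_zero_of_finite
    have : Nat.card N * N.index = C.relIndex N * Nat.card C * N.index := by
      rw [h3, ← h2, ← h1]; ring
    exact Nat.eq_of_mul_eq_mul_right hNidx this
  -- Sylow count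
  have hsyl : Nat.card (Sylow p G) = N.index := Sylow.card_eq_index_normalizer P
  obtain ⟨n, hn⟩ : ∃ n, Nat.card (Sylow p G) = 1 + n * p := by
    have h1 : Nat.card (Sylow p G) % p = 1 % p := hmod
    rw [Nat.mod_eq_of_lt hp.one_lt] at h1
    refine ⟨Nat.card (Sylow p G) / p, ?_⟩
    have := Nat.div_add_mod (Nat.card (Sylow p G)) p
    rw [h1] at this
    rw [mul_comm] at this
    omega
  have hn1 : 1 ≤ n := by
    rcases Nat.eq_zero_or_pos n with h0 | h0
    · rw [h0] at hn; simp at hn; exact absurd hn hne1
    · exact h0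
  -- q ≥ 2
  have hq2 : 2 ≤ C.relIndex N := by
    have hq0 : C.relIndex N ≠ 0 := by
      intro h0
      rw [h0, zero_mul] at hNcard
      exact (Nat.card_pos (α := N)).ne' hNcard
    by_contra hlt
    push Not at hlt
    have hq1 : C.relIndex N = 1 := by omega
    have hNC : N ≤ C := Subgroup.relIndex_eq_one.1 hq1
    have hcompl := MonoidHom.ker_transferSylow_isComplement' P hNC
    set f := MonoidHom.transferSylow P hNC with hf
    have hker : commutator G ≤ f.ker := by
      rw [commutator_def, Subgroup.commutator_le]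
      intro a _ b _
      rw [MonoidHom.mem_ker, commutatorElement_def, map_mul, map_mul, map_mul, map_inv, map_inv]
      have hab : f a * f b = f b * f a := by
        apply Subtype.ext
        rw [Subgroup.coe_mul, Subgroup.coe_mul]
        have := hPC (f a).2
        rw [Subgroup.mem_centralizer_iff] at this
        exact (this (f b) (f b).2).symm
      rw [hab, mul_assoc (f b), mul_inv_cancel, mul_one, mul_inv_cancel]
    rw [hperf, top_le_iff] at hker
    have hcard := hcompl.card_mul_card
    rw [hker, Subgroup.card_top, hPcard] at hcard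
    have : Nat.card G * p = Nat.card G * 1 := by rw [hcard, mul_one]
    have := Nat.eq_of_mul_eq_mul_left hGpos this
    exact hp.one_lt.ne' this
  refine ⟨C.relIndex N, w, n, hq2, hw1, hn1, hqdvd, rfl, hw, ?_, ?_, hn, ?_, hcent⟩
  · rw [hNcard, hw]; ring
  · rw [← Subgroup.relIndex_mul_index hCN, ← hsyl, hn]
  · rw [← Subgroup.card_mul_index N, ← hsyl, hn, hNcard, hw]; ring

end Cfsg.Agent.Lib.Helper49.BrauerN
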