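import Mathlib
import Cfsg.Agent.Lib.Helper49.BrauerNSetup
import Cfsg.Agent.Lib.Helper5.PSL2Small

set_option autoImplicit false

universe u

namespace Cfsg.Agent.Lib.Helper49.BrauerN

open Subgroup

/-- Burnside transfer: in a perfect group, a Sylow subgroup with `N(P) ≤ C(P)` is trivial. -/
theorem card_sylow_eq_one_of_perfect_of_normalizer_le {G : Type*} [Group G] [Finite G]
    (hperf : commutator G = ⊤) {p : ℕ} [Fact p.Prime] (P : Sylow p G)
    (hNC : Subgroup.normalizer ((P : Subgroup G) : Set G) ≤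
      Subgroup.centralizer ((P : Subgroup G) : Set G)) :
    Nat.card (P : Subgroup G) = 1 := by
  have hPC : (P : Subgroup G) ≤ Subgroup.centralizer ((P : Subgroup G) : Set G) :=
    le_trans Subgroup.le_normalizer hNC
  have hcompl := MonoidHom.ker_transferSylow_isComplement' P hNC
  set f := MonoidHom.transferSylow P hNC with hf
  have hker : commutator G ≤ f.ker := by
    rw [commutator_def, Subgroup.commutator_le]
    intro a _ b _
    rw [MonoidHom.mem_ker, commutatorElement_def, map_mul, map_mul, map_mul, map_inv, map_inv]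
    have hab : f a * f b = f b * f a := by
      apply Subtype.ext
      rw [Subgroup.coe_mul, Subgroup.coe_mul]
      have := hPC (f a).2
      rw [Subgroup.mem_centralizer_iff] at this
      exact (this (f b) (f b).2).symm
    rw [hab, mul_assoc (f b), mul_inv_cancel, mul_one, mul_inv_cancel]
  rw [hperf, top_le_iff] at hker
  have hcard := hcompl.card_mul_card
  rw [hker, Subgroup.card_top] at hcard
  have hGpos : 0 < Nat.card G := Nat.card_pos
  exact Nat.eq_of_mul_eq_mul_left hGpos (by rw [hcard, mul_one])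

/-- in a perfect group a Sylow `p`-subgroup of order `p` is not normal -/
theorem sylow_not_normal_of_perfect {H : Type*} [Group H] [Finite H] (hperf : commutator H = ⊤)
    {p : ℕ} [Fact p.Prime] (P : Sylow p H) (hPcard : Nat.card (P : Subgroup H) = p) :
    ¬ (P : Subgroup H).Normal := by
  intro hn
  have hPcyc : IsCyclic (P : Subgroup H) := isCyclic_of_prime_card hPcard
  let ψ : H →* (ZMod (Nat.card (P : Subgroup H)))ˣ :=
    (IsCyclic.mulAutMulEquiv (P : Subgroup H)).toMonoidHom.comp
      (MulAut.conjNormal (H := (P : Subgroup H)))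
  have hker : commutator H ≤ ψ.ker := Abelianization.commutator_subset_ker ψ
  rw [hperf, top_le_iff] at hker
  have hcentral : ∀ h : H, ∀ x ∈ (P : Subgroup H), h * x * h⁻¹ = x := by
    intro h x hx
    have h1 : ψ h = 1 := by
      have : h ∈ ψ.ker := by rw [hker]; trivial
      exact this
    have h2 : MulAut.conjNormal (H := (P : Subgroup H)) h = 1 := by
      apply (IsCyclic.mulAutMulEquiv (P : Subgroup H)).injective
      rw [map_one]
      exact h1
    have h3 := congrArg (fun σ => ((σ ⟨x, hx⟩ : (P : Subgroup H)) : H)) h2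
    simpa [MulAut.conjNormal_apply] using h3
  have hNC : Subgroup.normalizer ((P : Subgroup H) : Set H) ≤
      Subgroup.centralizer ((P : Subgroup H) : Set H) := by
    intro h _
    rw [Subgroup.mem_centralizer_iff]
    intro x hx
    have := hcentral h x hx
    calc x * h = h * x * h⁻¹ * h := by rw [this]
      _ = h * x := by group
  have := card_sylow_eq_one_of_perfect_of_normalizer_le hperf P hNC
  rw [hPcard] at this
  exact (Fact.out : p.Prime).one_lt.ne' this


/-- **[S4701-RED]** -/
theorem s4701_of_core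
    (core : ∀ {H : Type u} [Group H] [Finite H], commutator H = ⊤ → ∀ (p : ℕ) [Fact p.Prime],
      p ∣ Nat.card H → Nat.card H < p ^ 3 → ∀ P : Sylow p H, ¬ (P : Subgroup H).Normal →
      (∀ K : Subgroup H, K.Normal → (Nat.card K).Coprime p → K = ⊥) →
      (3 < p ∧ Nonempty (H ≃* Matrix.ProjectiveSpecialLinearGroup (Fin 2) (ZMod p))) ∨
      (3 < p ∧ ∃ (m : ℕ) (F : Type) (_ : Field F) (_ : Fintype F), Fintype.card F = 2 ^ m ∧
        p = 2 ^ m + 1 ∧ Nonempty (H ≃* Matrix.SpecialLinearGroup (Fin 2) F)))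
    {G : Type u} [Group G] [Finite G] (hperf : commutator G = ⊤) (p : ℕ) [Fact p.Prime]
    (hdvd : p ∣ Nat.card G) (hbig : Nat.card G < p ^ 3) (P : Sylow p G)
    (hP : ¬ (P : Subgroup G).Normal) (h2 : ∀ N : Subgroup G, N.Normal → Nat.card N ≠ 2) :
    (3 < p ∧ Nonempty (G ≃* Matrix.ProjectiveSpecialLinearGroup (Fin 2) (ZMod p))) ∨
    (3 < p ∧ ∃ (m : ℕ) (F : Type) (_ : Field F) (_ : Fintype F), Fintype.card F = 2 ^ m ∧
      p = 2 ^ m + 1 ∧ Nonempty (G ≃* Matrix.SpecialLinearGroup (Fin 2) F)) := by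
  classical
  have hp : p.Prime := Fact.out
  have hGpos : 0 < Nat.card G := Nat.card_pos
  obtain ⟨hp3, hPcard, -⟩ := brauer_setup hperf p hdvd hbig P hP
  -- K maximal normal p'-subgroup
  obtain ⟨K, hK⟩ :=
    (Set.toFinite {K : Subgroup G | K.Normal ∧ (Nat.card K).Coprime p}).exists_maximal
      ⟨⊥, Subgroup.normal_bot, by
        show (Nat.card (⊥ : Subgroup G)).Coprime p
        rw [Subgroup.card_bot]; exact Nat.coprime_one_left p⟩
  have hKn : K.Normal := hK.prop.1
  have hKp : (Nat.card K).Coprime p := hK.prop.2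
  have hGK : Nat.card G = Nat.card (G ⧸ K) * Nat.card K :=
    Subgroup.card_eq_card_quotient_mul_card_subgroup K
  have hKpos : 0 < Nat.card K := Nat.card_pos
  have hHpos : 0 < Nat.card (G ⧸ K) := Nat.card_pos
  have hHperf : commutator (G ⧸ K) = ⊤ := commutator_quotient_eq_top hperf K
  have hHdvd : p ∣ Nat.card (G ⧸ K) := by
    rw [hGK] at hdvd
    exact (Nat.Coprime.dvd_of_dvd_mul_right hKp.symm hdvd)
  have hHle : Nat.card (G ⧸ K) ≤ Nat.card G := by rw [hGK]; exact Nat.le_mul_of_pos_right _ hKpos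
  have hHbig : Nat.card (G ⧸ K) < p ^ 3 := lt_of_le_of_lt hHle hbig
  have hfac : (Nat.card G).factorization p = 1 := by
    have := P.card_eq_multiplicity
    rw [hPcard] at this
    have h1 : p ^ 1 = p ^ (Nat.card G).factorization p := by rw [pow_one]; exact this
    exact (Nat.pow_right_injective hp.two_le h1).symm
  -- Sylow of H
  have hSyl : ∀ Pb : Sylow p (G ⧸ K), ¬ (Pb : Subgroup (G ⧸ K)).Normal := by
    intro Pb
    apply sylow_not_normal_of_perfect hHperf Pb
    have hc := Pb.card_eq_multiplicity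
    have hf1 : 1 ≤ (Nat.card (G ⧸ K)).factorization p :=
      (hp.dvd_iff_one_le_factorization hHpos.ne').1 hHdvd
    have hf2 : (Nat.card (G ⧸ K)).factorization p ≤ 1 := by
      have h1 : p ^ (Nat.card (G ⧸ K)).factorization p ∣ Nat.card G := by
        rw [hGK]
        exact Dvd.dvd.mul_right (Nat.ordProj_dvd _ _) _
      have := (hp.pow_dvd_iff_le_factorization hGpos.ne').1 h1
      omega
    have : (Nat.card (G ⧸ K)).factorization p = 1 := le_antisymm hf2 hf1
    rw [hc, this, pow_one]
  -- no normal p'-subgroups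
  have hcore : ∀ L : Subgroup (G ⧸ K), L.Normal → (Nat.card L).Coprime p → L = ⊥ := by
    intro L hL hLp
    set φ := QuotientGroup.mk' K with hφdef
    have hφ : Function.Surjective φ := QuotientGroup.mk'_surjective K
    have hle : K ≤ L.comap φ := by
      have := MonoidHom.ker_le_comap φ L
      rwa [hφdef, QuotientGroup.ker_mk'] at this
    have hcard : Nat.card (L.comap φ) = Nat.card L * Nat.card K := by
      have h1 := Subgroup.index_comap_of_surjective L hφ
      have h2 := Subgroup.card_mul_index (L.comap φ)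
      have h3 := Subgroup.card_mul_index L
      have hidx : 0 < L.index := Nat.pos_of_ne_zero Subgroup.index_ne_zero_of_finite
      apply Nat.eq_of_mul_eq_mul_right hidx
      rw [← h1] at h3 ⊢
      rw [h2, hGK, ← h3]
      ring
    have hmem : L.comap φ ∈ {K : Subgroup G | K.Normal ∧ (Nat.card K).Coprime p} :=
      ⟨hL.comap φ, by
        show (Nat.card (L.comap φ)).Coprime p
        rw [hcard]; exact Nat.Coprime.mul_left hLp hKp⟩
    have heq : L.comap φ = K := le_antisymm (hK.le_of_ge hmem hle) hle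
    rw [← Subgroup.map_comap_eq_self_of_surjective hφ L, heq, hφdef, QuotientGroup.map_mk'_self]
  obtain ⟨Pb⟩ : Nonempty (Sylow p (G ⧸ K)) := inferInstance
  have key := core hHperf p hHdvd hHbig Pb (hSyl Pb) hcore
  -- |K| = 1
  have hK2 : Nat.card K ≠ 2 := h2 K hKn
  have hHK : Nat.card (G ⧸ K) * Nat.card K < p ^ 3 := by rw [← hGK]; exact hbig
  have hK1 : Nat.card K = 1 := by
    by_contra hne
    have hK3 : 3 ≤ Nat.card K := by omega
    have h3H : 3 * Nat.card (G ⧸ K) < p ^ 3 := by nlinarith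
    rcases key with ⟨_, ⟨e⟩⟩ | ⟨_, m, F, _, _, hF, hpm, ⟨e⟩⟩
    · have hc : Nat.card (G ⧸ K) = Nat.card (Matrix.ProjectiveSpecialLinearGroup (Fin 2) (ZMod p)) :=
        Nat.card_congr e.toEquiv
      have h2ne : (2 : ZMod p) ≠ 0 := by
        intro h0
        have : ((2 : ℕ) : ZMod p) = 0 := by exact_mod_cast h0
        rw [ZMod.natCast_eq_zero_iff] at this
        have := Nat.le_of_dvd (by norm_num) this
        omega
      have hmul := Cfsg.Agent.Lib.Helper5.card_PSL2_mul (F := ZMod p)
      rw [Cfsg.Agent.Lib.Helper5.card_center_SL2_of_two_ne_zero h2ne, ZMod.card, ← hc] at hmul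
      -- |H| * 2 = p * (p^2 - 1)
      obtain ⟨p', rfl⟩ : ∃ p', p = p' + 4 := ⟨p - 4, by omega⟩
      have hsq : (p' + 4) ^ 2 - 1 = (p' + 3) * (p' + 5) := by
        have : (p' + 4) ^ 2 = (p' + 3) * (p' + 5) + 1 := by ring
        omega
      rw [hsq] at hmul
      nlinarith
    · have hc : Nat.card (G ⧸ K) = Nat.card (Matrix.SpecialLinearGroup (Fin 2) F) :=
        Nat.card_congr e.toEquiv
      have hsl := Cfsg.Agent.Lib.Helper5.card_SL2 (F := F)
      rw [← hc, hF] at hsl
      obtain ⟨p', rfl⟩ : ∃ p', p = p' + 4 := ⟨p - 4, by omega⟩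
      have h2m : 2 ^ m = p' + 3 := by omega
      rw [h2m] at hsl
      have hsq : (p' + 3) ^ 2 - 1 = (p' + 2) * (p' + 4) := by
        have : (p' + 3) ^ 2 = (p' + 2) * (p' + 4) + 1 := by ring
        omega
      rw [hsq] at hsl
      rw [hsl] at h3H
      nlinarith
  have hKbot : K = ⊥ := Subgroup.card_eq_one.1 hK1
  -- the isomorphism
  have e0 : Nonempty (G ≃* G ⧸ K) := by
    subst hKbot
    exact ⟨(QuotientGroup.quotientBot (G := G)).symm⟩
  obtain ⟨e0⟩ := e0
  rcases key with ⟨h3, ⟨e⟩⟩ | ⟨h3, m, F, iF, iF', hF, hpm, ⟨e⟩⟩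
  · exact Or.inl ⟨h3, ⟨e0.trans e⟩⟩
  · exact Or.inr ⟨h3, m, F, iF, iF', hF, hpm, ⟨e0.trans e⟩⟩

end Cfsg.Agent.Lib.Helper49.BrauerN
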