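import Mathlib.GroupTheory.Sylow
import Mathlib.GroupTheory.Commutator.Basic
import Mathlib.GroupTheory.PGroup

set_option autoImplicit false

/-!
General group-theoretic helpers by helper49:
* `mem_normalizer_of_conj_mem`
* `sup_le_normalizer_commutator`: `[H₁, H₂]` is normalized by `H₁` and `H₂`
* `mem_of_mem_sup_of_coprime_orderOf`: if a `p`-group `J` normalizes `K` then the `p'`-elements of `KJ` lie in `K`.
* `mem_of_pow_mem_of_coprime`
-/

namespace Cfsg.Agent.Lib.Helper49

open scoped commutatorElement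

variable {G : Type*} [Group G]

theorem mem_normalizer_of_conj_mem {H : Subgroup G} {g : G} (h1 : ∀ x ∈ H, g * x * g⁻¹ ∈ H)
    (h2 : ∀ x ∈ H, g⁻¹ * x * g ∈ H) : g ∈ Subgroup.normalizer (H : Set G) := by
  rw [Subgroup.mem_normalizer_iff]
  intro x
  constructor
  · exact h1 x
  · intro hx
    have := h2 _ hx
    simpa [mul_assoc] using this

theorem le_normalizer_of_forall_conj_mem {H Q : Subgroup G}
    (h : ∀ q ∈ Q, ∀ x ∈ H, q * x * q⁻¹ ∈ H) : Q ≤ Subgroup.normalizer (H : Set G) := by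
  intro q hq
  apply mem_normalizer_of_conj_mem (h q hq)
  intro x hx
  have := h q⁻¹ (Q.inv_mem hq) x hx
  simpa using this

/-- The commutator subgroup `[H₁, H₂]` is normalized by `H₁` and by `H₂`. -/
theorem sup_le_normalizer_commutator (H₁ H₂ : Subgroup G) :
    H₁ ⊔ H₂ ≤ Subgroup.normalizer ((⁅H₁, H₂⁆ : Subgroup G) : Set G) := by
  apply sup_le
  · apply le_normalizer_of_forall_conj_mem
    intro h' hh' x hx
    have hle : ⁅H₁, H₂⁆ ≤ (⁅H₁, H₂⁆ : Subgroup G).comap (MulAut.conj h').toMonoidHom := by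
      rw [Subgroup.commutator_le]
      intro h hh k hk
      rw [Subgroup.mem_comap]
      have e : (MulAut.conj h').toMonoidHom ⁅h, k⁆ = ⁅h' * h, k⁆ * ⁅h', k⁆⁻¹ := by
        simp only [MulEquiv.toMonoidHom_eq_coe, MonoidHom.coe_coe, MulAut.conj_apply,
          commutatorElement_def]
        group
      rw [e]
      exact Subgroup.mul_mem _ (Subgroup.commutator_mem_commutator (H₁.mul_mem hh' hh) hk)
        (Subgroup.inv_mem _ (Subgroup.commutator_mem_commutator hh' hk))
    exact hle hx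
  · apply le_normalizer_of_forall_conj_mem
    intro k' hk' x hx
    have hle : ⁅H₁, H₂⁆ ≤ (⁅H₁, H₂⁆ : Subgroup G).comap (MulAut.conj k').toMonoidHom := by
      rw [Subgroup.commutator_le]
      intro h hh k hk
      rw [Subgroup.mem_comap]
      have e : (MulAut.conj k').toMonoidHom ⁅h, k⁆ = ⁅h, k'⁆⁻¹ * ⁅h, k' * k⁆ := by
        simp only [MulEquiv.toMonoidHom_eq_coe, MonoidHom.coe_coe, MulAut.conj_apply,
          commutatorElement_def]
        group
      rw [e]
      exact Subgroup.mul_mem _ (Subgroup.inv_mem _ (Subgroup.commutator_mem_commutator hh hk'))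
        (Subgroup.commutator_mem_commutator hh (H₂.mul_mem hk' hk))
    exact hle hx

theorem mem_of_pow_mem_of_coprime {Z : Subgroup G} {n : G} {a b : ℕ} (hab : Nat.Coprime a b)
    (ha : n ^ a ∈ Z) (hb : n ^ b ∈ Z) : n ∈ Z := by
  have h1 : (1 : ℤ) = a * Nat.gcdA a b + b * Nat.gcdB a b := by
    have := Nat.gcd_eq_gcd_ab a b
    rw [hab] at this
    exact_mod_cast this
  have h2 : n = (n ^ a) ^ (Nat.gcdA a b) * (n ^ b) ^ (Nat.gcdB a b) := by
    rw [← zpow_natCast, ← zpow_natCast, ← zpow_mul, ← zpow_mul, ← zpow_add, ← h1, zpow_one]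
  rw [h2]
  exact Z.mul_mem (Z.zpow_mem ha _) (Z.zpow_mem hb _)

/-- If the `p`-group `J` normalizes `K`, then every element of `K ⊔ J` of order prime to `p` lies
in `K`. -/
theorem mem_of_mem_sup_of_coprime_orderOf {p : ℕ} {K J : Subgroup G} (hJ : IsPGroup p J)
    (hJK : J ≤ Subgroup.normalizer (K : Set G)) {g : G} (hg : g ∈ K ⊔ J)
    (hcop : (orderOf g).Coprime p) : g ∈ K := by
  set N := Subgroup.normalizer (K : Set G) with hN
  have hKN : K ≤ N := Subgroup.le_normalizer
  have hKn : (K.subgroupOf N).Normal := Subgroup.normal_in_normalizer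
  have hgN : g ∈ N := (sup_le hKN hJK) hg
  have hg' : (⟨g, hgN⟩ : N) ∈ K.subgroupOf N ⊔ J.subgroupOf N := by
    rw [← Subgroup.subgroupOf_sup hKN hJK]
    exact Subgroup.mem_subgroupOf.mpr hg
  have hmap : (K.subgroupOf N ⊔ J.subgroupOf N).map (QuotientGroup.mk' (K.subgroupOf N))
      = (J.subgroupOf N).map (QuotientGroup.mk' (K.subgroupOf N)) := by
    rw [Subgroup.map_sup, QuotientGroup.map_mk'_self, bot_sup_eq]
  have hpg : IsPGroup p ((J.subgroupOf N).map (QuotientGroup.mk' (K.subgroupOf N))) :=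
    (hJ.comap_subtype).map _
  have himg : (QuotientGroup.mk' (K.subgroupOf N)) ⟨g, hgN⟩
      ∈ (J.subgroupOf N).map (QuotientGroup.mk' (K.subgroupOf N)) := by
    rw [← hmap]
    exact Subgroup.mem_map_of_mem _ hg'
  obtain ⟨k, hk⟩ := hpg ⟨_, himg⟩
  have hk' : ((QuotientGroup.mk' (K.subgroupOf N)) ⟨g, hgN⟩) ^ (p ^ k) = 1 := by
    simpa using congrArg Subtype.val hk
  have hm : ((QuotientGroup.mk' (K.subgroupOf N)) ⟨g, hgN⟩) ^ (orderOf g) = 1 := by
    rw [← map_pow]
    have : (⟨g, hgN⟩ : N) ^ orderOf g = 1 := by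
      apply Subtype.ext
      simp [pow_orderOf_eq_one]
    rw [this, map_one]
  have hd1 := orderOf_dvd_of_pow_eq_one hk'
  have hd2 := orderOf_dvd_of_pow_eq_one hm
  have hcop' : (orderOf g).Coprime (p ^ k) := Nat.Coprime.pow_right k hcop
  have h1 : orderOf ((QuotientGroup.mk' (K.subgroupOf N)) ⟨g, hgN⟩) = 1 :=
    Nat.eq_one_of_dvd_coprimes hcop' hd2 hd1
  have h2 := orderOf_eq_one_iff.mp h1
  rw [QuotientGroup.mk'_apply, QuotientGroup.eq_one_iff] at h2
  exact Subgroup.mem_subgroupOf.mp h2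

end Cfsg.Agent.Lib.Helper49
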