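import Mathlib
import Cfsg.Agent.S4706

set_option autoImplicit false

namespace Cfsg.Agent.Lib.Helper49.BrauerEndSL

open Subgroup

variable {G : Type*} [Group G]

/-- elements of `C(s)` square to one when all nonidentity elements are conjugate to the involution `s`. -/
theorem mul_self_of_conj {s : G} (hs : orderOf s = 2)
    (hconj : ∀ g ∈ Subgroup.centralizer ({s} : Set G), g ≠ 1 → IsConj g s)
    {g : G} (hg : g ∈ Subgroup.centralizer ({s} : Set G)) : g * g = 1 := by
  by_cases h1 : g = 1
  · simp [h1]
  · have hc := hconj g hg h1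
    obtain ⟨c, hc⟩ := isConj_iff.1 hc
    have hss : s * s = 1 := by rw [← pow_two, ← hs, pow_orderOf_eq_one]
    have : c * (g * g) * c⁻¹ = 1 := by
      calc c * (g * g) * c⁻¹ = (c * g * c⁻¹) * (c * g * c⁻¹) := by group
        _ = 1 := by rw [hc, hss]
    have h2 : c * (g * g) = c := by
      have := congrArg (· * c) this
      simpa using this
    exact mul_eq_left.1 h2 

theorem comm_of_conj {s : G} (hs : orderOf s = 2)
    (hconj : ∀ g ∈ Subgroup.centralizer ({s} : Set G), g ≠ 1 → IsConj g s)
    {a b : G} (ha : a ∈ Subgroup.centralizer ({s} : Set G))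
    (hb : b ∈ Subgroup.centralizer ({s} : Set G)) : a * b = b * a := by
  have h1 := mul_self_of_conj hs hconj ha
  have h2 := mul_self_of_conj hs hconj hb
  have h3 := mul_self_of_conj hs hconj (Subgroup.mul_mem _ ha hb)
  have ha' : a⁻¹ = a := inv_eq_of_mul_eq_one_left h1
  have hb' : b⁻¹ = b := inv_eq_of_mul_eq_one_left h2
  have hab : (a * b)⁻¹ = a * b := inv_eq_of_mul_eq_one_left h3
  rw [mul_inv_rev, ha', hb'] at hab
  exact hab.symm

/-- the centralizer of a conjugate is the conjugate centralizer: cardinalities agree. -/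
theorem card_centralizer_of_isConj [Finite G] {a b : G} (h : IsConj a b) :
    Nat.card (Subgroup.centralizer ({a} : Set G)) = Nat.card (Subgroup.centralizer ({b} : Set G)) := by
  obtain ⟨c, hc⟩ := isConj_iff.1 h
  have : (Subgroup.centralizer ({a} : Set G)).map (MulAut.conj c).toMonoidHom
      = Subgroup.centralizer ({b} : Set G) := by
    ext x
    simp only [Subgroup.mem_map, Subgroup.mem_centralizer_iff, Set.mem_singleton_iff, forall_eq,
      MulEquiv.coe_toMonoidHom, MulAut.conj_apply]
    constructor
    · rintro ⟨y, hy, rfl⟩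
      rw [← hc]
      calc c * a * c⁻¹ * (c * y * c⁻¹) = c * (a * y) * c⁻¹ := by group
        _ = c * (y * a) * c⁻¹ := by rw [hy]
        _ = c * y * c⁻¹ * (c * a * c⁻¹) := by group
    · intro hx
      refine ⟨c⁻¹ * x * c, ?_, by group⟩
      rw [← hc] at hx
      have : c⁻¹ * (c * a * c⁻¹ * x) * c = c⁻¹ * (x * (c * a * c⁻¹)) * c := by rw [hx]
      calc a * (c⁻¹ * x * c) = c⁻¹ * (c * a * c⁻¹ * x) * c := by group
        _ = c⁻¹ * (x * (c * a * c⁻¹)) * c := this
        _ = c⁻¹ * x * c * a := by group
  rw [← this]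
  exact (Subgroup.card_map_of_injective (MulAut.conj c).injective).symm

/-- for `t ∈ C(s)`, `t ≠ 1`, the centralizer of `t` is `C(s)`. -/
theorem centralizer_eq_of_mem [Finite G] {s : G} (hs : orderOf s = 2)
    (hconj : ∀ g ∈ Subgroup.centralizer ({s} : Set G), g ≠ 1 → IsConj g s)
    {t : G} (ht : t ∈ Subgroup.centralizer ({s} : Set G)) (ht1 : t ≠ 1) :
    Subgroup.centralizer ({t} : Set G) = Subgroup.centralizer ({s} : Set G) := by
  symm
  apply Subgroup.eq_of_le_of_card_ge
  · intro x hx
    rw [Subgroup.mem_centralizer_iff]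
    intro y hy
    rw [Set.mem_singleton_iff] at hy
    subst hy
    exact comm_of_conj hs hconj ht hx
  · exact (card_centralizer_of_isConj (hconj t ht ht1)).le

/-- membership in a centralizer of a conjugate -/
theorem mem_centralizer_conj_iff {a c x : G} :
    c * x * c⁻¹ ∈ Subgroup.centralizer ({c * a * c⁻¹} : Set G) ↔
      x ∈ Subgroup.centralizer ({a} : Set G) := by
  simp only [Subgroup.mem_centralizer_iff, Set.mem_singleton_iff, forall_eq]
  constructor
  · intro h
    have : c⁻¹ * (c * a * c⁻¹ * (c * x * c⁻¹)) * c = c⁻¹ * (c * x * c⁻¹ * (c * a * c⁻¹)) * c := by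
      rw [h]
    calc a * x = c⁻¹ * (c * a * c⁻¹ * (c * x * c⁻¹)) * c := by group
      _ = c⁻¹ * (c * x * c⁻¹ * (c * a * c⁻¹)) * c := this
      _ = x * a := by group
  · intro h
    calc c * a * c⁻¹ * (c * x * c⁻¹) = c * (a * x) * c⁻¹ := by group
      _ = c * (x * a) * c⁻¹ := by rw [h]
      _ = c * x * c⁻¹ * (c * a * c⁻¹) := by group

/-- an element conjugating `s` into `C(s) \ {1}` normalizes `C(s)`. -/
theorem mem_normalizer_of_conj_mem [Finite G] {s : G} (hs : orderOf s = 2)
    (hconj : ∀ g ∈ Subgroup.centralizer ({s} : Set G), g ≠ 1 → IsConj g s)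
    {c : G} (hc : c * s * c⁻¹ ∈ Subgroup.centralizer ({s} : Set G)) :
    c ∈ Subgroup.normalizer ((Subgroup.centralizer ({s} : Set G) : Subgroup G) : Set G) := by
  have hs1 : s ≠ 1 := by
    intro h; rw [h, orderOf_one] at hs; omega
  have ht1 : c * s * c⁻¹ ≠ 1 := by
    intro h
    apply hs1
    have : c * s = c := by
      have := congrArg (· * c) h
      simpa using this
    exact mul_eq_left.1 this
  have hC := centralizer_eq_of_mem hs hconj hc ht1
  rw [Subgroup.mem_normalizer_iff]
  intro h
  rw [← mem_centralizer_conj_iff (a := s) (c := c) (x := h), hC]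

theorem card_normalizer [Finite G] {s : G} (hs : orderOf s = 2)
    (hconj : ∀ g ∈ Subgroup.centralizer ({s} : Set G), g ≠ 1 → IsConj g s) :
    Nat.card (Subgroup.normalizer ((Subgroup.centralizer ({s} : Set G) : Subgroup G) : Set G))
      = (Nat.card (Subgroup.centralizer ({s} : Set G)) - 1)
        * Nat.card (Subgroup.centralizer ({s} : Set G)) := by
  classical
  set S := Subgroup.centralizer ({s} : Set G) with hS
  set N := Subgroup.normalizer ((S : Subgroup G) : Set G) with hN
  have hs1 : s ≠ 1 := by
    intro h; rw [h, orderOf_one] at hs; omega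
  have hsS : s ∈ S := by
    rw [hS, Subgroup.mem_centralizer_iff]
    intro y hy
    rw [Set.mem_singleton_iff] at hy
    rw [hy]
  have hSN : S ≤ N := Subgroup.le_normalizer
  let act : MulAction N G := MulAction.compHom G ((MulAut.conj : G →* MulAut G).comp N.subtype)
  have hsmul : ∀ (n : N) (x : G), n • x = (n : G) * x * (n : G)⁻¹ := fun n x => rfl
  -- orbit
  have horb : (MulAction.orbit N s : Set G) = (S : Set G) \ {1} := by
    ext t
    constructor
    · rintro ⟨n, rfl⟩
      show n • s ∈ _
      rw [hsmul]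
      refine ⟨?_, ?_⟩
      · have := (Subgroup.mem_normalizer_iff.1 n.2 s).1 hsS
        exact this
      · intro h
        rw [Set.mem_singleton_iff] at h
        apply hs1
        have : (n : G) * s = n := by
          have := congrArg (· * (n : G)) h
          simpa using this
        exact mul_eq_left.1 this
    · rintro ⟨htS, ht1⟩
      rw [Set.mem_singleton_iff] at ht1
      have hc := (hconj t htS ht1).symm
      obtain ⟨c, hc⟩ := isConj_iff.1 hc
      have hcN : c ∈ N := mem_normalizer_of_conj_mem hs hconj (by rw [hc]; exact htS)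
      exact ⟨⟨c, hcN⟩, by show (⟨c, hcN⟩ : N) • s = t; rw [hsmul]; exact hc⟩
  have hstab : MulAction.stabilizer N s = S.subgroupOf N := by
    ext n
    rw [MulAction.mem_stabilizer_iff, hsmul, Subgroup.mem_subgroupOf, hS,
      Subgroup.mem_centralizer_iff]
    simp only [Set.mem_singleton_iff, forall_eq]
    constructor
    · intro h
      have := congrArg (· * (n : G)) h
      simpa using this.symm
    · intro h
      rw [← h]; group
  have h1 : Nat.card (MulAction.orbit N s) = Nat.card S - 1 := by
    rw [Nat.card_coe_set_eq, horb, Set.ncard_sdiff_singleton_of_mem (Subgroup.one_mem S),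
      ← Nat.card_coe_set_eq]
    rfl
  have h2 : Nat.card (MulAction.stabilizer N s) = Nat.card S := by
    rw [hstab]
    exact Nat.card_congr (Subgroup.subgroupOfEquivOfLe hSN).toEquiv
  have h3 : Nat.card (MulAction.orbit N s) = (MulAction.stabilizer N s).index := by
    rw [Subgroup.index_eq_card]
    exact Nat.card_congr (MulAction.orbitEquivQuotientStabilizer N s)
  rw [← Subgroup.index_mul_card (MulAction.stabilizer N s), ← h3, h1, h2]


/-- **[END-SL]** (helper79's module for S0999/S4701): the endgame `q = 2` of Brauer's `n`-theorem. -/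
theorem sl2_of_involution_centralizer {G : Type*} [Group G] [Finite G] (p : ℕ) [Fact p.Prime]
    (hp3 : 3 < p) (P : Sylow p G)
    (hN : Nat.card (Subgroup.normalizer ((P : Subgroup G) : Set G)) = 2 * p)
    (hG : Nat.card G = p * (p - 1) * (p - 2))
    (hK : ∀ K : Subgroup G, K.Normal → (Nat.card K).Coprime p → K = ⊥) (s : G)
    (hs : orderOf s = 2) (hCs : Nat.card (Subgroup.centralizer ({s} : Set G)) = p - 1)
    (hconj : ∀ g ∈ Subgroup.centralizer ({s} : Set G), g ≠ 1 → IsConj g s) :
    ∃ (m : ℕ) (F : Type) (_ : Field F) (_ : Fintype F), Fintype.card F = 2 ^ m ∧ p = 2 ^ m + 1 ∧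
      Nonempty (G ≃* Matrix.SpecialLinearGroup (Fin 2) F) := by
  classical
  have hp : p.Prime := Fact.out
  set S := Subgroup.centralizer ({s} : Set G) with hS
  set N := Subgroup.normalizer ((S : Subgroup G) : Set G) with hNdef
  have hcardN : Nat.card N = (p - 2) * (p - 1) := by
    rw [hNdef, hS, card_normalizer hs hconj, hCs]
    congr 1
  have hpos : 0 < (p - 2) * (p - 1) := by
    apply Nat.mul_pos <;> omega
  have hidx : N.index = p := by
    have h := Subgroup.index_mul_card N
    rw [hcardN, hG] at h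
    apply Nat.eq_of_mul_eq_mul_right hpos
    rw [h]; ring
  let φ : G →* Equiv.Perm (G ⧸ N) := MulAction.toPermHom G (G ⧸ N)
  have hker : φ.ker = ⊥ := by
    apply hK _ (MonoidHom.normal_ker φ)
    have hle : φ.ker ≤ N := by
      rw [← Subgroup.normalCore_eq_ker]; exact Subgroup.normalCore_le N
    have hdvd : Nat.card φ.ker ∣ (p - 2) * (p - 1) := hcardN ▸ Subgroup.card_dvd_of_le hle
    have h1 : Nat.Coprime ((p - 2) * (p - 1)) p := by
      apply Nat.Coprime.mul_left
      · exact ((Nat.Prime.coprime_iff_not_dvd hp).2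
          (Nat.not_dvd_of_pos_of_lt (by omega) (by omega))).symm
      · exact ((Nat.Prime.coprime_iff_not_dvd hp).2
          (Nat.not_dvd_of_pos_of_lt (by omega) (by omega))).symm
    exact Nat.Coprime.coprime_dvd_left hdvd h1
  have hinj : Function.Injective φ := (MonoidHom.ker_eq_bot_iff φ).1 hker
  let e : G ≃* φ.range := MonoidHom.ofInjective hinj
  have : Fintype (G ⧸ N) := Fintype.ofFinite _
  have hα : Fintype.card (G ⧸ N) = p := by
    rw [← Nat.card_eq_fintype_card, ← Subgroup.index_eq_card, hidx]
  let P' : Sylow p φ.range := P.mapSurjective (f := e.toMonoidHom) e.surjective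
  have hP' : (P' : Subgroup φ.range) = (P : Subgroup G).map e.toMonoidHom := rfl
  have hN' : Nat.card (Subgroup.normalizer ((P' : Subgroup φ.range) : Set φ.range)) = 2 * p := by
    rw [hP', ← Subgroup.map_equiv_normalizer_eq, Subgroup.card_map_of_injective (f := e.toMonoidHom) e.injective]
    exact hN
  rcases Cfsg.Agent.S4706.result (by omega : 2 < p) hα φ.range P' hN' with hnorm | h
  · exfalso
    have hPn : (P : Subgroup G).Normal := by
      have h2 : (P : Subgroup G) = ((P' : Subgroup φ.range)).comap e.toMonoidHom := by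
        rw [hP', Subgroup.comap_map_eq_self_of_injective (f := e.toMonoidHom) e.injective]
      rw [h2]
      exact Subgroup.Normal.comap hnorm _
    have htop : Subgroup.normalizer ((P : Subgroup G) : Set G) = ⊤ :=
      Subgroup.normalizer_eq_top_iff.2 hPn
    rw [htop, Subgroup.card_top, hG] at hN
    have h6 : 6 ≤ (p - 1) * (p - 2) := by
      have h3 : 3 ≤ p - 1 := by omega
      have h2 : 2 ≤ p - 2 := by omega
      calc 6 = 3 * 2 := rfl
        _ ≤ (p - 1) * (p - 2) := Nat.mul_le_mul h3 h2
    have : p * 6 ≤ p * ((p - 1) * (p - 2)) := Nat.mul_le_mul_left p h6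
    rw [mul_assoc] at hN
    have hp0 : 0 < p := hp.pos
    omega
  · obtain ⟨a, F, iF, iF', hpa, hF, ⟨f⟩⟩ := h
    exact ⟨a, F, iF, iF', hF, hpa, ⟨e.trans f⟩⟩

end Cfsg.Agent.Lib.Helper49.BrauerEndSL
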