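import Mathlib
import Cfsg.Prelude.Def_GeometricClasses
import Cfsg.Agent.Lib.Helper99.AschDefs
import Cfsg.Agent.Lib.Helper99.U92.Defs

/-!
# U92-[R3-FOURIER] (helper49, for helper99's U92 sub-sheet)

The Fourier matrix `W = (ω^{ij})` over the field with four elements: `W σ(W) = 1`, `W X = Y W`, `W Y = X² W`, so conjugation
by `W` maps `ω^a X^b Y^c` to `ω^(a + 2bc) X^(2c) Y^b`; that commutes with `ω^a X^b Y^c` only if `b ≡ c ≡ 0 (mod 3)`.
Self-contained (does not use [R3-GROUP]).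
-/

set_option autoImplicit false
set_option linter.unusedSectionVars false

namespace Cfsg.Agent.Lib.Helper49.U92R3Fourier

open Cfsg Cfsg.Geo Cfsg.Agent.Lib.Helper70.AschU Cfsg.Agent.Lib.Helper99.U92
open scoped Matrix

variable {F : Type*} [Field F] {ω : F}

theorem two_eq_zero_of_card [Fintype F] (hF : Fintype.card F = 2 ^ 2) : (2 : F) = 0 := by
  have h := Nat.cast_card_eq_zero F
  rw [hF] at h
  have h4 : (2 : F) * 2 = 0 := by
    push_cast at h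
    linear_combination h
  exact mul_self_eq_zero.mp h4

theorem omega_cube (hω : ω ^ 2 + ω + 1 = 0) : ω ^ 3 = 1 := by linear_combination (ω - 1) * hω

theorem omega_ne_zero (hω : ω ^ 2 + ω + 1 = 0) : ω ≠ 0 := by
  rintro rfl
  simp at hω

theorem omega_ne_one' (h2 : (2 : F) = 0) (hω : ω ^ 2 + ω + 1 = 0) : ω ≠ 1 := by
  rintro rfl
  have : (1 : F) = 0 := by linear_combination hω - h2
  exact one_ne_zero this

theorem map_W3 [Fintype F] {σ : F ≃+* F} (hσ : UCtx σ 2) : (W3 ω).map σ = W3 (ω ^ 2) := by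
  ext i j
  fin_cases i <;> fin_cases j <;> simp [W3, hσ.frob]

theorem W3_mul_W3sq (h2 : (2 : F) = 0) (hω : ω ^ 2 + ω + 1 = 0) : W3 ω * W3 (ω ^ 2) = 1 := by
  ext i j
  fin_cases i <;> fin_cases j <;> simp [W3, Matrix.mul_apply, Fin.sum_univ_three] <;> grind

theorem W3sq_mul_W3 (h2 : (2 : F) = 0) (hω : ω ^ 2 + ω + 1 = 0) : W3 (ω ^ 2) * W3 ω = 1 := by
  ext i j
  fin_cases i <;> fin_cases j <;> simp [W3, Matrix.mul_apply, Fin.sum_univ_three] <;> grind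

theorem W3_mul_X3 (hω : ω ^ 2 + ω + 1 = 0) : W3 ω * X3 ω = Y3 * W3 ω := by
  ext i j
  fin_cases i <;> fin_cases j <;>
    simp [W3, X3, Y3, Matrix.mul_apply, Fin.sum_univ_three, Matrix.diagonal_apply] <;> grind

theorem W3_mul_Y3 (hω : ω ^ 2 + ω + 1 = 0) : W3 ω * Y3 = X3 ω ^ 2 * W3 ω := by
  rw [pow_two]
  ext i j
  fin_cases i <;> fin_cases j <;>
    simp [W3, X3, Y3, Matrix.mul_apply, Fin.sum_univ_three, Matrix.diagonal_apply] <;> grind

theorem Y3_mul_X3_aux (hω : ω ^ 2 + ω + 1 = 0) : Y3 * X3 ω = ω • (X3 ω * Y3) := by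
  ext i j
  fin_cases i <;> fin_cases j <;>
    simp [X3, Y3, Matrix.mul_apply, Matrix.diagonal_apply, Matrix.smul_apply] <;> grind

theorem X3_cube (hω : ω ^ 2 + ω + 1 = 0) : X3 ω ^ 3 = 1 := by
  rw [X3, Matrix.diagonal_pow]
  ext i j
  fin_cases i <;> fin_cases j <;> simp <;> grind

theorem Y3_cube : (Y3 : Matrix (Fin 3) (Fin 3) F) ^ 3 = 1 := by
  rw [pow_succ, pow_two]
  ext i j
  fin_cases i <;> fin_cases j <;> simp [Y3, Matrix.mul_apply, Fin.sum_univ_three]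

section comm

variable {n : Type*} [Fintype n] [DecidableEq n]

theorem mul_pow_of_twisted {A B : Matrix n n F} {μ : F} (h : B * A = μ • (A * B)) (k : ℕ) :
    B * A ^ k = μ ^ k • (A ^ k * B) := by
  induction k with
  | zero => simp
  | succ k ih =>
    rw [pow_succ, ← Matrix.mul_assoc, ih, Matrix.smul_mul, Matrix.mul_assoc, h, Matrix.mul_smul, smul_smul,
      ← Matrix.mul_assoc, pow_succ μ]

theorem pow_mul_of_twisted {A B : Matrix n n F} {μ : F} (h : B * A = μ • (A * B)) (k : ℕ) :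
    B ^ k * A = μ ^ k • (A * B ^ k) := by
  induction k with
  | zero => simp
  | succ k ih =>
    rw [pow_succ, Matrix.mul_assoc, h, Matrix.mul_smul, ← Matrix.mul_assoc, ih, Matrix.smul_mul, smul_smul,
      Matrix.mul_assoc, pow_succ μ, mul_comm]

end comm

/-- `Y^b X^n = ω^(b n) X^n Y^b` -/
theorem Y3_pow_mul_X3_pow (hω : ω ^ 2 + ω + 1 = 0) (b n : ℕ) :
    (Y3 : Matrix (Fin 3) (Fin 3) F) ^ b * X3 ω ^ n = ω ^ (n * b) • (X3 ω ^ n * Y3 ^ b) := by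
  have h1 := mul_pow_of_twisted (Y3_mul_X3_aux hω) n
  have h2 := pow_mul_of_twisted h1 b
  rw [h2, ← pow_mul]

theorem pow_three_mul {M : Matrix (Fin 3) (Fin 3) F} (h : M ^ 3 = 1) (k : ℕ) : M ^ (3 * k) = 1 := by
  rw [pow_mul, h, one_pow]

/-- conjugation by `W` on `X^b Y^c` -/
theorem W3_conj_formula (h2 : (2 : F) = 0) (hω : ω ^ 2 + ω + 1 = 0) (b c : ℕ) :
    W3 ω * (X3 ω ^ b * Y3 ^ c) * W3 (ω ^ 2) = ω ^ (2 * c * b) • (X3 ω ^ (2 * c) * Y3 ^ b) := by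
  have hX : SemiconjBy (W3 ω) (X3 ω ^ b) (Y3 ^ b) := SemiconjBy.pow_right (W3_mul_X3 hω) b
  have hY : SemiconjBy (W3 ω) (Y3 ^ c) ((X3 ω ^ 2) ^ c) := SemiconjBy.pow_right (W3_mul_Y3 hω) c
  have hX' : W3 ω * X3 ω ^ b = Y3 ^ b * W3 ω := hX
  have hY' : W3 ω * Y3 ^ c = (X3 ω ^ 2) ^ c * W3 ω := hY
  calc W3 ω * (X3 ω ^ b * Y3 ^ c) * W3 (ω ^ 2)
      = (W3 ω * X3 ω ^ b) * Y3 ^ c * W3 (ω ^ 2) := by simp only [Matrix.mul_assoc]
    _ = Y3 ^ b * (W3 ω * Y3 ^ c) * W3 (ω ^ 2) := by rw [hX']; simp only [Matrix.mul_assoc]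
    _ = Y3 ^ b * (X3 ω ^ 2) ^ c * (W3 ω * W3 (ω ^ 2)) := by rw [hY']; simp only [Matrix.mul_assoc]
    _ = Y3 ^ b * X3 ω ^ (2 * c) := by rw [W3_mul_W3sq h2 hω, Matrix.mul_one, ← pow_mul]
    _ = ω ^ (2 * c * b) • (X3 ω ^ (2 * c) * Y3 ^ b) := Y3_pow_mul_X3_pow hω b (2 * c)

theorem sq_mod_three {b c : ℕ} (h : (2 * c * c) % 3 = (b * b) % 3) : b % 3 = 0 ∧ c % 3 = 0 := by
  have hb := Nat.mod_lt b (show 0 < 3 by norm_num)
  have hc := Nat.mod_lt c (show 0 < 3 by norm_num)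
  have e1 : (2 * c * c) % 3 = (2 * ((c % 3) * (c % 3))) % 3 := by
    conv_lhs => rw [Nat.mul_assoc, Nat.mul_mod, Nat.mul_mod c c]
    conv_rhs => rw [Nat.mul_mod]
  have e2 : (b * b) % 3 = ((b % 3) * (b % 3)) % 3 := Nat.mul_mod b b 3
  rw [e1, e2] at h
  generalize b % 3 = x at *
  generalize c % 3 = y at *
  interval_cases x <;> interval_cases y <;> simp_all

end Cfsg.Agent.Lib.Helper49.U92R3Fourier

namespace Cfsg.Agent.Lib.Helper99.U92

open Cfsg Cfsg.Geo Cfsg.Agent.Lib.Helper70.AschU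
open Cfsg.Agent.Lib.Helper49.U92R3Fourier
open scoped MatrixGroups Matrix

variable {F : Type*} [Field F] [Fintype F] {σ : F ≃+* F} {ω : F}

/-- U92-[R3-FOURIER] -/
theorem W3_mul_map (hσ : UCtx σ 2) (hω : ω ^ 2 + ω + 1 = 0) : W3 ω * (W3 ω).map σ = 1 := by
  rw [map_W3 hσ]
  exact W3_mul_W3sq (two_eq_zero_of_card hσ.card) hω

theorem map_mul_W3 (hσ : UCtx σ 2) (hω : ω ^ 2 + ω + 1 = 0) : (W3 ω).map σ * W3 ω = 1 := by
  rw [map_W3 hσ]
  exact W3sq_mul_W3 (two_eq_zero_of_card hσ.card) hω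

theorem W3_conj_mem (hσ : UCtx σ 2) (hω : ω ^ 2 + ω + 1 = 0) {m : Matrix (Fin 3) (Fin 3) F}
    (hm : m ∈ R3set ω) : W3 ω * m * (W3 ω).map σ ∈ R3set ω := by
  obtain ⟨a, b, c, rfl⟩ := hm
  refine ⟨a + 2 * c * b, 2 * c, b, ?_⟩
  rw [map_W3 hσ, Matrix.mul_smul, Matrix.smul_mul, W3_conj_formula (two_eq_zero_of_card hσ.card) hω, smul_smul,
    ← pow_add]

theorem scalar_of_commute_W3_conj (hσ : UCtx σ 2) (hω : ω ^ 2 + ω + 1 = 0) {m : Matrix (Fin 3) (Fin 3) F}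
    (hm : m ∈ R3set ω)
    (hc : m * (W3 ω * m * (W3 ω).map σ) = W3 ω * m * (W3 ω).map σ * m) :
    ∃ a : ℕ, m = ω ^ a • (1 : Matrix (Fin 3) (Fin 3) F) := by
  have h2 : (2 : F) = 0 := two_eq_zero_of_card hσ.card
  have hω0 : ω ≠ 0 := omega_ne_zero hω
  obtain ⟨a, b, c, rfl⟩ := hm
  rw [map_W3 hσ] at hc
  simp only [Matrix.mul_smul, Matrix.smul_mul] at hc
  rw [W3_conj_formula h2 hω] at hc
  -- strip the scalars
  simp only [Matrix.smul_mul, Matrix.mul_smul, smul_smul] at hc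
  have hX3 := X3_cube hω
  have hY3 : (Y3 : Matrix (Fin 3) (Fin 3) F) ^ 3 = 1 := Y3_cube
  -- the two products
  have hPQ : X3 ω ^ b * Y3 ^ c * (X3 ω ^ (2 * c) * Y3 ^ b) =
      ω ^ (2 * c * c) • (X3 ω ^ (b + 2 * c) * Y3 ^ (c + b)) := by
    calc X3 ω ^ b * Y3 ^ c * (X3 ω ^ (2 * c) * Y3 ^ b)
        = X3 ω ^ b * (Y3 ^ c * X3 ω ^ (2 * c)) * Y3 ^ b := by simp only [Matrix.mul_assoc]
      _ = _ := by
        rw [Y3_pow_mul_X3_pow hω, Matrix.mul_smul, Matrix.smul_mul, ← Matrix.mul_assoc, ← pow_add, Matrix.mul_assoc,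
          ← pow_add]
  have hQP : X3 ω ^ (2 * c) * Y3 ^ b * (X3 ω ^ b * Y3 ^ c) =
      ω ^ (b * b) • (X3 ω ^ (b + 2 * c) * Y3 ^ (c + b)) := by
    calc X3 ω ^ (2 * c) * Y3 ^ b * (X3 ω ^ b * Y3 ^ c)
        = X3 ω ^ (2 * c) * (Y3 ^ b * X3 ω ^ b) * Y3 ^ c := by simp only [Matrix.mul_assoc]
      _ = _ := by
        rw [Y3_pow_mul_X3_pow hω, Matrix.mul_smul, Matrix.smul_mul, ← Matrix.mul_assoc, ← pow_add, Matrix.mul_assoc,
          ← pow_add, add_comm (2 * c) b, add_comm b c]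
  rw [hPQ, hQP, smul_smul, smul_smul] at hc
  -- cancel the invertible matrix
  set s := b + 2 * c with hs
  set t := c + b with ht
  have hN : X3 ω ^ s * Y3 ^ t * (Y3 ^ (2 * t) * X3 ω ^ (2 * s)) = 1 := by
    calc X3 ω ^ s * Y3 ^ t * (Y3 ^ (2 * t) * X3 ω ^ (2 * s))
        = X3 ω ^ s * (Y3 ^ t * Y3 ^ (2 * t)) * X3 ω ^ (2 * s) := by simp only [Matrix.mul_assoc]
      _ = 1 := by
        rw [← pow_add, show t + 2 * t = 3 * t by ring, pow_three_mul hY3, Matrix.mul_one, ← pow_add,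
          show s + 2 * s = 3 * s by ring, pow_three_mul hX3]
  have hc2 := congrArg (fun M => M * (Y3 ^ (2 * t) * X3 ω ^ (2 * s))) hc
  simp only [Matrix.smul_mul, hN] at hc2
  have hc3 := congrFun (congrFun hc2 0) 0
  simp only [Matrix.smul_apply, Matrix.one_apply_eq, smul_eq_mul, mul_one] at hc3
  -- `ω ^ _ = ω ^ _`
  rw [← pow_add, ← pow_add, ← pow_add, ← pow_add] at hc3
  let u : Fˣ := Units.mk0 ω hω0
  have hu3 : u ^ 3 = 1 := by
    apply Units.ext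
    simp [u, omega_cube hω]
  have hu1 : u ≠ 1 := by
    intro h
    apply omega_ne_one' h2 hω
    have := congrArg Units.val h
    simpa [u] using this
  have : Fact (Nat.Prime 3) := ⟨Nat.prime_three⟩
  have hord : orderOf u = 3 := orderOf_eq_prime hu3 hu1
  have hupow : u ^ (a + (a + 2 * c * b) + 2 * c * c) = u ^ (a + (a + 2 * c * b) + b * b) := by
    apply Units.ext
    simpa [u] using hc3
  have hmod := pow_inj_mod.mp hupow
  rw [hord] at hmod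
  have hmod' : (2 * c * c) % 3 = (b * b) % 3 := by omega
  obtain ⟨hb0, hc0⟩ := sq_mod_three hmod'
  obtain ⟨b', rfl⟩ : ∃ b', b = 3 * b' := ⟨b / 3, by omega⟩
  obtain ⟨c', rfl⟩ : ∃ c', c = 3 * c' := ⟨c / 3, by omega⟩
  refine ⟨a, ?_⟩
  rw [pow_three_mul hX3, pow_three_mul hY3, Matrix.mul_one]

end Cfsg.Agent.Lib.Helper99.U92
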