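import Mathlib
import Cfsg.Prelude.Def_GeometricClasses
import Cfsg.Agent.Lib.Helper99.AschDefs
import Cfsg.Agent.Lib.Helper99.U92.Defs

/-!
# U92-[TRANSPORT] (helper49, for helper99's U92 sub-sheet)

`IsSymplecticTypeGroup r R` only depends on the abstract group `↥R`, so it transports along any isomorphism
`ψ : GL ι F ≃* GL κ F`.
-/

set_option autoImplicit false

namespace Cfsg.Agent.Lib.Helper49.U92Transport

section abstractGroup

variable {G₁ G₂ : Type*} [Group G₁] [Group G₂]

theorem characteristic_map_symm' (ψ : G₁ ≃* G₂) (A : Subgroup G₂) (hA : A.Characteristic) :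
    (A.map ψ.symm.toMonoidHom).Characteristic := by
  rw [Subgroup.characteristic_iff_map_eq]
  intro ϕ
  have h := Subgroup.characteristic_iff_map_eq.mp hA ((ψ.symm.trans ϕ).trans ψ)
  rw [Subgroup.map_map]
  conv_rhs => rw [← h]
  rw [Subgroup.map_map]
  congr 1
  apply MonoidHom.ext
  intro x
  simp

theorem isMulCommutative_of_mulEquiv' {M N : Type*} [Mul M] [Mul N] (α : M ≃* N)
    (h : IsMulCommutative M) : IsMulCommutative N := by
  refine ⟨⟨fun a b => ?_⟩⟩
  have := h.is_comm.comm (α.symm a) (α.symm b)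
  have h2 := congrArg α this
  simpa using h2

/-- transport of "every characteristic abelian subgroup is cyclic" -/
theorem cyclic_of_characteristic_transport' (ψ : G₁ ≃* G₂)
    (h : ∀ A : Subgroup G₁, A.Characteristic → IsMulCommutative A → IsCyclic A) :
    ∀ A : Subgroup G₂, A.Characteristic → IsMulCommutative A → IsCyclic A := by
  intro A hA hcomm
  let α : A ≃* A.map ψ.symm.toMonoidHom := ψ.symm.subgroupMap A
  have h1 := h (A.map ψ.symm.toMonoidHom) (characteristic_map_symm' ψ A hA)
    (isMulCommutative_of_mulEquiv' α hcomm)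
  exact (MulEquiv.isCyclic α).mpr h1

end abstractGroup

end Cfsg.Agent.Lib.Helper49.U92Transport

namespace Cfsg.Agent.Lib.Helper99.U92

open Cfsg Cfsg.Geo
open scoped MatrixGroups Matrix

variable {F : Type*} [Field F]

/-- U92-[TRANSPORT]. -/
theorem isSymplecticTypeGroup_map {ι κ : Type} [Fintype ι] [DecidableEq ι] [Fintype κ] [DecidableEq κ]
    (ψ : GL ι F ≃* GL κ F) (r : ℕ) (R : Subgroup (GL ι F)) (h : IsSymplecticTypeGroup r R) :
    IsSymplecticTypeGroup r (R.map ψ.toMonoidHom) := by
  have e : R ≃* R.map ψ.toMonoidHom := R.equivMapOfInjective ψ.toMonoidHom ψ.injective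
  refine ⟨h.prime, h.pGroup.of_equiv e,
    Cfsg.Agent.Lib.Helper49.U92Transport.cyclic_of_characteristic_transport' e h.cyclic_of_characteristic, ?_⟩
  rw [← Monoid.exponent_eq_of_mulEquiv e]
  exact h.exponent_eq

end Cfsg.Agent.Lib.Helper99.U92
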