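import Mathlib
import Cfsg.Agent.Lib.Helper22.SibCDefs
import Cfsg.Agent.Lib.Helper25.CohCentral
import Cfsg.Agent.Lib.Helper76.Central

/-!
# SIBC module [II-EXP] (helper49, for helper22): `expansion_sum`

Expansion of a class function of `Λ` restricted to `K ⊴ Λ` in `Irr K`, column orthogonality,
and summation over the central subgroup `Z`.
-/

set_option autoImplicit false

namespace Cfsg.Agent.Lib.Helper49.SibC

open Cfsg
open scoped ComplexConjugate

universe u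

/-- an irreducible character that is not constant on a central subgroup sums to zero on it -/
theorem sum_central_eq_zero {K : Type u} [Group K] (Z : Subgroup K) [Fintype Z]
    (hZ : Z ≤ Subgroup.center K) {θ : K → ℂ} (hθ : IsIrrCharacter K θ) (z0 : K) (hz0 : z0 ∈ Z)
    (hne : θ z0 ≠ θ 1) : ∑ z : Z, θ z = 0 := by
  obtain ⟨n, ρ, hirr, rfl⟩ := hθ
  haveI := hirr
  set c := ρ.character z0 / (Module.finrank ℂ (Fin n → ℂ) : ℂ) with hc
  have h1 : ∀ h : K, ρ.character (z0 * h) = c * ρ.character h := fun h =>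
    Helper76.character_central_mul ρ z0 (hZ hz0) h
  have h2 : ∑ z : Z, ρ.character (z0 * (z : K)) = ∑ z : Z, ρ.character (z : K) :=
    Fintype.sum_equiv (Equiv.mulLeft (⟨z0, hz0⟩ : Z)) _ _ (fun z => rfl)
  have h3 : ∑ z : Z, ρ.character (z0 * (z : K)) = c * ∑ z : Z, ρ.character (z : K) := by
    rw [Finset.mul_sum]
    exact Finset.sum_congr rfl (fun z _ => h1 z)
  have hc1 : c ≠ 1 := by
    intro h
    apply hne
    have hf : (Module.finrank ℂ (Fin n → ℂ) : ℂ) ≠ 0 := by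
      intro h0
      rw [hc, h0, div_zero] at h
      exact zero_ne_one h
    rw [Representation.char_one]
    exact (div_eq_one_iff_eq hf).mp h
  rw [h2] at h3
  have h4 : (1 - c) * ∑ z : Z, ρ.character (z : K) = 0 := by
    rw [sub_mul, one_mul, ← h3, sub_self]
  rcases mul_eq_zero.mp h4 with h | h
  · exact absurd (sub_eq_zero.mp h).symm hc1
  · exact h

variable {Λ : Type u} [Group Λ] [Fintype Λ]

open Classical in
/-- MODULE [SIBC-II-EXP] -/
theorem expansion_sum (K Z : Subgroup Λ) [K.Normal] [Z.Normal] (hZK : Z ≤ K)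
    (hZc : ∀ z ∈ Z, ∀ k ∈ K, z * k = k * z)
    {Δ : Λ → ℂ} (hΔ : IsClassFunction Λ Δ) (s m : ℂ) (a : IrrCharacter ↥K → ℂ)
    (hcoef : ∀ θ : IrrCharacter ↥K, Cfsg.Agent.Lib.Helper25.CohCentral.NT K Z (θ : ↥K → ℂ) →
      classInner Δ (indFun K (θ : ↥K → ℂ)) = a θ + (θ : ↥K → ℂ) 1 * s)
    (hdiff : ∀ z ∈ Z, z ≠ 1 → Δ 1 - Δ z = (Nat.card ↥K : ℂ) * (s + m)) :
    ∑ θ ∈ Finset.univ.filter (fun θ : IrrCharacter ↥K =>
        Cfsg.Agent.Lib.Helper25.CohCentral.NT K Z (θ : ↥K → ℂ)),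
      (a θ - m * (θ : ↥K → ℂ) 1) * (θ : ↥K → ℂ) 1 = 0 := by
  letI : Fintype K := Fintype.ofFinite K
  set NTp : IrrCharacter ↥K → Prop :=
    fun θ => Cfsg.Agent.Lib.Helper25.CohCentral.NT K Z (θ : ↥K → ℂ) with hNTp
  -- the restriction of `Δ` to `K`
  have hγcl : IsClassFunction K (fun k : K => Δ k) := fun g h => by
    simpa using hΔ (g : Λ) (h : Λ)
  have hexp := Helper78.classFunction_eq_sum_irr hγcl
  have hc : ∀ θ : IrrCharacter ↥K, NTp θ →
      classInner (fun k : K => Δ k) (θ : ↥K → ℂ) = a θ + (θ : ↥K → ℂ) 1 * s := fun θ hθ => by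
    rw [← hcoef θ hθ]
    exact (Helper75.frobenius_reciprocity' K (θ : ↥K → ℂ) hΔ).symm
  -- characters outside `NT` are constant on `Z`
  have hnt : ∀ θ : IrrCharacter ↥K, ¬ NTp θ → ∀ z : K, (z : Λ) ∈ Z →
      (θ : ↥K → ℂ) z = (θ : ↥K → ℂ) 1 := by
    intro θ hθ z hz
    by_contra hne
    exact hθ ⟨z, hz, hne⟩
  -- value differences
  have hval : ∀ z : K, Δ 1 - Δ z = ∑ θ : IrrCharacter ↥K,
      classInner (fun k : K => Δ k) (θ : ↥K → ℂ) * ((θ : ↥K → ℂ) 1 - (θ : ↥K → ℂ) z) := by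
    intro z
    have h1 := congrFun hexp 1
    have hz := congrFun hexp z
    simp only [Finset.sum_apply, Pi.smul_apply, smul_eq_mul, Subgroup.coe_one] at h1 hz
    calc Δ 1 - Δ z = (∑ θ : IrrCharacter ↥K,
          classInner (fun k : K => Δ k) (θ : ↥K → ℂ) * (θ : ↥K → ℂ) 1) -
          ∑ θ : IrrCharacter ↥K,
          classInner (fun k : K => Δ k) (θ : ↥K → ℂ) * (θ : ↥K → ℂ) z := by rw [← h1, ← hz]
      _ = _ := by
        rw [← Finset.sum_sub_distrib]
        exact Finset.sum_congr rfl (fun θ _ => by ring)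
  -- restrict to `NT`
  have hval' : ∀ z : K, (z : Λ) ∈ Z → Δ 1 - Δ z = ∑ θ ∈ Finset.univ.filter NTp,
      (a θ + (θ : ↥K → ℂ) 1 * s) * ((θ : ↥K → ℂ) 1 - (θ : ↥K → ℂ) z) := by
    intro z hz
    rw [hval z, ← Finset.sum_filter_of_ne (p := NTp)]
    · apply Finset.sum_congr rfl
      intro θ hθ
      rw [hc θ (Finset.mem_filter.mp hθ).2]
    · intro θ _ hne
      by_contra hθ
      apply hne
      rw [hnt θ hθ z hz, sub_self, mul_zero]
  -- column orthogonality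
  have hdeg : ∀ θ : IrrCharacter ↥K, conj ((θ : ↥K → ℂ) 1) = (θ : ↥K → ℂ) 1 := by
    intro θ
    rw [Helper78.IsCharacter.apply_one_eq_charDegree (Helper78.IsIrrCharacter.isCharacter θ.2),
      Complex.conj_natCast]
  have hcol : ∀ z : K, (z : Λ) ∈ Z → z ≠ 1 → ∑ θ ∈ Finset.univ.filter NTp,
      (θ : ↥K → ℂ) 1 * ((θ : ↥K → ℂ) 1 - (θ : ↥K → ℂ) z) = (Nat.card ↥K : ℂ) := by
    intro z hz hz1
    rw [Finset.sum_filter_of_ne (p := NTp)]
    · have h1 := Helper78.sum_irr_apply_one_sq (G := K)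
      have h2 := Helper78.second_orthogonality_of_not_isConj (G := K) (g := z) (h := 1) (by
        intro hcj
        apply hz1
        have := hcj.symm
        rw [isConj_iff] at this
        obtain ⟨c, hc⟩ := this
        rw [← hc]; simp)
      rw [← h1]
      have h3 : ∑ θ : IrrCharacter ↥K, (θ : ↥K → ℂ) 1 * (θ : ↥K → ℂ) z = 0 := by
        rw [← h2]
        exact Finset.sum_congr rfl (fun θ _ => by rw [hdeg θ]; ring)
      calc ∑ θ : IrrCharacter ↥K, (θ : ↥K → ℂ) 1 * ((θ : ↥K → ℂ) 1 - (θ : ↥K → ℂ) z)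
          = ∑ θ : IrrCharacter ↥K, (θ : ↥K → ℂ) 1 ^ 2 -
            ∑ θ : IrrCharacter ↥K, (θ : ↥K → ℂ) 1 * (θ : ↥K → ℂ) z := by
            rw [← Finset.sum_sub_distrib]
            exact Finset.sum_congr rfl (fun θ _ => by ring)
        _ = _ := by rw [h3, sub_zero]
    · intro θ _ hne
      by_contra hθ
      apply hne
      rw [hnt θ hθ z hz, sub_self, mul_zero]
  -- the key vanishing, for every `z ∈ Z`
  have hkey : ∀ z : K, (z : Λ) ∈ Z → ∑ θ ∈ Finset.univ.filter NTp,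
      (a θ - m * (θ : ↥K → ℂ) 1) * ((θ : ↥K → ℂ) 1 - (θ : ↥K → ℂ) z) = 0 := by
    intro z hz
    by_cases hz1 : z = 1
    · rw [hz1]
      exact Finset.sum_eq_zero (fun θ _ => by rw [sub_self, mul_zero])
    · have hzΛ : (z : Λ) ≠ 1 := fun h => hz1 (Subtype.ext h)
      have h1 := hval' z hz
      rw [hdiff (z : Λ) hz hzΛ] at h1
      have h2 := hcol z hz hz1
      calc ∑ θ ∈ Finset.univ.filter NTp,
            (a θ - m * (θ : ↥K → ℂ) 1) * ((θ : ↥K → ℂ) 1 - (θ : ↥K → ℂ) z)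
          = ∑ θ ∈ Finset.univ.filter NTp,
              (a θ + (θ : ↥K → ℂ) 1 * s) * ((θ : ↥K → ℂ) 1 - (θ : ↥K → ℂ) z) -
            (s + m) * ∑ θ ∈ Finset.univ.filter NTp,
              (θ : ↥K → ℂ) 1 * ((θ : ↥K → ℂ) 1 - (θ : ↥K → ℂ) z) := by
            rw [Finset.mul_sum, ← Finset.sum_sub_distrib]
            exact Finset.sum_congr rfl (fun θ _ => by ring)
        _ = 0 := by rw [← h1, h2]; ring
  -- sum over `Z`
  set ZK : Subgroup K := Z.subgroupOf K with hZK'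
  letI : Fintype ZK := Fintype.ofFinite ZK
  have hZKcen : ZK ≤ Subgroup.center K := by
    intro z hz
    rw [Subgroup.mem_center_iff]
    intro k
    apply Subtype.ext
    rw [Subgroup.coe_mul, Subgroup.coe_mul]
    exact (hZc (z : Λ) (Subgroup.mem_subgroupOf.mp hz) (k : Λ) k.2).symm
  have hsum0 : ∀ θ : IrrCharacter ↥K, NTp θ → ∑ z : ZK, (θ : ↥K → ℂ) (z : K) = 0 := by
    intro θ hθ
    obtain ⟨z0, hz0, hne⟩ := hθ
    exact sum_central_eq_zero ZK hZKcen θ.2 z0 (Subgroup.mem_subgroupOf.mpr hz0) hne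
  have htot : ∑ z : ZK, ∑ θ ∈ Finset.univ.filter NTp,
      (a θ - m * (θ : ↥K → ℂ) 1) * ((θ : ↥K → ℂ) 1 - (θ : ↥K → ℂ) (z : K)) = 0 :=
    Finset.sum_eq_zero (fun z _ => hkey (z : K) (Subgroup.mem_subgroupOf.mp z.2))
  rw [Finset.sum_comm] at htot
  have h5 : ∑ θ ∈ Finset.univ.filter NTp, ∑ z : ZK,
      (a θ - m * (θ : ↥K → ℂ) 1) * ((θ : ↥K → ℂ) 1 - (θ : ↥K → ℂ) (z : K)) =
      (Fintype.card ZK : ℂ) * ∑ θ ∈ Finset.univ.filter NTp,
        (a θ - m * (θ : ↥K → ℂ) 1) * (θ : ↥K → ℂ) 1 := by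
    rw [Finset.mul_sum]
    apply Finset.sum_congr rfl
    intro θ hθ
    rw [← Finset.mul_sum, Finset.sum_sub_distrib, hsum0 θ (Finset.mem_filter.mp hθ).2,
      Finset.sum_const, Finset.card_univ, nsmul_eq_mul]
    ring
  rw [h5] at htot
  have hcard : (Fintype.card ZK : ℂ) ≠ 0 := by
    have : Fintype.card ZK ≠ 0 := Fintype.card_ne_zero
    exact_mod_cast this
  exact (mul_eq_zero.mp htot).resolve_left hcard

end Cfsg.Agent.Lib.Helper49.SibC
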