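/-
helper49 library (project ASCH, module [NDESC], core): if an absolutely irreducible matrix group `S` has all its entries in a
subfield `F₀` and `g` normalises `S`, then a scalar multiple of `g` has all its entries in `F₀`
(Skolem-Noether over `F₀`; Burnside's theorem enters as the hypothesis `hspan`).
-/
import Mathlib
import Cfsg.Prelude.Def_GeometricClasses
import Cfsg.Agent.Lib.Helper99.AschDefs
import Cfsg.Agent.Lib.Helper54.SkolemNoether

set_option autoImplicit false
set_option linter.unusedSectionVars false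
set_option linter.style.haveILetI false

namespace Cfsg.Agent.Lib.Helper49.AschNDesc

open Cfsg Cfsg.Geo Cfsg.Agent.Lib.Helper99.Asch
open scoped MatrixGroups Matrix

/-- conjugation by a unit as an algebra endomorphism -/
def conjAlgHom (K : Type*) [CommSemiring K] {A : Type*} [Ring A] [Algebra K A] (u : Aˣ) : A →ₐ[K] A where
  toFun x := u * x * ↑u⁻¹
  map_one' := by simp
  map_mul' x y := by
    simp only [mul_assoc]
    rw [Units.inv_mul_cancel_left]
  map_zero' := by simp
  map_add' x y := by simp [mul_add, add_mul]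
  commutes' c := by
    rw [← Algebra.commutes c (u : A), mul_assoc, Units.mul_inv, mul_one]

theorem conjAlgHom_apply (K : Type*) [CommSemiring K] {A : Type*} [Ring A] [Algebra K A] (u : Aˣ) (x : A) :
    conjAlgHom K u x = u * x * ↑u⁻¹ := rfl

variable {n : ℕ} {F : Type*} [Field F] [Fintype F]

/-- the inclusion `M_n(F₀) → M_n(F)` -/
noncomputable def incl (F₀ : Subfield F) :
    Matrix (Fin n) (Fin n) F₀ →ₐ[F₀] Matrix (Fin n) (Fin n) F :=
  (Algebra.ofId F₀ F).mapMatrix

theorem incl_apply (F₀ : Subfield F) (x : Matrix (Fin n) (Fin n) F₀) (i j : Fin n) :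
    incl F₀ x i j = (x i j : F) := rfl

theorem incl_injective (F₀ : Subfield F) : Function.Injective (incl (n := n) F₀) := by
  intro x y h
  ext i j
  have := congrFun (congrFun h i) j
  rw [incl_apply, incl_apply] at this
  exact this

theorem exists_incl_eq (F₀ : Subfield F) (M : Matrix (Fin n) (Fin n) F) (hM : ∀ i j, M i j ∈ F₀) :
    ∃ x : Matrix (Fin n) (Fin n) F₀, incl F₀ x = M :=
  ⟨fun i j => ⟨M i j, hM i j⟩, by ext i j; rfl⟩

/-- the `F₀`-span of the matrices of `S` (read over `F₀`) is everything -/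
theorem span_preimage_eq_top (S : Subgroup (GL (Fin n) F))
    (hspan : Submodule.span F (matrixSet S) = ⊤) (F₀ : Subfield F)
    (hS₀ : ∀ s ∈ matrixSet S, ∀ i j, s i j ∈ F₀) :
    Submodule.span F₀ ((incl (n := n) F₀) ⁻¹' (matrixSet S)) = ⊤ := by
  classical
  obtain ⟨b, hbS, hbspan, hli⟩ := exists_linearIndependent F (matrixSet S)
  rw [hspan] at hbspan
  haveI : Finite b := hli.finite
  haveI : Fintype b := Fintype.ofFinite b
  -- preimages
  have hex : ∀ x : b, ∃ x₀ : Matrix (Fin n) (Fin n) F₀, incl F₀ x₀ = (x : Matrix (Fin n) (Fin n) F) :=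
    fun x => exists_incl_eq F₀ _ (hS₀ _ (hbS x.2))
  choose v hv using hex
  have hcomp : (incl (n := n) F₀).toLinearMap ∘ v = (Subtype.val : b → Matrix (Fin n) (Fin n) F) := by
    funext x
    exact hv x
  have hli₀ : LinearIndependent F₀ (Subtype.val : b → Matrix (Fin n) (Fin n) F) := by
    refine LinearIndependent.restrict_scalars (R := F₀) (K := F) ?_ hli
    intro r s hrs
    simp only [Subfield.smul_def, smul_eq_mul, mul_one] at hrs
    exact Subtype.ext hrs
  have hliv : LinearIndependent F₀ v := by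
    apply LinearIndependent.of_comp (incl (n := n) F₀).toLinearMap
    rw [hcomp]
    exact hli₀
  have hcard : Fintype.card b = Module.finrank F₀ (Matrix (Fin n) (Fin n) F₀) := by
    have hbasis : Module.finrank F (Matrix (Fin n) (Fin n) F) = Fintype.card b := by
      have hsp : ⊤ ≤ Submodule.span F (Set.range (Subtype.val : b → Matrix (Fin n) (Fin n) F)) := by
        rw [Subtype.range_coe_subtype]
        exact hbspan.ge
      exact Module.finrank_eq_card_basis (Module.Basis.mk hli hsp)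
    rw [← hbasis, Module.finrank_matrix, Module.finrank_matrix]
    simp
  have htop := hliv.span_eq_top_of_card_eq_finrank' hcard
  rw [eq_top_iff, ← htop]
  apply Submodule.span_mono
  rintro _ ⟨x, rfl⟩
  show incl F₀ (v x) ∈ matrixSet S
  rw [hv x]
  exact hbS x.2

/-- [NDESC], the case `B = 1` -/
theorem exists_smul_mem_of_normalizes (S : Subgroup (GL (Fin n) F))
    (hspan : Submodule.span F (matrixSet S) = ⊤)
    (hcomm : ∀ M : Matrix (Fin n) (Fin n) F, (∀ s ∈ matrixSet S, M * s = s * M) →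
      ∃ c : F, M = c • (1 : Matrix (Fin n) (Fin n) F))
    (F₀ : Subfield F) (hS₀ : ∀ s ∈ matrixSet S, ∀ i j, s i j ∈ F₀)
    (g : GL (Fin n) F) (hg : ∀ x ∈ S, g * x * g⁻¹ ∈ S) :
    ∃ c : Fˣ, ∀ i j, ((c : F) • (g : Matrix (Fin n) (Fin n) F)) i j ∈ F₀ := by
  classical
  set ι₀ := incl (n := n) F₀ with hι₀
  set ψ : Matrix (Fin n) (Fin n) F →ₐ[F₀] Matrix (Fin n) (Fin n) F := conjAlgHom F₀ g with hψ
  have htop := span_preimage_eq_top S hspan F₀ hS₀
  -- `ψ` maps the range of `ι₀` into itself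
  have hrange : ∀ x₀ : Matrix (Fin n) (Fin n) F₀, ψ (ι₀ x₀) ∈ ι₀.range := by
    intro x₀
    have hx : x₀ ∈ Submodule.span F₀ (ι₀ ⁻¹' (matrixSet S)) := by rw [htop]; trivial
    induction hx using Submodule.span_induction with
    | mem x hx =>
      obtain ⟨s, hs, hsx⟩ := hx
      have h1 : ψ (ι₀ x) = ((g * s * g⁻¹ : GL (Fin n) F) : Matrix (Fin n) (Fin n) F) := by
        rw [hψ, conjAlgHom_apply, ← hsx]
        simp only [Units.val_mul]
      have h2 : ((g * s * g⁻¹ : GL (Fin n) F) : Matrix (Fin n) (Fin n) F) ∈ matrixSet S :=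
        ⟨_, hg s hs, rfl⟩
      obtain ⟨y, hy⟩ := exists_incl_eq F₀ _ (hS₀ _ h2)
      exact ⟨y, by rw [h1]; exact hy⟩
    | zero => rw [map_zero, map_zero]; exact Subalgebra.zero_mem _
    | add x y _ _ hx hy => rw [map_add, map_add]; exact Subalgebra.add_mem _ hx hy
    | smul a x _ hx => rw [map_smul, map_smul]; exact Subalgebra.smul_mem _ hx a
  -- the induced endomorphism of `M_n(F₀)`
  set e := AlgEquiv.ofInjective ι₀ (incl_injective F₀) with he
  set ψ' : Matrix (Fin n) (Fin n) F₀ →ₐ[F₀] ι₀.range :=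
    (ψ.comp ι₀).codRestrict ι₀.range hrange with hψ'
  set φ₀ : Matrix (Fin n) (Fin n) F₀ →ₐ[F₀] Matrix (Fin n) (Fin n) F₀ :=
    (e.symm : ι₀.range →ₐ[F₀] Matrix (Fin n) (Fin n) F₀).comp ψ' with hφ₀
  have hφ : ∀ x₀, ι₀ (φ₀ x₀) = ψ (ι₀ x₀) := by
    intro x₀
    have h1 : e (φ₀ x₀) = ψ' x₀ := by
      rw [hφ₀]
      simp
    have h2 := congrArg (fun y : ι₀.range => (y : Matrix (Fin n) (Fin n) F)) h1
    exact h2
  obtain ⟨T, hT⟩ := Cfsg.Agent.Lib.Helper54.SkolemNoether.exists_conj_of_algHom φ₀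
  set g₀ : Matrix (Fin n) (Fin n) F := ι₀ (T : Matrix (Fin n) (Fin n) F₀) with hg₀
  set g₀' : Matrix (Fin n) (Fin n) F := ι₀ ((T⁻¹ : (Matrix (Fin n) (Fin n) F₀)ˣ) : Matrix (Fin n) (Fin n) F₀)
    with hg₀'
  have h00' : g₀ * g₀' = 1 := by
    rw [hg₀, hg₀', ← map_mul, Units.mul_inv, map_one]
  have h0'0 : g₀' * g₀ = 1 := by
    rw [hg₀, hg₀', ← map_mul, Units.inv_mul, map_one]
  have hkey : ∀ x₀ : Matrix (Fin n) (Fin n) F₀,
      (g : Matrix (Fin n) (Fin n) F) * ι₀ x₀ * ((g⁻¹ : GL (Fin n) F) : Matrix (Fin n) (Fin n) F) =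
        g₀ * ι₀ x₀ * g₀' := by
    intro x₀
    have := hφ x₀
    rw [hT, map_mul, map_mul] at this
    rw [← hg₀, ← hg₀'] at this
    rw [this]
    rfl
  set M : Matrix (Fin n) (Fin n) F := g₀' * (g : Matrix (Fin n) (Fin n) F) with hM
  have hgM : (g : Matrix (Fin n) (Fin n) F) = g₀ * M := by
    rw [hM, ← mul_assoc, h00', one_mul]
  have hMcomm : ∀ s ∈ matrixSet S, M * s = s * M := by
    intro s hs
    obtain ⟨x₀, hx₀⟩ := exists_incl_eq F₀ s (hS₀ s hs)
    have h1 := hkey x₀
    rw [hx₀] at h1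
    -- g s = g₀ s g₀' g
    have h2 : (g : Matrix (Fin n) (Fin n) F) * s = g₀ * s * g₀' * (g : Matrix (Fin n) (Fin n) F) := by
      rw [← h1, mul_assoc ((g : Matrix (Fin n) (Fin n) F) * s), ← Units.val_mul, inv_mul_cancel,
        Units.val_one, mul_one]
    calc M * s = g₀' * ((g : Matrix (Fin n) (Fin n) F) * s) := by rw [hM, mul_assoc]
      _ = g₀' * (g₀ * s * g₀' * (g : Matrix (Fin n) (Fin n) F)) := by rw [h2]
      _ = (g₀' * g₀) * s * (g₀' * (g : Matrix (Fin n) (Fin n) F)) := by simp only [mul_assoc]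
      _ = s * M := by rw [h0'0, one_mul]
  obtain ⟨c, hc⟩ := hcomm M hMcomm
  by_cases hc0 : c = 0
  · refine ⟨1, fun i j => ?_⟩
    have : (g : Matrix (Fin n) (Fin n) F) = 0 := by
      rw [hgM, hc, hc0, zero_smul, mul_zero]
    rw [this]
    simp only [Units.val_one, one_smul, Matrix.zero_apply]
    exact F₀.zero_mem
  · refine ⟨(Units.mk0 c hc0)⁻¹, fun i j => ?_⟩
    have h3 : ((((Units.mk0 c hc0)⁻¹ : Fˣ) : F)) • (g : Matrix (Fin n) (Fin n) F) = g₀ := by
      rw [hgM, hc, Matrix.mul_smul, mul_one, smul_smul]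
      simp [hc0]
    rw [h3, hg₀]
    rw [hι₀, incl_apply]
    exact Subtype.mem _

end Cfsg.Agent.Lib.Helper49.AschNDesc
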