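/-
helper49 library (project ASCH, module [NDESC], `_of` form): `geo_of_realisable` with [BURNSIDE] and [C5] as hypotheses.
-/
import Mathlib
import Cfsg.Prelude.Def_GeometricClasses
import Cfsg.Agent.Lib.Helper99.AschDefs
import Cfsg.Agent.Lib.Helper49.AschNDescCore

set_option autoImplicit false
set_option linter.unusedSectionVars false
set_option linter.style.haveILetI false

namespace Cfsg.Agent.Lib.Helper49.AschNDesc

open Cfsg Cfsg.Geo Cfsg.Agent.Lib.Helper99.Asch
open scoped MatrixGroups Matrix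

variable {n : ℕ} {F : Type*} [Field F] [Fintype F]

/-- the conjugate subgroup `B S B⁻¹` -/
def conjSub (B : GL (Fin n) F) (S : Subgroup (GL (Fin n) F)) : Subgroup (GL (Fin n) F) :=
  S.map (MulAut.conj B).toMonoidHom

theorem mem_conjSub (B : GL (Fin n) F) (S : Subgroup (GL (Fin n) F)) (y : GL (Fin n) F) :
    y ∈ conjSub B S ↔ ∃ x ∈ S, y = B * x * B⁻¹ := by
  unfold conjSub
  rw [Subgroup.mem_map]
  constructor
  · rintro ⟨x, hx, rfl⟩
    exact ⟨x, hx, rfl⟩
  · rintro ⟨x, hx, rfl⟩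
    exact ⟨x, hx, rfl⟩

theorem mem_matrixSet_conjSub (B : GL (Fin n) F) (S : Subgroup (GL (Fin n) F))
    (M : Matrix (Fin n) (Fin n) F) :
    M ∈ matrixSet (conjSub B S) ↔ ∃ s ∈ matrixSet S,
      M = (B : Matrix (Fin n) (Fin n) F) * s * ((B⁻¹ : GL (Fin n) F) : Matrix (Fin n) (Fin n) F) := by
  constructor
  · rintro ⟨y, hy, rfl⟩
    obtain ⟨x, hx, rfl⟩ := (mem_conjSub B S y).1 hy
    exact ⟨_, ⟨x, hx, rfl⟩, by simp only [Units.val_mul]⟩
  · rintro ⟨_, ⟨x, hx, rfl⟩, rfl⟩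
    exact ⟨B * x * B⁻¹, (mem_conjSub B S _).2 ⟨x, hx, rfl⟩, by simp only [Units.val_mul]⟩

theorem span_conjSub (B : GL (Fin n) F) (S : Subgroup (GL (Fin n) F))
    (hspan : Submodule.span F (matrixSet S) = ⊤) :
    Submodule.span F (matrixSet (conjSub B S)) = ⊤ := by
  rw [eq_top_iff]
  intro M _
  have hM : ((B⁻¹ : GL (Fin n) F) : Matrix (Fin n) (Fin n) F) * M * (B : Matrix (Fin n) (Fin n) F) ∈
      Submodule.span F (matrixSet S) := by rw [hspan]; trivial
  have key : ∀ X ∈ Submodule.span F (matrixSet S),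
      (B : Matrix (Fin n) (Fin n) F) * X * ((B⁻¹ : GL (Fin n) F) : Matrix (Fin n) (Fin n) F) ∈
        Submodule.span F (matrixSet (conjSub B S)) := by
    intro X hX
    induction hX using Submodule.span_induction with
    | mem x hx => exact Submodule.subset_span ((mem_matrixSet_conjSub B S _).2 ⟨x, hx, rfl⟩)
    | zero => simp
    | add x y _ _ hx hy =>
      rw [mul_add, add_mul]; exact Submodule.add_mem _ hx hy
    | smul a x _ hx =>
      rw [Matrix.mul_smul, Matrix.smul_mul]; exact Submodule.smul_mem _ a hx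
  have := key _ hM
  have e : (B : Matrix (Fin n) (Fin n) F) *
      (((B⁻¹ : GL (Fin n) F) : Matrix (Fin n) (Fin n) F) * M * (B : Matrix (Fin n) (Fin n) F)) *
      ((B⁻¹ : GL (Fin n) F) : Matrix (Fin n) (Fin n) F) = M := by
    simp only [mul_assoc]
    rw [← Units.val_mul, mul_inv_cancel, Units.val_one, mul_one, ← mul_assoc, ← Units.val_mul,
      mul_inv_cancel, Units.val_one, one_mul]
  rwa [e] at this

theorem comm_conjSub (B : GL (Fin n) F) (S : Subgroup (GL (Fin n) F))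
    (hcomm : ∀ M : Matrix (Fin n) (Fin n) F, (∀ s ∈ matrixSet S, M * s = s * M) →
      ∃ c : F, M = c • (1 : Matrix (Fin n) (Fin n) F)) :
    ∀ M : Matrix (Fin n) (Fin n) F, (∀ s ∈ matrixSet (conjSub B S), M * s = s * M) →
      ∃ c : F, M = c • (1 : Matrix (Fin n) (Fin n) F) := by
  intro M hM
  set Bm : Matrix (Fin n) (Fin n) F := (B : Matrix (Fin n) (Fin n) F) with hBm
  set Bi : Matrix (Fin n) (Fin n) F := ((B⁻¹ : GL (Fin n) F) : Matrix (Fin n) (Fin n) F) with hBi
  have h1 : Bm * Bi = 1 := by rw [hBm, hBi, ← Units.val_mul, mul_inv_cancel, Units.val_one]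
  have h2 : Bi * Bm = 1 := by rw [hBm, hBi, ← Units.val_mul, inv_mul_cancel, Units.val_one]
  obtain ⟨c, hc⟩ := hcomm (Bi * M * Bm) (by
    intro s hs
    have := hM (Bm * s * Bi) ((mem_matrixSet_conjSub B S _).2 ⟨s, hs, rfl⟩)
    calc Bi * M * Bm * s = Bi * (M * (Bm * s * Bi)) * Bm := by
          simp only [mul_assoc]; rw [h2, mul_one]
      _ = Bi * ((Bm * s * Bi) * M) * Bm := by rw [this]
      _ = s * (Bi * M * Bm) := by
          simp only [← mul_assoc]; rw [h2, one_mul])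
  refine ⟨c, ?_⟩
  calc M = Bm * (Bi * M * Bm) * Bi := by
        simp only [← mul_assoc]; rw [h1, one_mul, mul_assoc, h1, mul_one]
    _ = c • (1 : Matrix (Fin n) (Fin n) F) := by
        rw [hc, Matrix.mul_smul, mul_one, Matrix.smul_mul, h1]

/-- [NDESC] with [BURNSIDE] and [C5] as hypotheses -/
theorem geo_of_realisable_of
    (hburn : ∀ S : Subgroup (GL (Fin n) F), ActsAbsolutelyIrreducibly (matrixSet S) →
      Submodule.span F (matrixSet S) = ⊤)
    (hC5 : ∀ (H : Subgroup (GL (Fin n) F)) (F₀ : Subfield F), F₀ ≠ ⊤ → ∀ B : GL (Fin n) F,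
      (∀ h ∈ H, ∃ c : Fˣ, ∀ i j,
        ((c : F) • ((B * h * B⁻¹ : GL (Fin n) F) : Matrix (Fin n) (Fin n) F)) i j ∈ F₀) → Geo H)
    (H S : Subgroup (GL (Fin n) F))
    (hS : ActsAbsolutelyIrreducibly (matrixSet S)) (hnrm : Nrm H S) (F₀ : Subfield F)
    (hF₀ : F₀ ≠ ⊤) (hreal : RealisableOver F₀ (matrixSet S)) : Geo H := by
  obtain ⟨B, hB⟩ := hreal
  apply hC5 H F₀ hF₀ B
  intro h hh
  apply exists_smul_mem_of_normalizes (conjSub B S) (span_conjSub B S (hburn S hS))
    (comm_conjSub B S hS.2) F₀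
  · intro s hs i j
    obtain ⟨s', hs', rfl⟩ := (mem_matrixSet_conjSub B S s).1 hs
    exact hB s' hs' i j
  · intro y hy
    obtain ⟨x, hx, rfl⟩ := (mem_conjSub B S y).1 hy
    rw [mem_conjSub]
    refine ⟨h * x * h⁻¹, hnrm h hh x hx, ?_⟩
    group

end Cfsg.Agent.Lib.Helper49.AschNDesc
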