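/-
helper49 library (project TWOUT, module [A-NORM]): in a split (B,N)-pair the normaliser of `U` is contained in `B`.
-/
import Mathlib
import Cfsg.Agent.Lib.Helper91.TwOut.Defs
import Cfsg.Agent.S0311

set_option autoImplicit false

namespace Cfsg.Agent.Lib.Helper49.TwOut

open Cfsg Cfsg.Agent.Lib.Helper91.TwOut

variable {Γ : Type*} [Group Γ] {ι : Type*} {p : ℕ}

/-- `map (conj g) U = U` means `g` normalises `U`. -/
theorem mem_normalizer_of_map_conj_eq (U : Subgroup Γ) (g : Γ)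
    (hg : U.map (MulAut.conj g).toMonoidHom = U) : g ∈ Subgroup.normalizer (U : Set Γ) := by
  rw [Subgroup.mem_normalizer_iff]
  intro h
  constructor
  · intro hh
    have : (MulAut.conj g).toMonoidHom h ∈ U.map (MulAut.conj g).toMonoidHom := Subgroup.mem_map_of_mem _ hh
    rw [hg] at this
    simpa using this
  · intro hh
    rw [← hg] at hh
    obtain ⟨u, hu, he⟩ := hh
    have he' : g * u * g⁻¹ = g * h * g⁻¹ := by simpa using he
    have : u = h := by
      have := congrArg (fun x => g⁻¹ * x * g) he'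
      simpa [mul_assoc] using this
    rwa [← this]

theorem map_conj_eq_of_mem_normalizer (U : Subgroup Γ) (g : Γ) (hg : g ∈ Subgroup.normalizer (U : Set Γ)) :
    U.map (MulAut.conj g).toMonoidHom = U := by
  rw [Subgroup.mem_normalizer_iff] at hg
  ext x
  constructor
  · rintro ⟨u, hu, rfl⟩
    have := (hg u).1 hu
    simpa using this
  · intro hx
    refine ⟨g⁻¹ * x * g, ?_, ?_⟩
    · rw [SetLike.mem_coe, hg]
      have : g * (g⁻¹ * x * g) * g⁻¹ = x := by group
      rwa [this]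
    · show g * (g⁻¹ * x * g) * g⁻¹ = x
      group

/-- `B` normalises `U`. -/
theorem B_le_normalizer (S : SplitBN Γ ι p) : S.P.B ≤ Subgroup.normalizer (S.U : Set Γ) := by
  intro b hb
  rw [Subgroup.mem_normalizer_iff]
  intro u
  constructor
  · intro hu
    exact S.U_norm b hb u hu
  · intro hu
    have := S.U_norm b⁻¹ (S.P.B.inv_mem hb) _ hu
    have e : b⁻¹ * (b * u * b⁻¹) * b⁻¹⁻¹ = u := by group
    rwa [e] at this

/-- [A-NORM] `N_Γ(U) ≤ B`. -/
theorem mem_B_of_map_conj_eq (S : SplitBN Γ ι p) (g : Γ)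
    (hg : S.U.map (MulAut.conj g).toMonoidHom = S.U) : g ∈ S.P.B := by
  have hgM : g ∈ Subgroup.normalizer (S.U : Set Γ) := mem_normalizer_of_map_conj_eq S.U g hg
  obtain ⟨J, hJS, hM⟩ := Cfsg.Agent.S0311.result S.P (Subgroup.normalizer (S.U : Set Γ)) (B_le_normalizer S)
  have hJ : J = ∅ := by
    by_contra hne
    obtain ⟨s, hsJ⟩ := Set.nonempty_iff_ne_empty.mpr hne
    have hsS : s ∈ S.P.S := hJS hsJ
    have hsN : s ∈ S.P.N := S.P.subset hsS
    have hsM : s ∈ Subgroup.normalizer (S.U : Set Γ) := by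
      rw [hM]
      exact (le_sup_right : Subgroup.closure J ≤ S.P.parabolic J) (Subgroup.subset_closure hsJ)
    have hs'M : s⁻¹ ∈ Subgroup.normalizer (S.U : Set Γ) := Subgroup.inv_mem _ hsM
    -- conjugation by an element of `N` normalising `U` preserves `B`
    have key : ∀ n : Γ, n ∈ S.P.N → n ∈ Subgroup.normalizer (S.U : Set Γ) → ∀ b ∈ S.P.B, n * b * n⁻¹ ∈ S.P.B := by
      intro n hnN hnM b hb
      obtain ⟨u, hu, h, hh, rfl⟩ := S.B_eq b hb
      have h1 : n * u * n⁻¹ ∈ S.P.B := S.U_le ((Subgroup.mem_normalizer_iff.mp hnM u).1 hu)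
      have h2 : n * h * n⁻¹ ∈ S.P.B := S.P.conj_mem n hnN h hh
      have e : n * (u * h) * n⁻¹ = (n * u * n⁻¹) * (n * h * n⁻¹) := by group
      rw [e]
      exact S.P.B.mul_mem h1 h2
    have hss : s * s ∈ S.P.B := S.P.sq_mem s hsS
    apply S.P.conj_ne s hsS
    ext x
    constructor
    · rintro ⟨b, hb, rfl⟩
      have e : s * b * s = (s * b * s⁻¹) * (s * s) := by group
      show s * b * s ∈ S.P.B
      rw [e]
      exact S.P.B.mul_mem (key s hsN hsM b hb) hss
    · intro hx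
      refine ⟨s⁻¹ * x * s⁻¹, ?_, ?_⟩
      · have e : s⁻¹ * x * s⁻¹ = (s⁻¹ * x * s⁻¹⁻¹) * (s * s)⁻¹ := by group
        show s⁻¹ * x * s⁻¹ ∈ S.P.B
        rw [e]
        exact S.P.B.mul_mem (key s⁻¹ (S.P.N.inv_mem hsN) hs'M x hx) (S.P.B.inv_mem hss)
      · show s * (s⁻¹ * x * s⁻¹) * s = x
        group
  have : Subgroup.normalizer (S.U : Set Γ) = S.P.B := by
    rw [hM, hJ]
    show S.P.B ⊔ Subgroup.closure ∅ = S.P.B
    rw [Subgroup.closure_empty, sup_bot_eq]
  rw [← this]
  exact hgM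

end Cfsg.Agent.Lib.Helper49.TwOut
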