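/-
helper49 library (project TWOUT, modules [A-INN], [A-INNCARD]): the inner automorphisms fixing `U` and `V` are the
conjugations by the elements of `H = B ⊓ N`, and there are `|H|` of them when `B` has trivial core.
-/
import Mathlib
import Cfsg.Agent.Lib.Helper91.TwOut.Defs
import Cfsg.Agent.Lib.Helper49.TwOutNorm

set_option autoImplicit false

namespace Cfsg.Agent.Lib.Helper49.TwOut

open Cfsg Cfsg.Agent.Lib.Helper91.TwOut

variable {Γ : Type*} [Group Γ] {ι : Type*} {p : ℕ}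

/-- `map (conj g) W = W` from the two inclusions `g W g⁻¹ ⊆ W`, `g⁻¹ W g ⊆ W`. -/
theorem map_conj_eq_of_forall (W : Subgroup Γ) (g : Γ) (h1 : ∀ w ∈ W, g * w * g⁻¹ ∈ W)
    (h2 : ∀ w ∈ W, g⁻¹ * w * g ∈ W) : W.map (MulAut.conj g).toMonoidHom = W := by
  ext x
  constructor
  · rintro ⟨w, hw, rfl⟩
    exact h1 w hw
  · intro hx
    refine ⟨g⁻¹ * x * g, h2 x hx, ?_⟩
    show g * (g⁻¹ * x * g) * g⁻¹ = x
    group

theorem conj_mem_of_map_conj_eq (W : Subgroup Γ) (g : Γ) (h : W.map (MulAut.conj g).toMonoidHom = W)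
    (w : Γ) (hw : w ∈ W) : g * w * g⁻¹ ∈ W := by
  have : (MulAut.conj g).toMonoidHom w ∈ W.map (MulAut.conj g).toMonoidHom := Subgroup.mem_map_of_mem _ hw
  rw [h] at this
  simpa using this

/-- the conjugation by an element of `H = B ⊓ N` fixes `U` and `V` -/
theorem conj_mem_Nrm (S : SplitBN Γ ι p) (h : Γ) (hh : h ∈ S.P.B ⊓ S.P.N) :
    MulAut.conj h ∈ Nrm S.U S.V := by
  have hh' : h⁻¹ ∈ S.P.B ⊓ S.P.N := Subgroup.inv_mem _ hh
  have hn0' : S.n₀⁻¹ ∈ S.P.N := Subgroup.inv_mem _ S.n₀_mem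
  -- an element of `H` moved by `n₀⁻¹` stays in `B`
  have hB : ∀ k ∈ S.P.B ⊓ S.P.N, S.n₀⁻¹ * k * S.n₀ ∈ S.P.B := by
    intro k hk
    have := S.P.conj_mem S.n₀⁻¹ hn0' k hk
    rwa [inv_inv] at this
  have hV : ∀ k ∈ S.P.B ⊓ S.P.N, ∀ v ∈ S.V, k * v * k⁻¹ ∈ S.V := by
    intro k hk v hv
    rw [S.V_eq] at hv ⊢
    have := S.U_norm _ (hB k hk) _ hv
    have e : S.n₀⁻¹ * (k * v * k⁻¹) * S.n₀ =
        S.n₀⁻¹ * k * S.n₀ * (S.n₀⁻¹ * v * S.n₀) * (S.n₀⁻¹ * k * S.n₀)⁻¹ := by group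
    rw [e]
    exact this
  rw [mem_Nrm]
  refine ⟨map_conj_eq_of_forall _ _ (fun u hu => S.U_norm h hh.1 u hu) (fun u hu => ?_),
    map_conj_eq_of_forall _ _ (fun v hv => hV h hh v hv) (fun v hv => ?_)⟩
  · have := S.U_norm h⁻¹ hh'.1 u hu
    rwa [inv_inv] at this
  · have := hV h⁻¹ hh' v hv
    rwa [inv_inv] at this

/-- [A-INN] -/
theorem Nrm_inf_Inn (S : SplitBN Γ ι p) :
    Nrm S.U S.V ⊓ Inn Γ = (S.P.B ⊓ S.P.N).map (MulAut.conj : Γ →* MulAut Γ) := by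
  ext θ
  constructor
  · rintro ⟨hθ, g, rfl⟩
    have hθ' : S.U.map (MulAut.conj g).toMonoidHom = S.U ∧ S.V.map (MulAut.conj g).toMonoidHom = S.V := hθ
    have hgB : g ∈ S.P.B := mem_B_of_map_conj_eq S g hθ'.1
    obtain ⟨u, hu, h, hh, rfl⟩ := S.B_eq g hgB
    -- `conj u` fixes `V`
    have hcu : MulAut.conj u ∈ Nrm S.U S.V := by
      have h1 : MulAut.conj u = MulAut.conj (u * h) * (MulAut.conj h)⁻¹ := by
        rw [map_mul, mul_inv_cancel_right]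
      rw [h1]
      exact Subgroup.mul_mem _ hθ (Subgroup.inv_mem _ (conj_mem_Nrm S h hh))
    have hcu' : MulAut.conj u⁻¹ ∈ Nrm S.U S.V := by
      rw [map_inv]; exact Subgroup.inv_mem _ hcu
    have huV : ∀ v ∈ S.V, u * v * u⁻¹ ∈ S.V := conj_mem_of_map_conj_eq S.V u ((mem_Nrm _ _ _).1 hcu).2
    have huV' : ∀ v ∈ S.V, u⁻¹ * v * u ∈ S.V := by
      intro v hv
      have := conj_mem_of_map_conj_eq S.V u⁻¹ ((mem_Nrm _ _ _).1 hcu').2 v hv
      rwa [inv_inv] at this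
    -- `w = n₀⁻¹ u n₀` normalises `U`
    set w : Γ := S.n₀⁻¹ * u * S.n₀ with hw
    have hwU : S.U.map (MulAut.conj w).toMonoidHom = S.U := by
      apply map_conj_eq_of_forall
      · intro x hx
        have hy : S.n₀ * x * S.n₀⁻¹ ∈ S.V := by
          rw [S.V_eq]
          have e : S.n₀⁻¹ * (S.n₀ * x * S.n₀⁻¹) * S.n₀ = x := by group
          rwa [e]
        have h1 := huV _ hy
        rw [S.V_eq] at h1
        have e : w * x * w⁻¹ = S.n₀⁻¹ * (u * (S.n₀ * x * S.n₀⁻¹) * u⁻¹) * S.n₀ := by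
          rw [hw]; group
        rw [e]
        exact h1
      · intro x hx
        have hy : S.n₀ * x * S.n₀⁻¹ ∈ S.V := by
          rw [S.V_eq]
          have e : S.n₀⁻¹ * (S.n₀ * x * S.n₀⁻¹) * S.n₀ = x := by group
          rwa [e]
        have h1 := huV' _ hy
        rw [S.V_eq] at h1
        have e : w⁻¹ * x * w = S.n₀⁻¹ * (u⁻¹ * (S.n₀ * x * S.n₀⁻¹) * u) * S.n₀ := by
          rw [hw]; group
        rw [e]
        exact h1
    have hwB : w ∈ S.P.B := mem_B_of_map_conj_eq S w hwU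
    have hwV : w ∈ S.V := (S.U_eq u).1 hu
    have hw1 : w = 1 := by
      have : w ∈ S.V ⊓ S.P.B := ⟨hwV, hwB⟩
      rw [S.V_inf_B] at this
      exact Subgroup.mem_bot.1 this
    have hu1 : u = 1 := by
      have e : u = S.n₀ * w * S.n₀⁻¹ := by rw [hw]; group
      rw [e, hw1]; group
    refine ⟨h, hh, ?_⟩
    rw [hu1, one_mul]
  · rintro ⟨h, hh, rfl⟩
    exact ⟨conj_mem_Nrm S h hh, h, rfl⟩

/-- a central element of `Γ` lying in `B` lies in the core of `B` -/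
theorem mem_normalCore_of_central (B : Subgroup Γ) (z : Γ) (hz : z ∈ B) (hc : ∀ g : Γ, g * z = z * g) :
    z ∈ B.normalCore := by
  intro g
  have : g * z * g⁻¹ = z := by rw [hc g, mul_inv_cancel_right]
  rw [this]
  exact hz

/-- [A-INNCARD] -/
theorem card_Nrm_inf_Inn (S : SplitBN Γ ι p) (hcore : S.P.B.normalCore = ⊥) :
    Nat.card ↥(Nrm S.U S.V ⊓ Inn Γ) = Nat.card ↥(S.P.B ⊓ S.P.N) := by
  rw [Nrm_inf_Inn S]
  symm
  refine Nat.card_congr (Equiv.ofBijective ((MulAut.conj : Γ →* MulAut Γ).subgroupMap (S.P.B ⊓ S.P.N))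
    ⟨?_, MonoidHom.subgroupMap_surjective _ _⟩)
  rintro ⟨a, ha⟩ ⟨b, hb⟩ hab
  have hab' : MulAut.conj a = MulAut.conj b := congrArg Subtype.val hab
  have hz : a⁻¹ * b ∈ S.P.B.normalCore := by
    apply mem_normalCore_of_central _ _ (S.P.B.mul_mem (S.P.B.inv_mem ha.1) hb.1)
    intro g
    have h1 : a * g * a⁻¹ = b * g * b⁻¹ := by
      have := congrArg (fun θ : MulAut Γ => θ g) hab'
      simpa using this
    have h2 : g = a⁻¹ * (b * g * b⁻¹) * a := by rw [← h1]; group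
    calc g * (a⁻¹ * b) = (a⁻¹ * (b * g * b⁻¹) * a) * (a⁻¹ * b) := by rw [← h2]
      _ = a⁻¹ * b * g := by group
  rw [hcore, Subgroup.mem_bot] at hz
  have : a = b := by
    have := congrArg (fun x => a * x) hz
    simpa using this.symm
  exact Subtype.ext this

end Cfsg.Agent.Lib.Helper49.TwOut
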