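import Mathlib
import Cfsg.Agent.Lib.Helper47.SylowLemmas

set_option autoImplicit false

/-!
`T ∩ K` is a Sylow `p`-subgroup of `K` for `K` subnormal and `T` Sylow. By helper49.
-/

namespace Cfsg.Agent.Lib.Helper49

variable {G : Type*} [Group G]

/-- For `K` subnormal in the finite group `G` and `T` a Sylow `p`-subgroup of `G`, `T ∩ K` is a Sylow
`p`-subgroup of `K`. -/
theorem exists_sylow_eq_subgroupOf_of_isSubnormal {p : ℕ} [Fact p.Prime] [Finite G] (T : Sylow p G)
    {K : Subgroup G} (hK : K.IsSubnormal) :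
    ∃ P : Sylow p ↥K, (P : Subgroup ↥K) = (T : Subgroup G).subgroupOf K := by
  induction hK with
  | top => exact ⟨T.subtype le_top, rfl⟩
  | step H K h_le hSubn hN ih =>
    obtain ⟨PK, hPK⟩ := ih
    obtain ⟨PN, hPN⟩ :=
      Cfsg.Agent.Lib.Helper47.exists_sylow_eq_subgroupOf_of_normal PK (H.subgroupOf K)
    let e := Subgroup.subgroupOfEquivOfLe h_le
    have hsurj : Function.Surjective e.toMonoidHom := e.surjective
    refine ⟨PN.mapSurjective hsurj, ?_⟩
    rw [Sylow.coe_mapSurjective]
    ext x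
    rw [Subgroup.mem_map, Subgroup.mem_subgroupOf]
    constructor
    · rintro ⟨y, hy, rfl⟩
      rw [hPN, Subgroup.mem_subgroupOf, hPK, Subgroup.mem_subgroupOf] at hy
      exact hy
    · intro hx
      refine ⟨e.symm x, ?_, by simp⟩
      rw [hPN, Subgroup.mem_subgroupOf, hPK, Subgroup.mem_subgroupOf]
      exact hx

end Cfsg.Agent.Lib.Helper49
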