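import Cfsg.Prelude.Def_SylowControl
import Cfsg.Agent.Lib.Helper33.SylIn
import Cfsg.Agent.Lib.Helper34.SylowConj

/-!
# Helper49 library: the families `𝓕(S)` of `Def_SylowControl` (`sylowMembers`) in terms of
`Helper33.SylIn`, and their behaviour under conjugation.
-/

set_option autoImplicit false

namespace Cfsg.Agent.Lib.Helper49

open Cfsg.Agent.Lib.Helper33

variable {G : Type*} [Group G]

theorem subgroupConjRight_eq_cj (g : G) (X : Subgroup G) :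
    Cfsg.subgroupConjRight g X = cj g⁻¹ X := rfl

theorem mem_sylowMembers_iff [Finite G] {p : ℕ} [Fact p.Prime] {𝓕 : Set (Subgroup G)} {S X : Subgroup G} :
    X ∈ Cfsg.sylowMembers p 𝓕 S ↔ X ∈ 𝓕 ∧ SylIn p (S ⊓ X) X := by
  constructor
  · rintro ⟨hX, P, hP⟩
    have := sylIn_of_sylow P
    rw [hP] at this
    exact ⟨hX, this⟩
  · rintro ⟨hX, hs⟩
    refine ⟨hX, hs.toSylow, ?_⟩
    rw [SylIn.coe_toSylow, Subgroup.subgroupOf_map_subtype, inf_assoc, inf_idem]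

theorem isNormalSet_cj {𝓕 : Set (Subgroup G)} (h𝓕 : Cfsg.IsNormalSet 𝓕) {X : Subgroup G} (hX : X ∈ 𝓕) (g : G) :
    cj g X ∈ 𝓕 := by
  have := h𝓕 X hX g⁻¹
  rwa [subgroupConjRight_eq_cj, inv_inv] at this

/-- Conjugation invariance of `𝓕(S)` for a normal family `𝓕`. -/
theorem cj_mem_sylowMembers [Finite G] {p : ℕ} [Fact p.Prime] {𝓕 : Set (Subgroup G)}
    (h𝓕 : Cfsg.IsNormalSet 𝓕) {S X : Subgroup G} (g : G) (hX : X ∈ Cfsg.sylowMembers p 𝓕 S) :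
    cj g X ∈ Cfsg.sylowMembers p 𝓕 (cj g S) := by
  rw [mem_sylowMembers_iff] at hX ⊢
  refine ⟨isNormalSet_cj h𝓕 hX.1 g, ?_⟩
  rw [← cj_inf]
  exact hX.2.cj g

theorem cj_mem_sylowMembers_iff [Finite G] {p : ℕ} [Fact p.Prime] {𝓕 : Set (Subgroup G)}
    (h𝓕 : Cfsg.IsNormalSet 𝓕) {S X : Subgroup G} (g : G) :
    cj g X ∈ Cfsg.sylowMembers p 𝓕 (cj g S) ↔ X ∈ Cfsg.sylowMembers p 𝓕 S := by
  refine ⟨fun h => ?_, cj_mem_sylowMembers h𝓕 g⟩
  have := cj_mem_sylowMembers h𝓕 g⁻¹ h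
  rwa [cj_inv_cj, cj_inv_cj] at this

/-- The coercion of a conjugate Sylow subgroup, in `cj` form. -/
theorem coe_smul_sylow {p : ℕ} (g : G) (S : Sylow p G) :
    ((g • S : Sylow p G) : Subgroup G) = cj g (S : Subgroup G) :=
  Cfsg.Agent.Lib.Helper34.sylow_smul_eq_map_conj S g

/-- Every Sylow `p`-subgroup is a `cj`-conjugate of a given one. -/
theorem exists_cj_eq_sylow [Finite G] {p : ℕ} [Fact p.Prime] (S T : Sylow p G) :
    ∃ g : G, (T : Subgroup G) = cj g (S : Subgroup G) := by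
  obtain ⟨g, hg⟩ := MulAction.exists_smul_eq G S T
  exact ⟨g, by rw [← hg, coe_smul_sylow]⟩

end Cfsg.Agent.Lib.Helper49
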