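/-
helper49 library (project ASCHU of helper70/helper20, module [C5-BIL], hedge for helper70): `ugeo_of_fixes_bilinear` (exact sheet
statement) from [C5] and helper13's FORMKIT-[BILUNI]; plus `isUnitaryForm_hermForm`.
-/
import Mathlib
import Cfsg.Prelude.Def_GeometricClasses
import Cfsg.Agent.Lib.Helper99.AschDefs
import Cfsg.Agent.Lib.Helper70.AschU.Defs
import Cfsg.Agent.Lib.Helper70.AschU.Form
import Cfsg.Agent.Lib.Helper37.Asch.FormKit2
import Cfsg.Agent.Lib.Helper13.FormKitBilUni
import Cfsg.Agent.Lib.Helper49.AschUC5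

set_option autoImplicit false
set_option linter.unusedSectionVars false
set_option linter.unusedVariables false

namespace Cfsg.Agent.Lib.Helper49.AschUC5

open Cfsg Cfsg.Geo Cfsg.Agent.Lib.Helper99.Asch Cfsg.Agent.Lib.Helper37.Asch
  Cfsg.Agent.Lib.Helper70.AschU
open scoped MatrixGroups Matrix

variable {n : ℕ} {F : Type*} [Field F] [Fintype F] {q : ℕ} {σ : F ≃+* F}

/-- some element is moved by `x ↦ x ^ m` if `1 < m < |F|` -/
theorem exists_pow_ne_of_lt (m : ℕ) (hm1 : 1 < m) (hm : m < Fintype.card F) : ∃ x : F, x ^ m ≠ x := by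
  classical
  by_contra hcon
  push Not at hcon
  have hP : (Polynomial.X ^ m - Polynomial.X : Polynomial F) ≠ 0 :=
    FiniteField.X_pow_card_sub_X_ne_zero F hm1
  have hdeg : (Polynomial.X ^ m - Polynomial.X : Polynomial F).natDegree = m :=
    FiniteField.X_pow_card_sub_X_natDegree_eq F hm1
  have hsub : (Finset.univ : Finset F) ⊆
      (Polynomial.X ^ m - Polynomial.X : Polynomial F).roots.toFinset := by
    intro x _
    rw [Multiset.mem_toFinset, Polynomial.mem_roots hP]
    simp [hcon x]
  have h1 := Finset.card_le_card hsub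
  have h2 := Multiset.toFinset_card_le (Polynomial.X ^ m - Polynomial.X : Polynomial F).roots
  have h3 := Polynomial.card_roots' (Polynomial.X ^ m - Polynomial.X : Polynomial F)
  rw [Finset.card_univ] at h1
  omega

theorem UCtx_ne_refl (hσ : UCtx σ q) : σ ≠ RingEquiv.refl F := by
  intro h
  have hq2 : 1 < q := by
    have h1 : 1 < Fintype.card F := Fintype.one_lt_card
    rw [hσ.card] at h1
    by_contra hq
    have : q ≤ 1 := by omega
    interval_cases q <;> simp at h1
  obtain ⟨x, hx⟩ := exists_pow_ne_of_lt (F := F) q hq2 (by rw [hσ.card]; nlinarith)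
  apply hx
  rw [← hσ.frob, h]
  rfl

/-- the standard hermitian form is a unitary form in the sense of the class definitions -/
theorem isUnitaryForm_hermForm (hσ : UCtx σ q) : IsUnitaryForm σ (hermForm n F q) where
  ne_refl := UCtx_ne_refl hσ
  involutive := hσ.invol
  add_left := (isSesq_hermForm hσ).add_left
  smul_left := (isSesq_hermForm hσ).smul_left
  herm := by
    intro v w
    unfold hermForm
    rw [map_sum]
    refine Finset.sum_congr rfl fun i _ => ?_
    rw [map_mul, hσ.frob (w i), ← hσ.frob (v i), hσ.invol, mul_comm]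
  nondegenerate := nondegenerate_hermForm hσ

end Cfsg.Agent.Lib.Helper49.AschUC5

namespace Cfsg.Agent.Lib.Helper70.AschU

open Cfsg Cfsg.Geo Cfsg.Agent.Lib.Helper99.Asch Cfsg.Agent.Lib.Helper37.Asch
open scoped MatrixGroups Matrix Kronecker

variable {n : ℕ} {F : Type*} [Field F] [Fintype F] {q : ℕ} {σ : F ≃+* F}

/-- ASCHU-[C5-BIL] -/
theorem ugeo_of_fixes_bilinear (hσ : UCtx σ q) (hn : 2 ≤ n) (H S : Subgroup (GL (Fin n) F)) (hH : H ≤ GU n F q)
    (hSH : S ≤ GU n F q) (hS : ActsAbsolutelyIrreducibly (matrixSet S)) (hnrm : Nrm H S)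
    (b : (Fin n → F) → (Fin n → F) → F) (hb : IsBilinearForm b) (hbnd : IsNondegenerateForm b)
    (hfix : FixesForm (matrixSet S) b) : UGeo q H := by
  have hU : IsUnitaryForm σ (hermForm n F q) :=
    Cfsg.Agent.Lib.Helper49.AschUC5.isUnitaryForm_hermForm hσ
  have hgfix : FixesForm (matrixSet S) (hermForm n F q) := by
    rintro _ ⟨x, hx, rfl⟩ u v
    exact hSH hx u v
  have hreal := Cfsg.Agent.Lib.Helper13.FormKit.realisable_fixedSubfield_of_fixes_bilinear_unitary
    S hS hb hbnd hfix hU hgfix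
  refine ugeo_of_realisable hσ hn H S hH hS hnrm (Cfsg.Agent.Lib.Helper13.FormKit.fixedSubfield σ)
    (Cfsg.Agent.Lib.Helper13.FormKit.fixedSubfield_ne_top hU.ne_refl) hreal ?_
  intro x hx
  exact ⟨1, Subfield.one_mem _, one_ne_zero, hasMult_one_of_mem_GU (hSH hx)⟩

end Cfsg.Agent.Lib.Helper70.AschU
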