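import Mathlib
import Cfsg.Agent.Lib.Helper43.MonoStar

/-!
# S5634-[MAIN1] (helper43's project): the monomial group is maximal in `SL_n(q)`, `q ≥ 5`, `n ≥ 13`

Assembly from [GL-MAIN], [SL-TOP], [SL-L1], which are taken as explicit hypotheses (their exact
skeleton statements) in `mono_isMaximalIn_of`.
-/

set_option autoImplicit false

namespace Cfsg.Agent.Lib.Helper49.Mono

open Matrix Cfsg.Geo Cfsg.Agent.Lib.Helper93 Cfsg.Agent.Lib.Helper43

variable {F : Type*} [Field F]

/-- A nontrivial elementary transvection is not monomial. -/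
theorem elemTv_not_mem_Mono {ι : Type} [Fintype ι] [DecidableEq ι] (i j : ι) (hij : i ≠ j) {b : F}
    (hb : b ≠ 0) : elemTv i j hij b ∉ Mono ι F := by
  rintro ⟨σ, hσ⟩
  have h1 : i = σ i := by
    by_contra h
    have := hσ i i h
    rw [elemTv_apply] at this
    simp [hij] at this
  have h2 : i = σ j := by
    by_contra h
    have := hσ i j h
    rw [elemTv_apply] at this
    simp [hij, hb] at this
  exact hij (σ.injective (h1.symm.trans h2))

/-- **S5634-[MAIN1]**, with the three dependencies [GL-MAIN], [SL-TOP], [SL-L1] as hypotheses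
(exact skeleton statements). -/
theorem mono_isMaximalIn_of [Fintype F] (hq : 5 ≤ Fintype.card F) {n : ℕ} (hn : 13 ≤ n)
    (hGL : ∀ (k : ℕ), 3 ≤ k → ∀ Y : Subgroup (GL (Fin k) F), GLHyp Y → Y ≤ Mono (Fin k) F)
    (hSL : ∀ {k : ℕ}, 7 ≤ k →
      (∀ Y : Subgroup (GL (Fin k) F), GLHyp Y → Y ≤ Mono (Fin k) F) →
      ∀ {M : Subgroup (GL (Fin (k + 1)) F)}, SLHyp M → M ≤ Mono (Fin (k + 1)) F)
    (hL1 : ∀ {M : Subgroup (GL (Fin n) F)}, Mono (Fin n) F ⊓ specialLinear (Fin n) F ≤ M →
      ∀ {i j : Fin n} (hij : i ≠ j) {b : F}, b ≠ 0 → elemTv i j hij b ∈ M →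
        specialLinear (Fin n) F ≤ M) :
    IsMaximalIn (specialLinear (Fin n) F) (Mono (Fin n) F ⊓ specialLinear (Fin n) F) := by
  obtain ⟨k, rfl⟩ : ∃ k, n = k + 1 := ⟨n - 1, by omega⟩
  have hk : 12 ≤ k := by omega
  refine ⟨lt_of_le_of_ne inf_le_right ?_, ?_⟩
  · intro heq
    have h01 : (0 : Fin (k + 1)) ≠ 1 := by
      intro h
      have := congrArg Fin.val h
      simp at this
      omega
    have h1 : elemTv (0 : Fin (k + 1)) 1 h01 (1 : F) ∈ specialLinear (Fin (k + 1)) F :=
      elemTv_mem_specialLinear _ _ _ _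
    rw [← heq] at h1
    exact elemTv_not_mem_Mono _ _ h01 one_ne_zero h1.1
  · intro M hNM hMSL
    by_cases hnet : NET M
    · left
      have hM : SLHyp M := ⟨hNM, hMSL, hnet⟩
      have h1 : M ≤ Mono (Fin (k + 1)) F :=
        hSL (by omega) (fun Y hY => hGL k (by omega) Y hY) hM
      exact le_antisymm (le_inf h1 hMSL) hNM
    · right
      unfold NET at hnet
      push Not at hnet
      obtain ⟨i, j, hij, b, hmem, hb⟩ := hnet
      exact le_antisymm hMSL (hL1 hNM hij hb hmem)

end Cfsg.Agent.Lib.Helper49.Mono
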