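import Cfsg.Agent.Lib.Helper49.CharP2
import Cfsg.Agent.Lib.Helper49.CommNorm

set_option autoImplicit false

/-!
Characteristic `p` in ambient form, for subgroups `L` of a finite group `G`:
`CharPIn p L` says that every `p'`-element of `L` centralizing `O_p(L)` is trivial
(equivalent to `C_L(O_p(L)) ≤ O_p(L)`).  Normal subgroups, `p`-local subgroups. By helper49.
-/

namespace Cfsg.Agent.Lib.Helper49

open Cfsg

variable {G : Type*} [Group G]

/-- Ambient form of "`L` has characteristic `p`". -/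
def CharPIn (p : ℕ) (L : Subgroup G) : Prop :=
  ∀ x ∈ L, x ∈ Subgroup.centralizer ((pCoreIn p L : Subgroup G) : Set G) →
    (orderOf x).Coprime p → x = 1

theorem charPIn_iff {p : ℕ} [Fact p.Prime] [Finite G] (L : Subgroup G) :
    CharPIn p L ↔ Subgroup.centralizer (pCore p L : Set L) ≤ pCore p L := by
  constructor
  · exact charP_subgroup_of_forall L
  · intro h x hxL hxc hcop
    have h1 : (⟨x, hxL⟩ : L) ∈ pCore p L := h ((mem_centralizer_pCore_iff ⟨x, hxL⟩).mpr hxc)
    obtain ⟨k, hk⟩ := pow_eq_one_of_mem_pCore h1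
    have hk' : x ^ (p ^ k) = 1 := by simpa using congrArg Subtype.val hk
    have hd : orderOf x ∣ p ^ k := orderOf_dvd_of_pow_eq_one hk'
    have hcop' : (orderOf x).Coprime (p ^ k) := Nat.Coprime.pow_right k hcop
    have : orderOf x = 1 := Nat.eq_one_of_dvd_coprimes hcop' dvd_rfl hd
    exact orderOf_eq_one_iff.mp this

theorem isPGroup_pCoreIn (p : ℕ) [Fact p.Prime] [Finite G] (L : Subgroup G) :
    IsPGroup p (pCoreIn p L) :=
  (isPGroup_pCore p L).map L.subtype

/-- A normal subgroup `D` of a subgroup `L` of characteristic `p` has characteristic `p`. -/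
theorem CharPIn.of_normal {p : ℕ} [Fact p.Prime] [Finite G] {L D : Subgroup G}
    (hL : CharPIn p L) (hDL : D ≤ L) (hn : L ≤ Subgroup.normalizer (D : Set G)) : CharPIn p D := by
  intro x hxD hxc hcop
  apply hL x (hDL hxD) _ hcop
  rw [Subgroup.mem_centralizer_iff]
  intro r hr
  have hrL : r ∈ L := pCoreIn_le p L hr
  -- z = x r x⁻¹ r⁻¹ ∈ D ⊓ O_p(L)
  have hzD : x * r * x⁻¹ * r⁻¹ ∈ D := by
    have : r * x⁻¹ * r⁻¹ ∈ D := (Subgroup.mem_normalizer_iff.mp (hn hrL) _).mp (D.inv_mem hxD)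
    have e : x * r * x⁻¹ * r⁻¹ = x * (r * x⁻¹ * r⁻¹) := by group
    rw [e]; exact D.mul_mem hxD this
  have hzR : x * r * x⁻¹ * r⁻¹ ∈ pCoreIn p L := by
    have : x * r * x⁻¹ ∈ pCoreIn p L :=
      (Subgroup.mem_normalizer_iff.mp (le_normalizer_pCoreIn p L (hDL hxD)) _).mp hr
    exact Subgroup.mul_mem _ this (Subgroup.inv_mem _ hr)
  have hN : D ⊓ pCoreIn p L ≤ pCoreIn p D := by
    apply le_pCoreIn_of_normalized inf_le_left
    · intro d hd
      exact mem_normalizer_inf (Subgroup.le_normalizer hd) (le_normalizer_pCoreIn p L (hDL hd))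
    · exact (isPGroup_pCoreIn p L).to_le inf_le_right
  have hz : x * r * x⁻¹ * r⁻¹ ∈ pCoreIn p D := hN ⟨hzD, hzR⟩
  obtain ⟨k, hk⟩ := pow_eq_one_of_mem_pCoreIn hz
  have hcomm : Commute x (x * r * x⁻¹ * r⁻¹) := ((Subgroup.mem_centralizer_iff.mp hxc) _ hz).symm
  exact (commute_of_coprime_of_commute_comm hcop hcomm hk).eq.symm

/-- A `p`-local subgroup `N_H(B)` of a subgroup `H` of characteristic `p` has characteristic `p`. -/
theorem CharPIn.normalizer_inf {p : ℕ} [Fact p.Prime] [Finite G] {H B : Subgroup G}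
    (hH : CharPIn p H) (hBH : B ≤ H) (hB : IsPGroup p B) :
    CharPIn p (H ⊓ Subgroup.normalizer (B : Set G)) := by
  set M := H ⊓ Subgroup.normalizer (B : Set G) with hM
  set R := pCoreIn p H with hR
  intro x hxM hxc hcop
  have hxH : x ∈ H := hxM.1
  apply hH x hxH _ hcop
  -- B ≤ O_p(M)
  have hBM : B ≤ M := le_inf hBH Subgroup.le_normalizer
  have hBO : B ≤ pCoreIn p M := le_pCoreIn_of_normalized hBM inf_le_right hB
  -- R ∩ M ≤ O_p(M)
  have hRM : R ⊓ M ≤ pCoreIn p M := by
    apply le_pCoreIn_of_normalized inf_le_right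
    · intro m hm
      exact mem_normalizer_inf (le_normalizer_pCoreIn p H hm.1) (Subgroup.le_normalizer hm)
    · exact (isPGroup_pCoreIn p H).to_le inf_le_left
  have hxcomm : ∀ y ∈ pCoreIn p M, Commute x y := fun y hy =>
    ((Subgroup.mem_centralizer_iff.mp hxc) y hy).symm
  have hBR : B ≤ Subgroup.normalizer (R : Set G) := hBH.trans (le_normalizer_pCoreIn p H)
  have hT : IsPGroup p (R ⊔ B : Subgroup G) :=
    IsPGroup.to_sup_of_normal_left' (isPGroup_pCoreIn p H) hB hBR
  have key := commute_of_AxB (T := R ⊔ B) (R := R) (Q := B) hT le_sup_left le_sup_right hBR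
    (le_normalizer_pCoreIn p H hxH) hcop (fun q hq => hxcomm q (hBO hq))
    (fun r hr hrq => hxcomm r (hRM ⟨hr, pCoreIn_le p H hr, by
      apply Subgroup.centralizer_le_normalizer
      rw [Subgroup.mem_centralizer_iff]
      intro q hq
      exact (hrq q hq).eq.symm⟩))
  rw [Subgroup.mem_centralizer_iff]
  intro r hr
  exact (key r hr).eq.symm

/-- `O_p(D) ≤ O_p(N)` when `D` is normal in `N`. -/
theorem pCoreIn_le_pCoreIn_of_normal {p : ℕ} [Fact p.Prime] [Finite G] {N D : Subgroup G}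
    (hDN : D ≤ N) (hn : N ≤ Subgroup.normalizer (D : Set G)) : pCoreIn p D ≤ pCoreIn p N := by
  apply le_pCoreIn_of_normalized ((pCoreIn_le p D).trans hDN) _ (isPGroup_pCoreIn p D)
  apply le_normalizer_of_forall_conj_mem
  intro n hn' a ha
  -- A' = n A n⁻¹ is a normal p-subgroup of D
  have hA' : (pCoreIn p D).map (MulAut.conj n).toMonoidHom ≤ pCoreIn p D := by
    apply le_pCoreIn_of_normalized
    · rintro _ ⟨y, hy, rfl⟩
      exact (Subgroup.mem_normalizer_iff.mp (hn hn') y).mp (pCoreIn_le p D hy)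
    · intro d hd
      -- d normalizes n A n⁻¹ since n⁻¹ d n ∈ D normalizes A
      have hd' : n⁻¹ * d * n ∈ D := by
        have := (Subgroup.mem_normalizer_iff.mp (Subgroup.inv_mem _ (hn hn')) d).mp hd
        simpa using this
      have hdn := le_normalizer_pCoreIn p D hd'
      apply mem_normalizer_of_conj_mem
      · rintro _ ⟨y, hy, rfl⟩
        refine ⟨(n⁻¹ * d * n) * y * (n⁻¹ * d * n)⁻¹, (Subgroup.mem_normalizer_iff.mp hdn y).mp hy, ?_⟩
        simp only [MulEquiv.toMonoidHom_eq_coe, MonoidHom.coe_coe, MulAut.conj_apply]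
        group
      · rintro _ ⟨y, hy, rfl⟩
        have hdn' := Subgroup.inv_mem _ hdn
        refine ⟨(n⁻¹ * d * n)⁻¹ * y * (n⁻¹ * d * n)⁻¹⁻¹, (Subgroup.mem_normalizer_iff.mp hdn' y).mp hy, ?_⟩
        simp only [MulEquiv.toMonoidHom_eq_coe, MonoidHom.coe_coe, MulAut.conj_apply]
        group
    · exact (isPGroup_pCoreIn p D).map _
  exact hA' ⟨a, ha, rfl⟩

/-- If `D = C_N(O_p(N))` has characteristic `p`, so does `N`. -/
theorem CharPIn.of_centralizer {p : ℕ} [Fact p.Prime] [Finite G] {N : Subgroup G}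
    (hD : CharPIn p (N ⊓ Subgroup.centralizer ((pCoreIn p N : Subgroup G) : Set G))) :
    CharPIn p N := by
  set D := N ⊓ Subgroup.centralizer ((pCoreIn p N : Subgroup G) : Set G) with hDdef
  intro x hxN hxc hcop
  have hxD : x ∈ D := ⟨hxN, hxc⟩
  apply hD x hxD _ hcop
  have hND : N ≤ Subgroup.normalizer (D : Set G) := by
    intro n hn
    exact mem_normalizer_inf (Subgroup.le_normalizer hn)
      (normalizer_le_normalizer_centralizer _ (le_normalizer_pCoreIn p N hn))
  have hle : pCoreIn p D ≤ pCoreIn p N := pCoreIn_le_pCoreIn_of_normal inf_le_left hND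
  exact Subgroup.centralizer_le hle hxc

end Cfsg.Agent.Lib.Helper49
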