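import Mathlib
import Cfsg.Prelude.Def_Local
import Cfsg.Agent.Lib.Helper21.GenFitting
import Cfsg.Agent.Lib.Helper49.CharP3

set_option autoImplicit false

/-!
`F*(Y) = O_p(Y)` iff `C_Y(O_p(Y)) ≤ O_p(Y)` for a finite group `Y`. By helper49
(uses helper21's `C_G(F*(G)) ≤ F*(G)`).
-/

namespace Cfsg.Agent.Lib.Helper49

open Cfsg

universe u

variable {Y : Type u} [Group Y] [Finite Y]

theorem isSolvable_pCore (p : ℕ) [Fact p.Prime] : Group.IsSolvable (pCore p Y) := by
  have : Group.IsNilpotent (pCore p Y) := (isPGroup_pCore p Y).isNilpotent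
  exact IsNilpotent.to_isSolvable

theorem layer_eq_bot_of_charP {p : ℕ} [Fact p.Prime]
    (h : Subgroup.centralizer (pCore p Y : Set Y) ≤ pCore p Y) : layer Y = ⊥ := by
  have hempty : {K : Subgroup Y | IsComponent K} = ∅ := by
    ext K
    simp only [Set.mem_ofPred_eq, Set.mem_empty_iff_false, iff_false]
    intro hK
    have hsolv : Group.IsSolvable (pCore p Y) := isSolvable_pCore p
    have hinv : K ≤ Subgroup.normalizer ((pCore p Y : Subgroup Y) : Set Y) := by
      rw [Subgroup.normalizer_eq_top_iff.mpr (pCore_normal p Y)]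
      exact le_top
    have hc := Cfsg.Agent.Lib.Helper21.component_commutator_solvable_eq_bot hK hsolv hinv
    rw [Subgroup.commutator_eq_bot_iff_le_centralizer] at hc
    exact Cfsg.Agent.Lib.Helper21.qs_not_le_solvable hK.2 hsolv (hc.trans h)
  unfold layer
  rw [hempty, sSup_empty]

theorem fittingSubgroup_eq_pCore_of_charP {p : ℕ} [Fact p.Prime]
    (h : Subgroup.centralizer (pCore p Y : Set Y) ≤ pCore p Y) :
    fittingSubgroup Y = pCore p Y := by
  have hFn : (fittingSubgroup Y).Normal := Cfsg.Agent.Lib.Helper29.fittingSubgroup_normal Y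
  have hFnil : Group.IsNilpotent (fittingSubgroup Y) :=
    Cfsg.Agent.Lib.Helper71.fittingSubgroup_isNilpotent
  have hRF : pCore p Y ≤ fittingSubgroup Y := by
    apply le_sSup
    exact ⟨pCore_normal p Y, (isPGroup_pCore p Y).isNilpotent⟩
  apply le_antisymm _ hRF
  apply le_pCore_of_normal_of_isPGroup hFn
  apply isPGroup_of_forall_coprime_eq_one
  intro x hx
  have hxcop : (orderOf (x : Y)).Coprime p := by rwa [Subgroup.orderOf_coe]
  have hx1 : (x : Y) = 1 := by
    apply eq_one_of_coprime_of_mem_centralizer_pCore h hxcop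
    obtain ⟨n, hn⟩ := Group.IsNilpotent.nilpotent' (G := fittingSubgroup Y)
    have key : ∀ i : ℕ, ∀ r : fittingSubgroup Y, (r : Y) ∈ pCore p Y →
        r ∈ Subgroup.upperCentralSeries (fittingSubgroup Y) i → Commute (x : Y) (r : Y) := by
      intro i
      induction i with
      | zero =>
        intro r _ hr
        rw [Subgroup.upperCentralSeries_zero, Subgroup.mem_bot] at hr
        rw [hr]; simp
      | succ i ih =>
        intro r hrR hr
        rw [Subgroup.mem_upperCentralSeries_succ_iff] at hr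
        have h1 := hr x
        rw [commutatorElement_def] at h1
        have h2 : ((r * x * r⁻¹ * x⁻¹ : fittingSubgroup Y) : Y)
            = (r : Y) * (x : Y) * (r : Y)⁻¹ * (x : Y)⁻¹ := by simp
        have h3 : (r : Y) * (x : Y) * (r : Y)⁻¹ * (x : Y)⁻¹ ∈ pCore p Y := by
          have : (x : Y) * (r : Y)⁻¹ * (x : Y)⁻¹ ∈ pCore p Y :=
            (pCore_normal p Y).conj_mem _ ((pCore p Y).inv_mem hrR) _
          have e : (r : Y) * (x : Y) * (r : Y)⁻¹ * (x : Y)⁻¹
              = (r : Y) * ((x : Y) * (r : Y)⁻¹ * (x : Y)⁻¹) := by group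
          rw [e]
          exact (pCore p Y).mul_mem hrR this
        have h4 := ih _ (by rw [h2]; exact h3) h1
        rw [h2] at h4
        have e : (x : Y) * (r : Y) * (x : Y)⁻¹ * (r : Y)⁻¹
            = ((r : Y) * (x : Y) * (r : Y)⁻¹ * (x : Y)⁻¹)⁻¹ := by group
        have hz : (x : Y) * (r : Y) * (x : Y)⁻¹ * (r : Y)⁻¹ ∈ pCore p Y := by
          rw [e]; exact (pCore p Y).inv_mem h3
        obtain ⟨k, hk⟩ := pow_eq_one_of_mem_pCore hz
        have hcomm : Commute (x : Y) ((x : Y) * (r : Y) * (x : Y)⁻¹ * (r : Y)⁻¹) := by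
          rw [e]; exact h4.inv_right
        exact commute_of_coprime_of_commute_comm hxcop hcomm hk
    rw [Subgroup.mem_centralizer_iff]
    intro r hr
    exact (key n ⟨r, hRF hr⟩ hr (by rw [hn]; trivial)).eq.symm
  exact Subtype.ext hx1

/-- For a finite group, `F*(Y) = O_p(Y)` iff `C_Y(O_p(Y)) ≤ O_p(Y)`. -/
theorem generalizedFittingSubgroup_eq_pCore_iff {p : ℕ} [Fact p.Prime] :
    generalizedFittingSubgroup Y = pCore p Y ↔
      Subgroup.centralizer (pCore p Y : Set Y) ≤ pCore p Y := by
  constructor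
  · intro h
    rw [← h]
    exact Cfsg.Agent.Lib.Helper21.centralizer_generalizedFittingSubgroup_le
  · intro h
    unfold generalizedFittingSubgroup
    rw [layer_eq_bot_of_charP h, fittingSubgroup_eq_pCore_of_charP h, bot_sup_eq]

end Cfsg.Agent.Lib.Helper49
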