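/-
helper49 library (project ASCHU of helper70/helper20, module [C5-ODD]): `ugeo_of_realisable_odd` (exact sheet statement),
its `_of` form, and a self-contained copy of [C5-RAT] (`exists_smul_rational'`).
-/
import Mathlib
import Cfsg.Prelude.Def_GeometricClasses
import Cfsg.Agent.Lib.Helper99.AschDefs
import Cfsg.Agent.Lib.Helper70.AschU.Defs
import Cfsg.Agent.Lib.Helper37.Asch.FormKit2
import Cfsg.Agent.Lib.Helper44.SubF1
import Cfsg.Agent.Lib.Helper39.AschBurnside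
import Cfsg.Agent.Lib.Helper5.UnitaryField
import Cfsg.Agent.Lib.Helper49.AschNDescOf
import Cfsg.Agent.Lib.Helper49.AschUC5Entry
import Cfsg.Agent.Lib.Helper70.AschU.Form
import Cfsg.Agent.Lib.Helper14.AschUSubf
import Cfsg.Agent.Lib.Helper86.AschURatsys

set_option autoImplicit false
set_option linter.unusedSectionVars false
set_option linter.unusedVariables false

namespace Cfsg.Agent.Lib.Helper49.AschUC5

open Cfsg Cfsg.Geo Cfsg.Agent.Lib.Helper99.Asch Cfsg.Agent.Lib.Helper37.Asch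
  Cfsg.Agent.Lib.Helper70.AschU Cfsg.Agent.Lib.Helper49.AschNDesc
open scoped MatrixGroups Matrix

variable {n : ℕ} {F : Type*} [Field F] [Fintype F] {q : ℕ} {σ : F ≃+* F}

/-- the standard hermitian form is `formOf σ 1` -/
theorem hermForm_eq_formOf' (hσ : UCtx σ q) (u v : Fin n → F) :
    hermForm n F q u v = formOf σ (1 : Matrix (Fin n) (Fin n) F) u v := by
  unfold hermForm formOf
  rw [Matrix.one_mulVec]
  simp only [dotProduct, hσ.frob]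

/-- a similarity with multiplier `c`, in matrix form -/
theorem matrix_of_hasMult (hσ : UCtx σ q) (x : GL (Fin n) F) (c : F) (h : HasMult q x c) :
    (x : Matrix (Fin n) (Fin n) F)ᵀ * (x : Matrix (Fin n) (Fin n) F).map σ =
      c • (1 : Matrix (Fin n) (Fin n) F) := by
  have h1 : ∀ u v : Fin n → F,
      formOf σ ((x : Matrix (Fin n) (Fin n) F)ᵀ * 1 * (x : Matrix (Fin n) (Fin n) F).map σ) u v =
        formOf σ (c • (1 : Matrix (Fin n) (Fin n) F)) u v := by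
    intro u v
    rw [← formOf_mulVec, formOf_smul, ← hermForm_eq_formOf' hσ, ← hermForm_eq_formOf' hσ]
    exact h u v
  have h2 := gram_formOf σ ((x : Matrix (Fin n) (Fin n) F)ᵀ * 1 * (x : Matrix (Fin n) (Fin n) F).map σ)
  have h3 := gram_formOf σ (c • (1 : Matrix (Fin n) (Fin n) F))
  have h4 : formOf σ ((x : Matrix (Fin n) (Fin n) F)ᵀ * 1 * (x : Matrix (Fin n) (Fin n) F).map σ) =
      formOf σ (c • (1 : Matrix (Fin n) (Fin n) F)) := by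
    funext u v; exact h1 u v
  rw [h4, h3] at h2
  rw [Matrix.mul_one] at h2
  exact h2.symm

/-- [NDESC] with the base change exposed -/
theorem smul_mem_with (H S : Subgroup (GL (Fin n) F))
    (hS : ActsAbsolutelyIrreducibly (matrixSet S)) (hnrm : Nrm H S) (F₁ : Subfield F) (B : GL (Fin n) F)
    (hB : ∀ s ∈ matrixSet S, ∀ i j, ((B : Matrix (Fin n) (Fin n) F) * s *
      ((B⁻¹ : GL (Fin n) F) : Matrix (Fin n) (Fin n) F)) i j ∈ F₁) :
    ∀ h ∈ H, ∃ c : Fˣ, ∀ i j,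
      ((c : F) • ((B * h * B⁻¹ : GL (Fin n) F) : Matrix (Fin n) (Fin n) F)) i j ∈ F₁ := by
  intro h hh
  apply exists_smul_mem_of_normalizes (conjSub B S)
    (span_conjSub B S (span_eq_top_of_absIrred S hS)) (comm_conjSub B S hS.2) F₁
  · intro s hs i j
    obtain ⟨s', hs', rfl⟩ := (mem_matrixSet_conjSub B S s).1 hs
    exact hB s' hs' i j
  · intro y hy
    obtain ⟨x, hx, rfl⟩ := (mem_conjSub B S y).1 hy
    rw [mem_conjSub]
    refine ⟨h * x * h⁻¹, hnrm h hh x hx, ?_⟩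
    group

/-- the Gram matrix of the standard form in the coordinates `B⁻¹` -/
theorem gram_conj_unit (σ : F ≃+* F) (B : GL (Fin n) F) :
    IsUnit (((B⁻¹ : GL (Fin n) F) : Matrix (Fin n) (Fin n) F)ᵀ *
      ((B⁻¹ : GL (Fin n) F) : Matrix (Fin n) (Fin n) F).map σ) := by
  have h1 : ((B⁻¹ : GL (Fin n) F) : Matrix (Fin n) (Fin n) F) * (B : Matrix (Fin n) (Fin n) F) = 1 := by
    rw [← Units.val_mul, inv_mul_cancel, Units.val_one]
  have h2 : (B : Matrix (Fin n) (Fin n) F) * ((B⁻¹ : GL (Fin n) F) : Matrix (Fin n) (Fin n) F) = 1 := by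
    rw [← Units.val_mul, mul_inv_cancel, Units.val_one]
  have h3 := map_mul_map_inv σ B
  have h4 : (B : Matrix (Fin n) (Fin n) F).map σ *
      ((B⁻¹ : GL (Fin n) F) : Matrix (Fin n) (Fin n) F).map σ = 1 := by
    have := map_mul_map_inv σ B⁻¹
    rwa [inv_inv] at this
  refine ⟨⟨_, (B : Matrix (Fin n) (Fin n) F).map σ * (B : Matrix (Fin n) (Fin n) F)ᵀ, ?_, ?_⟩, rfl⟩
  · calc ((B⁻¹ : GL (Fin n) F) : Matrix (Fin n) (Fin n) F)ᵀ *
          ((B⁻¹ : GL (Fin n) F) : Matrix (Fin n) (Fin n) F).map σ *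
          ((B : Matrix (Fin n) (Fin n) F).map σ * (B : Matrix (Fin n) (Fin n) F)ᵀ)
        = ((B⁻¹ : GL (Fin n) F) : Matrix (Fin n) (Fin n) F)ᵀ *
          (((B⁻¹ : GL (Fin n) F) : Matrix (Fin n) (Fin n) F).map σ *
          (B : Matrix (Fin n) (Fin n) F).map σ) * (B : Matrix (Fin n) (Fin n) F)ᵀ := by
          simp only [Matrix.mul_assoc]
      _ = 1 := by rw [h3, Matrix.mul_one, ← Matrix.transpose_mul, h2, Matrix.transpose_one]
  · calc (B : Matrix (Fin n) (Fin n) F).map σ * (B : Matrix (Fin n) (Fin n) F)ᵀ *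
          (((B⁻¹ : GL (Fin n) F) : Matrix (Fin n) (Fin n) F)ᵀ *
          ((B⁻¹ : GL (Fin n) F) : Matrix (Fin n) (Fin n) F).map σ)
        = (B : Matrix (Fin n) (Fin n) F).map σ * ((B : Matrix (Fin n) (Fin n) F)ᵀ *
          ((B⁻¹ : GL (Fin n) F) : Matrix (Fin n) (Fin n) F)ᵀ) *
          ((B⁻¹ : GL (Fin n) F) : Matrix (Fin n) (Fin n) F).map σ := by
          simp only [Matrix.mul_assoc]
      _ = 1 := by rw [← Matrix.transpose_mul, h1, Matrix.transpose_one, Matrix.mul_one, h4]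

theorem gram_conj_herm (σ : F ≃+* F) (hinv : ∀ a, σ (σ a) = a) (A : Matrix (Fin n) (Fin n) F) :
    ((Aᵀ * A.map σ).map σ)ᵀ = Aᵀ * A.map σ := by
  rw [Matrix.map_mul, Matrix.transpose_mul, Matrix.map_map]
  have h1 : A.map (σ ∘ σ) = A := by
    ext i j; simp [hinv]
  rw [h1, ← Matrix.transpose_map, Matrix.transpose_transpose]

/-- semi-invariance of the transported Gram matrix -/
theorem gram_conj_mult (σ : F ≃+* F) (B : GL (Fin n) F) (X : Matrix (Fin n) (Fin n) F) (c : F)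
    (hm : Xᵀ * X.map σ = c • (1 : Matrix (Fin n) (Fin n) F)) :
    ((B : Matrix (Fin n) (Fin n) F) * X * ((B⁻¹ : GL (Fin n) F) : Matrix (Fin n) (Fin n) F))ᵀ *
      (((B⁻¹ : GL (Fin n) F) : Matrix (Fin n) (Fin n) F)ᵀ *
        ((B⁻¹ : GL (Fin n) F) : Matrix (Fin n) (Fin n) F).map σ) *
      ((B : Matrix (Fin n) (Fin n) F) * X *
        ((B⁻¹ : GL (Fin n) F) : Matrix (Fin n) (Fin n) F)).map σ =
    c • (((B⁻¹ : GL (Fin n) F) : Matrix (Fin n) (Fin n) F)ᵀ *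
        ((B⁻¹ : GL (Fin n) F) : Matrix (Fin n) (Fin n) F).map σ) := by
  set A : Matrix (Fin n) (Fin n) F := (B : Matrix (Fin n) (Fin n) F) with hA
  set A' : Matrix (Fin n) (Fin n) F := ((B⁻¹ : GL (Fin n) F) : Matrix (Fin n) (Fin n) F) with hA'
  have h1 : A' * A = 1 := by rw [hA, hA', ← Units.val_mul, inv_mul_cancel, Units.val_one]
  have e1 : Aᵀ * A'ᵀ = 1 := by rw [← Matrix.transpose_mul, h1, Matrix.transpose_one]
  have e2 : A'.map σ * A.map σ = 1 := map_mul_map_inv σ B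
  rw [Matrix.transpose_mul, Matrix.transpose_mul, Matrix.map_mul, Matrix.map_mul]
  calc A'ᵀ * (Xᵀ * Aᵀ) * (A'ᵀ * A'.map σ) * (A.map σ * X.map σ * A'.map σ)
      = A'ᵀ * Xᵀ * (Aᵀ * A'ᵀ) * (A'.map σ * A.map σ) * X.map σ * A'.map σ := by
        simp only [Matrix.mul_assoc]
    _ = A'ᵀ * (Xᵀ * X.map σ) * A'.map σ := by
        rw [e1, Matrix.mul_one, Matrix.mul_assoc (A'ᵀ * Xᵀ), e2]
        simp only [Matrix.mul_assoc, Matrix.one_mul]
    _ = c • (A'ᵀ * A'.map σ) := by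
        rw [hm, Matrix.mul_smul, Matrix.mul_one, Matrix.smul_mul]

/-- the scaled base change `δ • B⁻¹` -/
noncomputable def scaledInv (δ : Fˣ) (B : GL (Fin n) F) : GL (Fin n) F :=
  Cfsg.Agent.Lib.Helper44.SubF.scalarGL δ * B⁻¹

theorem scaledInv_val (δ : Fˣ) (B : GL (Fin n) F) :
    ((scaledInv δ B : GL (Fin n) F) : Matrix (Fin n) (Fin n) F) =
      (δ : F) • ((B⁻¹ : GL (Fin n) F) : Matrix (Fin n) (Fin n) F) :=
  Cfsg.Agent.Lib.Helper44.SubF.scalarGL_mul_val δ B⁻¹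

theorem scaledInv_conj (δ : Fˣ) (B h : GL (Fin n) F) :
    (scaledInv δ B)⁻¹ * h * scaledInv δ B = B * h * B⁻¹ := by
  unfold scaledInv
  have hc := Cfsg.Agent.Lib.Helper44.SubF.scalarGL_comm δ h
  calc (Cfsg.Agent.Lib.Helper44.SubF.scalarGL δ * B⁻¹)⁻¹ * h *
        (Cfsg.Agent.Lib.Helper44.SubF.scalarGL δ * B⁻¹)
      = B * ((Cfsg.Agent.Lib.Helper44.SubF.scalarGL δ)⁻¹ *
          (h * Cfsg.Agent.Lib.Helper44.SubF.scalarGL δ)) * B⁻¹ := by group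
    _ = B * h * B⁻¹ := by rw [← hc]; group

/-- Gram matrix of the standard form in the coordinates `δ • B⁻¹` -/
theorem scaledInv_gram (σ : F ≃+* F) (δ : Fˣ) (B : GL (Fin n) F) :
    ((scaledInv δ B : GL (Fin n) F) : Matrix (Fin n) (Fin n) F)ᵀ * 1 *
      ((scaledInv δ B : GL (Fin n) F) : Matrix (Fin n) (Fin n) F).map σ =
    ((δ : F) * σ (δ : F)) • (((B⁻¹ : GL (Fin n) F) : Matrix (Fin n) (Fin n) F)ᵀ *
        ((B⁻¹ : GL (Fin n) F) : Matrix (Fin n) (Fin n) F).map σ) := by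
  rw [scaledInv_val, Matrix.mul_one, Matrix.transpose_smul]
  have : ((δ : F) • ((B⁻¹ : GL (Fin n) F) : Matrix (Fin n) (Fin n) F)).map σ =
      σ (δ : F) • ((B⁻¹ : GL (Fin n) F) : Matrix (Fin n) (Fin n) F).map σ := by
    ext i j; simp
  rw [this, Matrix.smul_mul, Matrix.mul_smul, smul_smul]

/-- a form with rational Gram matrix is rational on rational vectors -/
theorem formOf_mem (σ : F ≃+* F) (F₁ : Subfield F) (hσF₁ : ∀ a ∈ F₁, σ a ∈ F₁)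
    (J : Matrix (Fin n) (Fin n) F) (hJ : ∀ i j, J i j ∈ F₁) (u v : Fin n → F)
    (hu : ∀ i, u i ∈ F₁) (hv : ∀ i, v i ∈ F₁) : formOf σ J u v ∈ F₁ := by
  unfold formOf
  simp only [dotProduct, Matrix.mulVec]
  exact F₁.sum_mem fun i _ => F₁.mul_mem (hu i)
    (F₁.sum_mem fun j _ => F₁.mul_mem (hJ i j) (hσF₁ _ (hv j)))

/-- ASCHU-[C5-ODD] with [C5-RAT], [HERMFIX], [SUBF-ODD] as hypotheses -/
theorem ugeo_of_realisable_odd_of
    (hRAT : ∀ (F₁ : Subfield F), (∀ a ∈ F₁, σ a ∈ F₁) → ∀ (W : Set (Matrix (Fin n) (Fin n) F)),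
      (∀ s ∈ W, ∀ i j, s i j ∈ F₁) →
      (∀ M : Matrix (Fin n) (Fin n) F, (∀ s ∈ W, M * s = s * M) →
        ∃ c : F, M = c • (1 : Matrix (Fin n) (Fin n) F)) →
      ∀ J : Matrix (Fin n) (Fin n) F, IsUnit J →
      (∀ s ∈ W, ∃ μ ∈ F₁, μ ≠ 0 ∧ sᵀ * J * s.map σ = μ • J) → ∃ β : F, β ≠ 0 ∧ ∀ i j, β * J i j ∈ F₁)
    (hHF : ∀ (F₁ : Subfield F), (∀ a ∈ F₁, σ a ∈ F₁) → (∃ a ∈ F₁, σ a ≠ a) →
      ∀ J : Matrix (Fin n) (Fin n) F, (J.map σ)ᵀ = J → ∀ β : F, β ≠ 0 → (∀ i j, β * J i j ∈ F₁) →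
      ∃ β' : F, β' ≠ 0 ∧ σ β' = β' ∧ ∀ i j, β' * J i j ∈ F₁)
    (hSO : ∀ (F₁ : Subfield F) (r : ℕ), Odd r → Fintype.card F = Nat.card F₁ ^ r →
      (∀ a ∈ F₁, σ a ∈ F₁) ∧ ∃ a ∈ F₁, σ a ≠ a)
    (hσ : UCtx σ q) (hn : 0 < n) (H S : Subgroup (GL (Fin n) F)) (hH : H ≤ GU n F q)
    (hS : ActsAbsolutelyIrreducibly (matrixSet S)) (hnrm : Nrm H S) (F₁ : Subfield F) (r : ℕ) (hr : r.Prime)
    (hodd : Odd r) (hcard : Fintype.card F = Nat.card F₁ ^ r) (hreal : RealisableOver F₁ (matrixSet S))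
    (hmult : ∀ x ∈ S, ∃ c ∈ F₁, c ≠ 0 ∧ HasMult q x c) : UGeo q H := by
  obtain ⟨B, hB⟩ := hreal
  obtain ⟨hσF₁, hnt⟩ := hSO F₁ r hodd hcard
  set J' : Matrix (Fin n) (Fin n) F := ((B⁻¹ : GL (Fin n) F) : Matrix (Fin n) (Fin n) F)ᵀ *
      ((B⁻¹ : GL (Fin n) F) : Matrix (Fin n) (Fin n) F).map σ with hJ'
  have hJ'unit : IsUnit J' := gram_conj_unit σ B
  have hJ'herm : (J'.map σ)ᵀ = J' := gram_conj_herm σ hσ.invol _
  -- semi-invariance on the conjugated group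
  have hW : ∀ s ∈ matrixSet (conjSub B S), ∃ μ ∈ F₁, μ ≠ 0 ∧ sᵀ * J' * s.map σ = μ • J' := by
    intro s hs
    obtain ⟨s', ⟨x, hx, rfl⟩, rfl⟩ := (mem_matrixSet_conjSub B S s).1 hs
    obtain ⟨c, hc, hc0, hmul⟩ := hmult x hx
    exact ⟨c, hc, hc0, gram_conj_mult σ B _ c (matrix_of_hasMult hσ x c hmul)⟩
  obtain ⟨β, hβ0, hβ⟩ := hRAT F₁ hσF₁ (matrixSet (conjSub B S))
    (fun s hs i j => by
      obtain ⟨s', hs', rfl⟩ := (mem_matrixSet_conjSub B S s).1 hs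
      exact hB s' hs' i j)
    (comm_conjSub B S hS.2) J' hJ'unit hW
  obtain ⟨β', hβ'0, hβ'σ, hβ'⟩ := hHF F₁ hσF₁ hnt J' hJ'herm β hβ0 hβ
  obtain ⟨δ, hδ⟩ := Cfsg.Agent.Lib.Helper5.exists_norm_eq hσ.card (d := β')
    (by rw [← hσ.frob]; exact hβ'σ)
  have hδ0 : δ ≠ 0 := by
    rintro rfl
    rw [zero_mul] at hδ
    exact hβ'0 hδ.symm
  set P : GL (Fin n) F := scaledInv (Units.mk0 δ hδ0) B with hP
  refine ugeo_of_formRational_odd H hH F₁ r hr hodd hcard P ?_ ?_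
  · intro h hh
    rw [hP, scaledInv_conj]
    exact smul_mem_with H S hS hnrm F₁ B hB h hh
  · intro u v hu hv
    rw [one_mul, hermForm_eq_formOf' hσ, formOf_mulVec, hP, scaledInv_gram, Units.val_mk0,
      hσ.frob δ, hδ]
    exact formOf_mem σ F₁ hσF₁ _ (fun i j => by
      rw [Matrix.smul_apply, smul_eq_mul]; exact hβ' i j) u v hu hv

/-- [C5-RAT] (self-contained copy): a semi-invariant form of an `F₁`-rational set of matrices with scalar commutant, with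
multipliers in `F₁`, is `F₁`-rational up to a scalar -/
theorem exists_smul_rational' {ι : Type} [Fintype ι] [DecidableEq ι] (τ : F ≃+* F) (F₁ : Subfield F)
    (hτF₁ : ∀ a ∈ F₁, τ a ∈ F₁) (W : Set (Matrix ι ι F)) (hW : ∀ s ∈ W, ∀ i j, s i j ∈ F₁)
    (hcomm : ∀ M : Matrix ι ι F, (∀ s ∈ W, M * s = s * M) → ∃ c : F, M = c • (1 : Matrix ι ι F))
    (J : Matrix ι ι F) (hJ : IsUnit J)
    (h : ∀ s ∈ W, ∃ μ ∈ F₁, μ ≠ 0 ∧ sᵀ * J * s.map τ = μ • J) :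
    ∃ β : F, β ≠ 0 ∧ ∀ i j, β * J i j ∈ F₁ := by
  classical
  rcases isEmpty_or_nonempty ι with hι | hι
  · exact ⟨1, one_ne_zero, fun i => isEmptyElim i⟩
  have hJ0 : J ≠ 0 := by
    rintro rfl
    obtain ⟨u, hu⟩ := hJ
    have h1 : (u : Matrix ι ι F) * ((u⁻¹ : (Matrix ι ι F)ˣ) : Matrix ι ι F) = 1 := u.mul_inv
    rw [hu, zero_mul] at h1
    exact zero_ne_one h1
  choose μ hμ using h
  obtain ⟨J₁, hJ₁0, hJ₁rat, hJ₁⟩ := exists_rational_solution F₁ (κ := W)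
    (fun k => (k : Matrix ι ι F)ᵀ) (fun k => (k : Matrix ι ι F).map τ) (fun k => μ k k.2)
    (fun k i j => hW k k.2 j i) (fun k i j => hτF₁ _ (hW k k.2 i j)) (fun k => (hμ k k.2).1)
    J hJ0 (fun k => (hμ k k.2).2.2)
  obtain ⟨c, hc⟩ := gram_unique τ W hcomm J J₁ hJ
    (fun s hs => ⟨μ s hs, (hμ s hs).2.1, (hμ s hs).2.2, hJ₁ ⟨s, hs⟩⟩)
  have hc0 : c ≠ 0 := by
    rintro rfl
    rw [zero_smul] at hc
    exact hJ₁0 hc
  refine ⟨c, hc0, fun i j => ?_⟩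
  have := hJ₁rat i j
  rwa [hc, Matrix.smul_apply, smul_eq_mul] at this

end Cfsg.Agent.Lib.Helper49.AschUC5

namespace Cfsg.Agent.Lib.Helper70.AschU

open Cfsg Cfsg.Geo Cfsg.Agent.Lib.Helper99.Asch Cfsg.Agent.Lib.Helper37.Asch
open scoped MatrixGroups Matrix Kronecker

variable {n : ℕ} {F : Type*} [Field F] [Fintype F] {q : ℕ} {σ : F ≃+* F}

/-- ASCHU-[C5-ODD] -/
theorem ugeo_of_realisable_odd (hσ : UCtx σ q) (hn : 0 < n) (H S : Subgroup (GL (Fin n) F)) (hH : H ≤ GU n F q)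
    (hS : ActsAbsolutelyIrreducibly (matrixSet S)) (hnrm : Nrm H S) (F₁ : Subfield F) (r : ℕ) (hr : r.Prime)
    (hodd : Odd r) (hcard : Fintype.card F = Nat.card F₁ ^ r) (hreal : RealisableOver F₁ (matrixSet S))
    (hmult : ∀ x ∈ S, ∃ c ∈ F₁, c ≠ 0 ∧ HasMult q x c) : UGeo q H :=
  Cfsg.Agent.Lib.Helper49.AschUC5.ugeo_of_realisable_odd_of
    (fun F₁ hσF₁ W hW hcomm J hJ h =>
      Cfsg.Agent.Lib.Helper49.AschUC5.exists_smul_rational' σ F₁ hσF₁ W hW hcomm J hJ h)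
    (fun F₁ hσF₁ hnt J hherm β hβ hrat =>
      exists_fixed_smul_rational hσ.invol F₁ hσF₁ hnt J hherm β hβ hrat)
    (fun F₁ r hodd hcard => subfield_odd_stable hσ F₁ r hodd hcard)
    hσ hn H S hH hS hnrm F₁ r hr hodd hcard hreal hmult

end Cfsg.Agent.Lib.Helper70.AschU
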