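/-
helper49 library (project ASCHU of helper70/helper20, module [C5-TWO]): `ugeo_of_realisable_two` (exact sheet statement).
-/
import Mathlib
import Cfsg.Prelude.Def_GeometricClasses
import Cfsg.Agent.Lib.Helper99.AschDefs
import Cfsg.Agent.Lib.Helper70.AschU.Defs
import Cfsg.Agent.Lib.Helper37.Asch.FormKit2
import Cfsg.Agent.Lib.Helper49.AschUC5Odd
import Cfsg.Agent.Lib.Helper15.BhrE4Irr
import Cfsg.Agent.Lib.Helper7.AschUChar2Alt
import Cfsg.Agent.Lib.Helper36.AltEven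

set_option autoImplicit false
set_option linter.unusedSectionVars false
set_option linter.unusedVariables false

namespace Cfsg.Agent.Lib.Helper49.AschUC5

open Cfsg Cfsg.Geo Cfsg.Agent.Lib.Helper99.Asch Cfsg.Agent.Lib.Helper37.Asch
  Cfsg.Agent.Lib.Helper70.AschU Cfsg.Agent.Lib.Helper49.AschNDesc
open scoped MatrixGroups Matrix

variable {n : ℕ} {F : Type*} [Field F] [Fintype F] {q : ℕ} {σ : F ≃+* F}

/-- a matrix with entries fixed by `σ` is fixed by the entrywise map -/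
theorem map_eq_self_of_fixed (σ : F ≃+* F) (s : Matrix (Fin n) (Fin n) F) (hs : ∀ i j, σ (s i j) = s i j) :
    s.map σ = s := by
  ext i j
  exact hs i j

/-- odd `q` from `2 ≠ 0` -/
theorem odd_q_of_two_ne_zero (hσ : UCtx σ q) (h2 : (2 : F) ≠ 0) : Odd q := by
  have hchar : ringChar F ≠ 2 := by
    intro h
    apply h2
    have : ((2 : ℕ) : F) = 0 := by rw [← h]; exact ringChar.Nat.cast_ringChar
    exact_mod_cast this
  have h1 := FiniteField.odd_card_of_char_ne_two hchar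
  rw [hσ.card] at h1
  rcases Nat.even_or_odd q with he | ho
  · exfalso
    have : Even (q ^ 2) := (Nat.even_pow.2 ⟨he, by norm_num⟩)
    rw [Nat.even_iff] at this
    omega
  · exact ho

/-- a skew-symmetric matrix is alternating when `2 ≠ 0` -/
theorem alt_of_skew (J : Matrix (Fin n) (Fin n) F) (h2 : (2 : F) ≠ 0) (hJ : Jᵀ = -J) (u : Fin n → F) :
    u ⬝ᵥ (J *ᵥ u) = 0 := by
  have h1 : u ⬝ᵥ (J *ᵥ u) = u ⬝ᵥ (Jᵀ *ᵥ u) := by
    rw [Matrix.mulVec_transpose, Matrix.dotProduct_mulVec, dotProduct_comm]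
  rw [hJ, Matrix.neg_mulVec, dotProduct_neg] at h1
  have h3 : (2 : F) * (u ⬝ᵥ (J *ᵥ u)) = 0 := by linear_combination h1
  rcases mul_eq_zero.1 h3 with h | h
  · exact absurd h h2
  · exact h

/-- a symmetric matrix with zero diagonal is alternating when `2 = 0` -/
theorem alt_of_symm_diag (J : Matrix (Fin n) (Fin n) F) (h2 : (2 : F) = 0) (hJ : Jᵀ = J)
    (hd : ∀ i, J i i = 0) (u : Fin n → F) : u ⬝ᵥ (J *ᵥ u) = 0 := by
  -- bilinear expansion: the form `B(u,v) = uᵀ J v` is symmetric with `B(e_i,e_i) = 0`; induct on the support via additivity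
  have hsymm : ∀ a b : Fin n → F, a ⬝ᵥ (J *ᵥ b) = b ⬝ᵥ (J *ᵥ a) := by
    intro a b
    have : a ⬝ᵥ (J *ᵥ b) = b ⬝ᵥ (Jᵀ *ᵥ a) := by
      rw [Matrix.mulVec_transpose, Matrix.dotProduct_mulVec, dotProduct_comm]
    rw [this, hJ]
  have hadd : ∀ a b : Fin n → F, a ⬝ᵥ (J *ᵥ a) = 0 → b ⬝ᵥ (J *ᵥ b) = 0 →
      (a + b) ⬝ᵥ (J *ᵥ (a + b)) = 0 := by
    intro a b ha hb
    rw [Matrix.mulVec_add, add_dotProduct, dotProduct_add, dotProduct_add, ha, hb, hsymm b a]
    linear_combination (a ⬝ᵥ (J *ᵥ b)) * h2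
  have hsingle : ∀ (i : Fin n) (c : F), (Pi.single i c : Fin n → F) ⬝ᵥ (J *ᵥ Pi.single i c) = 0 := by
    intro i c
    rw [Matrix.mulVec_single, single_dotProduct]
    simp [hd i]
  have hsum : ∀ s : Finset (Fin n), (∑ i ∈ s, (Pi.single i (u i) : Fin n → F)) ⬝ᵥ
      (J *ᵥ ∑ i ∈ s, (Pi.single i (u i) : Fin n → F)) = 0 := by
    intro s
    induction s using Finset.induction_on with
    | empty => simp
    | insert a s ha ih =>
      rw [Finset.sum_insert ha]
      exact hadd _ _ (hsingle a (u a)) ih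
  have hu : u = ∑ i, (Pi.single i (u i) : Fin n → F) := by
    ext k
    simp [Finset.sum_apply, Pi.single_apply]
  rw [hu]
  exact hsum Finset.univ

theorem exists_entry_ne_zero_of_isUnit (hn : 0 < n) (J : Matrix (Fin n) (Fin n) F) (hJ : IsUnit J) :
    ∃ i j, J i j ≠ 0 := by
  by_contra hcon
  push Not at hcon
  have h0 : J = 0 := by ext i j; exact hcon i j
  have : Nonempty (Fin n) := ⟨⟨0, hn⟩⟩
  obtain ⟨u, hu⟩ := hJ
  have h1 : (u : Matrix (Fin n) (Fin n) F) * ((u⁻¹ : (Matrix (Fin n) (Fin n) F)ˣ) :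
      Matrix (Fin n) (Fin n) F) = 1 := u.mul_inv
  rw [hu, h0, zero_mul] at h1
  exact zero_ne_one h1

theorem isUnit_smul_matrix (β : F) (hβ : β ≠ 0) (J : Matrix (Fin n) (Fin n) F) (hJ : IsUnit J) :
    IsUnit (β • J) := by
  rw [Matrix.isUnit_iff_isUnit_det, Matrix.det_smul]
  exact ((IsUnit.mk0 β hβ).pow _).mul ((Matrix.isUnit_iff_isUnit_det _).1 hJ)

/-- ASCHU-[C5-TWO], proof -/
theorem ugeo_of_realisable_two' (hσ : UCtx σ q) (hn : 2 ≤ n) (H S : Subgroup (GL (Fin n) F))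
    (hH : H ≤ GU n F q)
    (hS : ActsAbsolutelyIrreducibly (matrixSet S)) (hnrm : Nrm H S) (F₁ : Subfield F)
    (hcard : Fintype.card F = Nat.card F₁ ^ 2) (hreal : RealisableOver F₁ (matrixSet S))
    (hmult : ∀ x ∈ S, ∃ c ∈ F₁, c ≠ 0 ∧ HasMult q x c) : UGeo q H := by
  have hfix := subfield_two_eq_fixed hσ F₁ hcard
  have hσF₁ : ∀ a ∈ F₁, σ a ∈ F₁ := fun a ha => by rw [(hfix a).1 ha]; exact ha
  obtain ⟨B, hB⟩ := hreal
  set W : Set (Matrix (Fin n) (Fin n) F) :=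
    (fun s => (B : Matrix (Fin n) (Fin n) F) * s *
      ((B⁻¹ : GL (Fin n) F) : Matrix (Fin n) (Fin n) F)) '' matrixSet S with hWdef
  have hWabs : ActsAbsolutelyIrreducibly W :=
    Cfsg.Agent.Lib.Helper15.BhrE4.absIrred_conj (matrixSet S) B hS
  have hWrat : ∀ s ∈ W, ∀ i j, s i j ∈ F₁ := by
    rintro _ ⟨s, hs, rfl⟩ i j
    exact hB s hs i j
  have hWfix : ∀ s ∈ W, s.map σ = s := fun s hs =>
    map_eq_self_of_fixed σ s (fun i j => (hfix _).1 (hWrat s hs i j))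
  set J' : Matrix (Fin n) (Fin n) F := ((B⁻¹ : GL (Fin n) F) : Matrix (Fin n) (Fin n) F)ᵀ *
      ((B⁻¹ : GL (Fin n) F) : Matrix (Fin n) (Fin n) F).map σ with hJ'
  have hJ'unit : IsUnit J' := gram_conj_unit σ B
  have hJ'herm : (J'.map σ)ᵀ = J' := gram_conj_herm σ hσ.invol _
  have hWmult : ∀ s ∈ W, ∃ μ ∈ F₁, μ ≠ 0 ∧ sᵀ * J' * s.map σ = μ • J' := by
    rintro _ ⟨_, ⟨x, hx, rfl⟩, rfl⟩
    obtain ⟨c, hc, hc0, hmul⟩ := hmult x hx
    exact ⟨c, hc, hc0, gram_conj_mult σ B _ c (matrix_of_hasMult hσ x c hmul)⟩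
  obtain ⟨β, hβ0, hβ⟩ := exists_smul_rational' σ F₁ hσF₁ W hWrat hWabs.2 J' hJ'unit hWmult
  set J₁ : Matrix (Fin n) (Fin n) F := β • J' with hJ₁
  have hJ₁rat : ∀ i j, J₁ i j ∈ F₁ := fun i j => by
    rw [hJ₁, Matrix.smul_apply, smul_eq_mul]; exact hβ i j
  have hJ₁unit : IsUnit J₁ := isUnit_smul_matrix β hβ0 J' hJ'unit
  have hJ₁mult : ∀ s ∈ W, ∃ μ : F, μ ≠ 0 ∧ sᵀ * J₁ * s.map σ = μ • J₁ ∧
      sᵀ * J₁ᵀ * s.map σ = μ • J₁ᵀ := by
    intro s hs
    obtain ⟨μ, -, hμ0, hμ⟩ := hWmult s hs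
    have h1 : sᵀ * J₁ * s.map σ = μ • J₁ := by
      rw [hJ₁, Matrix.mul_smul, Matrix.smul_mul, hμ, smul_comm]
    refine ⟨μ, hμ0, h1, ?_⟩
    rw [hWfix s hs] at h1 ⊢
    have h2 := congrArg Matrix.transpose h1
    rw [Matrix.transpose_mul, Matrix.transpose_mul, Matrix.transpose_transpose,
      Matrix.transpose_smul] at h2
    rw [Matrix.mul_assoc]
    exact h2
  obtain ⟨ε, hε⟩ := gram_unique σ W hWabs.2 J₁ J₁ᵀ hJ₁unit hJ₁mult
  have hn0 : 0 < n := by omega
  have hε2 : ε * ε = 1 := by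
    have h1 : J₁ = (ε * ε) • J₁ := by
      calc J₁ = (J₁ᵀ)ᵀ := (Matrix.transpose_transpose _).symm
        _ = (ε • J₁)ᵀ := by rw [hε]
        _ = ε • J₁ᵀ := Matrix.transpose_smul _ _
        _ = (ε * ε) • J₁ := by rw [hε, smul_smul]
    obtain ⟨i, j, hij⟩ := exists_entry_ne_zero_of_isUnit hn0 J₁ hJ₁unit
    have h2 := congrFun (congrFun h1 i) j
    rw [Matrix.smul_apply, smul_eq_mul] at h2
    have h3 : (ε * ε - 1) * J₁ i j = 0 := by linear_combination -h2
    rcases mul_eq_zero.1 h3 with h | h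
    · linear_combination h
    · exact absurd h hij
  have hε' : ε = 1 ∨ ε = -1 := by
    have : (ε - 1) * (ε + 1) = 0 := by linear_combination hε2
    rcases mul_eq_zero.1 this with h | h
    · exact Or.inl (sub_eq_zero.1 h)
    · exact Or.inr (eq_neg_of_add_eq_zero_left h)
  have hσβ : σ β = ε * β := by
    have h1 : J₁.map σ = J₁ := map_eq_self_of_fixed σ J₁ (fun i j => (hfix _).1 (hJ₁rat i j))
    have h2 : (J₁.map σ)ᵀ = σ β • J' := by
      rw [hJ₁, map_smul_eq σ β J', Matrix.transpose_smul, hJ'herm]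
    rw [h1, hε, hJ₁, smul_smul] at h2
    obtain ⟨i, j, hij⟩ := exists_entry_ne_zero_of_isUnit hn0 J' hJ'unit
    have h3 := congrFun (congrFun h2 i) j
    rw [Matrix.smul_apply, Matrix.smul_apply, smul_eq_mul, smul_eq_mul] at h3
    exact (mul_right_cancel₀ hij h3).symm
  by_cases hA : ε = 1 ∧ (2 : F) ≠ 0
  · -- symmetric type
    obtain ⟨hε1, h2⟩ := hA
    have hq : Odd q := odd_q_of_two_ne_zero hσ h2
    obtain ⟨δ, hδ⟩ := Cfsg.Agent.Lib.Helper5.exists_norm_eq hσ.card (d := β)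
      (by rw [← hσ.frob, hσβ, hε1, one_mul])
    have hδ0 : δ ≠ 0 := by
      rintro rfl
      rw [zero_mul] at hδ
      exact hβ0 hδ.symm
    set P : GL (Fin n) F := scaledInv (Units.mk0 δ hδ0) B with hP
    refine ugeo_of_formRational_two_symm H hH F₁ hq hcard P ?_ ?_
    · intro h hh
      rw [hP, scaledInv_conj]
      exact smul_mem_with H S hS hnrm F₁ B hB h hh
    · intro u v hu hv
      rw [one_mul, hermForm_eq_formOf' hσ, formOf_mulVec, hP, scaledInv_gram, Units.val_mk0,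
        hσ.frob δ, hδ]
      exact formOf_mem σ F₁ hσF₁ _ hJ₁rat u v hu hv
  · -- alternating type
    have halt₁ : ∀ u : Fin n → F, u ⬝ᵥ (J₁ *ᵥ u) = 0 := by
      by_cases h2 : (2 : F) = 0
      · have hε1 : ε = 1 := by
          rcases hε' with h | h
          · exact h
          · rw [h]; linear_combination -h2
        have hsymm : J₁ᵀ = J₁ := by rw [hε, hε1, one_smul]
        have hdiag := diag_eq_zero_of_char_two h2 (by rw [Fintype.card_fin]; exact hn) W hWabs.1 J₁ hsymm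
          (fun s hs => by
            obtain ⟨μ, _, h1, _⟩ := hJ₁mult s hs
            rw [hWfix s hs] at h1
            exact ⟨μ, h1⟩)
        exact alt_of_symm_diag J₁ h2 hsymm hdiag
      · have hεm : ε = -1 := by
          rcases hε' with h | h
          · exact absurd ⟨h, h2⟩ hA
          · exact h
        exact alt_of_skew J₁ h2 (by rw [hε, hεm, neg_one_smul])
    have heven : Even n := by
      have h := Cfsg.Agent.Lib.Helper36.even_rank_of_alt_matrix J₁ halt₁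
      rwa [Matrix.rank_of_isUnit J₁ hJ₁unit, Fintype.card_fin] at h
    have hζq : β + β ^ q = 0 := by
      rw [← hσ.frob, hσβ]
      rcases hε' with h | h
      · have h2 : (2 : F) = 0 := by
          by_contra h2
          exact hA ⟨h, h2⟩
        rw [h, one_mul]
        linear_combination β * h2
      · rw [h]; ring
    refine ugeo_of_formRational_two_alt H hH F₁ heven hcard B⁻¹ β hβ0 hζq ?_ ?_ ?_
    · intro h hh
      rw [inv_inv]
      exact smul_mem_with H S hS hnrm F₁ B hB h hh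
    · intro u v hu hv
      rw [hermForm_eq_formOf' hσ, formOf_mulVec, Matrix.mul_one, ← formOf_smul]
      exact formOf_mem σ F₁ hσF₁ _ hJ₁rat u v hu hv
    · intro u hu
      rw [hermForm_eq_formOf' hσ, formOf_mulVec, Matrix.mul_one]
      unfold formOf
      have hu' : (fun j => σ (u j)) = u := funext fun j => (hfix _).1 (hu j)
      rw [hu']
      have h := halt₁ u
      rw [hJ₁, Matrix.smul_mulVec, dotProduct_smul, smul_eq_mul] at h
      exact (mul_eq_zero.1 h).resolve_left hβ0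

end Cfsg.Agent.Lib.Helper49.AschUC5

namespace Cfsg.Agent.Lib.Helper70.AschU

open Cfsg Cfsg.Geo Cfsg.Agent.Lib.Helper99.Asch Cfsg.Agent.Lib.Helper37.Asch
open scoped MatrixGroups Matrix Kronecker

variable {n : ℕ} {F : Type*} [Field F] [Fintype F] {q : ℕ} {σ : F ≃+* F}

/-- ASCHU-[C5-TWO] -/
theorem ugeo_of_realisable_two (hσ : UCtx σ q) (hn : 2 ≤ n) (H S : Subgroup (GL (Fin n) F)) (hH : H ≤ GU n F q)
    (hS : ActsAbsolutelyIrreducibly (matrixSet S)) (hnrm : Nrm H S) (F₁ : Subfield F)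
    (hcard : Fintype.card F = Nat.card F₁ ^ 2) (hreal : RealisableOver F₁ (matrixSet S))
    (hmult : ∀ x ∈ S, ∃ c ∈ F₁, c ≠ 0 ∧ HasMult q x c) : UGeo q H :=
  Cfsg.Agent.Lib.Helper49.AschUC5.ugeo_of_realisable_two' hσ hn H S hH hS hnrm F₁ hcard hreal hmult

end Cfsg.Agent.Lib.Helper70.AschU
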