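/-
helper49 library (project ASCHU of helper70/helper20, module [C5], hedge for helper70): `ugeo_of_realisable` (exact sheet statement)
from [C5-ODD], [C5-TWO] and helper84's `exists_prime_degree_subfield`.
-/
import Mathlib
import Cfsg.Prelude.Def_GeometricClasses
import Cfsg.Agent.Lib.Helper99.AschDefs
import Cfsg.Agent.Lib.Helper70.AschU.Defs
import Cfsg.Agent.Lib.Helper37.Asch.FormKit2
import Cfsg.Agent.Lib.Helper84.AschC5
import Cfsg.Agent.Lib.Helper49.AschUC5Odd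
import Cfsg.Agent.Lib.Helper49.AschUC5Two

set_option autoImplicit false
set_option linter.unusedSectionVars false

namespace Cfsg.Agent.Lib.Helper70.AschU

open Cfsg Cfsg.Geo Cfsg.Agent.Lib.Helper99.Asch Cfsg.Agent.Lib.Helper37.Asch
open scoped MatrixGroups Matrix Kronecker

variable {n : ℕ} {F : Type*} [Field F] [Fintype F] {q : ℕ} {σ : F ≃+* F}

/-- ASCHU-[C5] -/
theorem ugeo_of_realisable (hσ : UCtx σ q) (hn : 2 ≤ n) (H S : Subgroup (GL (Fin n) F)) (hH : H ≤ GU n F q)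
    (hS : ActsAbsolutelyIrreducibly (matrixSet S)) (hnrm : Nrm H S) (F₀ : Subfield F) (hF₀ : F₀ ≠ ⊤)
    (hreal : RealisableOver F₀ (matrixSet S))
    (hmult : ∀ x ∈ S, ∃ c ∈ F₀, c ≠ 0 ∧ HasMult q x c) : UGeo q H := by
  obtain ⟨F₁, r, hr, hle, hcard⟩ := Cfsg.Agent.Lib.Helper84.AschC5.exists_prime_degree_subfield F₀ hF₀
  have hreal₁ : RealisableOver F₁ (matrixSet S) := by
    obtain ⟨B, hB⟩ := hreal
    exact ⟨B, fun s hs i j => hle (hB s hs i j)⟩
  have hmult₁ : ∀ x ∈ S, ∃ c ∈ F₁, c ≠ 0 ∧ HasMult q x c := by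
    intro x hx
    obtain ⟨c, hc, hc0, h⟩ := hmult x hx
    exact ⟨c, hle hc, hc0, h⟩
  rcases hr.eq_two_or_odd' with rfl | hodd
  · exact ugeo_of_realisable_two hσ hn H S hH hS hnrm F₁ hcard hreal₁ hmult₁
  · exact ugeo_of_realisable_odd hσ (by omega) H S hH hS hnrm F₁ r hr hodd hcard hreal₁ hmult₁

end Cfsg.Agent.Lib.Helper70.AschU
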