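/-
helper49 library (project ASCH / BHR rows, modules [ROW3] = S5775 and [ROW4] = S5781):
the two rows derived from the generic case list `maximal_cases` ([MAXCASES]) and the small-field modules, all taken as hypotheses.
-/
import Mathlib
import Cfsg.Prelude.Def_GeometricClasses
import Cfsg.Agent.Lib.Helper99.AschDefs

set_option autoImplicit false
set_option linter.unusedSectionVars false
set_option linter.unusedVariables false

namespace Cfsg.Agent.Lib.Helper49.BhrRows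

open Cfsg Cfsg.Geo
open scoped MatrixGroups Matrix Kronecker

variable {n : ℕ} {F : Type*} [Field F] [Fintype F]

/-- the conclusion of BHR-[MAXCASES] `maximal_cases` -/
def MaxCases (n : ℕ) (F : Type*) [Field F] [Fintype F] (H : Subgroup (GL (Fin n) F)) : Prop :=
    (∃ W : Submodule F (Fin n → F), W ≠ ⊥ ∧ W ≠ ⊤ ∧
      H = subspaceStabilizer W ⊓ specialLinear (Fin n) F) ∨
    (∃ (t m : ℕ) (D : Fin t → Submodule F (Fin n → F)), IsMDecomposition m D ∧ t * m = n ∧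
      (m = 1 → 5 ≤ Fintype.card F) ∧ (m = 2 → 3 ≤ Fintype.card F) ∧
      H = decompositionStabilizer D ⊓ specialLinear (Fin n) F) ∨
    (∃ (r : ℕ) (K : Subalgebra F (Matrix (Fin n) (Fin n) F)), r.Prime ∧ r ∣ n ∧ IsFieldSubalgebra r K ∧
      H = subalgebraNormalizer K ⊓ specialLinear (Fin n) F) ∨
    (∃ (n₁ n₂ : ℕ) (e : Fin n ≃ Fin n₁ × Fin n₂) (P : GL (Fin n) F), 2 ≤ n₁ ∧ n₁ < n₂ ∧ n₁ * n₂ = n ∧
      (n₁ = 2 → 3 ≤ Fintype.card F) ∧
      H = tensorProductSubgroup n₁ n₂ e P ⊓ specialLinear (Fin n) F) ∨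
    (∃ (F₀ : Subfield F) (r : ℕ) (P : GL (Fin n) F), r.Prime ∧ Fintype.card F = Nat.card F₀ ^ r ∧
      H = subfieldSubgroup F₀ P ⊓ specialLinear (Fin n) F) ∨
    (∃ (r : ℕ) (R : Subgroup (GL (Fin n) F)) (m : ℕ), IsLinearSymplecticTypeData r R ∧ 1 ≤ m ∧ n = r ^ m ∧
      H = subgroupNormalizer R ⊓ specialLinear (Fin n) F) ∨
    (∃ (m t : ℕ) (e : Fin n ≃ (Fin t → Fin m)) (P : GL (Fin n) F), 3 ≤ m ∧ 2 ≤ t ∧ m ^ t = n ∧
      H = tensorWreathSubgroup m t e P ⊓ specialLinear (Fin n) F) ∨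
    (∃ f : (Fin n → F) → (Fin n → F) → F, IsSymplecticForm f ∧ Even n ∧
      H = similarityGroup f ⊓ specialLinear (Fin n) F) ∨
    (∃ (σ : F ≃+* F) (f : (Fin n → F) → (Fin n → F) → F), IsUnitaryForm σ f ∧
      H = similarityGroup f ⊓ specialLinear (Fin n) F) ∨
    (∃ Q : (Fin n → F) → F, IsNondegenerateQuadraticForm Q ∧ Odd (Fintype.card F) ∧
      H = quadSimilarityGroup Q ⊓ specialLinear (Fin n) F) ∨
    InLinearResidualClass H

/-- a maximal subgroup of `K` contained in `M`, where `M` does not contain `K`, is `M ⊓ K` -/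
theorem eq_inf_of_isMaximalIn {G : Type*} [Group G] {K H M : Subgroup G} (hH : IsMaximalIn K H)
    (hle : H ≤ M) (hM : ¬ K ≤ M) : H = M ⊓ K := by
  rcases hH.2 (M ⊓ K) (le_inf hle hH.1.le) inf_le_right with h | h
  · exact h.symm
  · exact absurd (h ▸ inf_le_left : K ≤ M) hM

/-- a subfield with `|F| = |F₀| ^ r`, `r` prime, is proper -/
theorem subfield_ne_top_of_card (F₀ : Subfield F) (r : ℕ) (hr : r.Prime)
    (hcard : Fintype.card F = Nat.card F₀ ^ r) : F₀ ≠ ⊤ := by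
  rintro rfl
  have h1 : Nat.card (⊤ : Subfield F) = Fintype.card F := by
    rw [← Nat.card_eq_fintype_card]
    exact Nat.card_congr Subfield.topEquiv.toEquiv
  rw [h1] at hcard
  have h2 : 1 < Fintype.card F := Fintype.one_lt_card
  have h3 : Fintype.card F ^ 1 < Fintype.card F ^ r := Nat.pow_lt_pow_right h2 hr.one_lt
  rw [pow_one] at h3
  omega

/-- no field has 6 elements -/
theorem card_ne_six : Fintype.card F ≠ 6 := by
  intro h
  obtain ⟨p, e, hp, he, hpe⟩ := FiniteField.isPrimePow_card F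
  rw [h] at hpe
  have hp' : p.Prime := Nat.prime_iff.2 hp
  have hdvd : p ∣ 6 := by rw [← hpe]; exact dvd_pow_self p he.ne'
  have hle : p ≤ 6 := Nat.le_of_dvd (by norm_num) hdvd
  have hlt : e < 3 := by
    by_contra hcon
    have h3 : 3 ≤ e := by omega
    have : p ^ 3 ≤ p ^ e := Nat.pow_le_pow_right hp'.pos h3
    have : 2 ^ 3 ≤ p ^ 3 := Nat.pow_le_pow_left hp'.two_le 3
    omega
  interval_cases p <;> interval_cases e <;> first | omega | (norm_num at hp')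

/-- class-6 data in dimension 3 with `r = 3`: the field is prime of order `≡ 1 mod 3` -/
theorem prime_field_of_symp_three (R : Subgroup (GL (Fin 3) F)) (hR : IsLinearSymplecticTypeData 3 R) :
    ∃ p : ℕ, p.Prime ∧ Fintype.card F = p ∧ p % 3 = 1 := by
  obtain ⟨p, e, h3p, hmin, hcase⟩ := hR.field
  rcases hcase with ⟨-, hodd, hZ, -⟩ | ⟨h, -⟩ | ⟨h, -⟩
  · rw [hZ] at hmin
    obtain ⟨hp, -, hcard, hdvd, hminimal⟩ := hmin
    have hp3 : p % 3 = 1 ∨ p % 3 = 2 := by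
      have : ¬ 3 ∣ p := fun h => h3p ((Nat.prime_dvd_prime_iff_eq Nat.prime_three hp).1 h)
      omega
    have hsq : 3 ∣ p ^ 2 - 1 := by
      have h1 : p ^ 2 % 3 = 1 := by
        rw [pow_two, Nat.mul_mod]
        rcases hp3 with h | h <;> rw [h]
      have h2 : 1 ≤ p ^ 2 := Nat.one_le_pow _ _ hp.pos
      omega
    have he1 : e = 1 := by
      by_contra hne
      have he3 : 2 < e := by
        rcases hodd with ⟨k, rfl⟩
        omega
      exact hminimal 2 (by norm_num) he3 hsq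
    subst he1
    rw [pow_one] at hcard hdvd
    refine ⟨p, hp, hcard, ?_⟩
    have := hp.two_le
    omega
  · omega
  · omega

/-- class-6 data in dimension 4 with `r = 2`: the field is prime of order `≡ 1 mod 4` -/
theorem prime_field_of_symp_four (R : Subgroup (GL (Fin 4) F)) (hR : IsLinearSymplecticTypeData 2 R) :
    ∃ p : ℕ, p.Prime ∧ Fintype.card F = p ∧ p % 4 = 1 := by
  obtain ⟨p, e, h2p, hmin, hcase⟩ := hR.field
  rcases hcase with ⟨hodd, -⟩ | ⟨-, he1, hZ, -⟩ | ⟨-, -, hcard, -⟩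
  · exact absurd hodd (by decide)
  · subst he1
    rw [hZ] at hmin
    obtain ⟨hp, -, hcard, hdvd, -⟩ := hmin
    rw [pow_one] at hcard hdvd
    refine ⟨p, hp, hcard, ?_⟩
    have := hp.two_le
    omega
  · simp at hcard

/-- BHR-[ROW3]: S5775 from `maximal_cases`, [E7] and [P5] -/
theorem row3_of (H : Subgroup (GL (Fin 3) F)) (hH : IsMaximalIn (specialLinear (Fin 3) F) H)
    (hmax : MaxCases 3 F H)
    (hE7 : ∀ K : Subalgebra F (Matrix (Fin 3) (Fin 3) F), IsFieldSubalgebra 3 K → Fintype.card F = 4 →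
      ∃ (F₀ : Subfield F) (r : ℕ) (P : GL (Fin 3) F), r.Prime ∧ Fintype.card F = Nat.card F₀ ^ r ∧
        subalgebraNormalizer K ⊓ specialLinear (Fin 3) F ≤ subfieldSubgroup F₀ P)
    (hP5 : ∀ F₀ : Subfield F, F₀ ≠ ⊤ → ∀ P : GL (Fin 3) F,
      ¬ specialLinear (Fin 3) F ≤ subfieldSubgroup F₀ P) :
    (∃ W : Submodule F (Fin 3 → F), W ≠ ⊥ ∧ W ≠ ⊤ ∧ H = Cfsg.Geo.subspaceStabilizer W ⊓ Cfsg.Geo.specialLinear (Fin 3) F) ∨
    (5 ≤ Fintype.card F ∧ ∃ D : Fin 3 → Submodule F (Fin 3 → F), Cfsg.Geo.IsMDecomposition 1 D ∧ H = Cfsg.Geo.decompositionStabilizer D ⊓ Cfsg.Geo.specialLinear (Fin 3) F) ∨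
    (Fintype.card F ≠ 4 ∧ ∃ K : Subalgebra F (Matrix (Fin 3) (Fin 3) F), Cfsg.Geo.IsFieldSubalgebra 3 K ∧ H = Cfsg.Geo.subalgebraNormalizer K ⊓ Cfsg.Geo.specialLinear (Fin 3) F) ∨
    (∃ (F₀ : Subfield F) (r : ℕ) (P : Matrix.GeneralLinearGroup (Fin 3) F), r.Prime ∧ Fintype.card F = Nat.card F₀ ^ r ∧ H = Cfsg.Geo.subfieldSubgroup F₀ P ⊓ Cfsg.Geo.specialLinear (Fin 3) F) ∨
    (∃ (p : ℕ) (R : Subgroup (Matrix.GeneralLinearGroup (Fin 3) F)), p.Prime ∧ Fintype.card F = p ∧ p % 3 = 1 ∧ Cfsg.Geo.IsLinearSymplecticTypeData 3 R ∧ H = Cfsg.Geo.subgroupNormalizer R ⊓ Cfsg.Geo.specialLinear (Fin 3) F) ∨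
    (Odd (Fintype.card F) ∧ ∃ Q : (Fin 3 → F) → F, Cfsg.Geo.IsNondegenerateQuadraticForm Q ∧ H = Cfsg.Geo.quadSimilarityGroup Q ⊓ Cfsg.Geo.specialLinear (Fin 3) F) ∨
    (∃ (σ : F ≃+* F) (f : (Fin 3 → F) → (Fin 3 → F) → F), Cfsg.Geo.IsUnitaryForm σ f ∧ H = Cfsg.Geo.similarityGroup f ⊓ Cfsg.Geo.specialLinear (Fin 3) F) ∨
    Cfsg.Geo.InLinearResidualClass H := by
  rcases hmax with ⟨W, h1, h2, h3⟩ | ⟨t, m, D, hD, htm, hm1, hm2, hHD⟩ | ⟨r, K, hr, hr3, hK, hHK⟩ |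
    ⟨n₁, n₂, e, P, h1, h2, h3, -⟩ | ⟨F₀, r, P, hr, hcard, hHF⟩ | ⟨r, R, m, hR, hm, hrm, hHR⟩ |
    ⟨m, t, e, P, hm, ht, hmt, -⟩ | ⟨f, hf, hev, -⟩ | ⟨σ, f, hf, hHf⟩ | ⟨Q, hQ, hodd, hHQ⟩ | hres
  · exact Or.inl ⟨W, h1, h2, h3⟩
  · -- decomposition: t * m = 3, 2 ≤ t
    have ht2 := hD.two_le
    have hm0 := hD.pos
    have ht3 : t = 3 := by
      have : t ≤ 3 := by nlinarith
      interval_cases t <;> omega
    subst ht3
    have hm1' : m = 1 := by omega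
    subst hm1'
    exact Or.inr (Or.inl ⟨hm1 rfl, D, hD, hHD⟩)
  · -- field extension subalgebra: r = 3
    have hr3' : r = 3 := (Nat.prime_dvd_prime_iff_eq hr Nat.prime_three).1 hr3
    subst hr3'
    by_cases hq : Fintype.card F = 4
    · obtain ⟨F₀, r, P, hr', hcard, hle⟩ := hE7 K hK hq
      have hne : F₀ ≠ ⊤ := subfield_ne_top_of_card F₀ r hr' hcard
      have hHle : H ≤ subfieldSubgroup F₀ P := hHK ▸ hle
      exact Or.inr (Or.inr (Or.inr (Or.inl ⟨F₀, r, P, hr', hcard,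
        eq_inf_of_isMaximalIn hH hHle (hP5 F₀ hne P)⟩)))
    · exact Or.inr (Or.inr (Or.inl ⟨hq, K, hK, hHK⟩))
  · exfalso; nlinarith
  · exact Or.inr (Or.inr (Or.inr (Or.inl ⟨F₀, r, P, hr, hcard, hHF⟩)))
  · -- symplectic type: 3 = r ^ m
    have hr3 : r = 3 := by
      have hdvd : r ∣ 3 := by rw [hrm]; exact dvd_pow_self r (by omega)
      rcases (Nat.dvd_prime Nat.prime_three).1 hdvd with h | h
      · subst h; simp at hrm
      · exact h
    subst hr3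
    obtain ⟨p, hp, hcard, hp3⟩ := prime_field_of_symp_three R hR
    exact Or.inr (Or.inr (Or.inr (Or.inr (Or.inl ⟨p, R, hp, hcard, hp3, hR, hHR⟩))))
  · exfalso
    have h1 : 3 ^ 2 ≤ m ^ 2 := Nat.pow_le_pow_left hm 2
    have h2 : m ^ 2 ≤ m ^ t := Nat.pow_le_pow_right (by omega) ht
    omega
  · exact absurd hev (by decide)
  · exact Or.inr (Or.inr (Or.inr (Or.inr (Or.inr (Or.inr (Or.inl ⟨σ, f, hf, hHf⟩))))))
  · exact Or.inr (Or.inr (Or.inr (Or.inr (Or.inr (Or.inl ⟨hodd, Q, hQ, hHQ⟩)))))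
  · exact Or.inr (Or.inr (Or.inr (Or.inr (Or.inr (Or.inr (Or.inr hres))))))

/-- BHR-[ROW4]: S5781 from `maximal_cases`, [E4], [E6], [P6] and [P8] (symplectic) -/
theorem row4_of (H : Subgroup (GL (Fin 4) F)) (hH : IsMaximalIn (specialLinear (Fin 4) F) H)
    (hmax : MaxCases 4 F H)
    (hE4 : ∀ D : Fin 4 → Submodule F (Fin 4 → F), IsMDecomposition 1 D → Fintype.card F = 5 →
      ∃ R : Subgroup (GL (Fin 4) F), IsLinearSymplecticTypeData 2 R ∧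
        decompositionStabilizer D ⊓ specialLinear (Fin 4) F ≤ subgroupNormalizer R)
    (hE6 : ∀ D : Fin 2 → Submodule F (Fin 4 → F), IsMDecomposition 2 D → Fintype.card F = 3 →
      ∃ f : (Fin 4 → F) → (Fin 4 → F) → F, IsSymplecticForm f ∧
        decompositionStabilizer D ⊓ specialLinear (Fin 4) F ≤ similarityGroup f)
    (hP6 : ∀ (r : ℕ) (R : Subgroup (GL (Fin 4) F)), IsLinearSymplecticTypeData r R →
      ¬ specialLinear (Fin 4) F ≤ subgroupNormalizer R)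
    (hP8 : ∀ f : (Fin 4 → F) → (Fin 4 → F) → F, IsSymplecticForm f →
      ¬ specialLinear (Fin 4) F ≤ similarityGroup f) :
    (∃ W : Submodule F (Fin 4 → F), W ≠ ⊥ ∧ W ≠ ⊤ ∧ H = Cfsg.Geo.subspaceStabilizer W ⊓ Cfsg.Geo.specialLinear (Fin 4) F) ∨
    (7 ≤ Fintype.card F ∧ ∃ D : Fin 4 → Submodule F (Fin 4 → F), Cfsg.Geo.IsMDecomposition 1 D ∧ H = Cfsg.Geo.decompositionStabilizer D ⊓ Cfsg.Geo.specialLinear (Fin 4) F) ∨
    (4 ≤ Fintype.card F ∧ ∃ D : Fin 2 → Submodule F (Fin 4 → F), Cfsg.Geo.IsMDecomposition 2 D ∧ H = Cfsg.Geo.decompositionStabilizer D ⊓ Cfsg.Geo.specialLinear (Fin 4) F) ∨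
    (∃ K : Subalgebra F (Matrix (Fin 4) (Fin 4) F), Cfsg.Geo.IsFieldSubalgebra 2 K ∧ H = Cfsg.Geo.subalgebraNormalizer K ⊓ Cfsg.Geo.specialLinear (Fin 4) F) ∨
    (∃ (F₀ : Subfield F) (r : ℕ) (P : Matrix.GeneralLinearGroup (Fin 4) F), r.Prime ∧ Fintype.card F = Nat.card F₀ ^ r ∧ H = Cfsg.Geo.subfieldSubgroup F₀ P ⊓ Cfsg.Geo.specialLinear (Fin 4) F) ∨
    (∃ (p : ℕ) (R : Subgroup (Matrix.GeneralLinearGroup (Fin 4) F)), p.Prime ∧ Fintype.card F = p ∧ p % 4 = 1 ∧ Cfsg.Geo.IsLinearSymplecticTypeData 2 R ∧ H = Cfsg.Geo.subgroupNormalizer R ⊓ Cfsg.Geo.specialLinear (Fin 4) F) ∨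
    (Odd (Fintype.card F) ∧ ∃ Q : (Fin 4 → F) → F, Cfsg.Geo.IsNondegenerateQuadraticForm Q ∧ H = Cfsg.Geo.quadSimilarityGroup Q ⊓ Cfsg.Geo.specialLinear (Fin 4) F) ∨
    (∃ f : (Fin 4 → F) → (Fin 4 → F) → F, Cfsg.Geo.IsSymplecticForm f ∧ H = Cfsg.Geo.similarityGroup f ⊓ Cfsg.Geo.specialLinear (Fin 4) F) ∨
    (∃ (σ : F ≃+* F) (f : (Fin 4 → F) → (Fin 4 → F) → F), Cfsg.Geo.IsUnitaryForm σ f ∧ H = Cfsg.Geo.similarityGroup f ⊓ Cfsg.Geo.specialLinear (Fin 4) F) ∨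
    Cfsg.Geo.InLinearResidualClass H := by
  rcases hmax with ⟨W, h1, h2, h3⟩ | ⟨t, m, D, hD, htm, hm1, hm2, hHD⟩ | ⟨r, K, hr, hr4, hK, hHK⟩ |
    ⟨n₁, n₂, e, P, h1, h2, h3, -⟩ | ⟨F₀, r, P, hr, hcard, hHF⟩ | ⟨r, R, m, hR, hm, hrm, hHR⟩ |
    ⟨m, t, e, P, hm, ht, hmt, -⟩ | ⟨f, hf, hev, hHf⟩ | ⟨σ, f, hf, hHf⟩ | ⟨Q, hQ, hodd, hHQ⟩ | hres
  · exact Or.inl ⟨W, h1, h2, h3⟩
  · -- decomposition: t * m = 4, 2 ≤ t
    have ht2 := hD.two_le
    have hm0 := hD.pos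
    have ht4 : t = 4 ∧ m = 1 ∨ t = 2 ∧ m = 2 := by
      have : t ≤ 4 := by nlinarith
      interval_cases t <;> omega
    rcases ht4 with ⟨rfl, rfl⟩ | ⟨rfl, rfl⟩
    · have h5 := hm1 rfl
      by_cases h7 : 7 ≤ Fintype.card F
      · exact Or.inr (Or.inl ⟨h7, D, hD, hHD⟩)
      · have hq5 : Fintype.card F = 5 := by
          have := card_ne_six (F := F)
          omega
        obtain ⟨R, hR, hle⟩ := hE4 D hD hq5
        have hHle : H ≤ subgroupNormalizer R := hHD ▸ hle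
        obtain ⟨p, hp, hcard, hp4⟩ := prime_field_of_symp_four R hR
        exact Or.inr (Or.inr (Or.inr (Or.inr (Or.inr (Or.inl ⟨p, R, hp, hcard, hp4, hR,
          eq_inf_of_isMaximalIn hH hHle (hP6 2 R hR)⟩)))))
    · have h3 := hm2 rfl
      by_cases h4 : 4 ≤ Fintype.card F
      · exact Or.inr (Or.inr (Or.inl ⟨h4, D, hD, hHD⟩))
      · have hq3 : Fintype.card F = 3 := by omega
        obtain ⟨f, hf, hle⟩ := hE6 D hD hq3
        have hHle : H ≤ similarityGroup f := hHD ▸ hle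
        exact Or.inr (Or.inr (Or.inr (Or.inr (Or.inr (Or.inr (Or.inr (Or.inl ⟨f, hf,
          eq_inf_of_isMaximalIn hH hHle (hP8 f hf)⟩)))))))
  · -- field extension subalgebra: r ∣ 4, r prime, so r = 2
    have hr2 : r = 2 := by
      have h22 : r ∣ 2 ^ 2 := by norm_num; exact hr4
      exact (Nat.prime_dvd_prime_iff_eq hr Nat.prime_two).1 (hr.dvd_of_dvd_pow h22)
    subst hr2
    exact Or.inr (Or.inr (Or.inr (Or.inl ⟨K, hK, hHK⟩)))
  · exfalso; nlinarith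
  · exact Or.inr (Or.inr (Or.inr (Or.inr (Or.inl ⟨F₀, r, P, hr, hcard, hHF⟩))))
  · -- symplectic type: 4 = r ^ m
    have hr2 : r = 2 := by
      obtain ⟨p, e, -, -, hcase⟩ := hR.field
      rcases hcase with ⟨hodd, -⟩ | ⟨h, -⟩ | ⟨h, -⟩
      · exfalso
        have : Odd (r ^ m) := hodd.pow
        rw [← hrm] at this
        exact absurd this (by decide)
      · exact h
      · exact h
    subst hr2
    obtain ⟨p, hp, hcard, hp4⟩ := prime_field_of_symp_four R hR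
    exact Or.inr (Or.inr (Or.inr (Or.inr (Or.inr (Or.inl ⟨p, R, hp, hcard, hp4, hR, hHR⟩)))))
  · exfalso
    have h1 : 3 ^ 2 ≤ m ^ 2 := Nat.pow_le_pow_left hm 2
    have h2 : m ^ 2 ≤ m ^ t := Nat.pow_le_pow_right (by omega) ht
    omega
  · exact Or.inr (Or.inr (Or.inr (Or.inr (Or.inr (Or.inr (Or.inr (Or.inl ⟨f, hf, hHf⟩)))))))
  · exact Or.inr (Or.inr (Or.inr (Or.inr (Or.inr (Or.inr (Or.inr (Or.inr (Or.inl ⟨σ, f, hf, hHf⟩))))))))
  · exact Or.inr (Or.inr (Or.inr (Or.inr (Or.inr (Or.inr (Or.inl ⟨hodd, Q, hQ, hHQ⟩))))))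
  · exact Or.inr (Or.inr (Or.inr (Or.inr (Or.inr (Or.inr (Or.inr (Or.inr (Or.inr hres))))))))

end Cfsg.Agent.Lib.Helper49.BhrRows
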