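import Mathlib
import Cfsg.Prelude.Def_GeometricClasses

/-!
# No large elementary abelian 2-subgroups in a group of isometries of an alternating form whose non-central elements have trace zero
(helper49; written for BHRSP-[E-SP8-TW3] / [3B-R0-MINUS], general statement)

Three commuting isometric involutions `x₁ x₂ x₃` of a non-degenerate alternating form `J` on `F^ι` (`2 ≠ 0`), all of whose seven
non-trivial products have trace `0`, force `16 ≤ card ι`: the eight idempotents `⅛ (1 ± x₁)(1 ± x₂)(1 ± x₃)` are pairwise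
orthogonal, sum to `1`, have trace `card ι / 8 ≠ 0`, hence are non-zero, and the image of each is `J`-non-degenerate, hence of
dimension `≥ 2`.
-/

set_option autoImplicit false
set_option linter.unusedSectionVars false

namespace Cfsg.Agent.Lib.Helper49.MinusType

open scoped Matrix

variable {ι : Type*} [Fintype ι] [DecidableEq ι] {F : Type*} [Field F]

/-- rank is additive on orthogonal idempotents -/
theorem rank_add_of_orthogonal {p q : Matrix ι ι F} (hp : p * p = p) (hq : q * q = q) (hpq : p * q = 0)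
    (hqp : q * p = 0) : (p + q).rank = p.rank + q.rank := by
  unfold Matrix.rank
  have hsup : LinearMap.range (p + q).mulVecLin = LinearMap.range p.mulVecLin ⊔ LinearMap.range q.mulVecLin := by
    apply le_antisymm
    · rintro _ ⟨v, rfl⟩
      rw [Matrix.mulVecLin_apply, Matrix.add_mulVec]
      exact Submodule.add_mem_sup ⟨v, rfl⟩ ⟨v, rfl⟩
    · rw [sup_le_iff]
      constructor
      · rintro _ ⟨v, rfl⟩
        refine ⟨p *ᵥ v, ?_⟩
        rw [Matrix.mulVecLin_apply, Matrix.mulVecLin_apply, Matrix.mulVec_mulVec, Matrix.add_mul, hp, hqp, add_zero]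
      · rintro _ ⟨v, rfl⟩
        refine ⟨q *ᵥ v, ?_⟩
        rw [Matrix.mulVecLin_apply, Matrix.mulVecLin_apply, Matrix.mulVec_mulVec, Matrix.add_mul, hq, hpq, zero_add]
  have hinf : LinearMap.range p.mulVecLin ⊓ LinearMap.range q.mulVecLin = ⊥ := by
    rw [eq_bot_iff]
    rintro w ⟨⟨a, ha⟩, ⟨b, hb⟩⟩
    rw [Matrix.mulVecLin_apply] at ha hb
    have h1 : p *ᵥ w = w := by rw [← ha, Matrix.mulVec_mulVec, hp]
    have h2 : p *ᵥ w = 0 := by rw [← hb, Matrix.mulVec_mulVec, hpq, Matrix.zero_mulVec]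
    rw [Submodule.mem_bot, ← h1, h2]
  have key := Submodule.finrank_sup_add_finrank_inf_eq (LinearMap.range p.mulVecLin) (LinearMap.range q.mulVecLin)
  rw [hinf, finrank_bot, add_zero] at key
  rw [hsup, key]

/-- the idempotent `(1 + a x) / 2` -/
noncomputable def half (a : F) (x : Matrix ι ι F) : Matrix ι ι F := (2 : F)⁻¹ • (1 + a • x)

theorem half_mul_half (h2 : (2 : F) ≠ 0) {a : F} (ha : a * a = 1) {x : Matrix ι ι F} (hx : x * x = 1) :
    half a x * half a x = half a x := by
  unfold half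
  rw [Matrix.smul_mul, Matrix.mul_smul, smul_smul]
  have : (1 + a • x) * (1 + a • x) = (2 : F) • (1 + a • x) := by
    rw [Matrix.add_mul, Matrix.mul_add, Matrix.mul_add, Matrix.one_mul, Matrix.mul_one, Matrix.one_mul,
      Matrix.smul_mul, Matrix.mul_smul, smul_smul, hx, ha, one_smul, two_smul]
    abel
  rw [this, smul_smul]
  congr 1
  field_simp

theorem half_add_half (h2 : (2 : F) ≠ 0) (x : Matrix ι ι F) : half 1 x + half (-1) x = 1 := by
  unfold half
  rw [← smul_add]
  have : (1 + (1 : F) • x) + (1 + (-1 : F) • x) = (2 : F) • (1 : Matrix ι ι F) := by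
    rw [one_smul, neg_one_smul, two_smul]
    abel
  rw [this, smul_smul, inv_mul_cancel₀ h2, one_smul]

theorem half_mul_half_neg {x : Matrix ι ι F} (hx : x * x = 1) : half 1 x * half (-1) x = 0 := by
  unfold half
  rw [Matrix.smul_mul, Matrix.mul_smul, one_smul, neg_one_smul]
  have : (1 + x) * (1 + -x) = 0 := by
    simp only [Matrix.add_mul, Matrix.mul_add, Matrix.one_mul, Matrix.mul_one, Matrix.mul_neg, hx]
    abel
  rw [this, smul_zero, smul_zero]

theorem half_neg_mul_half {x : Matrix ι ι F} (hx : x * x = 1) : half (-1) x * half 1 x = 0 := by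
  unfold half
  rw [Matrix.smul_mul, Matrix.mul_smul, one_smul, neg_one_smul]
  have : (1 + -x) * (1 + x) = 0 := by
    simp only [Matrix.add_mul, Matrix.mul_add, Matrix.one_mul, Matrix.mul_one, Matrix.neg_mul, hx]
    abel
  rw [this, smul_zero, smul_zero]

theorem commute_half {p x : Matrix ι ι F} (h : p * x = x * p) (a : F) : p * half a x = half a x * p := by
  unfold half
  rw [Matrix.mul_smul, Matrix.smul_mul, Matrix.mul_add, Matrix.add_mul, Matrix.mul_one, Matrix.one_mul,
    Matrix.mul_smul, Matrix.smul_mul, h]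

/-- splitting the rank of an idempotent along a commuting involution -/
theorem rank_split (h2 : (2 : F) ≠ 0) {p x : Matrix ι ι F} (hp : p * p = p) (hx : x * x = 1)
    (hc : p * x = x * p) : p.rank = (p * half 1 x).rank + (p * half (-1) x).rank := by
  have h1 := commute_half hc (1 : F)
  have h2' := commute_half hc (-1 : F)
  have hh1 : half (1 : F) x * half 1 x = half 1 x := half_mul_half h2 (by ring) hx
  have hh2 : half (-1 : F) x * half (-1) x = half (-1) x := half_mul_half h2 (by ring) hx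
  have e : p = p * half 1 x + p * half (-1) x := by
    rw [← Matrix.mul_add, half_add_half h2, Matrix.mul_one]
  conv_lhs => rw [e]
  apply rank_add_of_orthogonal
  · calc p * half 1 x * (p * half 1 x) = p * (half 1 x * p) * half 1 x := by simp only [Matrix.mul_assoc]
      _ = p * half 1 x := by rw [← h1, ← Matrix.mul_assoc, hp, Matrix.mul_assoc, hh1]
  · calc p * half (-1) x * (p * half (-1) x) = p * (half (-1) x * p) * half (-1) x := by
          simp only [Matrix.mul_assoc]
      _ = p * half (-1) x := by rw [← h2', ← Matrix.mul_assoc, hp, Matrix.mul_assoc, hh2]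
  · calc p * half 1 x * (p * half (-1) x) = p * (half 1 x * p) * half (-1) x := by simp only [Matrix.mul_assoc]
      _ = 0 := by rw [← h1, ← Matrix.mul_assoc, hp, Matrix.mul_assoc, half_mul_half_neg hx, Matrix.mul_zero]
  · calc p * half (-1) x * (p * half 1 x) = p * (half (-1) x * p) * half 1 x := by simp only [Matrix.mul_assoc]
      _ = 0 := by rw [← h2', ← Matrix.mul_assoc, hp, Matrix.mul_assoc, half_neg_mul_half hx, Matrix.mul_zero]

/-- a non-zero idempotent which is self-adjoint for a non-degenerate alternating form has rank at least 2 -/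
theorem two_le_rank (J : Matrix ι ι F) (hJ : IsUnit J.det) (halt : ∀ u : ι → F, u ⬝ᵥ (J *ᵥ u) = 0)
    {p : Matrix ι ι F} (hp : p * p = p) (hp0 : p ≠ 0) (hpJ : pᵀ * J = J * p) : 2 ≤ p.rank := by
  by_contra hlt
  have hle : Module.finrank F (LinearMap.range p.mulVecLin) ≤ 1 := by
    unfold Matrix.rank at hlt
    omega
  obtain ⟨⟨g, hg⟩, hgen⟩ := finrank_le_one_iff.mp hle
  -- a non-zero vector in the range
  obtain ⟨a, ha⟩ : ∃ a : ι → F, p *ᵥ a ≠ 0 := by
    by_contra hcon
    push Not at hcon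
    apply hp0
    ext i j
    have := congrFun (hcon (Pi.single j 1)) i
    simpa using this
  set u := p *ᵥ a with hu
  have hpu : p *ᵥ u = u := by rw [hu, Matrix.mulVec_mulVec, hp]
  -- `u ᵥ* J ≠ 0`
  have huJ : Matrix.vecMul u J ≠ 0 := by
    intro h0
    apply ha
    have hinv : J * J⁻¹ = 1 := Matrix.mul_nonsing_inv J hJ
    have : Matrix.vecMul (Matrix.vecMul u J) J⁻¹ = u := by
      rw [Matrix.vecMul_vecMul, hinv, Matrix.vecMul_one]
    rw [← this, h0, Matrix.zero_vecMul]
  obtain ⟨i, hi⟩ : ∃ i, Matrix.vecMul u J i ≠ 0 := by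
    by_contra hcon
    push Not at hcon
    exact huJ (funext hcon)
  set v : ι → F := Pi.single i 1 with hv
  have huv : u ⬝ᵥ (J *ᵥ v) ≠ 0 := by
    rw [Matrix.dotProduct_mulVec, hv, dotProduct_single, mul_one]
    exact hi
  -- the projection of `v`
  have hkey : u ⬝ᵥ (J *ᵥ (p *ᵥ v)) = u ⬝ᵥ (J *ᵥ v) := by
    rw [Matrix.mulVec_mulVec, ← hpJ, ← Matrix.mulVec_mulVec, Matrix.dotProduct_mulVec, Matrix.vecMul_transpose, hpu]
  -- both are multiples of `g`
  obtain ⟨c, hc⟩ := hgen ⟨u, ⟨a, rfl⟩⟩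
  obtain ⟨d, hd⟩ := hgen ⟨p *ᵥ v, ⟨v, rfl⟩⟩
  have hc' : c • g = u := congrArg Subtype.val hc
  have hd' : d • g = p *ᵥ v := congrArg Subtype.val hd
  apply huv
  rw [← hkey, ← hc', ← hd', Matrix.mulVec_smul, dotProduct_smul, smul_dotProduct, halt g, smul_zero, smul_zero]

theorem idem_mul_of_commute {p q : Matrix ι ι F} (hp : p * p = p) (hq : q * q = q) (hc : p * q = q * p) :
    p * q * (p * q) = p * q := by
  calc p * q * (p * q) = p * (q * p) * q := by simp only [Matrix.mul_assoc]
    _ = p * q := by rw [← hc, ← Matrix.mul_assoc, hp, Matrix.mul_assoc, hq]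

/-- an isometric involution is self-adjoint -/
theorem transpose_mul_J {J x : Matrix ι ι F} (hx : x * x = 1) (hi : xᵀ * J * x = J) : xᵀ * J = J * x := by
  calc xᵀ * J = xᵀ * J * (x * x) := by rw [hx, Matrix.mul_one]
    _ = (xᵀ * J * x) * x := by simp only [Matrix.mul_assoc]
    _ = J * x := by rw [hi]

theorem half_transpose_mul_J {J x : Matrix ι ι F} (h : xᵀ * J = J * x) (a : F) :
    (half a x)ᵀ * J = J * half a x := by
  unfold half
  rw [Matrix.transpose_smul, Matrix.transpose_add, Matrix.transpose_one, Matrix.transpose_smul, Matrix.smul_mul,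
    Matrix.mul_smul, Matrix.add_mul, Matrix.mul_add, Matrix.one_mul, Matrix.mul_one, Matrix.smul_mul,
    Matrix.mul_smul, h]

/-- **Core**: three commuting isometric involutions of a non-degenerate alternating form all of whose non-trivial
products have trace `0` need dimension at least 16 (if `2 ≠ 0` and `card ι ≠ 0` in `F`). -/
theorem sixteen_le_card (h2 : (2 : F) ≠ 0) (hn : ((Fintype.card ι : ℕ) : F) ≠ 0)
    (J : Matrix ι ι F) (hJ : IsUnit J.det) (halt : ∀ u : ι → F, u ⬝ᵥ (J *ᵥ u) = 0)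
    (x₁ x₂ x₃ : Matrix ι ι F) (h₁ : x₁ * x₁ = 1) (h₂ : x₂ * x₂ = 1) (h₃ : x₃ * x₃ = 1)
    (c₁₂ : x₁ * x₂ = x₂ * x₁) (c₁₃ : x₁ * x₃ = x₃ * x₁) (c₂₃ : x₂ * x₃ = x₃ * x₂)
    (i₁ : x₁ᵀ * J * x₁ = J) (i₂ : x₂ᵀ * J * x₂ = J) (i₃ : x₃ᵀ * J * x₃ = J)
    (t₁ : x₁.trace = 0) (t₂ : x₂.trace = 0) (t₃ : x₃.trace = 0) (t₁₂ : (x₁ * x₂).trace = 0)
    (t₁₃ : (x₁ * x₃).trace = 0) (t₂₃ : (x₂ * x₃).trace = 0) (t₁₂₃ : (x₁ * x₂ * x₃).trace = 0) :
    16 ≤ Fintype.card ι := by
  have s₁ := transpose_mul_J h₁ i₁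
  have s₂ := transpose_mul_J h₂ i₂
  have s₃ := transpose_mul_J h₃ i₃
  -- the eight idempotents
  have hbase : ∀ a b c : F, a * a = 1 → b * b = 1 → c * c = 1 →
      2 ≤ (half a x₁ * half b x₂ * half c x₃).rank := by
    intro a b c ha hb hc
    have e₁ := half_mul_half h2 ha h₁
    have e₂ := half_mul_half h2 hb h₂
    have e₃ := half_mul_half h2 hc h₃
    -- commutations
    have k₁₂ : half a x₁ * half b x₂ = half b x₂ * half a x₁ := by
      apply commute_half
      exact (commute_half c₁₂.symm a).symm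
    have k₁₃ : half a x₁ * half c x₃ = half c x₃ * half a x₁ := by
      apply commute_half
      exact (commute_half c₁₃.symm a).symm
    have k₂₃ : half b x₂ * half c x₃ = half c x₃ * half b x₂ := by
      apply commute_half
      exact (commute_half c₂₃.symm b).symm
    have e₁₂ := idem_mul_of_commute e₁ e₂ k₁₂
    have k₁₂₃ : half a x₁ * half b x₂ * half c x₃ = half c x₃ * (half a x₁ * half b x₂) := by
      rw [Matrix.mul_assoc, k₂₃, ← Matrix.mul_assoc, k₁₃, Matrix.mul_assoc]
    have e₁₂₃ := idem_mul_of_commute e₁₂ e₃ k₁₂₃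
    refine two_le_rank J hJ halt e₁₂₃ ?_ ?_
    · -- non-zero: the trace is `card ι / 8`
      intro h0
      have htr := congrArg Matrix.trace h0
      rw [Matrix.trace_zero] at htr
      unfold half at htr
      simp only [Matrix.add_mul, Matrix.mul_add, Matrix.one_mul, Matrix.mul_one, Matrix.smul_mul, Matrix.mul_smul,
        smul_smul, Matrix.trace_add, Matrix.trace_smul, Matrix.trace_one, t₁, t₂, t₃, t₁₂, t₁₃, t₂₃, t₁₂₃,
        add_zero, smul_add, smul_eq_mul, mul_zero] at htr
      have h8 : (2 : F)⁻¹ * ((2 : F)⁻¹ * (2 : F)⁻¹) ≠ 0 := by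
        have := inv_ne_zero h2
        exact mul_ne_zero this (mul_ne_zero this this)
      rcases mul_eq_zero.mp htr with h | h
      · exact h8 h
      · exact hn h
    · -- self-adjoint
      have a₁ := half_transpose_mul_J s₁ a
      have a₂ := half_transpose_mul_J s₂ b
      have a₃ := half_transpose_mul_J s₃ c
      rw [Matrix.transpose_mul, Matrix.transpose_mul, Matrix.mul_assoc, Matrix.mul_assoc, a₁, ← Matrix.mul_assoc
        (half b x₂)ᵀ, a₂, Matrix.mul_assoc, ← Matrix.mul_assoc (half c x₃)ᵀ, a₃, Matrix.mul_assoc, Matrix.mul_assoc]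
      congr 1
      rw [← Matrix.mul_assoc, ← k₂₃, Matrix.mul_assoc, ← k₁₃, ← Matrix.mul_assoc, ← k₁₂, Matrix.mul_assoc]
  -- rank bookkeeping
  have one1 : (1 : F) * 1 = 1 := one_mul 1
  have neg1 : (-1 : F) * (-1) = 1 := by ring
  have r0 : (1 : Matrix ι ι F).rank = Fintype.card ι := Matrix.rank_one
  have idem1 : (1 : Matrix ι ι F) * 1 = 1 := Matrix.one_mul 1
  have l1 := rank_split h2 idem1 h₁ (by rw [Matrix.one_mul, Matrix.mul_one])
  rw [Matrix.one_mul, Matrix.one_mul] at l1
  have l2 : ∀ a : F, a * a = 1 →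
      (half a x₁).rank = (half a x₁ * half 1 x₂).rank + (half a x₁ * half (-1) x₂).rank := by
    intro a ha
    exact rank_split h2 (half_mul_half h2 ha h₁) h₂ (commute_half c₁₂.symm a).symm
  have l3 : ∀ a b : F, a * a = 1 → b * b = 1 →
      (half a x₁ * half b x₂).rank =
        (half a x₁ * half b x₂ * half 1 x₃).rank + (half a x₁ * half b x₂ * half (-1) x₃).rank := by
    intro a b ha hb
    have e₁ := half_mul_half h2 ha h₁
    have e₂ := half_mul_half h2 hb h₂
    have k₁₂ : half a x₁ * half b x₂ = half b x₂ * half a x₁ := by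
      apply commute_half
      exact (commute_half c₁₂.symm a).symm
    refine rank_split h2 (idem_mul_of_commute e₁ e₂ k₁₂) h₃ ?_
    rw [Matrix.mul_assoc, ← (commute_half c₂₃.symm b), ← Matrix.mul_assoc, ← (commute_half c₁₃.symm a),
      Matrix.mul_assoc]
  have b1 := hbase 1 1 1 one1 one1 one1
  have b2 := hbase 1 1 (-1) one1 one1 neg1
  have b3 := hbase 1 (-1) 1 one1 neg1 one1
  have b4 := hbase 1 (-1) (-1) one1 neg1 neg1
  have b5 := hbase (-1) 1 1 neg1 one1 one1
  have b6 := hbase (-1) 1 (-1) neg1 one1 neg1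
  have b7 := hbase (-1) (-1) 1 neg1 neg1 one1
  have b8 := hbase (-1) (-1) (-1) neg1 neg1 neg1
  have m1 := l2 1 one1
  have m2 := l2 (-1) neg1
  have n1 := l3 1 1 one1 one1
  have n2 := l3 1 (-1) one1 neg1
  have n3 := l3 (-1) 1 neg1 one1
  have n4 := l3 (-1) (-1) neg1 neg1
  omega

/-- pigeonhole: an injective map from a type with more than `T.card` elements misses `T` somewhere -/
theorem exists_not_mem_of_card {α β : Type*} (f : α → β) (hf : Function.Injective f) (T : Finset β)
    (h : T.card < Nat.card α) : ∃ a, f a ∉ T := by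
  by_contra hcon
  push Not at hcon
  let g : α → T := fun a => ⟨f a, hcon a⟩
  have hg : Function.Injective g := by
    intro a b hab
    exact hf (congrArg Subtype.val hab)
  have h1 := Nat.card_le_card_of_injective g hg
  have h2 : Nat.card T = T.card := by
    rw [Nat.card_eq_fintype_card, Fintype.card_coe]
  omega

theorem eq_of_mul_eq_one {X Y : Matrix ι ι F} (hX : X * X = 1) (h : X * Y = 1) : Y = X := by
  calc Y = (X * X) * Y := by rw [hX, Matrix.one_mul]
    _ = X * (X * Y) := by rw [Matrix.mul_assoc]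
    _ = X := by rw [h, Matrix.mul_one]

theorem eq_neg_of_mul_eq_neg_one {X Y : Matrix ι ι F} (hX : X * X = 1) (h : X * Y = -1) : Y = -X := by
  calc Y = (X * X) * Y := by rw [hX, Matrix.one_mul]
    _ = X * (X * Y) := by rw [Matrix.mul_assoc]
    _ = -X := by rw [h, Matrix.mul_neg, Matrix.mul_one]

/-- **Minus type from traces**: a group `R` of isometries of a non-degenerate alternating form on an 8-dimensional space
(`2 ≠ 0`) all of whose elements other than `± 1` have trace `0` has no elementary abelian subgroup of order `≥ 16`. -/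
theorem isOfMinusType_three_of_trace (h2 : (2 : F) ≠ 0) (h8 : Fintype.card ι = 8)
    (J : Matrix ι ι F) (hJ : IsUnit J.det) (halt : ∀ u : ι → F, u ⬝ᵥ (J *ᵥ u) = 0)
    (R : Subgroup (GL ι F))
    (hiso : ∀ g ∈ R, (g : Matrix ι ι F)ᵀ * J * (g : Matrix ι ι F) = J)
    (htr : ∀ g ∈ R, (g : Matrix ι ι F) ≠ 1 → (g : Matrix ι ι F) ≠ -1 → (g : Matrix ι ι F).trace = 0) :
    Cfsg.Geo.IsOfMinusType 3 R := by
  classical
  intro A hcomm hsq
  by_contra hlt
  have hge : 16 ≤ Nat.card A := by
    have : (2 : ℕ) ^ (3 + 1) = 16 := by norm_num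
    omega
  let M : A → Matrix ι ι F := fun a => (((a : R) : GL ι F) : Matrix ι ι F)
  have hM : Function.Injective M := by
    intro a b hab
    exact Subtype.ext (Subtype.ext (Units.ext hab))
  have hMmul : ∀ a b : A, M (a * b) = M a * M b := fun a b => rfl
  have hsqM : ∀ a : A, M a * M a = 1 := by
    intro a
    have := hsq a a.2
    have h1 : M (a * a) = 1 := by
      have h' : (a * a : A) = 1 := Subtype.ext this
      rw [h']
      rfl
    rwa [hMmul] at h1
  have hcommM : ∀ a b : A, M a * M b = M b * M a := by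
    intro a b
    rw [← hMmul, ← hMmul, hcomm.is_comm.comm a b]
  have hisoM : ∀ a : A, (M a)ᵀ * J * M a = J := fun a => hiso _ (a : R).2
  have htrM : ∀ a : A, M a ≠ 1 → M a ≠ -1 → (M a).trace = 0 := fun a => htr _ (a : R).2
  -- choose the three involutions
  obtain ⟨x₁, hx₁⟩ := exists_not_mem_of_card M hM ({1, -1} : Finset (Matrix ι ι F))
    (lt_of_le_of_lt (Finset.card_le_two) (by omega))
  obtain ⟨x₂, hx₂⟩ := exists_not_mem_of_card M hM ({1, -1, M x₁, -M x₁} : Finset (Matrix ι ι F))
    (lt_of_le_of_lt (Finset.card_le_four) (by omega))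
  obtain ⟨x₃, hx₃⟩ := exists_not_mem_of_card M hM
    ({1, -1, M x₁, -M x₁, M x₂, -M x₂, M x₁ * M x₂, -(M x₁ * M x₂)} : Finset (Matrix ι ι F))
    (lt_of_le_of_lt (by
      refine le_trans (Finset.card_insert_le _ _) ?_
      refine le_trans (Nat.succ_le_succ (Finset.card_insert_le _ _)) ?_
      refine le_trans (Nat.succ_le_succ (Nat.succ_le_succ (Finset.card_insert_le _ _))) ?_
      refine le_trans (Nat.succ_le_succ (Nat.succ_le_succ (Nat.succ_le_succ (Finset.card_insert_le _ _)))) ?_
      have := Finset.card_le_four (a := M x₂) (b := -M x₂) (c := M x₁ * M x₂) (d := -(M x₁ * M x₂))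
      omega : _ ≤ 8) (by omega))
  simp only [Finset.mem_insert, Finset.mem_singleton, not_or] at hx₁ hx₂ hx₃
  obtain ⟨a1, a2⟩ := hx₁
  obtain ⟨b1, b2, b3, b4⟩ := hx₂
  obtain ⟨c1, c2, c3, c4, c5, c6, c7, c8⟩ := hx₃
  have hn : ((Fintype.card ι : ℕ) : F) ≠ 0 := by
    rw [h8]
    have : ((8 : ℕ) : F) = 2 * 2 * 2 := by norm_num
    rw [this]
    exact mul_ne_zero (mul_ne_zero h2 h2) h2
  have h12 : M x₁ * M x₂ * (M x₁ * M x₂) = 1 := by
    rw [← hMmul]
    exact hsqM _
  have key := sixteen_le_card h2 hn J hJ halt (M x₁) (M x₂) (M x₃) (hsqM x₁) (hsqM x₂) (hsqM x₃)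
    (hcommM x₁ x₂) (hcommM x₁ x₃) (hcommM x₂ x₃) (hisoM x₁) (hisoM x₂) (hisoM x₃)
    (htrM x₁ a1 a2) (htrM x₂ b1 b2) (htrM x₃ c1 c2)
    (by
      rw [← hMmul]
      refine htrM _ ?_ ?_
      · rw [hMmul]
        intro h
        exact b3 (eq_of_mul_eq_one (hsqM x₁) h)
      · rw [hMmul]
        intro h
        exact b4 (eq_neg_of_mul_eq_neg_one (hsqM x₁) h))
    (by
      rw [← hMmul]
      refine htrM _ ?_ ?_
      · rw [hMmul]
        intro h
        exact c3 (eq_of_mul_eq_one (hsqM x₁) h)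
      · rw [hMmul]
        intro h
        exact c4 (eq_neg_of_mul_eq_neg_one (hsqM x₁) h))
    (by
      rw [← hMmul]
      refine htrM _ ?_ ?_
      · rw [hMmul]
        intro h
        exact c5 (eq_of_mul_eq_one (hsqM x₂) h)
      · rw [hMmul]
        intro h
        exact c6 (eq_neg_of_mul_eq_neg_one (hsqM x₂) h))
    (by
      rw [← hMmul, ← hMmul]
      refine htrM _ ?_ ?_
      · rw [hMmul, hMmul]
        intro h
        exact c7 (eq_of_mul_eq_one h12 h)
      · rw [hMmul, hMmul]
        intro h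
        exact c8 (eq_neg_of_mul_eq_neg_one h12 h))
  omega

/-- **Core, two involutions**: two commuting isometric involutions of a non-degenerate alternating form with
`tr x₁ = tr x₂ = tr (x₁ x₂) = 0` need dimension at least 8. -/
theorem eight_le_card (h2 : (2 : F) ≠ 0) (hn : ((Fintype.card ι : ℕ) : F) ≠ 0)
    (J : Matrix ι ι F) (hJ : IsUnit J.det) (halt : ∀ u : ι → F, u ⬝ᵥ (J *ᵥ u) = 0)
    (x₁ x₂ : Matrix ι ι F) (h₁ : x₁ * x₁ = 1) (h₂ : x₂ * x₂ = 1)
    (c₁₂ : x₁ * x₂ = x₂ * x₁) (i₁ : x₁ᵀ * J * x₁ = J) (i₂ : x₂ᵀ * J * x₂ = J)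
    (t₁ : x₁.trace = 0) (t₂ : x₂.trace = 0) (t₁₂ : (x₁ * x₂).trace = 0) :
    8 ≤ Fintype.card ι := by
  have s₁ := transpose_mul_J h₁ i₁
  have s₂ := transpose_mul_J h₂ i₂
  have hbase : ∀ a b : F, a * a = 1 → b * b = 1 → 2 ≤ (half a x₁ * half b x₂).rank := by
    intro a b ha hb
    have e₁ := half_mul_half h2 ha h₁
    have e₂ := half_mul_half h2 hb h₂
    have k₁₂ : half a x₁ * half b x₂ = half b x₂ * half a x₁ := by
      apply commute_half
      exact (commute_half c₁₂.symm a).symm
    have e₁₂ := idem_mul_of_commute e₁ e₂ k₁₂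
    refine two_le_rank J hJ halt e₁₂ ?_ ?_
    · intro h0
      have htr := congrArg Matrix.trace h0
      rw [Matrix.trace_zero] at htr
      unfold half at htr
      simp only [Matrix.add_mul, Matrix.mul_add, Matrix.one_mul, Matrix.mul_one, Matrix.smul_mul, Matrix.mul_smul,
        smul_smul, Matrix.trace_add, Matrix.trace_smul, Matrix.trace_one, t₁, t₂, t₁₂,
        add_zero, smul_add, smul_eq_mul, mul_zero] at htr
      have h4 : (2 : F)⁻¹ * (2 : F)⁻¹ ≠ 0 := by
        have := inv_ne_zero h2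
        exact mul_ne_zero this this
      rcases mul_eq_zero.mp htr with h | h
      · exact h4 h
      · exact hn h
    · have a₁ := half_transpose_mul_J s₁ a
      have a₂ := half_transpose_mul_J s₂ b
      rw [Matrix.transpose_mul, Matrix.mul_assoc, a₁, ← Matrix.mul_assoc, a₂, Matrix.mul_assoc, ← k₁₂]
  have one1 : (1 : F) * 1 = 1 := one_mul 1
  have neg1 : (-1 : F) * (-1) = 1 := by ring
  have r0 : (1 : Matrix ι ι F).rank = Fintype.card ι := Matrix.rank_one
  have idem1 : (1 : Matrix ι ι F) * 1 = 1 := Matrix.one_mul 1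
  have l1 := rank_split h2 idem1 h₁ (by rw [Matrix.one_mul, Matrix.mul_one])
  rw [Matrix.one_mul, Matrix.one_mul] at l1
  have l2 : ∀ a : F, a * a = 1 →
      (half a x₁).rank = (half a x₁ * half 1 x₂).rank + (half a x₁ * half (-1) x₂).rank := by
    intro a ha
    exact rank_split h2 (half_mul_half h2 ha h₁) h₂ (commute_half c₁₂.symm a).symm
  have b1 := hbase 1 1 one1 one1
  have b2 := hbase 1 (-1) one1 neg1
  have b3 := hbase (-1) 1 neg1 one1
  have b4 := hbase (-1) (-1) neg1 neg1
  have m1 := l2 1 one1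
  have m2 := l2 (-1) neg1
  omega

/-- **Minus type from traces, dimension 4**: a group `R` of isometries of a non-degenerate alternating form on a 4-dimensional
space (`2 ≠ 0`) all of whose elements other than `± 1` have trace `0` has no elementary abelian subgroup of order `≥ 8`. -/
theorem isOfMinusType_two_of_trace (h2 : (2 : F) ≠ 0) (h4 : Fintype.card ι = 4)
    (J : Matrix ι ι F) (hJ : IsUnit J.det) (halt : ∀ u : ι → F, u ⬝ᵥ (J *ᵥ u) = 0)
    (R : Subgroup (GL ι F))
    (hiso : ∀ g ∈ R, (g : Matrix ι ι F)ᵀ * J * (g : Matrix ι ι F) = J)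
    (htr : ∀ g ∈ R, (g : Matrix ι ι F) ≠ 1 → (g : Matrix ι ι F) ≠ -1 → (g : Matrix ι ι F).trace = 0) :
    Cfsg.Geo.IsOfMinusType 2 R := by
  classical
  intro A hcomm hsq
  by_contra hlt
  have hge : 8 ≤ Nat.card A := by
    have : (2 : ℕ) ^ (2 + 1) = 8 := by norm_num
    omega
  let M : A → Matrix ι ι F := fun a => (((a : R) : GL ι F) : Matrix ι ι F)
  have hM : Function.Injective M := by
    intro a b hab
    exact Subtype.ext (Subtype.ext (Units.ext hab))
  have hMmul : ∀ a b : A, M (a * b) = M a * M b := fun a b => rfl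
  have hsqM : ∀ a : A, M a * M a = 1 := by
    intro a
    have := hsq a a.2
    have h1 : M (a * a) = 1 := by
      have h' : (a * a : A) = 1 := Subtype.ext this
      rw [h']
      rfl
    rwa [hMmul] at h1
  have hcommM : ∀ a b : A, M a * M b = M b * M a := by
    intro a b
    rw [← hMmul, ← hMmul, hcomm.is_comm.comm a b]
  have hisoM : ∀ a : A, (M a)ᵀ * J * M a = J := fun a => hiso _ (a : R).2
  have htrM : ∀ a : A, M a ≠ 1 → M a ≠ -1 → (M a).trace = 0 := fun a => htr _ (a : R).2
  obtain ⟨x₁, hx₁⟩ := exists_not_mem_of_card M hM ({1, -1} : Finset (Matrix ι ι F))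
    (lt_of_le_of_lt (Finset.card_le_two) (by omega))
  obtain ⟨x₂, hx₂⟩ := exists_not_mem_of_card M hM ({1, -1, M x₁, -M x₁} : Finset (Matrix ι ι F))
    (lt_of_le_of_lt (Finset.card_le_four) (by omega))
  simp only [Finset.mem_insert, Finset.mem_singleton, not_or] at hx₁ hx₂
  obtain ⟨a1, a2⟩ := hx₁
  obtain ⟨b1, b2, b3, b4⟩ := hx₂
  have hn : ((Fintype.card ι : ℕ) : F) ≠ 0 := by
    rw [h4]
    have : ((4 : ℕ) : F) = 2 * 2 := by norm_num
    rw [this]
    exact mul_ne_zero h2 h2
  have key := eight_le_card h2 hn J hJ halt (M x₁) (M x₂) (hsqM x₁) (hsqM x₂)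
    (hcommM x₁ x₂) (hisoM x₁) (hisoM x₂) (htrM x₁ a1 a2) (htrM x₂ b1 b2)
    (by
      rw [← hMmul]
      refine htrM _ ?_ ?_
      · rw [hMmul]
        intro h
        exact b3 (eq_of_mul_eq_one (hsqM x₁) h)
      · rw [hMmul]
        intro h
        exact b4 (eq_neg_of_mul_eq_neg_one (hsqM x₁) h))
  omega

end Cfsg.Agent.Lib.Helper49.MinusType
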