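import Mathlib
import Cfsg.Prelude.Def_GeometricClasses
import Cfsg.Agent.Lib.Helper94.BHRSP.Sp4Model
import Cfsg.Agent.Lib.Helper94.BHRSP.Sp4Kit
import Cfsg.Agent.Lib.Helper49.MinusTypeCore

/-!
# BHRSP-[3B-R0-MINUS] (helper49 hedge): `Rc P = P (Q_8 ⊗ O_2) P⁻¹` is of minus type

Via `Cfsg.Agent.Lib.Helper49.MinusType.isOfMinusType_two_of_trace`: the elements of `R0 = Q8 ⊗ O2` are isometries of the
alternating form `J`, and `tr (q ⊗ d) = tr q · tr d = 0` unless `q = ± 1` and `d = ± 1`.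
-/

set_option autoImplicit false
set_option linter.unusedSectionVars false

namespace Cfsg.Agent.Lib.Helper49.BhrSp4R0Minus

open Cfsg Cfsg.Geo Cfsg.Agent.Lib.Helper94.BHRSP Cfsg.Agent.Lib.Helper94.BHRSP.Sp4
open scoped MatrixGroups Matrix

variable {F : Type*} [Field F] [Fintype F]

theorem trace_tens (a b : Matrix (Fin 2) (Fin 2) F) : (tens a b).trace = a.trace * b.trace := by
  unfold tens Matrix.trace
  rw [Fintype.sum_sum_type]
  simp only [Matrix.diag_apply, Matrix.fromBlocks_apply₁₁, Matrix.fromBlocks_apply₂₂, Matrix.smul_apply, smul_eq_mul,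
    Fin.sum_univ_two]
  ring

theorem det_of_isQ8Mat (h3 : (3 : F) = 0) (M : Matrix (Fin 2) (Fin 2) F) (hM : IsQ8Mat M) : M.det = 1 := by
  unfold IsQ8Mat at hM
  rcases hM with rfl | rfl | rfl | rfl | rfl | rfl | rfl | rfl
  · exact Matrix.det_one
  · rw [Matrix.det_neg, Matrix.det_one]; simp
  · exact det_A2
  · rw [Matrix.det_neg, det_A2]; simp
  · exact det_B2 h3
  · rw [Matrix.det_neg, det_B2 h3]; simp
  · exact det_C2 h3
  · rw [Matrix.det_neg, det_C2 h3]; simp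

theorem trace_of_isQ8Mat (M : Matrix (Fin 2) (Fin 2) F) (hM : IsQ8Mat M) : M = 1 ∨ M = -1 ∨ M.trace = 0 := by
  unfold IsQ8Mat at hM
  rcases hM with rfl | rfl | rfl | rfl | rfl | rfl | rfl | rfl
  · exact Or.inl rfl
  · exact Or.inr (Or.inl rfl)
  · exact Or.inr (Or.inr trace_A2)
  · exact Or.inr (Or.inr (by rw [Matrix.trace_neg, trace_A2, neg_zero]))
  · exact Or.inr (Or.inr trace_B2)
  · exact Or.inr (Or.inr (by rw [Matrix.trace_neg, trace_B2, neg_zero]))
  · exact Or.inr (Or.inr trace_C2)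
  · exact Or.inr (Or.inr (by rw [Matrix.trace_neg, trace_C2, neg_zero]))

theorem trace_of_isO2Mat (M : Matrix (Fin 2) (Fin 2) F) (hM : IsO2Mat M) : M = 1 ∨ M = -1 ∨ M.trace = 0 := by
  unfold IsO2Mat at hM
  rcases hM with rfl | rfl | rfl | rfl | rfl | rfl | rfl | rfl
  · exact Or.inl rfl
  · exact Or.inr (Or.inl rfl)
  · exact Or.inr (Or.inr (by unfold J2; simp [Matrix.trace_fin_two]))
  · exact Or.inr (Or.inr (by unfold J2; simp [Matrix.trace_fin_two]))
  · exact Or.inr (Or.inr (by unfold T2; simp [Matrix.trace_fin_two]))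
  · exact Or.inr (Or.inr (by unfold T2; simp [Matrix.trace_fin_two]))
  · exact Or.inr (Or.inr (by unfold S2; simp [Matrix.trace_fin_two]))
  · exact Or.inr (Or.inr (by unfold S2; simp [Matrix.trace_fin_two]))

/-- `q ⊗ d` preserves `J` when `det q = 1`, `dᵀ d = 1` -/
theorem tens_transpose_J_tens (a b : Matrix (Fin 2) (Fin 2) F) (ha : a.det = 1) (hb : bᵀ * b = 1) :
    (tens a b)ᵀ * Matrix.J (Fin 2) F * tens a b = Matrix.J (Fin 2) F := by
  rw [J_eq_tens, tens_transpose, tens_mul, tens_mul, transpose_om_mul, Matrix.mul_one, hb, ha, one_smul]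

theorem tens_pm_one (q d : Matrix (Fin 2) (Fin 2) F) (hq : q = 1 ∨ q = -1) (hd : d = 1 ∨ d = -1) :
    tens q d = 1 ∨ tens q d = -1 := by
  rcases hq with rfl | rfl <;> rcases hd with rfl | rfl
  · exact Or.inl tens_one
  · right; rw [tens_neg_right, tens_one]
  · right; rw [tens_neg_left, tens_one]
  · left; rw [tens_neg_left, tens_neg_right, tens_one, neg_neg]

end Cfsg.Agent.Lib.Helper49.BhrSp4R0Minus

namespace Cfsg.Agent.Lib.Helper94.BHRSP.Sp4

open Cfsg Cfsg.Geo Cfsg.Agent.Lib.Helper94.BHRSP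
open Cfsg.Agent.Lib.Helper49.BhrSp4R0Minus
open scoped MatrixGroups Matrix

variable {F : Type*} [Field F] [Fintype F]

/-- **[3B-R0-MINUS]** -/
theorem isOfMinusType_Rc (hq : Fintype.card F = 3) (P : GL (Fin 2 ⊕ Fin 2) F) :
    IsOfMinusType 2 (Rc P) := by
  have h3 := three_eq_zero hq
  have h2 := two_ne_zero3 hq
  set Pi : Matrix (Fin 2 ⊕ Fin 2) (Fin 2 ⊕ Fin 2) F :=
    ((P⁻¹ : GL (Fin 2 ⊕ Fin 2) F) : Matrix (Fin 2 ⊕ Fin 2) (Fin 2 ⊕ Fin 2) F) with hPi
  set Pm : Matrix (Fin 2 ⊕ Fin 2) (Fin 2 ⊕ Fin 2) F := (P : Matrix (Fin 2 ⊕ Fin 2) (Fin 2 ⊕ Fin 2) F) with hPm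
  have hPiPm : Pi * Pm = 1 := by rw [hPi, hPm, ← Units.val_mul, inv_mul_cancel, Units.val_one]
  have hPmPi : Pm * Pi = 1 := by rw [hPi, hPm, ← Units.val_mul, mul_inv_cancel, Units.val_one]
  refine Cfsg.Agent.Lib.Helper49.MinusType.isOfMinusType_two_of_trace h2 (by simp) (Piᵀ * Matrix.J (Fin 2) F * Pi) ?_ ?_
    (Rc P) ?_ ?_
  · -- invertible
    rw [Matrix.det_mul, Matrix.det_mul, Matrix.det_transpose]
    have hdetPi : IsUnit Pi.det := by
      have : Pi.det * Pm.det = 1 := by rw [← Matrix.det_mul, hPiPm, Matrix.det_one]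
      exact IsUnit.of_mul_eq_one _ this
    exact (hdetPi.mul (Matrix.isUnit_det_J (Fin 2) F)).mul hdetPi
  · -- alternating
    intro u
    rw [Matrix.mul_assoc, ← Matrix.mulVec_mulVec, Matrix.dotProduct_mulVec, Matrix.vecMul_transpose,
      ← Matrix.mulVec_mulVec]
    exact sympForm_self (Pi *ᵥ u)
  · -- isometries
    intro g hg
    obtain ⟨q, hqQ, d, hdO, rfl⟩ := (mem_Rc_iff P g).mp hg
    have hqm := (mem_Q8_iff hq q).mp hqQ
    have hdm : (d : Matrix (Fin 2) (Fin 2) F)ᵀ * (d : Matrix (Fin 2) (Fin 2) F) = 1 := (mem_O2_iff d).mp hdO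
    have hdet := det_of_isQ8Mat h3 _ hqm
    have ht := tens_transpose_J_tens (q : Matrix (Fin 2) (Fin 2) F) (d : Matrix (Fin 2) (Fin 2) F) hdet hdm
    rw [Units.val_mul, Units.val_mul, tensGL_val, ← hPm, ← hPi]
    set t := tens (q : Matrix (Fin 2) (Fin 2) F) (d : Matrix (Fin 2) (Fin 2) F) with htdef
    calc (Pm * t * Pi)ᵀ * (Piᵀ * Matrix.J (Fin 2) F * Pi) * (Pm * t * Pi)
        = Piᵀ * (tᵀ * ((Pi * Pm)ᵀ * Matrix.J (Fin 2) F * (Pi * Pm)) * t) * Pi := by
          simp only [Matrix.transpose_mul, Matrix.mul_assoc]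
      _ = Piᵀ * Matrix.J (Fin 2) F * Pi := by
          rw [hPiPm, Matrix.transpose_one, Matrix.one_mul, Matrix.mul_one, ht]
  · -- traces
    intro g hg hg1 hg2
    obtain ⟨q, hqQ, d, hdO, rfl⟩ := (mem_Rc_iff P g).mp hg
    have hqm := (mem_Q8_iff hq q).mp hqQ
    have hdm := (mem_O2_iff' hq d).mp hdO
    rw [Units.val_mul, Units.val_mul, tensGL_val, ← hPm, ← hPi] at hg1 hg2 ⊢
    set t := tens (q : Matrix (Fin 2) (Fin 2) F) (d : Matrix (Fin 2) (Fin 2) F) with htdef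
    have hpm : t = 1 ∨ t = -1 → False := by
      rintro (e | e)
      · apply hg1; rw [e, Matrix.mul_one, hPmPi]
      · apply hg2; rw [e, Matrix.mul_neg, Matrix.mul_one, Matrix.neg_mul, hPmPi]
    rw [Matrix.trace_mul_cycle, hPiPm, Matrix.one_mul, htdef, trace_tens]
    rcases trace_of_isQ8Mat _ hqm with h1 | h1 | h1
    · rcases trace_of_isO2Mat _ hdm with k1 | k1 | k1
      · exact (hpm (tens_pm_one _ _ (Or.inl h1) (Or.inl k1))).elim
      · exact (hpm (tens_pm_one _ _ (Or.inl h1) (Or.inr k1))).elim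
      · rw [k1, mul_zero]
    · rcases trace_of_isO2Mat _ hdm with k1 | k1 | k1
      · exact (hpm (tens_pm_one _ _ (Or.inr h1) (Or.inl k1))).elim
      · exact (hpm (tens_pm_one _ _ (Or.inr h1) (Or.inr k1))).elim
      · rw [k1, mul_zero]
    · rw [h1, zero_mul]

end Cfsg.Agent.Lib.Helper94.BHRSP.Sp4
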