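import Mathlib.Tactic
import Mathlib.GroupTheory.PGroup
import Mathlib.GroupTheory.Subgroup.Centralizer
import Mathlib.GroupTheory.OrderOfElement

/-!
# Diagonal fixed points of a `q`-group permuting commuting blocks

`exists_diag`: let a finite `q`-group `X` act by conjugation, `E` a subgroup ("block") such that every
`y ∈ X` either normalizes `E`, and then centralizes it, or moves `E` into a subgroup `R` centralizing
`E`.  Then for every `e ∈ E` of order prime to `q` there is an `X`-fixed element `d = e * r`, `r ∈ R`,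
lying in the subgroup generated by the `X`-conjugates of `E` (the product of all `X`-conjugates of a
suitable power of `e`).
-/

set_option autoImplicit false

namespace Cfsg.Agent.Lib.Helper49.Blocks

variable {Γ : Type*} [Group Γ]

theorem conj_mul_conj (x y e : Γ) : x * (y * e * y⁻¹) * x⁻¹ = (x * y) * e * (x * y)⁻¹ := by group

/-- all `X`-conjugates of `e` commute pairwise. -/
theorem conj_commute (X E R : Subgroup Γ)
    (h1 : ∀ y ∈ X, y ∉ Subgroup.normalizer (E : Set Γ) → E.map (MulAut.conj y).toMonoidHom ≤ R)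
    (h2 : ∀ y ∈ X, y ∈ Subgroup.normalizer (E : Set Γ) → y ∈ Subgroup.centralizer (E : Set Γ))
    (h4 : R ≤ Subgroup.centralizer (E : Set Γ))
    (e : Γ) (he : e ∈ E) (y y' : Γ) (hy : y ∈ X) (hy' : y' ∈ X) :
    (y * e * y⁻¹) * (y' * e * y'⁻¹) = (y' * e * y'⁻¹) * (y * e * y⁻¹) := by
  -- reduce to z = y⁻¹ y'
  have hz : y⁻¹ * y' ∈ X := X.mul_mem (X.inv_mem hy) hy'
  have key : e * ((y⁻¹ * y') * e * (y⁻¹ * y')⁻¹) = ((y⁻¹ * y') * e * (y⁻¹ * y')⁻¹) * e := by
    by_cases hn : y⁻¹ * y' ∈ Subgroup.normalizer (E : Set Γ)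
    · have hc := h2 _ hz hn
      have := Subgroup.mem_centralizer_iff.mp hc e he
      have h3 : (y⁻¹ * y') * e * (y⁻¹ * y')⁻¹ = e := by
        rw [← this]; group
      rw [h3]
    · have hr : (y⁻¹ * y') * e * (y⁻¹ * y')⁻¹ ∈ R := h1 _ hz hn ⟨e, he, rfl⟩
      have := Subgroup.mem_centralizer_iff.mp (h4 hr) e he
      exact this
  calc (y * e * y⁻¹) * (y' * e * y'⁻¹)
      = y * (e * ((y⁻¹ * y') * e * (y⁻¹ * y')⁻¹)) * y⁻¹ := by group
    _ = y * (((y⁻¹ * y') * e * (y⁻¹ * y')⁻¹) * e) * y⁻¹ := by rw [key]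
    _ = (y' * e * y'⁻¹) * (y * e * y⁻¹) := by group

set_option linter.deprecated false in
/-- The product of all `X`-conjugates of `e` is `X`-fixed and equals `e ^ |N_X(E)| * r`, `r ∈ R`. -/
theorem exists_diag_pow (X E R : Subgroup Γ) [Finite X]
    (h1 : ∀ y ∈ X, y ∉ Subgroup.normalizer (E : Set Γ) → E.map (MulAut.conj y).toMonoidHom ≤ R)
    (h2 : ∀ y ∈ X, y ∈ Subgroup.normalizer (E : Set Γ) → y ∈ Subgroup.centralizer (E : Set Γ))
    (h4 : R ≤ Subgroup.centralizer (E : Set Γ))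
    (e : Γ) (he : e ∈ E) :
    ∃ d ∈ Subgroup.centralizer (X : Set Γ),
      d ∈ Subgroup.closure {z | ∃ y ∈ X, z = y * e * y⁻¹} ∧
      ∃ r ∈ R, d = e ^ (Nat.card ((Subgroup.normalizer (E : Set Γ)).subgroupOf X)) * r := by
  classical
  have : Fintype ↥X := Fintype.ofFinite _
  set S : Set Γ := {z | ∃ y ∈ X, z = y * e * y⁻¹} with hS
  have hcomm : ∀ a ∈ S, ∀ b ∈ S, a * b = b * a := by
    rintro _ ⟨y, hy, rfl⟩ _ ⟨y', hy', rfl⟩
    exact conj_commute X E R h1 h2 h4 e he y y' hy hy'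
  let _ : CommGroup (Subgroup.closure S) := Subgroup.closureCommGroupOfComm hcomm
  let f : ↥X → ↥(Subgroup.closure S) :=
    fun y => ⟨(y : Γ) * e * (y : Γ)⁻¹, Subgroup.subset_closure ⟨y, y.2, rfl⟩⟩
  let d : ↥(Subgroup.closure S) := ∏ y, f y
  refine ⟨(d : Γ), ?_, d.2, ?_⟩
  · -- invariance
    rw [Subgroup.mem_centralizer_iff]
    intro x hx
    have hstab : ∀ z ∈ Subgroup.closure S, x * z * x⁻¹ ∈ Subgroup.closure S := by
      intro z hz
      have hle : (Subgroup.closure S).map (MulAut.conj x).toMonoidHom ≤ Subgroup.closure S := by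
        rw [MonoidHom.map_closure, Subgroup.closure_le]
        rintro _ ⟨_, ⟨y, hy, rfl⟩, rfl⟩
        apply Subgroup.subset_closure
        refine ⟨x * y, X.mul_mem hx hy, ?_⟩
        simp only [MulEquiv.coe_toMonoidHom, MulAut.conj_apply]
        group
      have := hle ⟨z, hz, rfl⟩
      simpa using this
    let c : ↥(Subgroup.closure S) →* ↥(Subgroup.closure S) :=
      { toFun := fun z => ⟨x * (z : Γ) * x⁻¹, hstab z z.2⟩
        map_one' := by apply Subtype.ext; simp
        map_mul' := by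
          intro a b
          apply Subtype.ext
          show x * ((a : Γ) * (b : Γ)) * x⁻¹ = (x * (a : Γ) * x⁻¹) * (x * (b : Γ) * x⁻¹)
          group }
    have hc1 : c d = ∏ y, c (f y) := map_prod c f Finset.univ
    have hc2 : ∀ y : ↥X, c (f y) = f (⟨x, hx⟩ * y) := by
      intro y
      apply Subtype.ext
      show x * ((y : Γ) * e * (y : Γ)⁻¹) * x⁻¹ = (x * (y : Γ)) * e * (x * (y : Γ))⁻¹
      group
    have hc3 : ∏ y, c (f y) = ∏ y, f y := by
      simp only [hc2]
      exact Fintype.prod_equiv (Equiv.mulLeft (⟨x, hx⟩ : ↥X)) _ _ (fun y => rfl)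
    have hc4 : c d = d := hc1.trans hc3
    have hc5 : x * (d : Γ) * x⁻¹ = (d : Γ) := congrArg Subtype.val hc4
    calc x * (d : Γ) = (x * (d : Γ) * x⁻¹) * x := by group
      _ = (d : Γ) * x := by rw [hc5]
  · -- decomposition
    set St : Finset ↥X := Finset.univ.filter (fun y : ↥X => (y : Γ) ∈ Subgroup.normalizer (E : Set Γ))
      with hSt
    have hsplit : d = (∏ y ∈ St, f y) * ∏ y ∈ Finset.univ.filter (fun y : ↥X => ¬ (y : Γ) ∈ Subgroup.normalizer (E : Set Γ)), f y :=
      (Finset.prod_filter_mul_prod_filter_not Finset.univ _ f).symm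
    have hfirst : (∏ y ∈ St, f y) = (⟨e, Subgroup.subset_closure ⟨1, X.one_mem, by simp⟩⟩ : ↥(Subgroup.closure S)) ^ St.card := by
      apply Finset.prod_eq_pow_card
      intro y hy
      rw [hSt, Finset.mem_filter] at hy
      have hcen := h2 y y.2 hy.2
      have := Subgroup.mem_centralizer_iff.mp hcen e he
      apply Subtype.ext
      show (y : Γ) * e * (y : Γ)⁻¹ = e
      rw [← this]; group
    have hsecond : ((∏ y ∈ Finset.univ.filter (fun y : ↥X => ¬ (y : Γ) ∈ Subgroup.normalizer (E : Set Γ)), f y : ↥(Subgroup.closure S)) : Γ) ∈ R := by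
      have : (∏ y ∈ Finset.univ.filter (fun y : ↥X => ¬ (y : Γ) ∈ Subgroup.normalizer (E : Set Γ)), f y) ∈ R.subgroupOf (Subgroup.closure S) := by
        apply Subgroup.prod_mem
        intro y hy
        rw [Finset.mem_filter] at hy
        rw [Subgroup.mem_subgroupOf]
        exact h1 y y.2 hy.2 ⟨e, he, rfl⟩
      exact Subgroup.mem_subgroupOf.mp this
    have hcard : St.card = Nat.card ((Subgroup.normalizer (E : Set Γ)).subgroupOf X) := by
      rw [Nat.card_eq_fintype_card, Fintype.card_subtype]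
      rfl
    refine ⟨_, hsecond, ?_⟩
    rw [← hcard]
    have := congrArg Subtype.val hsplit
    rw [this, hfirst]
    rfl

/-- `X`-fixed "diagonal" elements: every `e ∈ E` of order prime to `q` is the `E`-component of an
`X`-fixed element of the subgroup generated by the `X`-conjugates of `E`. -/
theorem exists_diag (X E R : Subgroup Γ) [Finite X] {q : ℕ} [Fact q.Prime] (hXq : IsPGroup q X)
    (h1 : ∀ y ∈ X, y ∉ Subgroup.normalizer (E : Set Γ) → E.map (MulAut.conj y).toMonoidHom ≤ R)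
    (h2 : ∀ y ∈ X, y ∈ Subgroup.normalizer (E : Set Γ) → y ∈ Subgroup.centralizer (E : Set Γ))
    (h4 : R ≤ Subgroup.centralizer (E : Set Γ))
    (e : Γ) (he : e ∈ E) (hq : (orderOf e).Coprime q) :
    ∃ d ∈ Subgroup.centralizer (X : Set Γ),
      d ∈ Subgroup.closure {z | ∃ y ∈ X, ∃ e' ∈ E, z = y * e' * y⁻¹} ∧ ∃ r ∈ R, d = e * r := by
  set m := Nat.card ((Subgroup.normalizer (E : Set Γ)).subgroupOf X) with hm
  have hmq : ∃ k, m = q ^ k := by
    have h1 : m ∣ Nat.card X := Subgroup.card_subgroup_dvd_card _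
    obtain ⟨n, hn⟩ := IsPGroup.iff_card.mp hXq
    rw [hn] at h1
    obtain ⟨k, -, hk⟩ := (Nat.dvd_prime_pow Fact.out).mp h1
    exact ⟨k, hk⟩
  obtain ⟨k, hk⟩ := hmq
  have hcop : m.Coprime (orderOf e) := by
    rw [hk]
    exact Nat.Coprime.pow_left k hq.symm
  obtain ⟨m', hm'⟩ := exists_pow_eq_self_of_coprime hcop
  -- e' = e ^ m' satisfies e' ^ m = e
  have he' : e ^ m' ∈ E := E.pow_mem he m'
  obtain ⟨d, hd1, hd2, r, hr, hdr⟩ := exists_diag_pow X E R h1 h2 h4 (e ^ m') he'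
  refine ⟨d, hd1, ?_, r, hr, ?_⟩
  · refine Subgroup.closure_mono ?_ hd2
    rintro z ⟨y, hy, rfl⟩
    exact ⟨y, hy, e ^ m', he', rfl⟩
  · rw [hdr, ← hm, ← pow_mul, mul_comm, pow_mul, hm']

end Cfsg.Agent.Lib.Helper49.Blocks
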