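import Cfsg.Agent.Lib.Helper49.Blocks

/-!
# The norm map of an operator group on a commutative normal subgroup

For a finite subgroup `X` normalizing a commutative subgroup `V` of `Γ`, `nu X V hX hV : ↥V →* ↥V`,
`v ↦ ∏_{y ∈ X} y v y⁻¹`.  Its values are `X`-fixed (`nu_mem_centralizer`), it commutes with
conjugation by elements centralizing `X` (`nu_conj`), and on a "block" `U ≤ V` (moved by `X` into `R` or
centralized) it has the form `u ↦ u ^ |N_X(U)| * r`, `r ∈ R` (`nu_block`).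
-/

set_option autoImplicit false
set_option linter.style.haveILetI false

namespace Cfsg.Agent.Lib.Helper49.Blocks

variable {Γ : Type*} [Group Γ]

section Nu

variable (X V : Subgroup Γ) [Finite X] (hX : X ≤ Subgroup.normalizer (V : Set Γ))
  (hV : ∀ a ∈ V, ∀ b ∈ V, a * b = b * a)

/-- the commutative group structure on `V`. -/
@[reducible] def commGroupOf (hV : ∀ a ∈ V, ∀ b ∈ V, a * b = b * a) : CommGroup ↥V :=
  { (inferInstance : Group ↥V) with
    mul_comm := fun a b => Subtype.ext (hV a a.2 b b.2) }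

theorem conj_mem_of_normalizer {y : Γ} (hy : y ∈ Subgroup.normalizer (V : Set Γ)) (v : ↥V) :
    y * (v : Γ) * y⁻¹ ∈ V := (Subgroup.mem_normalizer_iff.mp hy v).mp v.2

/-- the norm map `v ↦ ∏_{y ∈ X} y v y⁻¹`. -/
noncomputable def nu : ↥V →* ↥V :=
  letI := commGroupOf V hV
  letI : Fintype ↥X := Fintype.ofFinite _
  { toFun := fun v => ∏ y : ↥X, (⟨(y : Γ) * (v : Γ) * (y : Γ)⁻¹, conj_mem_of_normalizer V (hX y.2) v⟩ : ↥V)
    map_one' := by
      apply Finset.prod_eq_one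
      intro y _
      apply Subtype.ext
      simp
    map_mul' := by
      intro a b
      rw [← Finset.prod_mul_distrib]
      apply Finset.prod_congr rfl
      intro y _
      apply Subtype.ext
      show (y : Γ) * ((a : Γ) * (b : Γ)) * (y : Γ)⁻¹ = ((y : Γ) * (a : Γ) * (y : Γ)⁻¹) * ((y : Γ) * (b : Γ) * (y : Γ)⁻¹)
      group }

theorem nu_apply (v : ↥V) :
    letI := commGroupOf V hV
    letI : Fintype ↥X := Fintype.ofFinite _
    nu X V hX hV v = ∏ y : ↥X, (⟨(y : Γ) * (v : Γ) * (y : Γ)⁻¹, conj_mem_of_normalizer V (hX y.2) v⟩ : ↥V) := rfl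

/-- conjugation by `d ∈ N(V)` as an endomorphism of `V`. -/
def conjV {d : Γ} (hd : d ∈ Subgroup.normalizer (V : Set Γ)) : ↥V →* ↥V where
  toFun v := ⟨d * (v : Γ) * d⁻¹, conj_mem_of_normalizer V hd v⟩
  map_one' := by apply Subtype.ext; simp
  map_mul' := by
    intro a b
    apply Subtype.ext
    show d * ((a : Γ) * (b : Γ)) * d⁻¹ = (d * (a : Γ) * d⁻¹) * (d * (b : Γ) * d⁻¹)
    group

theorem conjV_apply {d : Γ} (hd : d ∈ Subgroup.normalizer (V : Set Γ)) (v : ↥V) :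
    ((conjV V hd v : ↥V) : Γ) = d * (v : Γ) * d⁻¹ := rfl

/-- `nu` commutes with conjugation by elements centralizing `X`. -/
theorem nu_conj {d : Γ} (hd : d ∈ Subgroup.normalizer (V : Set Γ))
    (hdX : d ∈ Subgroup.centralizer (X : Set Γ)) (v : ↥V) :
    nu X V hX hV (conjV V hd v) = conjV V hd (nu X V hX hV v) := by
  letI := commGroupOf V hV
  letI : Fintype ↥X := Fintype.ofFinite _
  rw [nu_apply, nu_apply, map_prod]
  apply Finset.prod_congr rfl
  intro y _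
  apply Subtype.ext
  show (y : Γ) * (d * (v : Γ) * d⁻¹) * (y : Γ)⁻¹ = d * ((y : Γ) * (v : Γ) * (y : Γ)⁻¹) * d⁻¹
  have h := Subgroup.mem_centralizer_iff.mp hdX y y.2
  have h' : (y : Γ)⁻¹ * d⁻¹ = d⁻¹ * (y : Γ)⁻¹ := by
    rw [← mul_inv_rev, ← mul_inv_rev, h]
  calc (y : Γ) * (d * (v : Γ) * d⁻¹) * (y : Γ)⁻¹ = ((y : Γ) * d) * (v : Γ) * (d⁻¹ * (y : Γ)⁻¹) := by group
    _ = (d * (y : Γ)) * (v : Γ) * ((y : Γ)⁻¹ * d⁻¹) := by rw [h, h']
    _ = d * ((y : Γ) * (v : Γ) * (y : Γ)⁻¹) * d⁻¹ := by group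

/-- the values of `nu` are fixed by `X`. -/
theorem nu_mem_centralizer (v : ↥V) :
    ((nu X V hX hV v : ↥V) : Γ) ∈ Subgroup.centralizer (X : Set Γ) := by
  letI := commGroupOf V hV
  letI : Fintype ↥X := Fintype.ofFinite _
  rw [Subgroup.mem_centralizer_iff]
  intro x hx
  have hxN := hX hx
  have h1 : conjV V hxN (nu X V hX hV v) = nu X V hX hV v := by
    rw [nu_apply, map_prod]
    have h2 : ∀ y : ↥X, conjV V hxN (⟨(y : Γ) * (v : Γ) * (y : Γ)⁻¹, conj_mem_of_normalizer V (hX y.2) v⟩ : ↥V) =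
        (⟨((⟨x, hx⟩ * y : ↥X) : Γ) * (v : Γ) * ((⟨x, hx⟩ * y : ↥X) : Γ)⁻¹,
          conj_mem_of_normalizer V (hX (⟨x, hx⟩ * y : ↥X).2) v⟩ : ↥V) := by
      intro y
      apply Subtype.ext
      show x * ((y : Γ) * (v : Γ) * (y : Γ)⁻¹) * x⁻¹ = (x * (y : Γ)) * (v : Γ) * (x * (y : Γ))⁻¹
      group
    simp only [h2]
    exact Fintype.prod_equiv (Equiv.mulLeft (⟨x, hx⟩ : ↥X)) _ _ (fun y => rfl)
  have h3 : x * ((nu X V hX hV v : ↥V) : Γ) * x⁻¹ = ((nu X V hX hV v : ↥V) : Γ) :=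
    congrArg Subtype.val h1
  calc x * ((nu X V hX hV v : ↥V) : Γ) = (x * ((nu X V hX hV v : ↥V) : Γ) * x⁻¹) * x := by group
    _ = ((nu X V hX hV v : ↥V) : Γ) * x := by rw [h3]

/-- on a block `U ≤ V`, `nu u = u ^ |N_X(U)| * r` with `r ∈ R`. -/
theorem nu_block (U R : Subgroup Γ) (hUV : U ≤ V)
    (h1 : ∀ y ∈ X, y ∉ Subgroup.normalizer (U : Set Γ) → U.map (MulAut.conj y).toMonoidHom ≤ R)
    (h2 : ∀ y ∈ X, y ∈ Subgroup.normalizer (U : Set Γ) → y ∈ Subgroup.centralizer (U : Set Γ))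
    (u : Γ) (hu : u ∈ U) :
    ∃ r ∈ R, ((nu X V hX hV ⟨u, hUV hu⟩ : ↥V) : Γ) =
      u ^ (Nat.card ((Subgroup.normalizer (U : Set Γ)).subgroupOf X)) * r := by
  classical
  letI := commGroupOf V hV
  letI : Fintype ↥X := Fintype.ofFinite _
  let f : ↥X → ↥V := fun y => ⟨(y : Γ) * u * (y : Γ)⁻¹, conj_mem_of_normalizer V (hX y.2) ⟨u, hUV hu⟩⟩
  have hnu : nu X V hX hV ⟨u, hUV hu⟩ = ∏ y, f y := rfl
  set St : Finset ↥X := Finset.univ.filter (fun y : ↥X => (y : Γ) ∈ Subgroup.normalizer (U : Set Γ))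
    with hSt
  have hsplit : (∏ y, f y) = (∏ y ∈ St, f y) * ∏ y ∈ Finset.univ.filter (fun y : ↥X => ¬ (y : Γ) ∈ Subgroup.normalizer (U : Set Γ)), f y :=
    (Finset.prod_filter_mul_prod_filter_not Finset.univ _ f).symm
  have hfirst : (∏ y ∈ St, f y) = (⟨u, hUV hu⟩ : ↥V) ^ St.card := by
    apply Finset.prod_eq_pow_card
    intro y hy
    rw [hSt, Finset.mem_filter] at hy
    have hcen := h2 y y.2 hy.2
    have := Subgroup.mem_centralizer_iff.mp hcen u hu
    apply Subtype.ext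
    show (y : Γ) * u * (y : Γ)⁻¹ = u
    rw [← this]; group
  have hsecond : ((∏ y ∈ Finset.univ.filter (fun y : ↥X => ¬ (y : Γ) ∈ Subgroup.normalizer (U : Set Γ)), f y : ↥V) : Γ) ∈ R := by
    have : (∏ y ∈ Finset.univ.filter (fun y : ↥X => ¬ (y : Γ) ∈ Subgroup.normalizer (U : Set Γ)), f y) ∈ R.subgroupOf V := by
      apply Subgroup.prod_mem
      intro y hy
      rw [Finset.mem_filter] at hy
      rw [Subgroup.mem_subgroupOf]
      exact h1 y y.2 hy.2 ⟨u, hu, rfl⟩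
    exact Subgroup.mem_subgroupOf.mp this
  have hcard : St.card = Nat.card ((Subgroup.normalizer (U : Set Γ)).subgroupOf X) := by
    rw [Nat.card_eq_fintype_card, Fintype.card_subtype]
    rfl
  refine ⟨_, hsecond, ?_⟩
  rw [← hcard, hnu, hsplit, hfirst]
  rfl

end Nu

end Cfsg.Agent.Lib.Helper49.Blocks
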