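import Mathlib
import Cfsg.Prelude.Def_HallClasses

set_option autoImplicit false

open Cfsg Equiv

namespace Cfsg.Agent.Lib.Helper49.HallAlt

/-- **[CONJ-ONE]** if at most one prime of `π` divides `|G|`, Hall `π`-subgroups are conjugate -/
theorem conj_of_le_one_prime {G : Type*} [Group G] [Finite G] (π : Set ℕ) (H K : Subgroup G)
    (hH : IsPiHall π H) (hK : IsPiHall π K)
    (h1 : ∀ r s : ℕ, r.Prime → s.Prime → r ∈ π → s ∈ π → r ∣ Nat.card G → s ∣ Nat.card G → r = s) :
    ∃ g : G, K = H.map (MulAut.conj g).toMonoidHom := by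
  classical
  by_cases hex : ∃ r : ℕ, r.Prime ∧ r ∈ π ∧ r ∣ Nat.card G
  · obtain ⟨r, hr, hrπ, hrG⟩ := hex
    have : Fact r.Prime := ⟨hr⟩
    -- both are Sylow r-subgroups
    have key : ∀ L : Subgroup G, IsPiHall π L → IsPGroup r L ∧ ¬ r ∣ L.index := by
      intro L hL
      refine ⟨?_, hL.2 r hr hrπ⟩
      have hpos : Nat.card L ≠ 0 := Nat.card_pos.ne'
      have := Nat.eq_prime_pow_of_unique_prime_dvd hpos (p := r) (fun {d} hd hdL =>
        h1 d r hd hr (hL.1 d hd hdL) hrπ (hdL.trans (Subgroup.card_subgroup_dvd_card L)) hrG)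
      exact IsPGroup.of_card this
    obtain ⟨hH1, hH2⟩ := key H hH
    obtain ⟨hK1, hK2⟩ := key K hK
    obtain ⟨g, hg⟩ := MulAction.exists_smul_eq G (hH1.toSylow hH2) (hK1.toSylow hK2)
    refine ⟨g, ?_⟩
    have := congrArg (fun P : Sylow r G => (P : Subgroup G)) hg
    simp only [Sylow.coe_subgroup_smul, IsPGroup.toSylow_coe] at this
    rw [← this]
    rfl
  · push Not at hex
    have key : ∀ L : Subgroup G, IsPiHall π L → L = ⊥ := by
      intro L hL
      rw [← Subgroup.card_eq_one]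
      by_contra hne
      obtain ⟨p, hp, hpL⟩ := Nat.exists_prime_and_dvd hne
      exact hex p hp (hL.1 p hp hpL) (hpL.trans (Subgroup.card_subgroup_dvd_card L))
    refine ⟨1, ?_⟩
    rw [key H hH, key K hK, Subgroup.map_bot]

variable {β : Type} [Fintype β] [DecidableEq β]

/-- **[CONJ-STAB]** the full stabilizers of two finsets of the same size are conjugate -/
theorem conj_of_stab (H K : Subgroup (Perm β)) (t t' : Finset β) (hc : t.card = t'.card)
    (hH1 : ∀ h ∈ H, ∀ a ∈ t, h a ∈ t) (hH2 : ∀ σ : Perm β, (∀ a ∈ t, σ a ∈ t) → σ ∈ H)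
    (hK1 : ∀ h ∈ K, ∀ a ∈ t', h a ∈ t') (hK2 : ∀ σ : Perm β, (∀ a ∈ t', σ a ∈ t') → σ ∈ K) :
    ∃ g : Perm β, K = H.map (MulAut.conj g).toMonoidHom := by
  classical
  have hcard : Fintype.card {x // x ∈ t} = Fintype.card {x // x ∈ t'} := by
    rw [Fintype.card_coe, Fintype.card_coe, hc]
  let e : {x // x ∈ t} ≃ {x // x ∈ t'} := Fintype.equivOfCardEq hcard
  let g : Perm β := e.extendSubtype
  have hg : ∀ a : β, a ∈ t ↔ g a ∈ t' := by
    intro a
    constructor
    · intro ha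
      exact e.extendSubtype_mem a ha
    · intro ha
      by_contra hna
      exact e.extendSubtype_not_mem a hna ha
  have hginv : ∀ a : β, g⁻¹ a ∈ t ↔ a ∈ t' := by
    intro a
    rw [hg (g⁻¹ a)]
    simp
  refine ⟨g, ?_⟩
  ext σ
  rw [Subgroup.mem_map]
  constructor
  · intro hσ
    refine ⟨g⁻¹ * σ * g, ?_, ?_⟩
    · apply hH2
      intro a ha
      simp only [Perm.coe_mul, Function.comp_apply]
      rw [hginv]
      exact hK1 σ hσ _ ((hg a).1 ha)
    · simp only [MulEquiv.coe_toMonoidHom, MulAut.conj_apply]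
      group
  · rintro ⟨h, hh, rfl⟩
    apply hK2
    intro a ha
    simp only [MulEquiv.coe_toMonoidHom, MulAut.conj_apply, Perm.coe_mul, Function.comp_apply]
    rw [← hg]
    exact hH1 h hh _ ((hginv a).2 ha)

end Cfsg.Agent.Lib.Helper49.HallAlt
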