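import Mathlib
import Cfsg.Prelude.Def_HallClasses
import Cfsg.Agent.Lib.Helper49.HallAltConj

set_option autoImplicit false

open Cfsg

namespace Cfsg.Agent.Lib.Helper49.DPi

variable {G : Type*} [Group G] [Finite G] (π : Set ℕ)

theorem isPiSubgroup_bot : IsPiSubgroup π (⊥ : Subgroup G) := by
  intro p hp hdvd
  rw [Subgroup.card_bot] at hdvd
  exact absurd (Nat.dvd_one.1 hdvd) hp.one_lt.ne'

/-- every π-subgroup lies in a maximal π-subgroup -/
theorem exists_maximal_ge (K : Subgroup G) (hK : IsPiSubgroup π K) :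
    ∃ H : Subgroup G, Maximal (IsPiSubgroup π) H ∧ K ≤ H := by
  obtain ⟨H, hH⟩ := (Set.toFinite {H : Subgroup G | IsPiSubgroup π H ∧ K ≤ H}).exists_maximal
    ⟨K, hK, le_rfl⟩
  refine ⟨H, ⟨hH.prop.1, ?_⟩, hH.prop.2⟩
  intro L hL hHL
  exact hH.le_of_ge ⟨hL, le_trans hH.prop.2 hHL⟩ hHL

theorem card_map_conj (H : Subgroup G) (g : G) :
    Nat.card (H.map (MulAut.conj g).toMonoidHom) = Nat.card H :=
  Subgroup.card_map_of_injective (MulAut.conj g).injective

/-- `D_π` gives a Hall `π`-subgroup into which every `π`-subgroup can be conjugated -/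
theorem exists_hall_of_isDPiGroup (h : IsDPiGroup π G) :
    ∃ H : Subgroup G, IsPiHall π H ∧
      ∀ K : Subgroup G, IsPiSubgroup π K → ∃ g : G, K ≤ H.map (MulAut.conj g).toMonoidHom := by
  classical
  obtain ⟨H, hHmax, -⟩ := exists_maximal_ge π (⊥ : Subgroup G) (isPiSubgroup_bot π)
  have hconj : ∀ K : Subgroup G, IsPiSubgroup π K →
      ∃ g : G, K ≤ H.map (MulAut.conj g).toMonoidHom := by
    intro K hK
    obtain ⟨H', hH'max, hKH'⟩ := exists_maximal_ge π K hK
    obtain ⟨g, hg⟩ := h H H' hHmax hH'max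
    exact ⟨g, hg ▸ hKH'⟩
  refine ⟨H, ⟨hHmax.prop, ?_⟩, hconj⟩
  intro p hp hpπ hdvd
  have : Fact p.Prime := ⟨hp⟩
  obtain ⟨P⟩ : Nonempty (Sylow p G) := inferInstance
  have hPπ : IsPiSubgroup π (P : Subgroup G) := by
    intro r hr hrP
    obtain ⟨k, hk⟩ := P.2.exists_card_eq
    rw [hk] at hrP
    have := (Nat.prime_dvd_prime_iff_eq hr hp).1 (hr.dvd_of_dvd_pow hrP)
    rw [this]; exact hpπ
  obtain ⟨g, hg⟩ := hconj P hPπ
  have h1 : Nat.card (P : Subgroup G) ∣ Nat.card H := by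
    rw [← card_map_conj H g]
    exact Subgroup.card_dvd_of_le hg
  obtain ⟨m, hm⟩ := h1
  have h2 := Subgroup.card_mul_index (P : Subgroup G)
  have h3 := Subgroup.card_mul_index H
  have h4 : (P : Subgroup G).index = m * H.index := by
    have hpos : 0 < Nat.card (P : Subgroup G) := Nat.card_pos
    apply Nat.eq_of_mul_eq_mul_left hpos
    rw [h2, ← h3, hm]; ring
  exact P.not_dvd_index (h4 ▸ Dvd.dvd.mul_left hdvd m)

/-- if every prime dividing `|G|` is in `π`, then `G` is a `D_π`-group -/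
theorem isDPiGroup_of_all_primes (h2 : ∀ r : ℕ, r.Prime → r ∣ Nat.card G → r ∈ π) :
    IsDPiGroup π G := by
  have htop : IsPiSubgroup π (⊤ : Subgroup G) := by
    intro p hp hdvd
    rw [Subgroup.card_top] at hdvd
    exact h2 p hp hdvd
  have key : ∀ H : Subgroup G, Maximal (IsPiSubgroup π) H → H = ⊤ := fun H hH =>
    top_le_iff.1 (hH.le_of_ge htop le_top)
  intro H K hH hK
  refine ⟨1, ?_⟩
  rw [key H hH, key K hK]
  ext x
  simp

/-- if at most one prime of `π` divides `|G|`, then `G` is a `D_π`-group -/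
theorem isDPiGroup_of_le_one_prime
    (h1 : ∀ r s : ℕ, r.Prime → s.Prime → r ∈ π → s ∈ π → r ∣ Nat.card G → s ∣ Nat.card G → r = s) :
    IsDPiGroup π G := by
  classical
  -- maximal π-subgroups are Hall
  have key : ∀ H : Subgroup G, Maximal (IsPiSubgroup π) H → IsPiHall π H := by
    intro H hH
    refine ⟨hH.prop, ?_⟩
    intro s hs hsπ hsidx
    have : Fact s.Prime := ⟨hs⟩
    have hsG : s ∣ Nat.card G := hsidx.trans (Subgroup.index_dvd_card H)
    -- H is an s-group
    have hHs : IsPGroup s H := by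
      have hpos : Nat.card H ≠ 0 := Nat.card_pos.ne'
      have := Nat.eq_prime_pow_of_unique_prime_dvd hpos (p := s) (fun {d} hd hdH =>
        h1 d s hd hs (hH.prop d hd hdH) hsπ (hdH.trans (Subgroup.card_subgroup_dvd_card H)) hsG)
      exact IsPGroup.of_card this
    obtain ⟨P, hP⟩ := hHs.exists_le_sylow
    have hPπ : IsPiSubgroup π (P : Subgroup G) := by
      intro r hr hrP
      obtain ⟨k, hk⟩ := P.2.exists_card_eq
      rw [hk] at hrP
      have := (Nat.prime_dvd_prime_iff_eq hr hs).1 (hr.dvd_of_dvd_pow hrP)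
      rw [this]; exact hsπ
    have hPH : (P : Subgroup G) = H := le_antisymm (hH.le_of_ge hPπ hP) hP
    exact P.not_dvd_index (hPH ▸ hsidx)
  intro H K hH hK
  exact Cfsg.Agent.Lib.Helper49.HallAlt.conj_of_le_one_prime π H K (key H hH) (key K hK) h1

end Cfsg.Agent.Lib.Helper49.DPi
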