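import Mathlib

/-!
# DSQW-[GT]: the group `SL₂(p).2` inside `SL₂(p²)`

`d = diag(α, α⁻¹)` with `α² = ν ∈ 𝔽_p` a non-square normalizes the image `N` of `SL₂(𝔽_p)`
in `SL₂(𝔽_{p²})`, `d² ∈ N`, `d ∉ N`; `Gt = N ⊔ ⟨d⟩`.

Reusable: `index_two_sup_zpowers` (abstract: `d` normalizes `N`, `d² ∈ N`, `d ∉ N` gives `N` normal
of index `2` in `N ⊔ ⟨d⟩`), `dg`, `tw`, `dg_conj`.
-/

namespace Cfsg.Agent.Lib.Helper49.DSQWGT

section ext2
variable {G : Type*} [Group G]

/-- If `d` normalizes `N`, `d² ∈ N` and `d ∉ N` then `N` is normal of index `2` in `N ⊔ ⟨d⟩`. -/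
theorem index_two_sup_zpowers (N : Subgroup G) (d : G)
    (h1 : ∀ n ∈ N, d * n * d⁻¹ ∈ N) (h2 : ∀ n ∈ N, d⁻¹ * n * d ∈ N)
    (h3 : d * d ∈ N) (h4 : d ∉ N) :
    N ≤ N ⊔ Subgroup.zpowers d ∧ (N.subgroupOf (N ⊔ Subgroup.zpowers d)).Normal ∧
      (N.subgroupOf (N ⊔ Subgroup.zpowers d)).index = 2 := by
  have hdn : d ∈ Subgroup.normalizer (N : Set G) := by
    rw [Subgroup.mem_normalizer_iff]
    intro n
    refine ⟨h1 n, fun h => ?_⟩
    have := h2 _ h
    simpa [mul_assoc] using this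
  have hle : N ⊔ Subgroup.zpowers d ≤ Subgroup.normalizer (N : Set G) :=
    sup_le Subgroup.le_normalizer (by rw [Subgroup.zpowers_le]; exact hdn)
  have hdG : d ∈ N ⊔ Subgroup.zpowers d :=
    (le_sup_right : Subgroup.zpowers d ≤ _) (Subgroup.mem_zpowers d)
  have hdi : d⁻¹ * d⁻¹ ∈ N := by
    have := N.inv_mem h3
    simpa [mul_inv_rev] using this
  -- the subgroup `N ∪ N d⁻¹`
  let T : Subgroup G :=
    { carrier := {b | b ∈ N ∨ b * d ∈ N}
      one_mem' := Or.inl N.one_mem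
      mul_mem' := by
        rintro a b (ha | ha) (hb | hb)
        · exact Or.inl (N.mul_mem ha hb)
        · right
          have := N.mul_mem ha hb
          simpa [mul_assoc] using this
        · right
          have := N.mul_mem ha (h2 b hb)
          simpa [mul_assoc] using this
        · left
          have := N.mul_mem (N.mul_mem ha (h2 _ hb)) hdi
          simpa [mul_assoc] using this
      inv_mem' := by
        rintro a (ha | ha)
        · exact Or.inl (N.inv_mem ha)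
        · right
          have h5 := N.inv_mem ha
          have := N.mul_mem (h1 _ h5) h3
          simpa [mul_assoc] using this }
  have hT : N ⊔ Subgroup.zpowers d ≤ T := by
    refine sup_le (fun n hn => Or.inl hn) ?_
    rw [Subgroup.zpowers_le]
    exact Or.inr h3
  refine ⟨le_sup_left, (Subgroup.normal_subgroupOf_iff_le_normalizer le_sup_left).mpr hle, ?_⟩
  rw [Subgroup.index_eq_two_iff]
  refine ⟨⟨d, hdG⟩, fun b => ?_⟩
  simp only [Subgroup.mem_subgroupOf, Subgroup.coe_mul]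
  rcases hT b.2 with hb | hb
  · refine Or.inr ⟨hb, fun h => h4 ?_⟩
    have := N.mul_mem (N.inv_mem hb) h
    simpa using this
  · refine Or.inl ⟨hb, fun h => h4 ?_⟩
    have := N.mul_mem (N.inv_mem h) hb
    simpa using this

end ext2

section general

open Matrix

variable {F K : Type*} [Field F] [Field K] [Algebra F K]

/-- the diagonal element `diag(β, β⁻¹)` of `SL₂(K)`. -/
noncomputable def dg (β : K) (hβ : β ≠ 0) : Matrix.SpecialLinearGroup (Fin 2) K :=
  ⟨!![β, 0; 0, β⁻¹], by simp [Matrix.det_fin_two, hβ]⟩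

/-- the twisted matrix `[[a, μ b], [μ⁻¹ c, e]]`. -/
noncomputable def tw (μ : F) (hμ : μ ≠ 0) (M : Matrix.SpecialLinearGroup (Fin 2) F) :
    Matrix.SpecialLinearGroup (Fin 2) F :=
  ⟨!![M.1 0 0, μ * M.1 0 1; μ⁻¹ * M.1 1 0, M.1 1 1], by
    have h := M.2
    rw [Matrix.det_fin_two] at h
    rw [Matrix.det_fin_two_of]
    field_simp
    linear_combination h⟩

theorem dg_conj (β : K) (hβ : β ≠ 0) (μ : F) (hμ : μ ≠ 0) (h : β * β = algebraMap F K μ)
    (M : Matrix.SpecialLinearGroup (Fin 2) F) :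
    dg β hβ * Matrix.SpecialLinearGroup.map (algebraMap F K) M * (dg β hβ)⁻¹ =
      Matrix.SpecialLinearGroup.map (algebraMap F K) (tw μ hμ M) := by
  have hμK : algebraMap F K μ ≠ 0 := by
    rw [← h]; exact mul_ne_zero hβ hβ
  have hd : ((dg β hβ : Matrix.SpecialLinearGroup (Fin 2) K) : Matrix (Fin 2) (Fin 2) K) =
      !![β, 0; 0, β⁻¹] := rfl
  have hdi : (((dg β hβ)⁻¹ : Matrix.SpecialLinearGroup (Fin 2) K) : Matrix (Fin 2) (Fin 2) K) =
      !![β⁻¹, 0; 0, β] := by
    rw [Matrix.SpecialLinearGroup.coe_inv, hd, Matrix.adjugate_fin_two_of]; simp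
  have ht : ((tw μ hμ M : Matrix.SpecialLinearGroup (Fin 2) F) : Matrix (Fin 2) (Fin 2) F) =
      !![M.1 0 0, μ * M.1 0 1; μ⁻¹ * M.1 1 0, M.1 1 1] := rfl
  apply Matrix.SpecialLinearGroup.ext
  intro i j
  rw [Matrix.SpecialLinearGroup.coe_mul, Matrix.SpecialLinearGroup.coe_mul, hd, hdi,
    Matrix.SpecialLinearGroup.map_apply_coe, Matrix.SpecialLinearGroup.map_apply_coe, ht]
  fin_cases i <;> fin_cases j <;>
    simp [Matrix.mul_apply, Fin.sum_univ_two, ← h, Matrix.vecMul, dotProduct] <;> field_simp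

theorem dg_inv (β : K) (hβ : β ≠ 0) : (dg β hβ)⁻¹ = dg β⁻¹ (inv_ne_zero hβ) := by
  apply Matrix.SpecialLinearGroup.ext
  intro i j
  rw [Matrix.SpecialLinearGroup.coe_inv]
  show Matrix.adjugate !![β, 0; 0, β⁻¹] i j = !![β⁻¹, 0; 0, β⁻¹⁻¹] i j
  rw [Matrix.adjugate_fin_two_of]
  fin_cases i <;> fin_cases j <;> simp

theorem dg_mul_self (β : K) (hβ : β ≠ 0) :
    dg β hβ * dg β hβ = dg (β * β) (mul_ne_zero hβ hβ) := by
  apply Matrix.SpecialLinearGroup.ext
  intro i j
  rw [Matrix.SpecialLinearGroup.coe_mul]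
  show (!![β, 0; 0, β⁻¹] * !![β, 0; 0, β⁻¹]) i j = !![β * β, 0; 0, (β * β)⁻¹] i j
  fin_cases i <;> fin_cases j <;> simp [Matrix.mul_apply, Fin.sum_univ_two, mul_comm]

theorem map_dg (μ : F) (hμ : μ ≠ 0) :
    Matrix.SpecialLinearGroup.map (algebraMap F K) (dg μ hμ) =
      dg (algebraMap F K μ) (by simpa using hμ) := by
  apply Matrix.SpecialLinearGroup.ext
  intro i j
  rw [Matrix.SpecialLinearGroup.map_apply_coe]
  show (algebraMap F K).mapMatrix !![μ, 0; 0, μ⁻¹] i j =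
    !![algebraMap F K μ, 0; 0, (algebraMap F K μ)⁻¹] i j
  fin_cases i <;> fin_cases j <;> simp

theorem map_injective :
    Function.Injective (Matrix.SpecialLinearGroup.map (n := Fin 2) (algebraMap F K)) := by
  intro A B h
  apply Matrix.SpecialLinearGroup.ext
  intro i j
  have := congrArg (fun X : Matrix.SpecialLinearGroup (Fin 2) K => X i j) h
  simp only [Matrix.SpecialLinearGroup.map_apply_coe, RingHom.mapMatrix_apply,
    Matrix.map_apply] at this
  exact (algebraMap F K).injective this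

end general

/-- every element of `𝔽_p` is a square in `𝔽_{p²}`. -/
theorem isSquare_algebraMap (p : ℕ) [Fact p.Prime] (hp : p ≠ 2) (ν : ZMod p) (hν : ν ≠ 0) :
    IsSquare (algebraMap (ZMod p) (GaloisField p 2) ν) := by
  classical
  letI : Fintype (GaloisField p 2) := Fintype.ofFinite _
  have hchar : ringChar (GaloisField p 2) ≠ 2 := by
    rw [ringChar.eq (GaloisField p 2) p]; exact hp
  have hne : algebraMap (ZMod p) (GaloisField p 2) ν ≠ 0 := by simpa using hν
  rw [FiniteField.isSquare_iff hchar hne]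
  have hcard : Fintype.card (GaloisField p 2) = p ^ 2 := by
    rw [← Nat.card_eq_fintype_card, GaloisField.card p 2 (by norm_num)]
  have hodd : Odd p := (Fact.out : p.Prime).odd_of_ne_two hp
  obtain ⟨k, hk⟩ := hodd
  have hdiv : p ^ 2 / 2 = (p - 1) * (k + 1) := by
    subst hk
    have : (2 * k + 1) ^ 2 = 2 * (2 * k * (k + 1)) + 1 := by ring
    rw [this]
    have h2 : (2 * (2 * k * (k + 1)) + 1) / 2 = 2 * k * (k + 1) := by omega
    rw [h2]
    simp
  rw [hcard, hdiv, pow_mul, ← map_pow, ZMod.pow_card_sub_one_eq_one hν, map_one, one_pow]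

/-- **DSQW-[GT]**. -/
theorem exists_sl2_ext (p : ℕ) [Fact p.Prime] (hp : p ≠ 2) :
    ∃ Gt N : Subgroup (Matrix.SpecialLinearGroup (Fin 2) (GaloisField p 2)), N ≤ Gt ∧
      (N.subgroupOf Gt).Normal ∧
      (N.subgroupOf Gt).index = 2 ∧ Nonempty (N ≃* Matrix.SpecialLinearGroup (Fin 2) (ZMod p)) := by
  classical
  have hcharF : ringChar (ZMod p) ≠ 2 := by
    rw [ringChar.eq (ZMod p) p]; exact hp
  obtain ⟨ν, hν⟩ := FiniteField.exists_nonsquare (F := ZMod p) hcharF
  have hν0 : ν ≠ 0 := by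
    rintro rfl
    exact hν ⟨0, by simp⟩
  obtain ⟨α, hα⟩ := isSquare_algebraMap p hp ν hν0
  have hα0 : α ≠ 0 := by
    rintro rfl
    simp at hα
    exact hν0 hα
  set φ := Matrix.SpecialLinearGroup.map (n := Fin 2) (algebraMap (ZMod p) (GaloisField p 2))
    with hφ
  have hφinj : Function.Injective φ := map_injective
  set d := dg α hα0 with hd
  have h1 : ∀ n ∈ φ.range, d * n * d⁻¹ ∈ φ.range := by
    rintro _ ⟨M, rfl⟩
    exact ⟨tw ν hν0 M, (dg_conj α hα0 ν hν0 hα.symm M).symm⟩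
  have h2 : ∀ n ∈ φ.range, d⁻¹ * n * d ∈ φ.range := by
    rintro _ ⟨M, rfl⟩
    have hinv : α⁻¹ * α⁻¹ = algebraMap (ZMod p) (GaloisField p 2) ν⁻¹ := by
      rw [map_inv₀, hα, mul_inv]
    refine ⟨tw ν⁻¹ (inv_ne_zero hν0) M, ?_⟩
    have := dg_conj α⁻¹ (inv_ne_zero hα0) ν⁻¹ (inv_ne_zero hν0) hinv M
    rw [← dg_inv α hα0, inv_inv] at this
    exact this.symm
  have h3 : d * d ∈ φ.range := by
    refine ⟨dg ν hν0, ?_⟩
    rw [hd, dg_mul_self, hφ, map_dg]
    congr 1
  have h4 : d ∉ φ.range := by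
    rintro ⟨M, hM⟩
    apply hν
    refine ⟨M.1 0 0, ?_⟩
    have h00 := congrArg (fun X : Matrix.SpecialLinearGroup (Fin 2) (GaloisField p 2) => X 0 0) hM
    simp only [hφ, Matrix.SpecialLinearGroup.map_apply_coe, RingHom.mapMatrix_apply,
      Matrix.map_apply] at h00
    have h00' : algebraMap (ZMod p) (GaloisField p 2) (M.1 0 0) = α := by
      rw [h00]; rfl
    apply (algebraMap (ZMod p) (GaloisField p 2)).injective
    rw [hα, map_mul, h00']
  obtain ⟨hle, hnorm, hidx⟩ := index_two_sup_zpowers φ.range d h1 h2 h3 h4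
  exact ⟨φ.range ⊔ Subgroup.zpowers d, φ.range, hle, hnorm, hidx,
    ⟨(MonoidHom.ofInjective hφinj).symm⟩⟩

end Cfsg.Agent.Lib.Helper49.DSQWGT
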