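import Mathlib
import Cfsg.Agent.S1217
import Cfsg.Agent.Lib.Helper98.DSQWPsl3
import Cfsg.Agent.Lib.Helper84.SylowTwoCard

/-!
# DSQW-[QDQ]: `GL₂(p)`, `p ≡ 3 mod 4`, quasi-dihedral Sylow `2`-subgroup, central involution,
all elements of order `4` conjugate (module of helper84's S5248 project)
-/

namespace Cfsg.Agent.Lib.Helper49.DSQWQDQ

open Cfsg

/-- `-1` is a central involution of `GL₂(F)` in odd characteristic. -/
theorem exists_central_involution {F : Type*} [Field F] (h2 : (2 : F) ≠ 0) :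
    ∃ t ∈ Subgroup.center (GL (Fin 2) F), orderOf t = 2 := by
  refine ⟨-1, ?_, ?_⟩
  · rw [Subgroup.mem_center_iff]
    intro g
    simp
  · have : Fact (Nat.Prime 2) := ⟨Nat.prime_two⟩
    apply orderOf_eq_prime
    · simp
    · intro h
      have h00 := congrArg (fun X : GL (Fin 2) F => (X : Matrix (Fin 2) (Fin 2) F) 0 0) h
      simp at h00
      apply h2
      have : (1 : F) + 1 = 0 := by
        nth_rewrite 1 [← h00]
        ring
      linear_combination this

/-- **DSQW-[QDQ]**. -/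
theorem exists_group_qd_quat (n : ℕ) (hn : 3 ≤ n) :
    ∃ (G : Type) (_ : Group G) (_ : Finite G) (T : Sylow 2 G),
      IsQuasiDihedral (T : Subgroup G) ∧ Nat.card (T : Subgroup G) = 2 ^ (n + 1) ∧
      (∃ t ∈ Subgroup.center G, orderOf t = 2) ∧
      (∀ a b : G, a ∈ (T : Subgroup G) → b ∈ (T : Subgroup G) → orderOf a = 4 → orderOf b = 4 →
        IsConj a b) := by
  have : Fact (Nat.Prime 2) := ⟨Nat.prime_two⟩
  obtain ⟨q, hq, hq4, m, hm, hcard⟩ := Cfsg.Agent.Lib.Helper84.exists_prime_card_gl2 n hn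
  have : Fact q.Prime := ⟨hq⟩
  have h4 : Fintype.card (ZMod q) % 4 = 3 := by rw [ZMod.card]; exact hq4
  let P : Sylow 2 (GL (Fin 2) (ZMod q)) := default
  have hPcard : Nat.card (P : Subgroup (GL (Fin 2) (ZMod q))) = 2 ^ (n + 1) := by
    apply Cfsg.Agent.Lib.Helper84.card_sylow_two_of_card_eq P (n + 1) m hm
    rw [Cfsg.Agent.Lib.Helper98.PSL3Fusion.card_GL2, ZMod.card]
    exact hcard
  have h2 : (2 : ZMod q) ≠ 0 := by
    intro h
    have h2' : ((2 : ℕ) : ZMod q) = 0 := by exact_mod_cast h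
    rw [ZMod.natCast_eq_zero_iff] at h2'
    have := Nat.le_of_dvd (by norm_num) h2'
    have hq2 : 2 ≤ q := hq.two_le
    have : q = 2 := le_antisymm this hq2
    omega
  refine ⟨GL (Fin 2) (ZMod q), inferInstance, inferInstance, P,
    (Cfsg.Agent.S1217.result P).1 h4, hPcard, exists_central_involution h2, ?_⟩
  intro a b _ _ hoa hob
  exact Cfsg.Agent.Lib.Helper98.DSQW.gl2_isConj_of_orderOf_eq_four h4 a b hoa hob

end Cfsg.Agent.Lib.Helper49.DSQWQDQ
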