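import Mathlib
import Cfsg.Agent.Lib.Helper49.DSQWGT
import Cfsg.Agent.Lib.Helper84.SSQuat

/-!
# DSQW-[QHALF] (helper84's project S5248)

The group `SL₂(p).2 ≤ SL₂(p²)` of `DSQWGT.exists_sl2_ext` has generalized quaternion Sylow
`2`-subgroups `T` of order `2^(k+2)`, a normal subgroup `N ≅ SL₂(p)` of index `2` in which all elements
of order `4` are conjugate, and `T ⊓ N` (a Sylow `2`-subgroup of `N`) is not cyclic.
-/

set_option autoImplicit false

namespace Cfsg.Agent.Lib.Helper49.DSQWQHalf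

open Cfsg

/-- A subgroup whose order is the full `2`-part of the order of a group with non-commutative
Sylow `2`-subgroups is not commutative. -/
theorem not_comm_of_card {A : Type*} [Group A] [Finite A] (H : Subgroup A) (n r : ℕ)
    (hH : Nat.card H = 2 ^ n) (hA : Nat.card A = 2 ^ n * r) (hr : ¬ 2 ∣ r) (P : Sylow 2 A)
    (hP : ∃ x y : (P : Subgroup A), x * y ≠ y * x) : ∃ x y : H, x * y ≠ y * x := by
  obtain ⟨e⟩ := Cfsg.Agent.S0261.sylow_equiv_of_card 2 H n r hH hA hr P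
  obtain ⟨x, y, hxy⟩ := hP
  refine ⟨e x, e y, fun h => hxy ?_⟩
  apply e.injective
  rw [map_mul, map_mul, h]

/-- Sylow `2`-subgroups of `SL₂(F)`, `|F|` odd, are not commutative. -/
theorem sylow_sl2_not_comm {F : Type*} [Field F] [Fintype F] (hF : Odd (Fintype.card F))
    (P : Sylow 2 (Matrix.SpecialLinearGroup (Fin 2) F)) :
    ∃ x y : (P : Subgroup (Matrix.SpecialLinearGroup (Fin 2) F)), x * y ≠ y * x := by
  obtain ⟨j, hj, ⟨e⟩⟩ := Cfsg.Agent.S0261.result hF P
  have h2 : 2 ≤ 2 ^ j := by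
    calc 2 = 2 ^ 1 := by norm_num
      _ ≤ 2 ^ j := Nat.pow_le_pow_right (by norm_num) hj
  refine ⟨e.symm (QuaternionGroup.xa 0), e.symm (QuaternionGroup.xa 1), fun h => ?_⟩
  apply Cfsg.Agent.Lib.Helper84.quaternion_xa_not_comm h2
  have := congrArg e h
  simpa using this

/-- **DSQW-[QHALF]**. -/
theorem exists_group_quaternion_half (k : ℕ) (hk : 2 ≤ k) :
    ∃ (G : Type) (_ : Group G) (_ : Finite G) (T : Sylow 2 G) (N : Subgroup G),
      N.Normal ∧ N.index = 2 ∧ Nonempty ((T : Subgroup G) ≃* QuaternionGroup (2 ^ k)) ∧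
      ¬ IsCyclic ↥((T : Subgroup G) ⊓ N) ∧
      ∀ a b : G, a ∈ N → b ∈ N → orderOf a = 4 → orderOf b = 4 → IsConj a b := by
  classical
  obtain ⟨q, hq, hodd, m, hm, hcard⟩ := Cfsg.Agent.Lib.Helper84.exists_prime_card_sl2 (k - 1) (by omega)
  have : Fact q.Prime := ⟨hq⟩
  letI : Fintype (GaloisField q 2) := Fintype.ofFinite _
  have hq2 : q ≠ 2 := by rintro rfl; omega
  have hk1 : k - 1 + 2 = k + 1 := by omega
  rw [hk1] at hcard
  obtain ⟨Gt, N, hle, hnorm, hidx, ⟨e⟩⟩ := Cfsg.Agent.Lib.Helper49.DSQWGT.exists_sl2_ext q hq2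
  -- cardinalities
  have hFq : Fintype.card (ZMod q) = q := ZMod.card q
  have hoddq : Odd (Fintype.card (ZMod q)) := by rw [hFq]; exact Nat.odd_iff.2 hodd
  have hcN0 : Nat.card (Matrix.SpecialLinearGroup (Fin 2) (ZMod q)) = 2 ^ (k + 1) * m := by
    rw [Cfsg.Agent.Lib.Helper5.card_SL2, hFq, hcard]
  let E : ↥(N.subgroupOf Gt) ≃* Matrix.SpecialLinearGroup (Fin 2) (ZMod q) :=
    (Subgroup.subgroupOfEquivOfLe hle).trans e
  have hcN' : Nat.card ↥(N.subgroupOf Gt) = 2 ^ (k + 1) * m := by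
    rw [Nat.card_congr E.toEquiv, hcN0]
  have hcG : Nat.card ↥Gt = 2 ^ (k + 2) * m := by
    have h := (N.subgroupOf Gt).card_mul_index
    rw [hidx, hcN'] at h
    rw [← h, pow_succ]; ring
  -- the big field
  have hK : Fintype.card (GaloisField q 2) = q ^ 2 := by
    rw [← Nat.card_eq_fintype_card]; exact GaloisField.card q 2 (by norm_num)
  have hoddK : Odd (Fintype.card (GaloisField q 2)) := by
    rw [hK]; exact (Nat.odd_iff.2 hodd).pow
  obtain ⟨r, hr⟩ : ∃ r, q ^ 2 + 1 = 2 * (2 * r + 1) := by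
    obtain ⟨j, hj⟩ := Nat.odd_iff.2 hodd
    refine ⟨j * j + j, ?_⟩
    rw [hj]; ring
  have hq1 : 1 ≤ q ^ 2 := Nat.one_le_pow _ _ hq.pos
  have hcSLK : Nat.card (Matrix.SpecialLinearGroup (Fin 2) (GaloisField q 2)) =
      2 ^ (k + 2) * (q * m * (2 * r + 1)) := by
    rw [Cfsg.Agent.Lib.Helper5.card_SL2, hK]
    have h1 : (q ^ 2) ^ 2 - 1 = (q ^ 2 - 1) * (q ^ 2 + 1) := by
      zify [hq1, Nat.one_le_pow 2 _ hq1]
      ring
    rw [h1, hr]
    calc q ^ 2 * ((q ^ 2 - 1) * (2 * (2 * r + 1)))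
        = q * (q * (q ^ 2 - 1)) * (2 * (2 * r + 1)) := by ring
      _ = q * (2 ^ (k + 1) * m) * (2 * (2 * r + 1)) := by rw [hcard]
      _ = 2 ^ (k + 2) * (q * m * (2 * r + 1)) := by rw [pow_succ 2 (k + 1)]; ring
  have hoddcof : ¬ 2 ∣ q * m * (2 * r + 1) := by
    intro h
    have : Even (q * m * (2 * r + 1)) := even_iff_two_dvd.2 h
    rw [Nat.even_mul, Nat.even_mul] at this
    rcases this with (h1 | h1) | h1
    · exact (Nat.not_even_iff_odd.2 (Nat.odd_iff.2 hodd)) h1
    · exact (Nat.not_even_iff_odd.2 hm) h1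
    · exact (Nat.not_even_iff_odd.2 ⟨r, rfl⟩) h1
  -- the Sylow subgroup
  let T : Sylow 2 ↥Gt := default
  have hcT : Nat.card (T : Subgroup ↥Gt) = 2 ^ (k + 2) :=
    Cfsg.Agent.Lib.Helper84.card_sylow_two_of_card_eq T (k + 2) m hm hcG
  refine ⟨↥Gt, inferInstance, inferInstance, T, N.subgroupOf Gt, hnorm, hidx, ?_, ?_, ?_⟩
  · -- `T` is a Sylow `2`-subgroup of `SL₂(p²)`
    let T' : Subgroup (Matrix.SpecialLinearGroup (Fin 2) (GaloisField q 2)) :=
      (T : Subgroup ↥Gt).map Gt.subtype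
    let f : (T : Subgroup ↥Gt) ≃* T' :=
      (T : Subgroup ↥Gt).equivMapOfInjective Gt.subtype Gt.subtype_injective
    have hcT' : Nat.card T' = 2 ^ (k + 2) := by
      rw [← Nat.card_congr f.toEquiv, hcT]
    let P : Sylow 2 (Matrix.SpecialLinearGroup (Fin 2) (GaloisField q 2)) := default
    obtain ⟨g⟩ := Cfsg.Agent.S0261.sylow_equiv_of_card 2 T' (k + 2) _ hcT' hcSLK hoddcof P
    obtain ⟨j, hj, ⟨e'⟩⟩ := Cfsg.Agent.S0261.result hoddK P
    have h1 : Nat.card (T : Subgroup ↥Gt) = 4 * 2 ^ j := by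
      have : NeZero (2 ^ j) := ⟨by positivity⟩
      rw [Nat.card_congr ((f.trans g.symm).trans e').toEquiv, Nat.card_eq_fintype_card,
        QuaternionGroup.card]
    have h2 : j = k := by
      rw [hcT] at h1
      have h3 : (2 : ℕ) ^ (k + 2) = 2 ^ (j + 2) := by rw [h1, pow_add]; ring
      have := Nat.pow_right_injective (le_refl 2) h3
      omega
    rw [h2] at e'
    exact ⟨(f.trans g.symm).trans e'⟩
  · -- `T ⊓ N` is a Sylow `2`-subgroup of `N ≅ SL₂(p)`
    intro hcyc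
    set H : Subgroup ↥Gt := (T : Subgroup ↥Gt) ⊓ N.subgroupOf Gt with hH
    -- order of `H`
    have hHT : H ≤ (T : Subgroup ↥Gt) := inf_le_left
    have hHN : H ≤ N.subgroupOf Gt := inf_le_right
    have hdvdT : Nat.card H ∣ 2 ^ (k + 2) := by
      rw [← hcT]; exact Subgroup.card_dvd_of_le hHT
    obtain ⟨i, hi, hHi⟩ := (Nat.dvd_prime_pow Nat.prime_two).1 hdvdT
    have hdvdN : Nat.card H ∣ 2 ^ (k + 1) * m := by
      rw [← hcN']; exact Subgroup.card_dvd_of_le hHN
    have hi1 : i ≤ k + 1 := by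
      rw [hHi] at hdvdN
      have hcop : Nat.Coprime (2 ^ i) m := by
        apply Nat.Coprime.pow_left
        rw [Nat.coprime_two_left]; exact hm
      have := hcop.dvd_of_dvd_mul_right hdvdN
      exact (Nat.pow_dvd_pow_iff_le_right (by norm_num)).1 this
    have hrel : (N.subgroupOf Gt).relIndex (T : Subgroup ↥Gt) ∣ 2 := by
      have := Subgroup.relIndex_dvd_index_of_normal (N.subgroupOf Gt) (T : Subgroup ↥Gt)
      rwa [hidx] at this
    have hmul : Nat.card H * (N.subgroupOf Gt).relIndex (T : Subgroup ↥Gt) = 2 ^ (k + 2) := by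
      have h1 := (H.subgroupOf (T : Subgroup ↥Gt)).card_mul_index
      rw [hcT, Nat.card_congr (Subgroup.subgroupOfEquivOfLe hHT).toEquiv] at h1
      have h2 : (H.subgroupOf (T : Subgroup ↥Gt)).index = (N.subgroupOf Gt).relIndex (T : Subgroup ↥Gt) := by
        rw [hH]; exact Subgroup.inf_relIndex_left _ _
      rw [h2] at h1
      exact h1
    have hcH : Nat.card H = 2 ^ (k + 1) := by
      have hd : (N.subgroupOf Gt).relIndex (T : Subgroup ↥Gt) = 1 ∨
          (N.subgroupOf Gt).relIndex (T : Subgroup ↥Gt) = 2 :=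
        (Nat.dvd_prime Nat.prime_two).1 hrel
      rcases hd with hd | hd
      · rw [hd, mul_one, hHi] at hmul
        have := Nat.pow_right_injective (le_refl 2) hmul
        omega
      · rw [hd, hHi] at hmul
        have h3 : (2 : ℕ) ^ (i + 1) = 2 ^ (k + 2) := by rw [pow_succ, hmul]
        have := Nat.pow_right_injective (le_refl 2) h3
        have hik : i = k + 1 := by omega
        rw [hHi, hik]
    -- transport to `SL₂(p)`
    let ι : ↥H →* Matrix.SpecialLinearGroup (Fin 2) (ZMod q) :=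
      E.toMonoidHom.comp (Subgroup.inclusion hHN)
    have hι : Function.Injective ι := by
      intro x y hxy
      have := E.injective hxy
      exact Subgroup.inclusion_injective hHN this
    have hcH' : Nat.card ι.range = 2 ^ (k + 1) := by
      rw [← Nat.card_congr (MonoidHom.ofInjective hι).toEquiv, hcH]
    have hm2 : ¬ 2 ∣ m := by
      intro h
      exact (Nat.not_even_iff_odd.2 hm) (even_iff_two_dvd.2 h)
    obtain ⟨x, y, hxy⟩ := not_comm_of_card ι.range (k + 1) m hcH' hcN0 hm2 default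
      (sylow_sl2_not_comm hoddq default)
    apply hxy
    obtain ⟨g, hg⟩ := hcyc.exists_generator
    let F := MonoidHom.ofInjective hι
    obtain ⟨a, ha⟩ := hg (F.symm x)
    obtain ⟨b, hb⟩ := hg (F.symm y)
    apply F.symm.injective
    rw [map_mul, map_mul, ← ha, ← hb]
    exact zpow_mul_comm g a b
  · intro a b ha hb oa ob
    have hodd' : Fintype.card (ZMod q) % 2 = 1 := by rw [hFq]; exact hodd
    have h2 : (2 : ZMod q) ≠ 0 := Cfsg.Agent.Lib.Helper98.PSL2Fusion.two_ne_zero_of_odd_card hodd'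
    have key : ∀ c : Matrix.SpecialLinearGroup (Fin 2) (ZMod q), orderOf c = 4 →
        c * c = Cfsg.Agent.Lib.Helper41.negOne := by
      intro c oc
      apply Cfsg.Agent.Lib.Helper98.SL2Quat.eq_negOne_of_sq h2
      · have := pow_orderOf_eq_one c
        rw [oc] at this
        rw [← this]
        simp only [pow_succ, pow_zero, one_mul, mul_assoc]
      · intro h
        have h4 : orderOf c ∣ 2 := orderOf_dvd_of_pow_eq_one (by rw [pow_two]; exact h)
        rw [oc] at h4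
        omega
    have ox : orderOf (E ⟨a, ha⟩) = 4 := by
      rw [MulEquiv.orderOf_eq, Subgroup.orderOf_mk, oa]
    have oy : orderOf (E ⟨b, hb⟩) = 4 := by
      rw [MulEquiv.orderOf_eq, Subgroup.orderOf_mk, ob]
    obtain ⟨g, hg⟩ := Cfsg.Agent.Lib.Helper98.SL2Quat.exists_conj_of_sq h2 _ _ (key _ ox) (key _ oy)
    have h3 : E.symm g * ⟨a, ha⟩ * (E.symm g)⁻¹ = ⟨b, hb⟩ := by
      apply E.injective
      rw [map_mul, map_mul, map_inv, MulEquiv.apply_symm_apply, hg]
    rw [isConj_iff]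
    refine ⟨((E.symm g : ↥(N.subgroupOf Gt)) : ↥Gt), ?_⟩
    have := congrArg (fun z : ↥(N.subgroupOf Gt) => (z : ↥Gt)) h3
    simpa using this

end Cfsg.Agent.Lib.Helper49.DSQWQHalf
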