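import Mathlib
import Cfsg.Agent.S1217
import Cfsg.Agent.Lib.Helper98.DSQWPsl3
import Cfsg.Agent.Lib.Helper84.SylowTwoCard
import Cfsg.Agent.Lib.Helper49.DSQWQDQ

/-!
# DSQW-[WRQ]: `GL₂(p)`, `p ≡ 1 + 2^n mod 2^(n+1)`, wreathed Sylow `2`-subgroup, central involution,
all non-central involutions conjugate (module of helper84's S5248 project)
-/

namespace Cfsg.Agent.Lib.Helper49.DSQWWRQ

open Cfsg

section gl2

variable {F : Type*} [Field F]

/-- `diag(1,-1)` -/
def dMat : Matrix (Fin 2) (Fin 2) F := !![1, 0; 0, -1]

theorem dMat_det : (dMat : Matrix (Fin 2) (Fin 2) F).det ≠ 0 := by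
  rw [dMat, Matrix.det_fin_two_of]
  simp

/-- matrix-level conjugation statement -/
theorem exists_conj_mat (h2 : (2 : F) ≠ 0) (a b c d : F)
    (hsq : !![a, b; c, d] * !![a, b; c, d] = 1) (hns : ¬ (b = 0 ∧ c = 0 ∧ a = d)) :
    ∃ P : Matrix (Fin 2) (Fin 2) F, P.det ≠ 0 ∧ !![a, b; c, d] * P = P * dMat := by
  rw [Matrix.mul_fin_two] at hsq
  have e00 : a * a + b * c = 1 := by
    have := congrFun (congrFun hsq 0) 0; simpa using this
  have e01 : a * b + b * d = 0 := by
    have := congrFun (congrFun hsq 0) 1; simpa using this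
  have e10 : c * a + d * c = 0 := by
    have := congrFun (congrFun hsq 1) 0; simpa using this
  have e11 : c * b + d * d = 1 := by
    have := congrFun (congrFun hsq 1) 1; simpa using this
  by_cases hb : b = 0
  · by_cases hc : c = 0
    · subst hb hc
      have ha : a = 1 ∨ a = -1 := by
        have : (a - 1) * (a + 1) = 0 := by linear_combination e00
        rcases mul_eq_zero.1 this with h | h
        · left; linear_combination h
        · right; linear_combination h
      have hd : d = 1 ∨ d = -1 := by
        have : (d - 1) * (d + 1) = 0 := by linear_combination e11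
        rcases mul_eq_zero.1 this with h | h
        · left; linear_combination h
        · right; linear_combination h
      have had : a ≠ d := fun h => hns ⟨rfl, rfl, h⟩
      rcases ha with rfl | rfl <;> rcases hd with rfl | rfl
      · exact absurd rfl had
      · refine ⟨1, by simp, ?_⟩
        simp [dMat]
      · refine ⟨!![0, 1; 1, 0], by simp [Matrix.det_fin_two_of], ?_⟩
        simp [dMat]
      · exact absurd rfl had
    · have hd : d = -a := by
        have : c * (a + d) = 0 := by linear_combination e10
        rcases mul_eq_zero.1 this with h | h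
        · exact absurd h hc
        · linear_combination h
      subst hd
      refine ⟨!![a + 1, a - 1; c, c], ?_, ?_⟩
      · rw [Matrix.det_fin_two_of]
        intro h
        have : 2 * c = 0 := by linear_combination h
        rcases mul_eq_zero.1 this with h | h
        · exact h2 h
        · exact hc h
      · rw [dMat, Matrix.mul_fin_two, Matrix.mul_fin_two]
        congr 1
        ext i j
        fin_cases i <;> fin_cases j <;> simp
        · linear_combination e00
        · linear_combination e00
        · ring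
        · ring
  · have hd : d = -a := by
      have : b * (a + d) = 0 := by linear_combination e01
      rcases mul_eq_zero.1 this with h | h
      · exact absurd h hb
      · linear_combination h
    subst hd
    refine ⟨!![b, b; 1 - a, -a - 1], ?_, ?_⟩
    · rw [Matrix.det_fin_two_of]
      intro h
      have : 2 * b = 0 := by linear_combination -h
      rcases mul_eq_zero.1 this with h | h
      · exact h2 h
      · exact hb h
    · rw [dMat, Matrix.mul_fin_two, Matrix.mul_fin_two]
      congr 1
      ext i j
      fin_cases i <;> fin_cases j <;> simp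
      · ring
      · ring
      · linear_combination e00
      · linear_combination e00


/-- In `GL₂(F)`, odd characteristic, every non-central involution is conjugate to `diag(1,-1)`. -/
theorem isConj_dMat_of_involution (h2 : (2 : F) ≠ 0) (g : GL (Fin 2) F) (hg : orderOf g = 2)
    (hc : g ∉ Subgroup.center (GL (Fin 2) F)) :
    IsConj (Matrix.GeneralLinearGroup.mkOfDetNeZero (dMat : Matrix (Fin 2) (Fin 2) F) dMat_det) g := by
  set A : Matrix (Fin 2) (Fin 2) F := (g : Matrix (Fin 2) (Fin 2) F) with hA
  have hAeta : A = !![A 0 0, A 0 1; A 1 0, A 1 1] := Matrix.eta_fin_two A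
  have hg2 : g * g = 1 := by
    have := pow_orderOf_eq_one g
    rwa [hg, pow_two] at this
  have hA2 : A * A = 1 := by
    have := congrArg (fun X : GL (Fin 2) F => (X : Matrix (Fin 2) (Fin 2) F)) hg2
    simpa using this
  have hns : ¬ (A 0 1 = 0 ∧ A 1 0 = 0 ∧ A 0 0 = A 1 1) := by
    rintro ⟨hb, hc', had⟩
    apply hc
    rw [Subgroup.mem_center_iff]
    intro h
    apply Units.ext
    show (h : Matrix (Fin 2) (Fin 2) F) * A = A * (h : Matrix (Fin 2) (Fin 2) F)
    have hscal : A = (A 0 0) • (1 : Matrix (Fin 2) (Fin 2) F) := by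
      rw [hAeta]
      ext i j
      fin_cases i <;> fin_cases j <;> simp [hb, hc', had]
    rw [hscal]
    simp
  rw [hAeta] at hA2
  obtain ⟨P, hP, hPA⟩ := exists_conj_mat h2 _ _ _ _ hA2 hns
  rw [← hAeta] at hPA
  rw [isConj_iff]
  refine ⟨Matrix.GeneralLinearGroup.mkOfDetNeZero P hP, ?_⟩
  rw [mul_inv_eq_iff_eq_mul]
  apply Units.ext
  show P * dMat = A * P
  exact hPA.symm

end gl2

/-- **DSQW-[WRQ]**. -/
theorem exists_group_wr_quat (n : ℕ) (hn : 2 ≤ n) :
    ∃ (G : Type) (_ : Group G) (_ : Finite G) (T : Sylow 2 G),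
      IsWreathed (T : Subgroup G) ∧ Nat.card (T : Subgroup G) = 2 ^ (2 * n + 1) ∧
      (∃ t ∈ Subgroup.center G, orderOf t = 2) ∧
      (∀ a b : G, orderOf a = 2 → orderOf b = 2 → a ∉ Subgroup.center G →
        b ∉ Subgroup.center G → IsConj a b) := by
  have : Fact (Nat.Prime 2) := ⟨Nat.prime_two⟩
  obtain ⟨q, hq, hq4, m, hm, hcard⟩ := Cfsg.Agent.Lib.Helper98.DSQW.exists_prime_card_gl2_wr n hn
  have : Fact q.Prime := ⟨hq⟩
  have h4 : Fintype.card (ZMod q) % 4 = 1 := by rw [ZMod.card]; exact hq4
  let P : Sylow 2 (GL (Fin 2) (ZMod q)) := default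
  have hPcard : Nat.card (P : Subgroup (GL (Fin 2) (ZMod q))) = 2 ^ (2 * n + 1) := by
    apply Cfsg.Agent.Lib.Helper84.card_sylow_two_of_card_eq P (2 * n + 1) m hm
    rw [Cfsg.Agent.Lib.Helper98.PSL3Fusion.card_GL2, ZMod.card]
    exact hcard
  have h2 : (2 : ZMod q) ≠ 0 := by
    intro h
    have h2' : ((2 : ℕ) : ZMod q) = 0 := by exact_mod_cast h
    rw [ZMod.natCast_eq_zero_iff] at h2'
    have := Nat.le_of_dvd (by norm_num) h2'
    have hq2 : 2 ≤ q := hq.two_le
    have : q = 2 := le_antisymm this hq2
    omega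
  refine ⟨GL (Fin 2) (ZMod q), inferInstance, inferInstance, P,
    (Cfsg.Agent.S1217.result P).2 h4, hPcard,
    Cfsg.Agent.Lib.Helper49.DSQWQDQ.exists_central_involution h2, ?_⟩
  intro a b hoa hob hca hcb
  exact (isConj_dMat_of_involution h2 a hoa hca).symm.trans (isConj_dMat_of_involution h2 b hob hcb)

end Cfsg.Agent.Lib.Helper49.DSQWWRQ
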