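import Mathlib

/-!
# S4481 module [GT-C] (helper81's PROJECT DIH, board #3947)

`pow_conj`: in a group with a dihedral Sylow 2-subgroup `P` of order `2 ^ n ≥ 8`, two nontrivial
powers `σ ^ l`, `σ ^ l'` of a rotation `σ` of order `2 ^ (n - 1)` are conjugate in `G` only if
`l' = ± l`.
-/

set_option autoImplicit false

namespace Cfsg.Agent.Lib.Helper49.DihGTC

open Subgroup

/-- In a dihedral group of degree `m > 2` an element of order `m` is centralized or inverted by
every element. -/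
theorem dihedral_conj (m : ℕ) (hm : 2 < m) (a x : DihedralGroup m) (ha : orderOf a = m) :
    x * a * x⁻¹ = a ∨ x * a * x⁻¹ = a⁻¹ := by
  cases a with
  | r i =>
    cases x with
    | r j => left; simp
    | sr j => right; simp
  | sr i =>
    exfalso
    rw [DihedralGroup.orderOf_sr] at ha
    omega

/-- The same inside a subgroup isomorphic to a dihedral group. -/
theorem conj_eq_or_inv {G : Type*} [Group G] (P : Subgroup G) (m : ℕ) (hm : 2 < m)
    (e : P ≃* DihedralGroup m) (σ x : G) (hσ : σ ∈ P) (hx : x ∈ P) (hσo : orderOf σ = m) :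
    x * σ * x⁻¹ = σ ∨ x * σ * x⁻¹ = σ⁻¹ := by
  have ho : orderOf (e ⟨σ, hσ⟩) = m := by
    rw [MulEquiv.orderOf_eq, Subgroup.orderOf_mk, hσo]
  rcases dihedral_conj m hm (e ⟨σ, hσ⟩) (e ⟨x, hx⟩) ho with h | h
  · left
    have h' : e (⟨x, hx⟩ * ⟨σ, hσ⟩ * ⟨x, hx⟩⁻¹) = e ⟨σ, hσ⟩ := by
      rw [map_mul, map_mul, map_inv]; exact h
    have := congrArg Subtype.val (e.injective h')
    simpa using this
  · right
    have h' : e (⟨x, hx⟩ * ⟨σ, hσ⟩ * ⟨x, hx⟩⁻¹) = e (⟨σ, hσ⟩⁻¹) := by
      rw [map_mul, map_mul, map_inv, map_inv]; exact h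
    have := congrArg Subtype.val (e.injective h')
    simpa using this

/-- Powers of a fixed element with the same order generate the same subgroup. -/
theorem pow_mem_zpowers_pow {G : Type*} [Group G] (σ : G) (l l' : ℕ)
    (ho : 0 < orderOf σ)
    (h : orderOf (σ ^ l') = orderOf (σ ^ l)) : σ ^ l' ∈ zpowers (σ ^ l) := by
  set m := orderOf σ with hm
  have hfin : IsOfFinOrder σ := orderOf_pos_iff.mp ho
  have h1 : orderOf (σ ^ l) = m / Nat.gcd m l := hfin.orderOf_pow ..
  have h2 : orderOf (σ ^ l') = m / Nat.gcd m l' := hfin.orderOf_pow ..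
  rw [h1, h2] at h
  have hd1 : Nat.gcd m l ∣ m := Nat.gcd_dvd_left _ _
  have hd2 : Nat.gcd m l' ∣ m := Nat.gcd_dvd_left _ _
  have hgcd : Nat.gcd m l' = Nat.gcd m l := by
    obtain ⟨a, ha⟩ := hd1
    obtain ⟨b, hb⟩ := hd2
    have hpos1 : 0 < Nat.gcd m l := Nat.gcd_pos_of_pos_left _ ho
    have hpos2 : 0 < Nat.gcd m l' := Nat.gcd_pos_of_pos_left _ ho
    have e1 : m / Nat.gcd m l = a := Nat.div_eq_of_eq_mul_right hpos1 ha
    have e2 : m / Nat.gcd m l' = b := Nat.div_eq_of_eq_mul_right hpos2 hb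
    rw [e1, e2] at h
    subst h
    have hb0 : 0 < b := by
      rcases Nat.eq_zero_or_pos b with h0 | h0
      · rw [h0, mul_zero] at hb; omega
      · exact h0
    have : Nat.gcd m l' * b = Nat.gcd m l * b := by rw [← hb, ← ha]
    exact Nat.eq_of_mul_eq_mul_right hb0 this
  -- `σ ^ gcd m l ∈ zpowers (σ ^ l)` by Bezout
  have hbez : σ ^ Nat.gcd m l ∈ zpowers (σ ^ l) := by
    rw [mem_zpowers_iff]
    refine ⟨Nat.gcdB m l, ?_⟩
    have hb := Nat.gcd_eq_gcd_ab m l
    have : σ ^ ((Nat.gcd m l : ℕ) : ℤ) = σ ^ ((m : ℤ) * Nat.gcdA m l + (l : ℤ) * Nat.gcdB m l) := by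
      rw [hb]
    rw [zpow_natCast] at this
    rw [this, zpow_add, zpow_mul, zpow_mul, zpow_natCast, zpow_natCast, hm, pow_orderOf_eq_one,
      one_zpow, one_mul]
  obtain ⟨c, hc⟩ : Nat.gcd m l ∣ l' := hgcd ▸ Nat.gcd_dvd_right m l'
  rw [hc, pow_mul]
  exact Subgroup.pow_mem _ hbez c

/-- An element conjugating `u` into `zpowers u` normalizes `zpowers u` (finite group). -/
theorem mem_normalizer_zpowers {G : Type*} [Group G] [Finite G] (g u : G)
    (h : g * u * g⁻¹ ∈ zpowers u) : g ∈ normalizer (zpowers u : Set G) := by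
  apply mem_normalizer_fintype
  intro y hy
  obtain ⟨k, rfl⟩ := mem_zpowers_iff.mp hy
  have : g * u ^ k * g⁻¹ = (g * u * g⁻¹) ^ k := by
    simp [conj_zpow]
  rw [this]
  exact Subgroup.zpow_mem _ h k

/-- The automorphism group of a cyclic `2`-group is a `2`-group. -/
theorem card_mulAut_zpowers_two_pow {G : Type*} [Group G] [Finite G] (u : G) (j : ℕ)
    (hu : orderOf u = 2 ^ j) : ∃ t : ℕ, Nat.card (MulAut (zpowers u)) = 2 ^ t := by
  rw [IsCyclic.card_mulAut, Nat.card_zpowers, hu]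
  rcases Nat.eq_zero_or_pos j with h0 | h0
  · exact ⟨0, by simp [h0]⟩
  · exact ⟨j - 1, by rw [Nat.totient_prime_pow Nat.prime_two h0]; simp⟩

/-- **[GT-C]** fusion of powers of `σ`. -/
theorem pow_conj {G : Type*} [Group G] [Finite G] (n : ℕ) (hn : 3 ≤ n)
    (P : Sylow 2 G) (hP : Nonempty ((P : Subgroup G) ≃* DihedralGroup (2 ^ (n - 1))))
    (σ : G) (hσ : σ ∈ (P : Subgroup G)) (hσo : orderOf σ = 2 ^ (n - 1))
    (l l' : ℕ) (hl0 : 0 < l) (hl : l < 2 ^ (n - 1)) (hl'0 : 0 < l') (hl' : l' < 2 ^ (n - 1))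
    (hc : IsConj (σ ^ l) (σ ^ l')) : l' = l ∨ l' = 2 ^ (n - 1) - l := by
  obtain ⟨e⟩ := hP
  have hm4 : 4 ≤ 2 ^ (n - 1) := by
    have : 2 ^ 2 ≤ 2 ^ (n - 1) := Nat.pow_le_pow_right (by norm_num) (by omega)
    simpa using this
  obtain ⟨g, hg⟩ := isConj_iff.mp hc
  have hopos : 0 < orderOf σ := by rw [hσo]; positivity
  -- orders agree
  have hord : orderOf (σ ^ l') = orderOf (σ ^ l) := by
    rw [← hg]
    exact (MulAut.conj g).orderOf_eq (σ ^ l)
  have hu'H : σ ^ l' ∈ zpowers (σ ^ l) := pow_mem_zpowers_pow σ l l' hopos hord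
  -- elements of `P` act on `⟨σ⟩` by `±1`
  have hPact : ∀ x ∈ (P : Subgroup G),
      x * σ ^ l * x⁻¹ = σ ^ l ∨ x * σ ^ l * x⁻¹ = (σ ^ l)⁻¹ := by
    intro x hx
    have hpow : x * σ ^ l * x⁻¹ = (x * σ * x⁻¹) ^ l := by rw [conj_pow]
    rcases conj_eq_or_inv (P : Subgroup G) _ (by omega) e σ x hσ hx hσo with h | h
    · left; rw [hpow, h]
    · right; rw [hpow, h, inv_pow]
  -- key: the conjugation by `g` agrees on `σ ^ l` with the conjugation by some `x ∈ P`
  have key : ∃ x ∈ (P : Subgroup G), x * σ ^ l * x⁻¹ = σ ^ l' := by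
    set u := σ ^ l with hu
    set H := zpowers u with hH
    have hgN : g ∈ normalizer (H : Set G) := mem_normalizer_zpowers g u (by rw [hg]; exact hu'H)
    have hPN : (P : Subgroup G) ≤ normalizer (H : Set G) := by
      intro x hx
      apply mem_normalizer_zpowers
      rcases hPact x hx with h | h
      · rw [h]; exact mem_zpowers u
      · rw [h]; exact Subgroup.inv_mem _ (mem_zpowers u)
    -- the order of `u` is a power of two
    obtain ⟨j, -, hj⟩ := (Nat.dvd_prime_pow Nat.prime_two).mp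
      (hσo ▸ orderOf_pow_dvd (x := σ) l : orderOf u ∣ 2 ^ (n - 1))
    obtain ⟨t, ht⟩ := card_mulAut_zpowers_two_pow u j hj
    -- the kernel of `N → Aut H` has `2`-power index
    set φ := H.normalizerMonoidHom with hφ
    have hindex : φ.ker.index ∣ 2 ^ t := by
      rw [← ht, Subgroup.index_ker]
      exact Subgroup.card_subgroup_dvd_card _
    -- `P ∩ N` has odd index in `N`
    set PN := (P : Subgroup G).subgroupOf (normalizer (H : Set G)) with hPNdef
    have hPNindex : PN.index ∣ (P : Subgroup G).index := by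
      rw [hPNdef, ← Subgroup.relIndex]
      exact Subgroup.relIndex_dvd_index_of_le hPN
    have hsup : φ.ker ⊔ PN = ⊤ := by
      rw [← Subgroup.index_eq_one]
      have h1 : (φ.ker ⊔ PN).index ∣ φ.ker.index := Subgroup.index_dvd_of_le le_sup_left
      have h2 : (φ.ker ⊔ PN).index ∣ PN.index := Subgroup.index_dvd_of_le le_sup_right
      have h3 : (φ.ker ⊔ PN).index ∣ 2 ^ t := h1.trans hindex
      obtain ⟨s, -, hs⟩ := (Nat.dvd_prime_pow Nat.prime_two).mp h3
      rcases Nat.eq_zero_or_pos s with h0 | h0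
      · rw [hs, h0, pow_zero]
      · exfalso
        have : 2 ∣ (P : Subgroup G).index := by
          refine Dvd.dvd.trans ?_ (h2.trans hPNindex)
          rw [hs]; exact dvd_pow_self 2 (by omega)
        exact P.not_dvd_index this
    have hgmem : (⟨g, hgN⟩ : normalizer (H : Set G)) ∈ φ.ker ⊔ PN := by rw [hsup]; trivial
    rw [← SetLike.mem_coe, Subgroup.normal_mul, Set.mem_mul] at hgmem
    obtain ⟨k, hk, x, hx, hkx⟩ := hgmem
    refine ⟨x.1, Subgroup.mem_subgroupOf.mp hx, ?_⟩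
    -- `k` centralizes `H`
    have hkc : ∀ y ∈ H, (k : G) * y * (k : G)⁻¹ = y := by
      intro y hy
      have := MonoidHom.mem_ker.mp hk
      have h2 := congrArg (fun f : MulAut H => ((f ⟨y, hy⟩ : H) : G)) this
      simpa [hφ] using h2
    have hgkx : g = (k : G) * (x : G) := by
      have := congrArg Subtype.val hkx
      simpa using this.symm
    have hxu : (x : G) * u * (x : G)⁻¹ ∈ H := by
      rcases hPact x.1 (Subgroup.mem_subgroupOf.mp hx) with h | h
      · rw [h]; exact mem_zpowers u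
      · rw [h]; exact Subgroup.inv_mem _ (mem_zpowers u)
    rw [← hg, hgkx]
    have := hkc _ hxu
    rw [← this]
    group
  obtain ⟨x, hx, hxu⟩ := key
  have hinj : ∀ a b : ℕ, a < 2 ^ (n - 1) → b < 2 ^ (n - 1) → σ ^ a = σ ^ b → a = b := by
    intro a b ha hb hab
    exact pow_injOn_Iio_orderOf (by rw [hσo]; exact ha) (by rw [hσo]; exact hb) hab
  rcases hPact x hx with h | h
  · left
    rw [h] at hxu
    exact (hinj l l' hl hl' hxu).symm
  · right
    rw [h] at hxu
    have h2 : σ ^ (2 ^ (n - 1) - l) = σ ^ l' := by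
      rw [← hxu, eq_inv_iff_mul_eq_one, ← pow_add, Nat.sub_add_cancel hl.le, ← hσo,
        pow_orderOf_eq_one]
    exact (hinj _ _ (by omega) hl' h2).symm

end Cfsg.Agent.Lib.Helper49.DihGTC
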