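import Mathlib.Tactic
import Mathlib.GroupTheory.SemidirectProduct
import Cfsg.Prelude.Def_PLocal
import Cfsg.Prelude.Def_Transfer

/-!
# Transfer to the holomorph

For a normal subgroup `V` of `G` the conjugation action gives a homomorphism
`holHom V : G →* Hol V = V ⋊ Aut V` with kernel `C_G(V)`.  The image of a subgroup `H ≤ G`
acts *faithfully* on the copy `holV V` of `V` inside `Hol V`; this file transfers the notions used in
the failure-of-factorization statements (elementary abelian, best offenders, centralizers in `V`)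
along `holHom`, so that theorems stated for a faithful subgroup `H ≤ N(V)`, `H ⊓ C(V) = ⊥` of an
ambient group can be applied to `H C_G(V) / C_G(V)`.
-/

set_option autoImplicit false

namespace Cfsg.Agent.Lib.Helper49

open Cfsg

section Hol

variable {G : Type*} [Group G] (V : Subgroup G) [V.Normal]

/-- The holomorph `V ⋊ Aut V`. -/
abbrev Hol : Type _ := SemidirectProduct (↥V) (MulAut ↥V) (MonoidHom.id (MulAut ↥V))

instance hol_finite [Finite G] : Finite (Hol V) :=
  Finite.of_equiv _ (SemidirectProduct.equivProd (N := ↥V) (G := MulAut ↥V)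
    (φ := MonoidHom.id (MulAut ↥V))).symm

/-- `G → Hol V` via the conjugation action on `V`. -/
def holHom : G →* Hol V := (SemidirectProduct.inr).comp (MulAut.conjNormal (H := V))

/-- The copy of `V` in its holomorph. -/
def holV : Subgroup (Hol V) := (SemidirectProduct.inl : ↥V →* Hol V).range

omit [V.Normal] in
theorem holV_normal : (holV V).Normal := by
  unfold holV
  rw [SemidirectProduct.range_inl_eq_ker_rightHom]
  exact MonoidHom.normal_ker _

theorem holHom_ker : (holHom V).ker = Subgroup.centralizer (V : Set G) := by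
  ext g
  rw [MonoidHom.mem_ker, Subgroup.mem_centralizer_iff]
  unfold holHom
  rw [MonoidHom.comp_apply, ← map_one (SemidirectProduct.inr : MulAut ↥V →* Hol V),
    SemidirectProduct.inr_inj]
  constructor
  · intro hg h hh
    have := congrArg (fun φ : MulAut ↥V => ((φ ⟨h, hh⟩ : ↥V) : G)) hg
    simp only [MulAut.conjNormal_apply, MulAut.one_apply] at this
    calc h * g = (g * h * g⁻¹) * g := by rw [this]
      _ = g * h := by group
  · intro hg
    ext ⟨h, hh⟩
    simp only [MulAut.conjNormal_apply, MulAut.one_apply]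
    rw [← hg h hh]; group

theorem holHom_conj_inl (g : G) (v : ↥V) :
    holHom V g * SemidirectProduct.inl v * (holHom V g)⁻¹ =
      SemidirectProduct.inl (MulAut.conjNormal g v) := by
  unfold holHom
  rw [MonoidHom.comp_apply, ← map_inv]
  exact (SemidirectProduct.inl_aut (φ := MonoidHom.id (MulAut ↥V)) (MulAut.conjNormal g) v).symm

theorem inl_mem_centralizer_map_iff (B : Subgroup G) (v : ↥V) :
    (SemidirectProduct.inl v : Hol V) ∈ Subgroup.centralizer ((B.map (holHom V) : Subgroup (Hol V)) : Set (Hol V))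
      ↔ (v : G) ∈ Subgroup.centralizer (B : Set G) := by
  rw [Subgroup.mem_centralizer_iff, Subgroup.mem_centralizer_iff]
  constructor
  · intro h b hb
    have h1 := h (holHom V b) (Subgroup.mem_map_of_mem _ hb)
    have h2 : holHom V b * SemidirectProduct.inl v * (holHom V b)⁻¹ = SemidirectProduct.inl v := by
      rw [h1]; group
    rw [holHom_conj_inl, SemidirectProduct.inl_inj] at h2
    have h3 := congrArg (fun x : ↥V => (x : G)) h2
    simp only [MulAut.conjNormal_apply] at h3
    calc b * v = (b * v * b⁻¹) * b := by group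
      _ = v * b := by rw [h3]
  · intro h x hx
    obtain ⟨b, hb, rfl⟩ := hx
    have h1 := h b hb
    have h2 : holHom V b * SemidirectProduct.inl v * (holHom V b)⁻¹ = SemidirectProduct.inl v := by
      rw [holHom_conj_inl, SemidirectProduct.inl_inj]
      apply Subtype.ext
      simp only [MulAut.conjNormal_apply]
      rw [h1]; group
    calc holHom V b * SemidirectProduct.inl v
        = (holHom V b * SemidirectProduct.inl v * (holHom V b)⁻¹) * holHom V b := by group
      _ = SemidirectProduct.inl v * holHom V b := by rw [h2]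

/-- `holV V ⊓ C(ψ B)` is the image under `inl` of `C_V(B)`. -/
theorem holV_inf_centralizer_map (B : Subgroup G) :
    holV V ⊓ Subgroup.centralizer ((B.map (holHom V) : Subgroup (Hol V)) : Set (Hol V)) =
      ((V ⊓ Subgroup.centralizer (B : Set G)).subgroupOf V).map
        (SemidirectProduct.inl : ↥V →* Hol V) := by
  ext x
  constructor
  · rintro ⟨⟨v, rfl⟩, hx2⟩
    refine ⟨v, ?_, rfl⟩
    exact Subgroup.mem_subgroupOf.mpr ⟨v.2, (inl_mem_centralizer_map_iff V B v).mp hx2⟩
  · rintro ⟨v, hv, rfl⟩
    have hv' := Subgroup.mem_subgroupOf.mp hv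
    exact ⟨⟨v, rfl⟩, (inl_mem_centralizer_map_iff V B v).mpr hv'.2⟩

theorem card_holV_inf_centralizer_map (B : Subgroup G) :
    Nat.card ↥(holV V ⊓ Subgroup.centralizer ((B.map (holHom V) : Subgroup (Hol V)) : Set (Hol V))) =
      Nat.card ↥(V ⊓ Subgroup.centralizer (B : Set G)) := by
  rw [holV_inf_centralizer_map,
    Subgroup.card_map_of_injective SemidirectProduct.inl_injective]
  exact Nat.card_congr (Subgroup.subgroupOfEquivOfLe inf_le_left).toEquiv

/-- `|ψ B| · |C_B(V)| = |B|`. -/
theorem card_map_holHom_mul (B : Subgroup G) :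
    Nat.card ↥(B.map (holHom V)) * Nat.card ↥(B ⊓ Subgroup.centralizer (V : Set G)) =
      Nat.card ↥B := by
  have h1 : ((holHom V).domRestrict B).range = B.map (holHom V) := MonoidHom.domRestrict_range B (holHom V)
  have h2 : ((holHom V).domRestrict B).ker = (Subgroup.centralizer (V : Set G)).subgroupOf B := by
    rw [MonoidHom.ker_domRestrict, holHom_ker]
  have h3 := Subgroup.card_mul_index ((holHom V).domRestrict B).ker
  rw [Subgroup.index_ker, h1, h2] at h3
  have h4 : Nat.card ↥((Subgroup.centralizer (V : Set G)).subgroupOf B) =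
      Nat.card ↥(B ⊓ Subgroup.centralizer (V : Set G)) := by
    rw [← Subgroup.inf_subgroupOf_left]
    exact Nat.card_congr (Subgroup.subgroupOfEquivOfLe inf_le_left).toEquiv
  rw [h4] at h3
  rw [mul_comm]; exact h3

theorem map_holHom_inf_centralizer_holV (K : Subgroup G) :
    K.map (holHom V) ⊓ Subgroup.centralizer ((holV V : Subgroup (Hol V)) : Set (Hol V)) = ⊥ := by
  rw [eq_bot_iff]
  rintro x ⟨⟨g, -, rfl⟩, hx2⟩
  rw [Subgroup.mem_bot, ← MonoidHom.mem_ker, holHom_ker, Subgroup.mem_centralizer_iff]
  intro h hh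
  have hx2' := Subgroup.mem_centralizer_iff.mp hx2
  have h1 := hx2' (SemidirectProduct.inl ⟨h, hh⟩) ⟨_, rfl⟩
  have h2 : holHom V g * SemidirectProduct.inl ⟨h, hh⟩ * (holHom V g)⁻¹ =
      SemidirectProduct.inl ⟨h, hh⟩ := by
    rw [← h1]; group
  rw [holHom_conj_inl, SemidirectProduct.inl_inj] at h2
  have h3 := congrArg (fun x : ↥V => (x : G)) h2
  simp only [MulAut.conjNormal_apply] at h3
  calc h * g = (g * h * g⁻¹) * g := by rw [h3]
    _ = g * h := by group

omit [V.Normal] in
theorem holV_isElementaryAbelian {p : ℕ} (hV : IsElementaryAbelian p V) :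
    IsElementaryAbelian p (holV V) := by
  obtain ⟨hc, hp⟩ := hV
  refine ⟨⟨⟨?_⟩⟩, ?_⟩
  · rintro ⟨_, ⟨a, rfl⟩⟩ ⟨_, ⟨b, rfl⟩⟩
    apply Subtype.ext
    show (SemidirectProduct.inl a : Hol V) * SemidirectProduct.inl b =
      SemidirectProduct.inl b * SemidirectProduct.inl a
    rw [← map_mul, ← map_mul]
    congr 1
    have := hc.is_comm.comm a b
    exact this
  · rintro _ ⟨a, rfl⟩
    rw [← map_pow]
    have : a ^ p = 1 := by
      apply Subtype.ext
      simpa using hp a a.2
    rw [this, map_one]

/-- Best offenders on `V` in `G` map to best offenders on `holV V` in the holomorph. -/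
theorem isBestOffenderOn_map_holHom [Finite G] {p : ℕ} {A : Subgroup G}
    (hA : IsBestOffenderOn p V A) : IsBestOffenderOn p (holV V) (A.map (holHom V)) := by
  obtain ⟨h1, h2, h3⟩ := hA
  refine ⟨?_, ?_, ?_⟩
  · intro B' hB'
    set B : Subgroup G := A ⊓ B'.comap (holHom V) with hB
    have hBA : B ≤ A := inf_le_left
    have hmap : B.map (holHom V) = B' := by
      apply le_antisymm
      · rintro _ ⟨b, hb, rfl⟩
        exact hb.2
      · intro x hx
        obtain ⟨a, ha, rfl⟩ := hB' hx
        exact ⟨a, ⟨ha, hx⟩, rfl⟩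
    have hker : B ⊓ Subgroup.centralizer (V : Set G) = A ⊓ Subgroup.centralizer (V : Set G) := by
      apply le_antisymm
      · exact inf_le_inf_right _ hBA
      · rintro x ⟨hxA, hxC⟩
        refine ⟨⟨hxA, ?_⟩, hxC⟩
        rw [← holHom_ker] at hxC
        show holHom V x ∈ B'
        rw [MonoidHom.mem_ker.mp hxC]; exact B'.one_mem
    have e1 := card_map_holHom_mul V B
    have e2 := card_map_holHom_mul V A
    rw [hker, hmap] at e1
    have e3 := card_holV_inf_centralizer_map V B
    have e4 := card_holV_inf_centralizer_map V A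
    rw [hmap] at e3
    rw [e3, e4]
    have hk : 0 < Nat.card ↥(A ⊓ Subgroup.centralizer (V : Set G)) := Nat.card_pos
    have := h1 B hBA
    rw [← e1, ← e2] at this
    apply Nat.le_of_mul_le_mul_right _ hk
    calc Nat.card ↥B' * Nat.card ↥(V ⊓ Subgroup.centralizer (B : Set G)) *
          Nat.card ↥(A ⊓ Subgroup.centralizer (V : Set G))
        = Nat.card ↥B' * Nat.card ↥(A ⊓ Subgroup.centralizer (V : Set G)) *
          Nat.card ↥(V ⊓ Subgroup.centralizer (B : Set G)) := by ring
      _ ≤ Nat.card ↥(A.map (holHom V)) * Nat.card ↥(A ⊓ Subgroup.centralizer (V : Set G)) *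
          Nat.card ↥(V ⊓ Subgroup.centralizer (A : Set G)) := this
      _ = _ := by ring
  · rw [← Subgroup.map_commutator]
    intro x hx
    obtain ⟨c, hc, rfl⟩ := hx
    have : c ∈ (holHom V).ker := by rw [holHom_ker]; exact h2 hc
    rw [MonoidHom.mem_ker.mp this]; exact Subgroup.one_mem _
  · rintro _ ⟨a, ha, rfl⟩
    rw [← map_pow]
    have : a ^ p ∈ (holHom V).ker := by rw [holHom_ker]; exact h3 a ha
    rw [MonoidHom.mem_ker.mp this]; exact Subgroup.one_mem _

/-- A subgroup of the image of `J` pulls back into `J ⊔ C_G(V)`. -/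
theorem comap_holHom_le_sup {J : Subgroup G} {E' : Subgroup (Hol V)} (hE : E' ≤ J.map (holHom V)) :
    E'.comap (holHom V) ≤ J ⊔ Subgroup.centralizer (V : Set G) := by
  intro g hg
  obtain ⟨j, hj, hjg⟩ := hE hg
  have h1 : j⁻¹ * g ∈ (holHom V).ker := by
    rw [MonoidHom.mem_ker, map_mul, map_inv, hjg]; group
  rw [holHom_ker] at h1
  have : g = j * (j⁻¹ * g) := by group
  rw [this]
  exact Subgroup.mul_mem_sup hj h1

end Hol

end Cfsg.Agent.Lib.Helper49
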