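import Cfsg.Prelude.Def_Local
import Mathlib.LinearAlgebra.Matrix.SpecialLinearGroup
import Cfsg.Agent.Lib.Helper49.HolTransfer
import Cfsg.Agent.Lib.Helper97.PCoreQuot
import Cfsg.Agent.Lib.Helper76.PCore
import Cfsg.Agent.Lib.Helper62.HHDual
import Cfsg.Agent.Lib.Helper80.ItoMichler
import Cfsg.Agent.Lib.Helper55.Cores2
import Cfsg.Agent.S0601
import Cfsg.Agent.S0602
import Cfsg.Agent.S0606
import Cfsg.Agent.S0608

/-!
# S0618 from S0617

`result_of` proves the statement S0618 (a `p`-separable group with `O_{p'} = 1` that is not Thompson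
factorizable has `p ∈ {2,3}` and a normal `SL(2,p)` in `J(G)C_G(W)/C_G(W)`) from the statement of
S0617 (`S0617Type`), applied to the image of `J(G)` in the holomorph of `W = ⟨Ω₁(Z(S))⟩`.
-/

set_option autoImplicit false
open Cfsg

namespace Cfsg.Agent.Lib.Helper49.FF618

universe u

open Cfsg.Agent.Lib.Helper49

set_option linter.unusedVariables false in
/-- The statement of S0617, as a hypothesis. -/
def S0617Type : Prop := ∀ {G : Type u} [Group G] [Finite G] {p : ℕ} [Fact p.Prime] (V H : Subgroup G) (hV : Cfsg.IsElementaryAbelian p V) (hHV : H ≤ Subgroup.normalizer (V : Set G)) (hf : H ⊓ Subgroup.centralizer (V : Set G) = ⊥) (hS1 : Subgroup.centralizer (Cfsg.pPrimeCore p ↥H : Set ↥H) ≤ Cfsg.pPrimeCore p ↥H) (hS3 : H = ⨆ A : {A : Subgroup G // A ≤ H ∧ Cfsg.IsBestOffenderOn p V A}, (A : Subgroup G)) (hH1 : H ≠ ⊥), (p = 2 ∨ p = 3) ∧ (∀ E : {E : Subgroup G // ∃ A : Subgroup G, A ≤ H ∧ Cfsg.IsBestOffenderOn p V A ∧ ⁅V, A⁆ ≠ ⊥ ∧ (∀ B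 : Subgroup G, B ≤ A → Cfsg.IsBestOffenderOn p V B → ⁅V, B⁆ ≠ ⊥ → B = A) ∧ E = ⁅((Cfsg.pPrimeCore p ↥H).map H.subtype), A⁆ ⊔ A}, H ≤ Subgroup.normalizer ((E : Subgroup G) : Set G) ∧ Nonempty (↥(E : Subgroup G) ≃* Matrix.SpecialLinearGroup (Fin 2) (ZMod p)) ∧ Nat.card ↥(⁅V, (E : Subgroup G)⁆) = p ^ 2) ∧ iSupIndep (fun E : {E : Subgroup G // ∃ A : Subgroup G, A ≤ H ∧ Cfsg.IsBestOffenderOn p V A ∧ ⁅V, A⁆ ≠ ⊥ ∧ (∀ B : Subgroup G, B ≤ A → Cfsg.IsBestOffenderOn p V B → ⁅V, B⁆ ≠ ⊥ → B = A) ∧ E = ⁅((Cfsg.pPrimeCore p ↥H).map H.subtype), A⁆ ⊔ A} => (E : Subgroup G)) ∧ (⨆ E : {E : Subgroup G // ∃ A : Subgroup G, A ≤ H ∧ Cfsg.IsBestOffenderOn p V A ∧ ⁅V, A⁆ ≠ ⊥ ∧ (∀ B : Subgroup G, B ≤ A → Cfsg.IsBestOffenderOn p V B → ⁅V, B⁆ ≠ ⊥ → B = A) ∧ E = ⁅((Cfsg.pPrimeCore p ↥H).map H.subtype), A⁆ ⊔ A}, (E : Subgroup G)) = H ∧ iSupIndep (fun o : Option {E : Subgroup G // ∃ A : Subgroup G, A ≤ H ∧ Cfsg.IsBestOffenderOn p V A ∧ ⁅V, A⁆ ≠ ⊥ ∧ (∀ B : Subgroup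 G, B ≤ A → Cfsg.IsBestOffenderOn p V B → ⁅V, B⁆ ≠ ⊥ → B = A) ∧ E = ⁅((Cfsg.pPrimeCore p ↥H).map H.subtype), A⁆ ⊔ A} => o.elim (V ⊓ Subgroup.centralizer (H : Set G)) (fun E => ⁅V, (E : Subgroup G)⁆)) ∧ (V ⊓ Subgroup.centralizer (H : Set G)) ⊔ (⨆ E : {E : Subgroup G // ∃ A : Subgroup G, A ≤ H ∧ Cfsg.IsBestOffenderOn p V A ∧ ⁅V, A⁆ ≠ ⊥ ∧ (∀ B : Subgroup G, B ≤ A → Cfsg.IsBestOffenderOn p V B → ⁅V, B⁆ ≠ ⊥ → B = A) ∧ E = ⁅((Cfsg.pPrimeCore p ↥H).map H.subtype), A⁆ ⊔ A}, ⁅V, (E : Subgroup G)⁆) = V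

section

variable {G : Type u} [Group G] [Finite G] {p : ℕ} [Fact p.Prime]

/-- `O_p` of a group isomorphic to a normal subgroup of a group with trivial `O_p` is trivial. -/
theorem no_normal_pgroup_of_equiv {Q : Type*} [Group Q] (K : Subgroup Q) [K.Normal]
    (hQ : pCore p Q = ⊥) {X : Type*} [Group X] (e : ↥K ≃* X)
    (N : Subgroup X) (hN : N.Normal) (hp : IsPGroup p N) : N = ⊥ := by
  have h1 : (pCore p ↥K).map K.subtype ≤ pCore p Q :=
    Cfsg.Agent.Lib.Helper55.pCore_map_subtype_le p K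
  rw [hQ, le_bot_iff] at h1
  have h2 : pCore p ↥K = ⊥ :=
    (Subgroup.map_eq_bot_iff_of_injective _ K.subtype_injective).mp h1
  have h3 : N.comap e.toMonoidHom ≤ pCore p ↥K := by
    apply Cfsg.Agent.Lib.Helper76.le_pCore p _ (hN.comap _)
    exact hp.comap_of_injective _ e.injective
  rw [h2, le_bot_iff] at h3
  rw [eq_bot_iff]
  intro x hx
  obtain ⟨y, rfl⟩ := e.surjective x
  have : y ∈ N.comap e.toMonoidHom := hx
  rw [h3, Subgroup.mem_bot] at this
  rw [this, map_one]; exact Subgroup.one_mem _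

/-- hypothesis `hS1` of S0617 for the image of `J` in the holomorph of `W`. -/
theorem hS1_aux (hsep : IsPSolvable p G) (W : Subgroup G) [W.Normal]
    (hQ : pCore p (G ⧸ Subgroup.centralizer (W : Set G)) = ⊥) (J : Subgroup G) [J.Normal] :
    Subgroup.centralizer (pPrimeCore p ↥(J.map (holHom W)) : Set ↥(J.map (holHom W))) ≤
      pPrimeCore p ↥(J.map (holHom W)) := by
  have hCn : (Subgroup.centralizer (W : Set G)).Normal := Subgroup.normal_centralizer
  set C := Subgroup.centralizer (W : Set G) with hC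
  -- the injective lift ι : G/C → Hol W
  have hCker : ∀ x ∈ C, holHom W x = 1 := by
    intro x hx
    rw [← MonoidHom.mem_ker, holHom_ker]; exact hx
  let ι : G ⧸ C →* Hol W := QuotientGroup.lift C (holHom W) hCker
  have hι : Function.Injective ι := by
    rw [injective_iff_map_eq_one]
    intro x hx
    induction x using QuotientGroup.induction_on with
    | H g =>
      have : holHom W g = 1 := hx
      rw [← MonoidHom.mem_ker, holHom_ker] at this
      exact (QuotientGroup.eq_one_iff g).mpr this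
  have hcomp : ι.comp (QuotientGroup.mk' C) = holHom W := by
    apply MonoidHom.ext
    intro g
    rfl
  set K : Subgroup (G ⧸ C) := J.map (QuotientGroup.mk' C) with hK
  have hKn : K.Normal := Subgroup.Normal.map inferInstance _ (QuotientGroup.mk'_surjective C)
  have hmap : J.map (holHom W) = K.map ι := by
    rw [hK, Subgroup.map_map, hcomp]
  have key : ∀ H' : Subgroup (Hol W), H' = K.map ι →
      Subgroup.centralizer (pPrimeCore p ↥H' : Set ↥H') ≤ pPrimeCore p ↥H' := by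
    rintro _ rfl
    let e : ↥K ≃* ↥(K.map ι) := K.equivMapOfInjective ι hι
    have hQsol : IsPSolvable p (G ⧸ C) :=
      Cfsg.Agent.Lib.Helper76.IsPSolvable_of_surjective p (QuotientGroup.mk' C)
        (QuotientGroup.mk'_surjective C) hsep
    have hKsol : IsPSolvable p ↥K := Cfsg.Agent.Lib.Helper80.isPSolvable_subgroup' p hQsol K
    have hXsol : IsPSolvable p ↥(K.map ι) :=
      Cfsg.Agent.Lib.Helper76.IsPSolvable_of_surjective p e.toMonoidHom e.surjective hKsol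
    apply Cfsg.Agent.Lib.Helper62.centralizer_pPrimeCore_le p hXsol
    intro N hN hp
    exact no_normal_pgroup_of_equiv K hQ e N hN hp
  exact key _ hmap

omit [Finite G] in
theorem centralizer_iSup_coe {ι : Sort*} (K : ι → Subgroup G) :
    Subgroup.centralizer (⨆ i, (K i : Set G)) = Subgroup.centralizer ((⨆ i, K i : Subgroup G) : Set G) := by
  have h1 : (⨆ i, (K i : Set G)) ⊆ ((⨆ i, K i : Subgroup G) : Set G) := by
    apply iSup_le
    intro i x hx
    exact (le_iSup K i) hx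
  apply le_antisymm
  · rw [Subgroup.iSup_eq_closure]
    have h2 : (⋃ i, (K i : Set G)) ⊆ Subgroup.centralizer (Subgroup.centralizer (⨆ i, (K i : Set G)) : Set G) := by
      intro x hx
      rw [SetLike.mem_coe, Subgroup.mem_centralizer_iff]
      intro y hy
      exact (Subgroup.mem_centralizer_iff.mp hy x hx).symm
    have h3 := (Subgroup.closure_le _).mpr h2
    exact Subgroup.le_centralizer_iff.mp h3
  · exact Subgroup.centralizer_le h1

/-- S0618, assuming the statement of S0617. -/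
theorem result_of (h617 : S0617Type.{u}) (hsep : Cfsg.IsPSolvable p G) (hO : Cfsg.pPrimeCore p G = ⊥)
    (hnf : ¬ Cfsg.IsThompsonFactorizable p G) :
    (p = 2 ∨ p = 3) ∧ ∃ E : Subgroup G, Subgroup.centralizer ((⨆ S : Sylow p G, Cfsg.omegaOne p ((S : Subgroup G) ⊓ Subgroup.centralizer ((S : Subgroup G) : Set G))) : Set G) ≤ E ∧ E ≤ Cfsg.thompsonSubgroup p G ⊔ Subgroup.centralizer ((⨆ S : Sylow p G, Cfsg.omegaOne p ((S : Subgroup G) ⊓ Subgroup.centralizer ((S : Subgroup G) : Set G))) : Set G) ∧ Cfsg.thompsonSubgroup p G ⊔ Subgroup.centralizer ((⨆ S : Sylow p G, Cfsg.omegaOne p ((S : Subgroup G) ⊓ Subgroup.centralizer ((S : Subgroup G) : Set G))) : Set G) ≤ Subgroup.normalizer (E : Set G) ∧ ∃ _hn : ((Subgroup.centralizer ((⨆ S : Sylow p G, Cfsg.omegaOne p ((S : Subgroup G) ⊓ Subgroup.centralizer ((S : Subgroup G) : Set G))) : Set G)).subgroupOf E).Normal, Nonempty ((↥E ⧸ (Subgroup.centralizer ((⨆ S : Sylow p G, Cfsg.omegaOne p ((S :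 Subgroup G) ⊓ Subgroup.centralizer ((S : Subgroup G) : Set G))) : Set G)).subgroupOf E) ≃* Matrix.SpecialLinearGroup (Fin 2) (ZMod p)) := by
  rw [centralizer_iSup_coe]
  -- Hall–Higman 1.2.3
  have hc : Subgroup.centralizer (pCore p G : Set G) ≤ pCore p G := by
    apply Cfsg.Agent.Lib.Helper76.centralizer_pCore_le p hsep
    intro N hN hcop
    have := Cfsg.Agent.Lib.Helper76.le_pPrimeCore p N hN hcop
    rw [hO, le_bot_iff] at this
    exact this
  obtain ⟨hWn, hWe, -⟩ := Cfsg.Agent.S0601.result (p := p) hc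
  have hJC := mt (Cfsg.Agent.S0608.result (p := p) hO).mpr hnf
  set W : Subgroup G := ⨆ S : Sylow p G, Cfsg.omegaOne p ((S : Subgroup G) ⊓ Subgroup.centralizer ((S : Subgroup G) : Set G)) with hW
  set C := Subgroup.centralizer (W : Set G) with hC
  set J := Cfsg.thompsonSubgroup p G with hJ
  have hJchar : J.Characteristic := (Cfsg.Agent.S0602.result (G := G) (p := p)).1
  have hJn : J.Normal := inferInstance
  have hCn : C.Normal := Subgroup.normal_centralizer
  have hQ : pCore p (G ⧸ C) = ⊥ :=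
    Cfsg.Agent.Lib.Helper97.pCore_quotient_centralizer_eq_bot (p := p) W Cfsg.Agent.S0601.bigW_gen
  -- the holomorph
  have hV' : IsElementaryAbelian p (holV W) := holV_isElementaryAbelian W hWe
  have hV'n : (holV W).Normal := holV_normal W
  have hHV' : J.map (holHom W) ≤ Subgroup.normalizer ((holV W : Subgroup (Hol W)) : Set (Hol W)) := by
    rw [Subgroup.normalizer_eq_top]; exact le_top
  have hf : J.map (holHom W) ⊓ Subgroup.centralizer ((holV W : Subgroup (Hol W)) : Set (Hol W)) = ⊥ :=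
    map_holHom_inf_centralizer_holV W J
  have hS1 := hS1_aux hsep W hQ J
  have hS3 : J.map (holHom W) = ⨆ A : {A : Subgroup (Hol W) // A ≤ J.map (holHom W) ∧ Cfsg.IsBestOffenderOn p (holV W) A}, (A : Subgroup (Hol W)) := by
    apply le_antisymm
    · rw [Subgroup.map_le_iff_le_comap]
      apply sSup_le
      intro A hA
      rw [← Subgroup.map_le_iff_le_comap]
      have hbo : IsBestOffenderOn p W A := Cfsg.Agent.S0606.result W hWe A hA
      exact le_iSup (fun A : {A : Subgroup (Hol W) // A ≤ J.map (holHom W) ∧ Cfsg.IsBestOffenderOn p (holV W) A} => (A : Subgroup (Hol W)))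
        ⟨A.map (holHom W), Subgroup.map_mono (le_sSup hA), isBestOffenderOn_map_holHom W hbo⟩
    · exact iSup_le fun A => A.2.1
  have hH1 : J.map (holHom W) ≠ ⊥ := by
    intro h
    apply hJC
    have := (Subgroup.map_eq_bot_iff J).mp h
    rw [holHom_ker] at this
    exact this
  obtain ⟨hp, hE, -, hsup, -, -⟩ := h617 (holV W) (J.map (holHom W)) hV' hHV' hf hS1 hS3 hH1
  refine ⟨hp, ?_⟩
  -- the family of E's is nonempty
  have hne : Nonempty {E : Subgroup (Hol W) // ∃ A : Subgroup (Hol W), A ≤ J.map (holHom W) ∧ Cfsg.IsBestOffenderOn p (holV W) A ∧ ⁅holV W, A⁆ ≠ ⊥ ∧ (∀ B : Subgroup (Hol W), B ≤ A → Cfsg.IsBestOffenderOn p (holV W) B → ⁅holV W, B⁆ ≠ ⊥ → B = A) ∧ E = ⁅((Cfsg.pPrimeCore p ↥(J.map (holHom W))).map (J.map (holHom W)).subtype), A⁆ ⊔ A} := by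
    by_contra hemp
    rw [not_nonempty_iff] at hemp
    rw [iSup_of_empty] at hsup
    exact hH1 hsup.symm
  obtain ⟨E'⟩ := hne
  obtain ⟨hE1, ⟨eSL⟩, -⟩ := hE E'
  have hE'H : (E' : Subgroup (Hol W)) ≤ J.map (holHom W) := by
    refine le_trans ?_ hsup.le
    exact le_iSup (fun E : {E : Subgroup (Hol W) // ∃ A : Subgroup (Hol W), A ≤ J.map (holHom W) ∧ Cfsg.IsBestOffenderOn p (holV W) A ∧ ⁅holV W, A⁆ ≠ ⊥ ∧ (∀ B : Subgroup (Hol W), B ≤ A → Cfsg.IsBestOffenderOn p (holV W) B → ⁅holV W, B⁆ ≠ ⊥ → B = A) ∧ E = ⁅((Cfsg.pPrimeCore p ↥(J.map (holHom W))).map (J.map (holHom W)).subtype), A⁆ ⊔ A} => (E : Subgroup (Hol W))) E'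
  have hCle : ∀ X : Subgroup (Hol W), C ≤ X.comap (holHom W) := by
    intro X x hx
    have : x ∈ (holHom W).ker := by rw [holHom_ker]; exact hx
    show holHom W x ∈ X
    rw [MonoidHom.mem_ker.mp this]; exact X.one_mem
  refine ⟨(E' : Subgroup (Hol W)).comap (holHom W), hCle _, comap_holHom_le_sup W hE'H, ?_, ?_⟩
  · refine le_trans ?_ (Subgroup.le_normalizer_comap (holHom W))
    apply sup_le
    · rw [← Subgroup.map_le_iff_le_comap]; exact hE1
    · exact hCle _
  · have hn : (C.subgroupOf ((E' : Subgroup (Hol W)).comap (holHom W))).Normal := hCn.subgroupOf _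
    refine ⟨hn, ?_⟩
    let ψE : ↥((E' : Subgroup (Hol W)).comap (holHom W)) →* ↥(E' : Subgroup (Hol W)) :=
      (holHom W).subgroupComap (E' : Subgroup (Hol W))
    have hsurj : Function.Surjective ψE := by
      rintro ⟨y, hy⟩
      obtain ⟨j, -, rfl⟩ := hE'H hy
      exact ⟨⟨j, hy⟩, rfl⟩
    have hker : C.subgroupOf ((E' : Subgroup (Hol W)).comap (holHom W)) = ψE.ker := by
      ext x
      rw [Subgroup.mem_subgroupOf, MonoidHom.mem_ker, hC, ← holHom_ker, MonoidHom.mem_ker]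
      constructor
      · intro h
        apply Subtype.ext
        exact h
      · intro h
        exact congrArg Subtype.val h
    exact ⟨((QuotientGroup.quotientMulEquivOfEq hker).trans
      (QuotientGroup.quotientKerEquivOfSurjective ψE hsurj)).trans eSL⟩

end

end Cfsg.Agent.Lib.Helper49.FF618
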