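import Cfsg.Agent.Lib.Helper49.Blocks
import Cfsg.Agent.Lib.Helper55.Cores2
import Cfsg.Prelude.Def_PLocal
import Cfsg.Prelude.Def_Local
import Mathlib.LinearAlgebra.Matrix.SpecialLinearGroup

/-!
# The block configuration given by the structure theorem for failure of factorization (S0617)

In a finite group `Γ` with `V H ≤ Γ` satisfying the conclusions of S0617 (`H` is the direct product
of "blocks" `E ≅ SL(2,p)`, `V = C_V(H) × ∏ [V,E]`), a `q`-subgroup `X` normalizing `V` and `H`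
permutes the blocks; block stabilizers centralize their block when `q ∉ {2,3}`, and every element of a
block is the component of an `X`-fixed element (`BlockCfg.exists_fixed`).
-/

set_option autoImplicit false
set_option linter.unusedSectionVars false

namespace Cfsg.Agent.Lib.Helper49.FFB

open Cfsg
open scoped commutatorElement

variable {Γ : Type*} [Group Γ]

/-- conjugate of a subgroup (map form). -/
abbrev cjm (x : Γ) (A : Subgroup Γ) : Subgroup Γ := A.map (MulAut.conj x).toMonoidHom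

theorem mem_cjm {x a : Γ} {A : Subgroup Γ} : a ∈ cjm x A ↔ x⁻¹ * a * x ∈ A := by
  constructor
  · rintro ⟨b, hb, rfl⟩
    simp only [MulEquiv.coe_toMonoidHom, MulAut.conj_apply]
    have : x⁻¹ * (x * b * x⁻¹) * x = b := by group
    rw [this]; exact hb
  · intro h
    refine ⟨x⁻¹ * a * x, h, ?_⟩
    simp only [MulEquiv.coe_toMonoidHom, MulAut.conj_apply]
    group

theorem cjm_cjm (x y : Γ) (A : Subgroup Γ) : cjm x (cjm y A) = cjm (x * y) A := by
  ext a
  simp only [mem_cjm]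
  have : y⁻¹ * (x⁻¹ * a * x) * y = (x * y)⁻¹ * a * (x * y) := by group
  rw [this]

theorem cjm_one (A : Subgroup Γ) : cjm 1 A = A := by
  ext a; simp

theorem cjm_inv_cjm (x : Γ) (A : Subgroup Γ) : cjm x⁻¹ (cjm x A) = A := by
  rw [cjm_cjm, inv_mul_cancel, cjm_one]

theorem cjm_cjm_inv (x : Γ) (A : Subgroup Γ) : cjm x (cjm x⁻¹ A) = A := by
  rw [cjm_cjm, mul_inv_cancel, cjm_one]

theorem cjm_mono (x : Γ) {A B : Subgroup Γ} (h : A ≤ B) : cjm x A ≤ cjm x B := Subgroup.map_mono h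

theorem cjm_le_iff (x : Γ) {A B : Subgroup Γ} : cjm x A ≤ B ↔ A ≤ cjm x⁻¹ B := by
  constructor
  · intro h
    have := cjm_mono x⁻¹ h
    rwa [cjm_inv_cjm] at this
  · intro h
    have := cjm_mono x h
    rwa [cjm_cjm_inv] at this

theorem cjm_eq_of_mem_normalizer {x : Γ} {A : Subgroup Γ} (hx : x ∈ Subgroup.normalizer (A : Set Γ)) :
    cjm x A = A := Subgroup.mem_normalizer_iff_map_conj_eq.mp hx

theorem card_cjm [Finite Γ] (x : Γ) (A : Subgroup Γ) : Nat.card (cjm x A) = Nat.card A :=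
  Subgroup.card_map_of_injective (MulAut.conj x).injective

theorem cjm_commutator (x : Γ) (A B : Subgroup Γ) : cjm x ⁅A, B⁆ = ⁅cjm x A, cjm x B⁆ :=
  Subgroup.map_commutator _ _ _

theorem cjm_sup (x : Γ) (A B : Subgroup Γ) : cjm x (A ⊔ B) = cjm x A ⊔ cjm x B :=
  Subgroup.map_sup _ _ _

theorem cjm_inf (x : Γ) (A B : Subgroup Γ) : cjm x (A ⊓ B) = cjm x A ⊓ cjm x B :=
  Subgroup.map_inf _ _ _ (MulAut.conj x).injective

theorem cjm_centralizer (x : Γ) (A : Subgroup Γ) :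
    cjm x (Subgroup.centralizer (A : Set Γ)) = Subgroup.centralizer ((cjm x A : Subgroup Γ) : Set Γ) := by
  ext a
  rw [mem_cjm, Subgroup.mem_centralizer_iff, Subgroup.mem_centralizer_iff]
  constructor
  · intro h b hb
    have hb' : x⁻¹ * b * x ∈ A := mem_cjm.mp hb
    have := h _ hb'
    calc b * a = x * ((x⁻¹ * b * x) * (x⁻¹ * a * x)) * x⁻¹ := by group
      _ = x * ((x⁻¹ * a * x) * (x⁻¹ * b * x)) * x⁻¹ := by rw [this]
      _ = a * b := by group
  · intro h b hb
    have hb' : x * b * x⁻¹ ∈ cjm x A := ⟨b, hb, rfl⟩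
    have := h _ hb'
    calc b * (x⁻¹ * a * x) = x⁻¹ * ((x * b * x⁻¹) * a) * x := by group
      _ = x⁻¹ * (a * (x * b * x⁻¹)) * x := by rw [this]
      _ = x⁻¹ * a * x * b := by group

/-- conjugation by an element normalizing `V` preserves best offenders on `V`. -/
theorem isBestOffenderOn_cjm [Finite Γ] {p : ℕ} {V A : Subgroup Γ} {x : Γ}
    (hx : x ∈ Subgroup.normalizer (V : Set Γ)) (hA : IsBestOffenderOn p V A) :
    IsBestOffenderOn p V (cjm x A) := by
  obtain ⟨h1, h2, h3⟩ := hA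
  have hV : cjm x V = V := cjm_eq_of_mem_normalizer hx
  have hcard : ∀ B : Subgroup Γ, Nat.card ↥(V ⊓ Subgroup.centralizer ((cjm x B : Subgroup Γ) : Set Γ)) =
      Nat.card ↥(V ⊓ Subgroup.centralizer (B : Set Γ)) := by
    intro B
    rw [← cjm_centralizer, ← card_cjm x (V ⊓ Subgroup.centralizer (B : Set Γ)), cjm_inf, hV]
  have hCV : cjm x (Subgroup.centralizer (V : Set Γ)) = Subgroup.centralizer (V : Set Γ) := by
    rw [cjm_centralizer, hV]
  refine ⟨?_, ?_, ?_⟩
  · intro B hB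
    have hB' : cjm x⁻¹ B ≤ A := (cjm_le_iff x⁻¹).mpr (by rwa [inv_inv])
    have := h1 _ hB'
    have e1 : Nat.card (cjm x⁻¹ B) = Nat.card B := card_cjm _ _
    have e3 : Nat.card ↥(V ⊓ Subgroup.centralizer (B : Set Γ)) =
        Nat.card ↥(V ⊓ Subgroup.centralizer ((cjm x⁻¹ B : Subgroup Γ) : Set Γ)) := by
      have := hcard (cjm x⁻¹ B)
      rw [cjm_cjm_inv] at this
      exact this
    rw [card_cjm, hcard A, e3, ← e1]
    exact this
  · rw [← cjm_commutator, ← hCV]
    exact cjm_mono x h2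
  · rintro _ ⟨a, ha, rfl⟩
    have := h3 a ha
    rw [← hCV]
    refine ⟨a ^ p, this, ?_⟩
    simp

/-- An element normalizing `H` normalizes the image in `Γ` of any characteristic subgroup of `H`. -/
theorem cjm_map_subtype_of_characteristic {H : Subgroup Γ} {x : Γ}
    (hx : x ∈ Subgroup.normalizer (H : Set Γ)) (C : Subgroup ↥H) [hC : C.Characteristic] :
    cjm x (C.map H.subtype) = C.map H.subtype := by
  have hmem : ∀ y : Γ, y ∈ Subgroup.normalizer (H : Set Γ) → ∀ h : ↥H, y * (h : Γ) * y⁻¹ ∈ H := by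
    intro y hy h
    exact (Subgroup.mem_normalizer_iff.mp hy h).mp h.2
  have hx' : x⁻¹ ∈ Subgroup.normalizer (H : Set Γ) := Subgroup.inv_mem _ hx
  let φ : ↥H ≃* ↥H :=
    { toFun := fun h => ⟨x * (h : Γ) * x⁻¹, hmem x hx h⟩
      invFun := fun h => ⟨x⁻¹ * (h : Γ) * x, by simpa using hmem x⁻¹ hx' h⟩
      left_inv := by intro h; apply Subtype.ext; simp [mul_assoc]
      right_inv := by intro h; apply Subtype.ext; simp [mul_assoc]
      map_mul' := by
        intro a b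
        apply Subtype.ext
        show x * ((a : Γ) * (b : Γ)) * x⁻¹ = (x * (a : Γ) * x⁻¹) * (x * (b : Γ) * x⁻¹)
        group }
  have hφ : C.map φ.toMonoidHom = C := Subgroup.characteristic_iff_map_eq.mp hC φ
  ext a
  constructor
  · rintro ⟨b, ⟨c, hc, rfl⟩, rfl⟩
    have : φ c ∈ C := by rw [← hφ]; exact ⟨c, hc, rfl⟩
    exact ⟨φ c, this, rfl⟩
  · rintro ⟨c, hc, rfl⟩
    have : c ∈ C.map φ.toMonoidHom := by rw [hφ]; exact hc
    obtain ⟨c', hc', rfl⟩ := this
    exact ⟨(c' : Γ), ⟨c', hc', rfl⟩, rfl⟩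

section Cfg

variable [Finite Γ] {p : ℕ}

/-- index type of blocks, exactly as in the statement of S0617. -/
abbrev Blk (p : ℕ) (V H : Subgroup Γ) : Type _ :=
  {E : Subgroup Γ // ∃ A : Subgroup Γ, A ≤ H ∧ Cfsg.IsBestOffenderOn p V A ∧ ⁅V, A⁆ ≠ ⊥ ∧ (∀ B : Subgroup Γ, B ≤ A → Cfsg.IsBestOffenderOn p V B → ⁅V, B⁆ ≠ ⊥ → B = A) ∧ E = ⁅((Cfsg.pPrimeCore p ↥H).map H.subtype), A⁆ ⊔ A}

/-- the conclusions of S0617 (plus the faithful action hypotheses). -/
structure BlockCfg (p : ℕ) (V H : Subgroup Γ) : Prop where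
  hHV : H ≤ Subgroup.normalizer (V : Set Γ)
  hf : H ⊓ Subgroup.centralizer (V : Set Γ) = ⊥
  hp : p = 2 ∨ p = 3
  hE : ∀ E : Blk p V H, H ≤ Subgroup.normalizer ((E : Subgroup Γ) : Set Γ) ∧ Nonempty (↥(E : Subgroup Γ) ≃* Matrix.SpecialLinearGroup (Fin 2) (ZMod p)) ∧ Nat.card ↥(⁅V, (E : Subgroup Γ)⁆) = p ^ 2
  hind : iSupIndep (fun E : Blk p V H => (E : Subgroup Γ))
  hsup : (⨆ E : Blk p V H, (E : Subgroup Γ)) = H
  hindV : iSupIndep (fun o : Option (Blk p V H) => o.elim (V ⊓ Subgroup.centralizer (H : Set Γ)) (fun E => ⁅V, (E : Subgroup Γ)⁆))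
  hsupV : (V ⊓ Subgroup.centralizer (H : Set Γ)) ⊔ (⨆ E : Blk p V H, ⁅V, (E : Subgroup Γ)⁆) = V

namespace BlockCfg

variable {V H : Subgroup Γ}

theorem le_H (c : BlockCfg p V H) (E : Blk p V H) : (E : Subgroup Γ) ≤ H := by
  refine le_trans ?_ c.hsup.le
  exact le_iSup (fun E : Blk p V H => (E : Subgroup Γ)) E

theorem conj_mem_of_le_normalizer {A B : Subgroup Γ} (h : A ≤ Subgroup.normalizer (B : Set Γ))
    {a b : Γ} (ha : a ∈ A) (hb : b ∈ B) : a * b * a⁻¹ ∈ B :=
  (Subgroup.mem_normalizer_iff.mp (h ha) b).mp hb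

theorem comm_le_V {A : Subgroup Γ} (hA : A ≤ Subgroup.normalizer (V : Set Γ)) : ⁅V, A⁆ ≤ V := by
  rw [Subgroup.commutator_le]
  intro v hv a ha
  -- v a v⁻¹ a⁻¹ = v * (a v⁻¹ a⁻¹)
  have : a * v⁻¹ * a⁻¹ ∈ V := conj_mem_of_le_normalizer hA ha (V.inv_mem hv)
  have h2 : ⁅v, a⁆ = v * (a * v⁻¹ * a⁻¹) := by rw [commutatorElement_def]; group
  rw [h2]; exact V.mul_mem hv this

/-- distinct blocks commute. -/
theorem le_centralizer_of_ne (c : BlockCfg p V H) {E E' : Blk p V H} (h : E ≠ E') :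
    (E' : Subgroup Γ) ≤ Subgroup.centralizer ((E : Subgroup Γ) : Set Γ) := by
  intro b hb
  rw [Subgroup.mem_centralizer_iff]
  intro a ha
  have hdis : Disjoint (E : Subgroup Γ) (E' : Subgroup Γ) := c.hind.pairwiseDisjoint h
  have hbE : b ∈ H := c.le_H E' hb
  have haE : a ∈ H := c.le_H E ha
  have h1 : a * b * a⁻¹ * b⁻¹ ∈ (E : Subgroup Γ) := by
    have : b * a⁻¹ * b⁻¹ ∈ (E : Subgroup Γ) :=
      conj_mem_of_le_normalizer (c.hE E).1 hbE ((E : Subgroup Γ).inv_mem ha)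
    have h2 : a * b * a⁻¹ * b⁻¹ = a * (b * a⁻¹ * b⁻¹) := by group
    rw [h2]; exact (E : Subgroup Γ).mul_mem ha this
  have h2 : a * b * a⁻¹ * b⁻¹ ∈ (E' : Subgroup Γ) := by
    have : a * b * a⁻¹ ∈ (E' : Subgroup Γ) := conj_mem_of_le_normalizer (c.hE E').1 haE hb
    exact (E' : Subgroup Γ).mul_mem this ((E' : Subgroup Γ).inv_mem hb)
  have h3 : a * b * a⁻¹ * b⁻¹ = 1 := by
    have := hdis.le_bot ⟨h1, h2⟩
    exact (Subgroup.mem_bot).mp this
  calc a * b = (a * b * a⁻¹ * b⁻¹) * (b * a) := by group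
    _ = b * a := by rw [h3, one_mul]

/-- the product of the other blocks. -/
def rest (_c : BlockCfg p V H) (E : Blk p V H) : Subgroup Γ :=
  ⨆ (E' : Blk p V H) (_ : E' ≠ E), (E' : Subgroup Γ)

theorem rest_le_centralizer (c : BlockCfg p V H) (E : Blk p V H) :
    c.rest E ≤ Subgroup.centralizer ((E : Subgroup Γ) : Set Γ) :=
  iSup₂_le fun _ h => c.le_centralizer_of_ne (Ne.symm h)

theorem le_rest (c : BlockCfg p V H) {E E' : Blk p V H} (h : E' ≠ E) : (E' : Subgroup Γ) ≤ c.rest E :=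
  le_iSup₂ (f := fun (E' : Blk p V H) (_ : E' ≠ E) => (E' : Subgroup Γ)) E' h

theorem rest_le_H (c : BlockCfg p V H) (E : Blk p V H) : c.rest E ≤ H :=
  iSup₂_le fun E' _ => c.le_H E'

/-- the module of a block -/
abbrev U (_c : BlockCfg p V H) (E : Blk p V H) : Subgroup Γ := ⁅V, (E : Subgroup Γ)⁆

theorem U_le_V (c : BlockCfg p V H) (E : Blk p V H) : c.U E ≤ V :=
  comm_le_V ((c.le_H E).trans c.hHV)

/-- a block normalizes its module -/
theorem le_normalizer_U (c : BlockCfg p V H) (E : Blk p V H) {x : Γ}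
    (hxV : x ∈ Subgroup.normalizer (V : Set Γ))
    (hxE : x ∈ Subgroup.normalizer (((E : Subgroup Γ)) : Set Γ)) :
    x ∈ Subgroup.normalizer ((c.U E : Subgroup Γ) : Set Γ) := by
  rw [Subgroup.mem_normalizer_iff_map_conj_eq]
  show cjm x ⁅V, (E : Subgroup Γ)⁆ = _
  rw [cjm_commutator, cjm_eq_of_mem_normalizer hxV, cjm_eq_of_mem_normalizer hxE]

theorem U_disjoint (c : BlockCfg p V H) {E E' : Blk p V H} (h : E ≠ E') :
    Disjoint (c.U E) (c.U E') := by
  have := c.hindV.pairwiseDisjoint (show (some E : Option (Blk p V H)) ≠ some E' from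
    fun h' => h (Option.some.inj h'))
  exact this

theorem U_disjoint_fix (c : BlockCfg p V H) (E : Blk p V H) :
    Disjoint (c.U E) (V ⊓ Subgroup.centralizer (H : Set Γ)) := by
  have := c.hindV.pairwiseDisjoint (show (some E : Option (Blk p V H)) ≠ none from
    Option.some_ne_none E)
  exact this

/-- other blocks centralize the module of a block. -/
theorem le_centralizer_U_of_ne (c : BlockCfg p V H) {E E' : Blk p V H} (h : E ≠ E') :
    (E' : Subgroup Γ) ≤ Subgroup.centralizer ((c.U E : Subgroup Γ) : Set Γ) := by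
  intro b hb
  rw [Subgroup.mem_centralizer_iff]
  intro u hu
  have hbH : b ∈ H := c.le_H E' hb
  have hbV : b ∈ Subgroup.normalizer (V : Set Γ) := c.hHV hbH
  have hbE : b ∈ Subgroup.normalizer (((E : Subgroup Γ)) : Set Γ) := by
    have := c.le_centralizer_of_ne h hb
    exact Subgroup.centralizer_le_normalizer _ this
  have hbU := c.le_normalizer_U E hbV hbE
  -- ⁅u, b⁆ ∈ U E ⊓ U E'
  have h1 : u * b * u⁻¹ * b⁻¹ ∈ c.U E := by
    have : b * u⁻¹ * b⁻¹ ∈ c.U E :=
      (Subgroup.mem_normalizer_iff.mp hbU _).mp ((c.U E).inv_mem hu)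
    have h2 : u * b * u⁻¹ * b⁻¹ = u * (b * u⁻¹ * b⁻¹) := by group
    rw [h2]; exact (c.U E).mul_mem hu this
  have h2 : u * b * u⁻¹ * b⁻¹ ∈ c.U E' := by
    have : ⁅u, b⁆ ∈ ⁅V, (E' : Subgroup Γ)⁆ := Subgroup.commutator_mem_commutator (c.U_le_V E hu) hb
    rwa [commutatorElement_def] at this
  have h3 : u * b * u⁻¹ * b⁻¹ = 1 :=
    Subgroup.mem_bot.mp ((c.U_disjoint h).le_bot ⟨h1, h2⟩)
  calc u * b = (u * b * u⁻¹ * b⁻¹) * (b * u) := by group
    _ = b * u := by rw [h3, one_mul]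

/-- a block acts faithfully on its module. -/
theorem inf_centralizer_U (c : BlockCfg p V H) (E : Blk p V H) :
    (E : Subgroup Γ) ⊓ Subgroup.centralizer ((c.U E : Subgroup Γ) : Set Γ) = ⊥ := by
  rw [eq_bot_iff]
  rintro a ⟨haE, haU⟩
  have haH : a ∈ H := c.le_H E haE
  -- a centralizes V
  have hV : V ≤ Subgroup.centralizer ({a} : Set Γ) := by
    rw [← c.hsupV]
    apply sup_le
    · rintro v ⟨-, hv⟩
      rw [Subgroup.mem_centralizer_singleton_iff]
      exact (Subgroup.mem_centralizer_iff.mp hv a haH).symm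
    · apply iSup_le
      intro E'
      by_cases h : E' = E
      · subst h
        intro u hu
        rw [Subgroup.mem_centralizer_singleton_iff]
        exact (Subgroup.mem_centralizer_iff.mp haU u hu)
      · intro u hu
        rw [Subgroup.mem_centralizer_singleton_iff]
        have := c.le_centralizer_U_of_ne h haE
        exact (Subgroup.mem_centralizer_iff.mp this u hu)
  have : a ∈ H ⊓ Subgroup.centralizer (V : Set Γ) := by
    refine ⟨haH, ?_⟩
    apply Subgroup.mem_centralizer_iff.mpr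
    intro v hv
    exact (Subgroup.mem_centralizer_singleton_iff.mp (hV hv))
  rw [c.hf] at this
  exact this

/-- conjugation by an element normalizing `V` and `H` permutes the blocks. -/
theorem exists_blk_cjm (c : BlockCfg p V H) {x : Γ} (hxV : x ∈ Subgroup.normalizer (V : Set Γ))
    (hxH : x ∈ Subgroup.normalizer (H : Set Γ)) (E : Blk p V H) :
    ∃ E' : Blk p V H, (E' : Subgroup Γ) = cjm x (E : Subgroup Γ) := by
  obtain ⟨A, hAH, hbo, hne, hmin, hEeq⟩ := E.2
  have hV : cjm x V = V := cjm_eq_of_mem_normalizer hxV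
  have hH : cjm x H = H := cjm_eq_of_mem_normalizer hxH
  have hxV' : x⁻¹ ∈ Subgroup.normalizer (V : Set Γ) := Subgroup.inv_mem _ hxV
  have hV' : cjm x⁻¹ V = V := cjm_eq_of_mem_normalizer hxV'
  have hbot : ∀ B : Subgroup Γ, ∀ y : Γ, cjm y B = ⊥ ↔ B = ⊥ := fun B y =>
    Subgroup.map_eq_bot_iff_of_injective _ (MulAut.conj y).injective
  have hL : cjm x ((Cfsg.pPrimeCore p ↥H).map H.subtype) = (Cfsg.pPrimeCore p ↥H).map H.subtype := by
    have : (Cfsg.pPrimeCore p ↥H).Characteristic := Cfsg.Agent.Lib.Helper55.pPrimeCore_characteristic p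
    exact cjm_map_subtype_of_characteristic hxH _
  refine ⟨⟨cjm x (E : Subgroup Γ), cjm x A, ?_, isBestOffenderOn_cjm hxV hbo, ?_, ?_, ?_⟩, rfl⟩
  · rw [← hH]; exact cjm_mono x hAH
  · intro h
    have h2 : cjm x ⁅V, A⁆ = ⁅V, cjm x A⁆ := by rw [cjm_commutator, hV]
    rw [← h2, hbot] at h
    exact hne h
  · intro B hB hBbo hBne
    have hB' : cjm x⁻¹ B ≤ A := (cjm_le_iff x⁻¹).mpr (by rwa [inv_inv])
    have h2 : ⁅V, cjm x⁻¹ B⁆ ≠ ⊥ := by
      intro h
      have h3 : cjm x⁻¹ ⁅V, B⁆ = ⁅V, cjm x⁻¹ B⁆ := by rw [cjm_commutator, hV']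
      rw [← h3, hbot] at h
      exact hBne h
    have := hmin _ hB' (isBestOffenderOn_cjm hxV' hBbo) h2
    rw [← this, cjm_cjm_inv]
  · rw [hEeq, cjm_sup, cjm_commutator, hL]

/-- Counting: a `q`-element normalizing a subgroup `U` of order `p²` (`p ∈ {2,3}`, `q ∉ {2,3}`)
centralizes it. -/
theorem le_centralizer_of_card_sq {U : Subgroup Γ} {x : Γ} {q : ℕ} [Fact q.Prime]
    (hp : p = 2 ∨ p = 3) (hq2 : q ≠ 2) (hq3 : q ≠ 3)
    (hxU : x ∈ Subgroup.normalizer (U : Set Γ)) {k : ℕ} (hxk : x ^ q ^ k = 1)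
    (hU : Nat.card U = p ^ 2) : U ≤ Subgroup.centralizer ({x} : Set Γ) := by
  classical
  have : Fintype ↥U := Fintype.ofFinite _
  have hmem : ∀ (m : ℕ) (u : ↥U), x ^ m * (u : Γ) * (x ^ m)⁻¹ ∈ U := by
    intro m u
    have : x ^ m ∈ Subgroup.normalizer (U : Set Γ) := Subgroup.pow_mem _ hxU m
    exact (Subgroup.mem_normalizer_iff.mp this u).mp u.2
  let f : Function.End ↥U := fun u => ⟨x * (u : Γ) * x⁻¹, by simpa using hmem 1 u⟩
  have hfpow : ∀ (m : ℕ) (u : ↥U), ((f ^ m) u : Γ) = x ^ m * (u : Γ) * (x ^ m)⁻¹ := by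
    intro m
    induction m with
    | zero =>
      intro u
      rw [pow_zero, pow_zero]
      show (u : Γ) = 1 * (u : Γ) * 1⁻¹
      simp
    | succ m ih =>
      intro u
      rw [pow_succ']
      show ((f ((f ^ m) u) : ↥U) : Γ) = _
      show x * ((f ^ m) u : Γ) * x⁻¹ = _
      rw [ih u, pow_succ']
      group
  have hf : f ^ q ^ k = 1 := by
    funext u
    apply Subtype.ext
    rw [hfpow, hxk]
    show 1 * (u : Γ) * 1⁻¹ = (u : Γ)
    simp
  have hmod := Equiv.Perm.card_fixedPoints_modEq (p := q) (n := k) hf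
  -- fixed points = centralizer
  set D : Subgroup ↥U := (Subgroup.centralizer ({x} : Set Γ)).subgroupOf U with hD
  have hfix : Fintype.card (Function.fixedPoints f) = Nat.card D := by
    rw [← Nat.card_eq_fintype_card]
    apply Nat.card_congr
    apply Equiv.setCongr
    ext u
    show f u = u ↔ (u : Γ) ∈ Subgroup.centralizer ({x} : Set Γ)
    rw [Subgroup.mem_centralizer_singleton_iff]
    constructor
    · intro h
      have h1 : x * (u : Γ) * x⁻¹ = (u : Γ) := congrArg Subtype.val h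
      calc (u : Γ) * x = (x * (u : Γ) * x⁻¹) * x := by rw [h1]
        _ = x * (u : Γ) := by group
    · intro h
      apply Subtype.ext
      show x * (u : Γ) * x⁻¹ = (u : Γ)
      rw [← h]; group
  rw [← Nat.card_eq_fintype_card, hfix, hU] at hmod
  have hdvd : Nat.card D ∣ p ^ 2 := by
    rw [← hU]; exact Subgroup.card_subgroup_dvd_card D
  have hDtop : Nat.card D = p ^ 2 := by
    have hq : q.Prime := Fact.out
    have hq5 : 5 ≤ q := by
      have := hq.two_le
      by_contra hlt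
      push Not at hlt
      have : q = 2 ∨ q = 3 ∨ q = 4 := by omega
      rcases this with h | h | h
      · exact hq2 h
      · exact hq3 h
      · rw [h] at hq; exact absurd hq (by decide)
    rcases hp with rfl | rfl
    · have hle : Nat.card D ≤ 4 := Nat.le_of_dvd (by norm_num) hdvd
      have hpos : 0 < Nat.card D := Nat.card_pos
      have h4 : (2 : ℕ) ^ 2 = 4 := by norm_num
      rw [h4] at hmod hdvd ⊢
      have := (Nat.modEq_iff_dvd' hle).mp hmod.symm
      have hle2 : q ≤ 4 - Nat.card D ∨ 4 - Nat.card D = 0 := by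
        rcases Nat.eq_zero_or_pos (4 - Nat.card D) with h | h
        · right; exact h
        · left; exact Nat.le_of_dvd h this
      omega
    · have hle : Nat.card D ≤ 9 := Nat.le_of_dvd (by norm_num) hdvd
      have hpos : 0 < Nat.card D := Nat.card_pos
      have h9 : (3 : ℕ) ^ 2 = 9 := by norm_num
      rw [h9] at hmod hdvd ⊢
      have hd := (Nat.modEq_iff_dvd' hle).mp hmod.symm
      have hcases : Nat.card D = 1 ∨ Nat.card D = 3 ∨ Nat.card D = 9 := by
        have : Nat.card D ∈ Nat.divisors 9 := Nat.mem_divisors.mpr ⟨hdvd, by norm_num⟩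
        have h9d : Nat.divisors 9 = {1, 3, 9} := by decide
        rw [h9d] at this
        simpa using this
      rcases hcases with h | h | h
      · rw [h] at hd
        have : q ∣ 8 := hd
        have : q ∣ 2 ^ 3 := by simpa using this
        have := (Nat.prime_dvd_prime_iff_eq hq Nat.prime_two).mp (hq.dvd_of_dvd_pow this)
        exact absurd this hq2
      · rw [h] at hd
        have : q ∣ 6 := hd
        have h6 : (6 : ℕ) = 2 * 3 := by norm_num
        rw [h6] at this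
        rcases (hq.dvd_mul).mp this with h' | h'
        · exact absurd ((Nat.prime_dvd_prime_iff_eq hq Nat.prime_two).mp h') hq2
        · exact absurd ((Nat.prime_dvd_prime_iff_eq hq Nat.prime_three).mp h') hq3
      · exact h
  have hDeq : D = ⊤ := by
    apply Subgroup.eq_top_of_card_eq
    rw [hDtop, hU]
  intro u hu
  have : (⟨u, hu⟩ : ↥U) ∈ D := by rw [hDeq]; exact Subgroup.mem_top _
  exact Subgroup.mem_subgroupOf.mp this

theorem card_U (c : BlockCfg p V H) (E : Blk p V H) : Nat.card (c.U E) = p ^ 2 := (c.hE E).2.2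

/-- a `q`-element (`q ∉ {2,3}`) normalizing `V` and a block centralizes the module of the block. -/
theorem U_le_centralizer_of_normalizes (c : BlockCfg p V H) {q : ℕ} [Fact q.Prime]
    (hq2 : q ≠ 2) (hq3 : q ≠ 3) {x : Γ} {k : ℕ} (hxk : x ^ q ^ k = 1)
    (hxV : x ∈ Subgroup.normalizer (V : Set Γ)) (E : Blk p V H)
    (hxE : x ∈ Subgroup.normalizer (((E : Subgroup Γ)) : Set Γ)) :
    c.U E ≤ Subgroup.centralizer ({x} : Set Γ) :=
  le_centralizer_of_card_sq c.hp hq2 hq3 (c.le_normalizer_U E hxV hxE) hxk (c.card_U E)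

/-- ... and the block itself. -/
theorem mem_centralizer_of_normalizes (c : BlockCfg p V H) {q : ℕ} [Fact q.Prime]
    (hq2 : q ≠ 2) (hq3 : q ≠ 3) {x : Γ} {k : ℕ} (hxk : x ^ q ^ k = 1)
    (hxV : x ∈ Subgroup.normalizer (V : Set Γ)) (E : Blk p V H)
    (hxE : x ∈ Subgroup.normalizer (((E : Subgroup Γ)) : Set Γ)) :
    x ∈ Subgroup.centralizer (((E : Subgroup Γ)) : Set Γ) := by
  have hU := c.U_le_centralizer_of_normalizes hq2 hq3 hxk hxV E hxE
  have hxu : ∀ u ∈ c.U E, x * u = u * x := fun u hu =>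
    (Subgroup.mem_centralizer_singleton_iff.mp (hU hu)).symm
  rw [Subgroup.mem_centralizer_iff]
  intro e he
  -- g = x e x⁻¹ e⁻¹ ∈ E centralizes U
  have hg1 : x * e * x⁻¹ * e⁻¹ ∈ (E : Subgroup Γ) := by
    have := (Subgroup.mem_normalizer_iff.mp hxE e).mp he
    exact (E : Subgroup Γ).mul_mem this ((E : Subgroup Γ).inv_mem he)
  have heN : e ∈ Subgroup.normalizer ((c.U E : Subgroup Γ) : Set Γ) :=
    c.le_normalizer_U E (c.hHV (c.le_H E he)) (Subgroup.le_normalizer he)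
  have hg2 : x * e * x⁻¹ * e⁻¹ ∈ Subgroup.centralizer ((c.U E : Subgroup Γ) : Set Γ) := by
    rw [Subgroup.mem_centralizer_iff]
    intro u hu
    have hu1 : e⁻¹ * u * e ∈ c.U E := by
      have := (Subgroup.mem_normalizer_iff.mp (Subgroup.inv_mem _ heN) u).mp hu
      simpa using this
    have h1 := hxu _ hu1
    have h2 := hxu u hu
    -- u * g = g * u
    have e1 : x⁻¹ * (e⁻¹ * u * e) = (e⁻¹ * u * e) * x⁻¹ := by
      calc x⁻¹ * (e⁻¹ * u * e) = x⁻¹ * ((e⁻¹ * u * e) * x) * x⁻¹ := by group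
        _ = x⁻¹ * (x * (e⁻¹ * u * e)) * x⁻¹ := by rw [h1]
        _ = (e⁻¹ * u * e) * x⁻¹ := by group
    calc u * (x * e * x⁻¹ * e⁻¹) = (u * x) * e * x⁻¹ * e⁻¹ := by group
      _ = (x * u) * e * x⁻¹ * e⁻¹ := by rw [h2]
      _ = x * e * ((e⁻¹ * u * e) * x⁻¹) * e⁻¹ := by group
      _ = x * e * (x⁻¹ * (e⁻¹ * u * e)) * e⁻¹ := by rw [e1]
      _ = x * e * x⁻¹ * e⁻¹ * u := by group
  have hg : x * e * x⁻¹ * e⁻¹ = 1 := by
    have : x * e * x⁻¹ * e⁻¹ ∈ (E : Subgroup Γ) ⊓ Subgroup.centralizer ((c.U E : Subgroup Γ) : Set Γ) :=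
      ⟨hg1, hg2⟩
    rw [c.inf_centralizer_U E] at this
    exact Subgroup.mem_bot.mp this
  calc e * x = (x * e * x⁻¹ * e⁻¹)⁻¹ * (x * e) := by group
    _ = x * e := by rw [hg, inv_one, one_mul]

/-- **Fixed diagonal elements**: if the `q`-group `X` (`q ∉ {2,3}`) normalizes `V` and `H`, then every
element `e` of a block `E` (of order prime to `q`) is the `E`-component of an `X`-fixed element of `H`. -/
theorem exists_fixed (c : BlockCfg p V H) {q : ℕ} [Fact q.Prime] (hq2 : q ≠ 2) (hq3 : q ≠ 3)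
    (X : Subgroup Γ) (hXq : IsPGroup q X) (hXV : X ≤ Subgroup.normalizer (V : Set Γ))
    (hXH : X ≤ Subgroup.normalizer (H : Set Γ)) (E : Blk p V H) (e : Γ) (he : e ∈ (E : Subgroup Γ))
    (heq : (orderOf e).Coprime q) :
    ∃ d ∈ Subgroup.centralizer (X : Set Γ), d ∈ H ∧ ∃ r ∈ c.rest E, d = e * r := by
  have h1 : ∀ y ∈ X, y ∉ Subgroup.normalizer (((E : Subgroup Γ)) : Set Γ) →
      (E : Subgroup Γ).map (MulAut.conj y).toMonoidHom ≤ c.rest E := by
    intro y hy hyn
    obtain ⟨E', hE'⟩ := c.exists_blk_cjm (hXV hy) (hXH hy) E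
    have hne : E' ≠ E := by
      intro h
      apply hyn
      rw [Subgroup.mem_normalizer_iff_map_conj_eq]
      rw [h] at hE'
      exact hE'.symm
    show cjm y (E : Subgroup Γ) ≤ _
    rw [← hE']
    exact c.le_rest hne
  have h2 : ∀ y ∈ X, y ∈ Subgroup.normalizer (((E : Subgroup Γ)) : Set Γ) →
      y ∈ Subgroup.centralizer (((E : Subgroup Γ)) : Set Γ) := by
    intro y hy hyn
    obtain ⟨k, hk⟩ := hXq ⟨y, hy⟩
    have hk' : y ^ q ^ k = 1 := congrArg Subtype.val hk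
    exact c.mem_centralizer_of_normalizes hq2 hq3 hk' (hXV hy) E hyn
  obtain ⟨d, hd1, hd2, r, hr, hdr⟩ :=
    Blocks.exists_diag X (E : Subgroup Γ) (c.rest E) hXq h1 h2 (c.rest_le_centralizer E) e he heq
  refine ⟨d, hd1, ?_, r, hr, hdr⟩
  have hle : Subgroup.closure {z | ∃ y ∈ X, ∃ e' ∈ (E : Subgroup Γ), z = y * e' * y⁻¹} ≤ H := by
    rw [Subgroup.closure_le]
    rintro _ ⟨y, hy, e', he', rfl⟩
    exact (Subgroup.mem_normalizer_iff.mp (hXH hy) e').mp (c.le_H E he')
  exact hle hd2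

end BlockCfg

end Cfg

end Cfsg.Agent.Lib.Helper49.FFB
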