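import Cfsg.Agent.Lib.Helper49.HolTransfer
import Mathlib.GroupTheory.PGroup

/-!
# Automorphisms in the holomorph, fixed points of coprime operator groups

For a characteristic subgroup `V` of `K`, every automorphism `α` of `K` restricts to `V` and hence gives an
element `holAut V α` of `Hol V`, with `holHom V (α k) = holAut V α * holHom V k * (holAut V α)⁻¹`.
`exists_fixed_preimage`: if `𝔛 ≤ Aut K` is a `q`-group, `q ∤ |K|`, then an `𝔛`-fixed element of the image
of `K` in `Hol V` is the image of an `𝔛`-fixed element of `K`.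
-/

set_option autoImplicit false

namespace Cfsg.Agent.Lib.Helper49

section Aut

variable {K : Type*} [Group K] (V : Subgroup K) [hVc : V.Characteristic]

theorem aut_mem_of_characteristic (α : MulAut K) {v : K} (hv : v ∈ V) : α v ∈ V := by
  have h := Subgroup.characteristic_iff_comap_eq.mp hVc α
  have : v ∈ V.comap α.toMonoidHom := by rw [h]; exact hv
  exact this

/-- restriction of automorphisms to a characteristic subgroup. -/
def resAut : MulAut K →* MulAut ↥V where
  toFun α :=
    { toFun := fun v => ⟨α v, aut_mem_of_characteristic V α v.2⟩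
      invFun := fun v => ⟨α⁻¹ v, aut_mem_of_characteristic V α⁻¹ v.2⟩
      left_inv := by intro v; apply Subtype.ext; simp
      right_inv := by intro v; apply Subtype.ext; simp
      map_mul' := by intro a b; apply Subtype.ext; simp }
  map_one' := by ext v; rfl
  map_mul' := by intro a b; ext v; rfl

@[simp] theorem resAut_apply (α : MulAut K) (v : ↥V) : ((resAut V α v : ↥V) : K) = α v := rfl

/-- automorphisms of `K` inside the holomorph of the characteristic subgroup `V`. -/
def holAut : MulAut K →* Hol V := (SemidirectProduct.inr).comp (resAut V)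

theorem holAut_conj_inl (α : MulAut K) (v : ↥V) :
    holAut V α * SemidirectProduct.inl v * (holAut V α)⁻¹ =
      SemidirectProduct.inl (resAut V α v) := by
  unfold holAut
  rw [MonoidHom.comp_apply, ← map_inv]
  exact (SemidirectProduct.inl_aut (φ := MonoidHom.id (MulAut ↥V)) (resAut V α) v).symm

theorem holHom_aut (α : MulAut K) (k : K) :
    holHom V (α k) = holAut V α * holHom V k * (holAut V α)⁻¹ := by
  unfold holHom holAut
  simp only [MonoidHom.comp_apply]
  rw [← map_inv, ← map_mul, ← map_mul]
  congr 1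
  ext v
  simp only [MulAut.conjNormal_apply, MulAut.mul_apply, resAut_apply]
  have h1 : (((resAut V α)⁻¹ v : ↥V) : K) = α⁻¹ (v : K) := by
    rw [← map_inv]; rfl
  rw [h1]
  simp

/-- the subgroup of fixed points of a group of automorphisms. -/
def fixedSubgroup (𝔛 : Subgroup (MulAut K)) : Subgroup K where
  carrier := {k | ∀ α ∈ 𝔛, α k = k}
  one_mem' := by intro α _; simp
  mul_mem' := by
    intro a b ha hb α hα
    simp only [Set.mem_ofPred_eq] at ha hb
    rw [map_mul, ha α hα, hb α hα]
  inv_mem' := by
    intro a ha α hα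
    simp only [Set.mem_ofPred_eq] at ha
    rw [map_inv, ha α hα]

theorem mem_fixedSubgroup {𝔛 : Subgroup (MulAut K)} {k : K} :
    k ∈ fixedSubgroup 𝔛 ↔ ∀ α ∈ 𝔛, α k = k := Iff.rfl

/-- coprime lifting of fixed points. -/
theorem exists_fixed_preimage [Finite K] {q : ℕ} [Fact q.Prime] (𝔛 : Subgroup (MulAut K))
    (h𝔛 : IsPGroup q 𝔛) (hq : ¬ q ∣ Nat.card K) (k₀ : K)
    (hfix : holHom V k₀ ∈ Subgroup.centralizer ((𝔛.map (holAut V) : Subgroup (Hol V)) : Set (Hol V))) :
    ∃ k ∈ fixedSubgroup 𝔛, holHom V k = holHom V k₀ := by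
  -- the fibre of `k₀`
  let Ω : Type _ := {k : K // holHom V k = holHom V k₀}
  have hstab : ∀ α ∈ 𝔛, ∀ k : K, holHom V k = holHom V k₀ → holHom V (α k) = holHom V k₀ := by
    intro α hα k hk
    rw [holHom_aut, hk]
    have := Subgroup.mem_centralizer_iff.mp hfix (holAut V α) ⟨α, hα, rfl⟩
    rw [this]; group
  let _ : MulAction ↥𝔛 Ω :=
    { smul := fun α k => ⟨(α : MulAut K) k.1, hstab α α.2 k.1 k.2⟩
      one_smul := by intro k; apply Subtype.ext; rfl
      mul_smul := by intro a b k; apply Subtype.ext; rfl }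
  -- cardinality of the fibre
  have hcard : Nat.card Ω = Nat.card (holHom V).ker := by
    apply Nat.card_congr
    refine
      { toFun := fun k => ⟨k₀⁻¹ * k.1, ?_⟩
        invFun := fun c => ⟨k₀ * c.1, ?_⟩
        left_inv := ?_
        right_inv := ?_ }
    · rw [MonoidHom.mem_ker, map_mul, map_inv, k.2]; group
    · rw [map_mul, MonoidHom.mem_ker.mp c.2, mul_one]
    · intro k; apply Subtype.ext; simp
    · intro c; apply Subtype.ext; simp
  have hnd : ¬ q ∣ Nat.card Ω := by
    rw [hcard]
    intro h
    exact hq (h.trans (Subgroup.card_subgroup_dvd_card _))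
  obtain ⟨k, hk⟩ := h𝔛.nonempty_fixed_point_of_prime_not_dvd_card Ω hnd
  refine ⟨k.1, ?_, k.2⟩
  intro α hα
  have := hk ⟨α, hα⟩
  exact congrArg Subtype.val this

end Aut

end Cfsg.Agent.Lib.Helper49
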