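import Cfsg.Agent.Lib.Helper49.FF618
import Cfsg.Agent.Lib.Helper49.FFBlocks
import Cfsg.Agent.Lib.Helper49.HolAut
import Cfsg.Agent.Lib.Helper97.Frattini
import Cfsg.Agent.Lib.Helper33.StabChain
import Cfsg.Agent.Lib.Lead.Offender.SL2
import Cfsg.Agent.S0604

/-!
# S0620 from S0617: generation by `N(J(S))`, `C(Ω₁Z(S))` and the fixed points of a coprime `q`-group

Abstract form `generation_of`: `K` a `p`-separable group with `O_{p'}(K) = 1`, `𝔛 ≤ Aut K` a `q`-group,
`q ∤ |K|`; then `K = ⟨N_K(J(S)), C_K(Ω₁Z(S)), C_K(𝔛)⟩` for every Sylow `p`-subgroup `S`.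
-/

set_option autoImplicit false
set_option linter.unusedSectionVars false
open Cfsg

namespace Cfsg.Agent.Lib.Helper49.FF620

universe u

open Cfsg.Agent.Lib.Helper49 Cfsg.Agent.Lib.Helper49.FFB Cfsg.Agent.Lib.Helper33

section Char

variable {K : Type u} [Group K] {p : ℕ}

theorem map_omegaOne_le {K' : Type*} [Group K'] (f : K →* K') (A : Subgroup K) (B : Subgroup K')
    (h : A.map f ≤ B) : (omegaOne p A).map f ≤ omegaOne p B := by
  unfold omegaOne
  rw [MonoidHom.map_closure, Subgroup.closure_le]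
  rintro _ ⟨x, ⟨hx, hxp⟩, rfl⟩
  apply Subgroup.subset_closure
  refine ⟨h (Subgroup.mem_map_of_mem _ hx), ?_⟩
  rw [← map_pow, hxp, map_one]

/-- The normal closure of `Ω₁(Z(S))` is characteristic. -/
theorem bigW_characteristic [Finite K] [Fact p.Prime] : (Cfsg.Agent.S0601.bigW p K).Characteristic := by
  rw [Subgroup.characteristic_iff_map_le]
  intro α
  unfold Cfsg.Agent.S0601.bigW
  rw [Subgroup.map_iSup]
  refine iSup_le fun S => ?_
  have hsurj : Function.Surjective α.toMonoidHom := α.surjective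
  refine le_trans ?_ (le_iSup (fun S : Sylow p K => omegaOne p (Cfsg.Agent.S0601.zOf (S : Subgroup K)))
    (S.mapSurjective hsurj))
  apply map_omegaOne_le
  rw [Sylow.coe_mapSurjective]
  rintro _ ⟨x, ⟨hx1, hx2⟩, rfl⟩
  refine ⟨Subgroup.mem_map_of_mem _ hx1, ?_⟩
  apply Subgroup.mem_centralizer_iff.mpr
  rintro _ ⟨y, hy, rfl⟩
  have := Subgroup.mem_centralizer_iff.mp hx2 y hy
  show α.toMonoidHom y * α.toMonoidHom x = α.toMonoidHom x * α.toMonoidHom y
  rw [← map_mul, ← map_mul, this]

end Char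

section Setup

variable {K : Type u} [Group K] [Finite K] {p : ℕ} [Fact p.Prime]

attribute [local instance] bigW_characteristic

/-- `W = ⟨Ω₁(Z(S)) : S ∈ Syl_p(K)⟩`. -/
abbrev Wk (p : ℕ) (K : Type u) [Group K] : Subgroup K := Cfsg.Agent.S0601.bigW p K

/-- `J(K)`. -/
abbrev Jk (p : ℕ) (K : Type u) [Group K] : Subgroup K := Cfsg.thompsonSubgroup p K

theorem centralizer_pCore_le_of (hsep : Cfsg.IsPSolvable p K) (hO : Cfsg.pPrimeCore p K = ⊥) :
    Subgroup.centralizer (pCore p K : Set K) ≤ pCore p K := by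
  apply Cfsg.Agent.Lib.Helper76.centralizer_pCore_le p hsep
  intro N hN hcop
  have := Cfsg.Agent.Lib.Helper76.le_pPrimeCore p N hN hcop
  rw [hO, le_bot_iff] at this
  exact this

theorem Jk_characteristic : (Jk p K).Characteristic := (Cfsg.Agent.S0602.result (G := K) (p := p)).1

attribute [local instance] Jk_characteristic

/-- The block configuration in the holomorph of `W` given by S0617. -/
theorem blockCfg_of (h617 : FF618.S0617Type.{u}) (hsep : Cfsg.IsPSolvable p K)
    (hO : Cfsg.pPrimeCore p K = ⊥) (hnf : ¬ Cfsg.IsThompsonFactorizable p K) :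
    BlockCfg p (holV (Wk p K)) ((Jk p K).map (holHom (Wk p K))) ∧
      (Jk p K).map (holHom (Wk p K)) ≠ ⊥ := by
  have hc := centralizer_pCore_le_of hsep hO
  obtain ⟨-, hWe, -⟩ := Cfsg.Agent.S0601.result (p := p) hc
  have hJC := mt (Cfsg.Agent.S0608.result (p := p) hO).mpr hnf
  change IsElementaryAbelian p (Wk p K) at hWe
  change ¬ Jk p K ≤ Subgroup.centralizer ((Wk p K : Subgroup K) : Set K) at hJC
  have hQ : pCore p (K ⧸ Subgroup.centralizer ((Wk p K : Subgroup K) : Set K)) = ⊥ :=
    Cfsg.Agent.Lib.Helper97.pCore_quotient_centralizer_eq_bot (p := p) (Wk p K)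
      Cfsg.Agent.S0601.bigW_gen
  have hV' : IsElementaryAbelian p (holV (Wk p K)) := holV_isElementaryAbelian _ hWe
  have hV'n : (holV (Wk p K)).Normal := holV_normal _
  have hHV' : (Jk p K).map (holHom (Wk p K)) ≤
      Subgroup.normalizer ((holV (Wk p K) : Subgroup (Hol (Wk p K))) : Set (Hol (Wk p K))) := by
    rw [Subgroup.normalizer_eq_top]; exact le_top
  have hf : (Jk p K).map (holHom (Wk p K)) ⊓
      Subgroup.centralizer ((holV (Wk p K) : Subgroup (Hol (Wk p K))) : Set (Hol (Wk p K))) = ⊥ :=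
    map_holHom_inf_centralizer_holV _ _
  have hS1 := FF618.hS1_aux hsep (Wk p K) hQ (Jk p K)
  have hS3 : (Jk p K).map (holHom (Wk p K)) = ⨆ A : {A : Subgroup (Hol (Wk p K)) // A ≤ (Jk p K).map (holHom (Wk p K)) ∧ Cfsg.IsBestOffenderOn p (holV (Wk p K)) A}, (A : Subgroup (Hol (Wk p K))) := by
    apply le_antisymm
    · rw [Subgroup.map_le_iff_le_comap]
      apply sSup_le
      intro A hA
      rw [← Subgroup.map_le_iff_le_comap]
      have hbo : IsBestOffenderOn p (Wk p K) A := Cfsg.Agent.S0606.result (Wk p K) hWe A hA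
      exact le_iSup (fun A : {A : Subgroup (Hol (Wk p K)) // A ≤ (Jk p K).map (holHom (Wk p K)) ∧ Cfsg.IsBestOffenderOn p (holV (Wk p K)) A} => (A : Subgroup (Hol (Wk p K))))
        ⟨A.map (holHom (Wk p K)), Subgroup.map_mono (le_sSup hA), isBestOffenderOn_map_holHom _ hbo⟩
    · exact iSup_le fun A => A.2.1
  have hH1 : (Jk p K).map (holHom (Wk p K)) ≠ ⊥ := by
    intro h
    apply hJC
    have := (Subgroup.map_eq_bot_iff (Jk p K)).mp h
    rw [holHom_ker] at this
    exact this
  obtain ⟨hp, hE, hind, hsup, hindV, hsupV⟩ :=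
    h617 (holV (Wk p K)) ((Jk p K).map (holHom (Wk p K))) hV' hHV' hf hS1 hS3 hH1
  exact ⟨⟨hHV', hf, hp, hE, hind, hsup, hindV, hsupV⟩, hH1⟩

end Setup

section SL2

open Cfsg.Agent.Lib.Lead.Offender

def m2a : Matrix.SpecialLinearGroup (Fin 2) (ZMod 2) := ⟨!![1, 1; 0, 1], by decide⟩
def m2b : Matrix.SpecialLinearGroup (Fin 2) (ZMod 2) := ⟨!![0, 1; 1, 1], by decide⟩
def m3a : Matrix.SpecialLinearGroup (Fin 2) (ZMod 3) := ⟨!![2, 0; 0, 2], by decide⟩
def m3b : Matrix.SpecialLinearGroup (Fin 2) (ZMod 3) := ⟨!![1, 1; 0, 1], by decide⟩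

theorem orderOf_m2a : orderOf m2a = 2 := orderOf_eq_prime (by decide) (by decide)
theorem orderOf_m2b : orderOf m2b = 3 := orderOf_eq_prime (by decide) (by decide)
theorem orderOf_m3a : orderOf m3a = 2 := orderOf_eq_prime (by decide) (by decide)
theorem orderOf_m3b : orderOf m3b = 3 := orderOf_eq_prime (by decide) (by decide)

/-- `2` and `3` divide the order of a group isomorphic to `SL(2,p)`, `p ∈ {2,3}`. -/
theorem two_three_dvd_card {E : Type*} [Group E] {p : ℕ} [Fact p.Prime] (hp : p = 2 ∨ p = 3)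
    (e : E ≃* Matrix.SpecialLinearGroup (Fin 2) (ZMod p)) : 2 ∣ Nat.card E ∧ 3 ∣ Nat.card E := by
  rw [Nat.card_congr e.toEquiv]
  rcases hp with rfl | rfl
  · constructor
    · have := orderOf_dvd_natCard m2a; rwa [orderOf_m2a] at this
    · have := orderOf_dvd_natCard m2b; rwa [orderOf_m2b] at this
  · constructor
    · have := orderOf_dvd_natCard m3a; rwa [orderOf_m3a] at this
    · have := orderOf_dvd_natCard m3b; rwa [orderOf_m3b] at this

/-- a group isomorphic to `SL(2,p)` is generated by its elements of order dividing `p`. -/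
theorem eq_top_of_forall_pow_mem {E : Type*} [Group E] {p : ℕ} [Fact p.Prime]
    (e : E ≃* Matrix.SpecialLinearGroup (Fin 2) (ZMod p)) (N : Subgroup E)
    (h : ∀ g : E, g ^ p = 1 → g ∈ N) : N = ⊤ := by
  have hS : N.map e.toMonoidHom = ⊤ := by
    apply eq_top_of_uMat_lMat_mem (t := 1) _ one_ne_zero
    · refine ⟨e.symm (uMat 1), h _ ?_, by simp⟩
      rw [← map_pow, uMat_pow]
      simp [uMat_zero]
    · refine ⟨e.symm (lMat 1), h _ ?_, by simp⟩
      rw [← map_pow, lMat_pow]
      simp [lMat_zero]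
  rw [eq_top_iff]
  intro g _
  have : e g ∈ N.map e.toMonoidHom := by rw [hS]; exact Subgroup.mem_top _
  obtain ⟨g', hg', hgg⟩ := this
  have : g' = g := e.injective hgg
  rw [← this]; exact hg'

end SL2

section Main

variable {K : Type u} [Group K] [Finite K] {p q : ℕ} [Fact p.Prime] [Fact q.Prime]

attribute [local instance] bigW_characteristic Jk_characteristic

theorem holAut_mem_normalizer_map (W J : Subgroup K) [W.Characteristic] [J.Characteristic]
    (α : MulAut K) :
    holAut W α ∈ Subgroup.normalizer ((J.map (holHom W) : Subgroup (Hol W)) : Set (Hol W)) := by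
  rw [Subgroup.mem_normalizer_iff]
  intro h
  constructor
  · rintro ⟨j, hj, rfl⟩
    rw [← holHom_aut]
    exact ⟨α j, aut_mem_of_characteristic J α hj, rfl⟩
  · rintro ⟨j, hj, hjh⟩
    refine ⟨α⁻¹ j, aut_mem_of_characteristic J α⁻¹ hj, ?_⟩
    rw [holHom_aut, hjh, map_inv]; group

/-- image of a Sylow subgroup is Sylow in the image. -/
theorem sylIn_map {G' : Type*} [Group G'] (f : K →* G') (S : Sylow p K) :
    SylIn p ((S : Subgroup K).map f) ((⊤ : Subgroup K).map f) := by
  refine ⟨Subgroup.map_mono le_top, S.isPGroup'.map f, ?_⟩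
  rw [Subgroup.relIndex_map_map]
  intro h
  have h1 : ((S : Subgroup K) ⊔ f.ker).relIndex (⊤ ⊔ f.ker) = ((S : Subgroup K) ⊔ f.ker).index := by
    rw [top_sup_eq, Subgroup.relIndex_top_right]
  rw [h1] at h
  have h2 : ((S : Subgroup K) ⊔ f.ker).index ∣ (S : Subgroup K).index :=
    Subgroup.index_dvd_of_le le_sup_left
  exact S.not_dvd_index (h.trans h2)

/-- **S0620, abstract form** (assuming the statement of S0617). -/
theorem generation_of (h617 : FF618.S0617Type.{u}) (𝔛 : Subgroup (MulAut K)) (h𝔛 : IsPGroup q 𝔛)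
    (hq : ¬ q ∣ Nat.card K) (hsep : Cfsg.IsPSolvable p K) (hO : Cfsg.pPrimeCore p K = ⊥)
    (S : Sylow p K) :
    Subgroup.normalizer (Cfsg.thompsonSubgroupOf p (S : Subgroup K) : Set K) ⊔
      Subgroup.centralizer (Cfsg.omegaOne p ((S : Subgroup K) ⊓ Subgroup.centralizer ((S : Subgroup K) : Set K)) : Set K) ⊔
      fixedSubgroup 𝔛 = ⊤ := by
  set T : Subgroup K := Subgroup.normalizer (Cfsg.thompsonSubgroupOf p (S : Subgroup K) : Set K) ⊔
      Subgroup.centralizer (Cfsg.omegaOne p ((S : Subgroup K) ⊓ Subgroup.centralizer ((S : Subgroup K) : Set K)) : Set K) ⊔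
      fixedSubgroup 𝔛 with hT
  have hNT : Subgroup.normalizer (Cfsg.thompsonSubgroupOf p (S : Subgroup K) : Set K) ≤ T :=
    le_sup_left.trans le_sup_left
  have hCT : Subgroup.centralizer (Cfsg.omegaOne p ((S : Subgroup K) ⊓ Subgroup.centralizer ((S : Subgroup K) : Set K)) : Set K) ≤ T :=
    le_sup_right.trans le_sup_left
  have hFT : fixedSubgroup 𝔛 ≤ T := le_sup_right
  by_cases hfac : Cfsg.IsThompsonFactorizable p K
  · rw [eq_top_iff]
    intro g _
    obtain ⟨x, hx, c, hc, n, hn, rfl⟩ := hfac S g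
    rw [hO, Subgroup.mem_bot] at hx
    subst hx
    rw [one_mul]
    exact T.mul_mem (hCT hc) (hNT hn)
  · obtain ⟨cfg, hH1⟩ := blockCfg_of h617 hsep hO hfac
    -- the kernel of ψ is in T
    have hker : ∀ k : K, holHom (Wk p K) k = 1 → k ∈ T := by
      intro k hk
      apply hCT
      have : k ∈ (holHom (Wk p K)).ker := hk
      rw [holHom_ker] at this
      refine Subgroup.centralizer_le ?_ this
      exact le_iSup (fun S : Sylow p K => omegaOne p (Cfsg.Agent.S0601.zOf (S : Subgroup K))) S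
    -- S ≤ T
    have hST : (S : Subgroup K) ≤ T := by
      refine le_trans ?_ hNT
      exact Subgroup.le_normalizer.trans
        (Cfsg.Agent.Lib.Helper97.normalizer_le_normalizer_thompsonSubgroupOf p _)
    -- it suffices that J ≤ T
    suffices hJT : Jk p K ≤ T by
      rw [eq_top_iff]
      intro g _
      have hJS : thompsonSubgroupOf p (S : Subgroup K) ≤ Jk p K := by
        have := Cfsg.Agent.S0604.result (G := K) (p := p)
        show _ ≤ Cfsg.thompsonSubgroup p K
        rw [this]
        exact le_iSup (fun S : Sylow p K => Cfsg.thompsonSubgroupOf p (S : Subgroup K)) S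
      obtain ⟨m, hm, hmg⟩ := Cfsg.Agent.Lib.Helper97.frattini_thompson S (Jk p K) hJS g
      have : g = m⁻¹ * (m * g) := by group
      rw [this]
      exact T.mul_mem (T.inv_mem (hJT hm)) (hNT hmg)
    -- it suffices that every block is in the image of T
    suffices hET : ∀ E : Blk p (holV (Wk p K)) ((Jk p K).map (holHom (Wk p K))),
        (E : Subgroup (Hol (Wk p K))) ≤ T.map (holHom (Wk p K)) by
      intro j hj
      have h1 : holHom (Wk p K) j ∈ (Jk p K).map (holHom (Wk p K)) := Subgroup.mem_map_of_mem _ hj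
      rw [← cfg.hsup] at h1
      have h2 : (⨆ E : Blk p (holV (Wk p K)) ((Jk p K).map (holHom (Wk p K))), (E : Subgroup (Hol (Wk p K)))) ≤
          T.map (holHom (Wk p K)) := iSup_le hET
      obtain ⟨t, ht, hte⟩ := h2 h1
      have h3 : t⁻¹ * j ∈ T := by
        apply hker
        rw [map_mul, map_inv, hte]; group
      have : j = t * (t⁻¹ * j) := by group
      rw [this]
      exact T.mul_mem ht h3
    intro E
    obtain ⟨hEn, ⟨eSL⟩, -⟩ := cfg.hE E
    have hEH := cfg.le_H E
    -- q ∉ {2, 3}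
    have hcardE : Nat.card (E : Subgroup (Hol (Wk p K))) ∣ Nat.card K := by
      have h1 : Nat.card (E : Subgroup (Hol (Wk p K))) ∣ Nat.card ((Jk p K).map (holHom (Wk p K))) :=
        Subgroup.card_dvd_of_le hEH
      have h2 : Nat.card ((Jk p K).map (holHom (Wk p K))) ∣ Nat.card (Jk p K) :=
        Dvd.intro _ (card_map_holHom_mul (Wk p K) (Jk p K))
      exact h1.trans (h2.trans (Subgroup.card_subgroup_dvd_card _))
    obtain ⟨h2E, h3E⟩ := two_three_dvd_card cfg.hp eSL
    have hq2 : q ≠ 2 := by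
      rintro rfl
      exact hq (h2E.trans hcardE)
    have hq3 : q ≠ 3 := by
      rintro rfl
      exact hq (h3E.trans hcardE)
    -- the operator group in the holomorph
    set X' : Subgroup (Hol (Wk p K)) := 𝔛.map (holAut (Wk p K)) with hX'
    have hX'q : IsPGroup q X' := h𝔛.map _
    have hX'V : X' ≤ Subgroup.normalizer ((holV (Wk p K) : Subgroup (Hol (Wk p K))) : Set (Hol (Wk p K))) := by
      have : (holV (Wk p K)).Normal := holV_normal _
      rw [Subgroup.normalizer_eq_top]; exact le_top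
    have hX'H : X' ≤ Subgroup.normalizer (((Jk p K).map (holHom (Wk p K)) : Subgroup (Hol (Wk p K))) : Set (Hol (Wk p K))) := by
      rintro _ ⟨α, -, rfl⟩
      exact holAut_mem_normalizer_map _ _ α
    -- the Sylow subgroup of E
    set P : Subgroup (Hol (Wk p K)) := (S : Subgroup K).map (holHom (Wk p K)) ⊓ (E : Subgroup (Hol (Wk p K))) with hP
    have hPsyl : SylIn p P (E : Subgroup (Hol (Wk p K))) := by
      have h0 := sylIn_map (holHom (Wk p K)) S
      have hHR : (Jk p K).map (holHom (Wk p K)) ≤ (⊤ : Subgroup K).map (holHom (Wk p K)) :=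
        Subgroup.map_mono le_top
      have hRn : (⊤ : Subgroup K).map (holHom (Wk p K)) ≤
          Subgroup.normalizer (((Jk p K).map (holHom (Wk p K)) : Subgroup (Hol (Wk p K))) : Set (Hol (Wk p K))) := by
        rintro _ ⟨k, -, rfl⟩
        rw [Subgroup.mem_normalizer_iff]
        intro h
        have hJn : (Jk p K).Normal := inferInstance
        constructor
        · rintro ⟨j, hj, rfl⟩
          refine ⟨k * j * k⁻¹, hJn.conj_mem j hj k, ?_⟩
          simp
        · rintro ⟨j, hj, hjh⟩
          refine ⟨k⁻¹ * j * k, ?_, ?_⟩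
          · have := hJn.conj_mem j hj k⁻¹
            simpa using this
          · rw [map_mul, map_mul, hjh, map_inv]; group
      have h1 := h0.inf_of_normal hHR hRn
      have h2 := h1.inf_of_normal hEH hEn
      have : ((S : Subgroup K).map (holHom (Wk p K)) ⊓ (Jk p K).map (holHom (Wk p K))) ⊓ (E : Subgroup (Hol (Wk p K))) = P := by
        rw [hP, inf_assoc, inf_eq_right.mpr hEH]
      rwa [this] at h2
    have hPT : P ≤ T.map (holHom (Wk p K)) := inf_le_left.trans (Subgroup.map_mono hST)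
    -- conjugates of P by elements of E are in ψ(T)
    have hconj : ∀ e ∈ (E : Subgroup (Hol (Wk p K))), cjm e P ≤ T.map (holHom (Wk p K)) := by
      intro e he
      have heq : (orderOf e).Coprime q := by
        have h1 : orderOf e ∣ Nat.card K := by
          have := orderOf_dvd_natCard (⟨e, he⟩ : (E : Subgroup (Hol (Wk p K))))
          rw [Subgroup.orderOf_mk] at this
          exact this.trans hcardE
        have hqp : q.Prime := Fact.out
        exact (Nat.Coprime.coprime_dvd_left h1 ((Nat.Prime.coprime_iff_not_dvd hqp).mpr hq).symm)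
      obtain ⟨d, hdX, hdH, r, hr, hdr⟩ := cfg.exists_fixed hq2 hq3 X' hX'q hX'V hX'H E e he heq
      obtain ⟨k₀, -, hk₀⟩ := hdH
      have hfix : holHom (Wk p K) k₀ ∈ Subgroup.centralizer ((𝔛.map (holAut (Wk p K)) : Subgroup (Hol (Wk p K))) : Set (Hol (Wk p K))) := by
        rw [hk₀]; exact hdX
      obtain ⟨k, hk, hkk⟩ := exists_fixed_preimage (Wk p K) 𝔛 h𝔛 hq k₀ hfix
      have hdT : d ∈ T.map (holHom (Wk p K)) := ⟨k, hFT hk, by rw [hkk, hk₀]⟩
      -- cjm e P = cjm d P
      have hrP : cjm r P = P := by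
        apply cjm_eq_of_mem_normalizer
        apply Subgroup.centralizer_le_normalizer
        exact Subgroup.centralizer_le (show (P : Set (Hol (Wk p K))) ⊆ (E : Subgroup (Hol (Wk p K))) from inf_le_right)
          (cfg.rest_le_centralizer E hr)
      have hed : cjm e P = cjm d P := by
        rw [hdr, ← cjm_cjm, hrP]
      rw [hed]
      rintro _ ⟨x, hx, rfl⟩
      have := hPT hx
      simp only [MulEquiv.coe_toMonoidHom, MulAut.conj_apply]
      exact Subgroup.mul_mem _ (Subgroup.mul_mem _ hdT this) (Subgroup.inv_mem _ hdT)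
    -- E is generated by elements of order p
    have htop : (T.map (holHom (Wk p K))).subgroupOf (E : Subgroup (Hol (Wk p K))) = ⊤ := by
      apply eq_top_of_forall_pow_mem eSL
      intro g hg
      rw [Subgroup.mem_subgroupOf]
      have hgp : IsPGroup p (Subgroup.zpowers (g : Hol (Wk p K))) := by
        rintro ⟨x, hx⟩
        obtain ⟨m, rfl⟩ := Subgroup.mem_zpowers_iff.mp hx
        refine ⟨1, ?_⟩
        apply Subtype.ext
        show ((g : Hol (Wk p K)) ^ m) ^ p ^ 1 = 1
        have hg' : (g : Hol (Wk p K)) ^ p = 1 := by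
          have := congrArg Subtype.val hg
          simpa using this
        rw [pow_one, ← zpow_natCast, ← zpow_mul, mul_comm, zpow_mul, zpow_natCast, hg', one_zpow]
      have hgE : Subgroup.zpowers (g : Hol (Wk p K)) ≤ (E : Subgroup (Hol (Wk p K))) := by
        rw [Subgroup.zpowers_le]; exact g.2
      obtain ⟨n, hn, hle⟩ := hPsyl.exists_cj_le hgE hgp
      have h1 : n * (g : Hol (Wk p K)) * n⁻¹ ∈ P := hle ⟨g, Subgroup.mem_zpowers _, rfl⟩
      have h2 : (g : Hol (Wk p K)) ∈ cjm n⁻¹ P := by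
        rw [mem_cjm]; simpa using h1
      exact hconj n⁻¹ (Subgroup.inv_mem _ hn) h2
    intro x hx
    have : (⟨x, hx⟩ : (E : Subgroup (Hol (Wk p K)))) ∈ (T.map (holHom (Wk p K))).subgroupOf (E : Subgroup (Hol (Wk p K))) := by
      rw [htop]; exact Subgroup.mem_top _
    exact Subgroup.mem_subgroupOf.mp this

end Main

section Transport

variable {G : Type u} [Group G]

/-- conjugation action of `N_G(K)` on `K`. -/
def normConj (K : Subgroup G) : ↥(Subgroup.normalizer (K : Set G)) →* MulAut ↥K where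
  toFun n :=
    { toFun := fun k => ⟨(n : G) * k * (n : G)⁻¹, (Subgroup.mem_normalizer_iff.mp n.2 k).mp k.2⟩
      invFun := fun k => ⟨(n : G)⁻¹ * k * (n : G), by
        have := (Subgroup.mem_normalizer_iff.mp (Subgroup.inv_mem _ n.2) k).mp k.2
        simpa using this⟩
      left_inv := by intro k; apply Subtype.ext; simp [mul_assoc]
      right_inv := by intro k; apply Subtype.ext; simp [mul_assoc]
      map_mul' := by
        intro a b
        apply Subtype.ext
        show (n : G) * ((a : G) * (b : G)) * (n : G)⁻¹ = ((n : G) * a * (n : G)⁻¹) * ((n : G) * b * (n : G)⁻¹)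
        group }
  map_one' := by
    ext k
    show (1 : G) * k * (1 : G)⁻¹ = k
    simp
  map_mul' := by
    intro a b
    ext k
    show ((a : G) * (b : G)) * k * ((a : G) * (b : G))⁻¹ = (a : G) * ((b : G) * k * (b : G)⁻¹) * (a : G)⁻¹
    group

theorem normConj_apply (K : Subgroup G) (n : ↥(Subgroup.normalizer (K : Set G))) (k : ↥K) :
    ((normConj K n k : ↥K) : G) = (n : G) * k * (n : G)⁻¹ := rfl

/-- the operator group induced by `X ≤ N_G(K)` on `K`. -/
def opGroup (K X : Subgroup G) : Subgroup (MulAut ↥K) :=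
  (X.subgroupOf (Subgroup.normalizer (K : Set G))).map (normConj K)

theorem fixedSubgroup_opGroup (K X : Subgroup G) (hXK : X ≤ Subgroup.normalizer (K : Set G)) :
    fixedSubgroup (opGroup K X) = (Subgroup.centralizer (X : Set G)).subgroupOf K := by
  ext k
  rw [mem_fixedSubgroup, Subgroup.mem_subgroupOf, Subgroup.mem_centralizer_iff]
  constructor
  · intro h x hx
    have h1 := h (normConj K ⟨x, hXK hx⟩) ⟨⟨x, hXK hx⟩, Subgroup.mem_subgroupOf.mpr hx, rfl⟩
    have h2 : x * (k : G) * x⁻¹ = (k : G) := congrArg Subtype.val h1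
    calc x * (k : G) = (x * (k : G) * x⁻¹) * x := by group
      _ = (k : G) * x := by rw [h2]
  · rintro h _ ⟨n, hn, rfl⟩
    apply Subtype.ext
    rw [normConj_apply]
    have := h (n : G) (Subgroup.mem_subgroupOf.mp hn)
    rw [this]; group

theorem isPGroup_opGroup {q : ℕ} (K X : Subgroup G) (hX : IsPGroup q X) : IsPGroup q (opGroup K X) := by
  unfold opGroup
  apply IsPGroup.map
  exact hX.comap_subtype

/-- **S0620** assuming the statement of S0617. -/
theorem result_of [Finite G] {p : ℕ} [Fact p.Prime] {q : ℕ} [Fact q.Prime] (h617 : FF618.S0617Type.{u})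
    (K X : Subgroup G) (hXK : X ≤ Subgroup.normalizer (K : Set G)) (hX : Cfsg.IsElementaryAbelian q X)
    (hq : ¬ q ∣ Nat.card K) (hsep : Cfsg.IsPSolvable p ↥K) (hO : Cfsg.pPrimeCore p ↥K = ⊥)
    (S : Sylow p ↥K) :
    (Subgroup.normalizer (Cfsg.thompsonSubgroupOf p (S : Subgroup ↥K) : Set ↥K) ⊔ Subgroup.centralizer (Cfsg.omegaOne p ((S : Subgroup ↥K) ⊓ Subgroup.centralizer ((S : Subgroup ↥K) : Set ↥K)) : Set ↥K) ⊔ (Subgroup.centralizer (X : Set G)).subgroupOf K) = ⊤ := by
  rw [← fixedSubgroup_opGroup K X hXK]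
  exact generation_of h617 (opGroup K X)
    (isPGroup_opGroup K X (Cfsg.Agent.Lib.Helper97.isPGroup_of_isElementaryAbelian hX)) hq hsep hO S

end Transport

end Cfsg.Agent.Lib.Helper49.FF620
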