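import Cfsg.Agent.Lib.Helper49.FFBlocks
import Cfsg.Agent.Lib.Helper49.Blocks2

/-!
# Block configurations II: projection onto a block, the fixed plane of an operator group

`BlockCfg.proj c E : ↥H →* ↥E` is the projection of `H = E × rest E` onto the block `E`.
For a `q`-group `X` (`q ∉ {2,3}`) normalizing `V` (commutative) and `H`, `BlockCfg.Wbar` is the image of
`[V,E]` under the norm map of `X`: an `X`-fixed subgroup of `V` of order `p²`, normalized by
`C_H(X)`, and `d ∈ C_H(X)` centralizes it iff `proj d = 1`.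
-/

set_option autoImplicit false
set_option linter.unusedSectionVars false
set_option linter.style.haveILetI false

namespace Cfsg.Agent.Lib.Helper49.FFB

open Cfsg
open scoped commutatorElement

variable {Γ : Type*} [Group Γ] [Finite Γ] {p : ℕ} {V H : Subgroup Γ}

namespace BlockCfg

theorem sup_rest (c : BlockCfg p V H) (E : Blk p V H) : (E : Subgroup Γ) ⊔ c.rest E = H := by
  exact ((iSup_split_single (fun E : Blk p V H => (E : Subgroup Γ)) E).symm).trans c.hsup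

theorem inf_rest (c : BlockCfg p V H) (E : Blk p V H) : (E : Subgroup Γ) ⊓ c.rest E = ⊥ :=
  (c.hind E).eq_bot

/-- every element of `H` is `e * r`. -/
theorem exists_decomp (c : BlockCfg p V H) (E : Blk p V H) {d : Γ} (hd : d ∈ H) :
    ∃ e ∈ (E : Subgroup Γ), ∃ r ∈ c.rest E, d = e * r := by
  have hcomm : ∀ e ∈ (E : Subgroup Γ), ∀ r ∈ c.rest E, r * e = e * r := fun e he r hr =>
    Subgroup.mem_centralizer_iff.mp (c.rest_le_centralizer E hr) e he |>.symm
  let P : Subgroup Γ :=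
    { carrier := {d | ∃ e ∈ (E : Subgroup Γ), ∃ r ∈ c.rest E, d = e * r}
      one_mem' := ⟨1, Subgroup.one_mem _, 1, Subgroup.one_mem _, by simp⟩
      mul_mem' := by
        rintro _ _ ⟨e₁, he₁, r₁, hr₁, rfl⟩ ⟨e₂, he₂, r₂, hr₂, rfl⟩
        refine ⟨e₁ * e₂, Subgroup.mul_mem _ he₁ he₂, r₁ * r₂, Subgroup.mul_mem _ hr₁ hr₂, ?_⟩
        calc e₁ * r₁ * (e₂ * r₂) = e₁ * (r₁ * e₂) * r₂ := by group
          _ = e₁ * (e₂ * r₁) * r₂ := by rw [hcomm e₂ he₂ r₁ hr₁]
          _ = e₁ * e₂ * (r₁ * r₂) := by group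
      inv_mem' := by
        rintro _ ⟨e, he, r, hr, rfl⟩
        refine ⟨e⁻¹, Subgroup.inv_mem _ he, r⁻¹, Subgroup.inv_mem _ hr, ?_⟩
        have := hcomm e⁻¹ (Subgroup.inv_mem _ he) r⁻¹ (Subgroup.inv_mem _ hr)
        rw [mul_inv_rev, this] }
  have hle : H ≤ P := by
    rw [← c.sup_rest E]
    apply sup_le
    · intro e he
      exact ⟨e, he, 1, Subgroup.one_mem _, by simp⟩
    · intro r hr
      exact ⟨1, Subgroup.one_mem _, r, hr, by simp⟩
  exact hle hd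

theorem decomp_unique (c : BlockCfg p V H) (E : Blk p V H) {e e' r r' : Γ}
    (he : e ∈ (E : Subgroup Γ)) (he' : e' ∈ (E : Subgroup Γ)) (hr : r ∈ c.rest E) (hr' : r' ∈ c.rest E)
    (h : e * r = e' * r') : e = e' := by
  have h1 : e'⁻¹ * e = r' * r⁻¹ := by
    calc e'⁻¹ * e = e'⁻¹ * (e * r) * r⁻¹ := by group
      _ = e'⁻¹ * (e' * r') * r⁻¹ := by rw [h]
      _ = r' * r⁻¹ := by group
  have h2 : e'⁻¹ * e ∈ (E : Subgroup Γ) ⊓ c.rest E :=
    ⟨Subgroup.mul_mem _ (Subgroup.inv_mem _ he') he, by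
      rw [h1]; exact Subgroup.mul_mem _ hr' (Subgroup.inv_mem _ hr)⟩
  rw [c.inf_rest E, Subgroup.mem_bot] at h2
  calc e = e' * (e'⁻¹ * e) := by group
    _ = e' := by rw [h2, mul_one]

/-- projection of `H` onto the block `E`. -/
noncomputable def proj (c : BlockCfg p V H) (E : Blk p V H) : ↥H →* ↥(E : Subgroup Γ) where
  toFun d := ⟨Classical.choose (c.exists_decomp E d.2), (Classical.choose_spec (c.exists_decomp E d.2)).1⟩
  map_one' := by
    apply Subtype.ext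
    obtain ⟨he, r, hr, h⟩ := Classical.choose_spec (c.exists_decomp E (1 : ↥H).2)
    have h' : (1 : Γ) * 1 = Classical.choose (c.exists_decomp E (1 : ↥H).2) * r := by
      rw [one_mul]; exact h
    exact (c.decomp_unique E (Subgroup.one_mem _) he (Subgroup.one_mem _) hr h').symm
  map_mul' := by
    intro a b
    apply Subtype.ext
    obtain ⟨hea, ra, hra, ha⟩ := Classical.choose_spec (c.exists_decomp E a.2)
    obtain ⟨heb, rb, hrb, hb⟩ := Classical.choose_spec (c.exists_decomp E b.2)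
    obtain ⟨heab, rab, hrab, hab⟩ := Classical.choose_spec (c.exists_decomp E (a * b).2)
    set ea := Classical.choose (c.exists_decomp E a.2)
    set eb := Classical.choose (c.exists_decomp E b.2)
    set eab := Classical.choose (c.exists_decomp E (a * b).2)
    show eab = ea * eb
    have hcomm : ra * eb = eb * ra :=
      (Subgroup.mem_centralizer_iff.mp (c.rest_le_centralizer E hra) eb heb).symm
    have h1 : eab * rab = (ea * eb) * (ra * rb) := by
      rw [← hab]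
      show (a : Γ) * (b : Γ) = _
      rw [ha, hb]
      calc ea * ra * (eb * rb) = ea * (ra * eb) * rb := by group
        _ = ea * (eb * ra) * rb := by rw [hcomm]
        _ = ea * eb * (ra * rb) := by group
    exact c.decomp_unique E heab (Subgroup.mul_mem _ hea heb) hrab (Subgroup.mul_mem _ hra hrb) h1

theorem proj_spec (c : BlockCfg p V H) (E : Blk p V H) (d : ↥H) :
    ∃ r ∈ c.rest E, (d : Γ) = (c.proj E d : Γ) * r :=
  (Classical.choose_spec (c.exists_decomp E d.2)).2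

theorem proj_eq_of (c : BlockCfg p V H) (E : Blk p V H) (d : ↥H) {e r : Γ}
    (he : e ∈ (E : Subgroup Γ)) (hr : r ∈ c.rest E) (h : (d : Γ) = e * r) :
    (c.proj E d : Γ) = e := by
  obtain ⟨r', hr', h'⟩ := c.proj_spec E d
  rw [h] at h'
  exact (c.decomp_unique E he (c.proj E d).2 hr hr' h').symm

section Plane

/-- the rest of the module: `C_V(H)` and the modules of the other blocks. -/
def restU (c : BlockCfg p V H) (E : Blk p V H) : Subgroup Γ :=
  (V ⊓ Subgroup.centralizer (H : Set Γ)) ⊔ ⨆ (E' : Blk p V H) (_ : E' ≠ E), c.U E'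

theorem le_restU (c : BlockCfg p V H) {E E' : Blk p V H} (h : E' ≠ E) : c.U E' ≤ c.restU E :=
  le_trans (le_iSup₂ (f := fun (E' : Blk p V H) (_ : E' ≠ E) => c.U E') E' h) le_sup_right

theorem U_inf_restU (c : BlockCfg p V H) (E : Blk p V H) : c.U E ⊓ c.restU E = ⊥ := by
  have hdis := c.hindV (some E)
  have hle : c.restU E ≤ ⨆ (o : Option (Blk p V H)) (_ : o ≠ some E),
      o.elim (V ⊓ Subgroup.centralizer (H : Set Γ)) (fun E => ⁅V, (E : Subgroup Γ)⁆) := by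
    apply sup_le
    · exact le_iSup₂ (f := fun (o : Option (Blk p V H)) (_ : o ≠ some E) =>
        o.elim (V ⊓ Subgroup.centralizer (H : Set Γ)) (fun E => ⁅V, (E : Subgroup Γ)⁆)) none
        (Option.some_ne_none E).symm
    · apply iSup₂_le
      intro E' hE'
      exact le_iSup₂ (f := fun (o : Option (Blk p V H)) (_ : o ≠ some E) =>
        o.elim (V ⊓ Subgroup.centralizer (H : Set Γ)) (fun E => ⁅V, (E : Subgroup Γ)⁆)) (some E')
        (fun h => hE' (Option.some.inj h))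
  exact (hdis.mono_right hle).eq_bot

theorem U_ne_bot [Fact p.Prime] (c : BlockCfg p V H) (E : Blk p V H) : c.U E ≠ ⊥ := by
  intro h
  have := c.card_U E
  rw [h, Subgroup.card_bot] at this
  have hp : 2 ≤ p := (Fact.out : p.Prime).two_le
  nlinarith

theorem rest_le_centralizer_U (c : BlockCfg p V H) (E : Blk p V H) :
    c.rest E ≤ Subgroup.centralizer ((c.U E : Subgroup Γ) : Set Γ) :=
  iSup₂_le fun _ h => c.le_centralizer_U_of_ne (Ne.symm h)

variable [Fact p.Prime] (c : BlockCfg p V H) (hVc : ∀ a ∈ V, ∀ b ∈ V, a * b = b * a)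
  (X : Subgroup Γ) {q : ℕ} [Fact q.Prime] (hq2 : q ≠ 2) (hq3 : q ≠ 3) (hXq : IsPGroup q X)
  (hXV : X ≤ Subgroup.normalizer (V : Set Γ)) (hXH : X ≤ Subgroup.normalizer (H : Set Γ))
  (E : Blk p V H)

include hXV hXH in
theorem cjm_U_eq {y : Γ} (hy : y ∈ X) {E' : Blk p V H}
    (hE' : (E' : Subgroup Γ) = cjm y (E : Subgroup Γ)) : cjm y (c.U E) = c.U E' := by
  show cjm y ⁅V, (E : Subgroup Γ)⁆ = ⁅V, (E' : Subgroup Γ)⁆
  rw [cjm_commutator, cjm_eq_of_mem_normalizer (hXV hy), hE']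

include hXV hXH in
theorem h1U : ∀ y ∈ X, y ∉ Subgroup.normalizer ((c.U E : Subgroup Γ) : Set Γ) →
    (c.U E).map (MulAut.conj y).toMonoidHom ≤ c.restU E := by
  intro y hy hyn
  obtain ⟨E', hE'⟩ := c.exists_blk_cjm (hXV hy) (hXH hy) E
  have hU := c.cjm_U_eq X hXV hXH E hy hE'
  have hne : E' ≠ E := by
    intro h
    apply hyn
    rw [Subgroup.mem_normalizer_iff_map_conj_eq]
    rw [h] at hU
    exact hU
  show cjm y (c.U E) ≤ _
  rw [hU]
  exact c.le_restU hne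

include hq2 hq3 hXq hXV hXH in
theorem h2U : ∀ y ∈ X, y ∈ Subgroup.normalizer ((c.U E : Subgroup Γ) : Set Γ) →
    y ∈ Subgroup.centralizer ((c.U E : Subgroup Γ) : Set Γ) := by
  intro y hy hyn
  by_cases hyE : y ∈ Subgroup.normalizer (((E : Subgroup Γ)) : Set Γ)
  · obtain ⟨k, hk⟩ := hXq ⟨y, hy⟩
    have hk' : y ^ q ^ k = 1 := congrArg Subtype.val hk
    have := c.U_le_centralizer_of_normalizes hq2 hq3 hk' (hXV hy) E hyE
    rw [Subgroup.mem_centralizer_iff]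
    intro u hu
    exact (Subgroup.mem_centralizer_singleton_iff.mp (this hu))
  · exfalso
    obtain ⟨E', hE'⟩ := c.exists_blk_cjm (hXV hy) (hXH hy) E
    have hU := c.cjm_U_eq X hXV hXH E hy hE'
    have hne : E' ≠ E := by
      intro h
      apply hyE
      rw [Subgroup.mem_normalizer_iff_map_conj_eq]
      rw [h] at hE'
      exact hE'.symm
    have h1 : cjm y (c.U E) = c.U E := Subgroup.mem_normalizer_iff_map_conj_eq.mp hyn
    rw [h1] at hU
    have hdis := c.U_disjoint (Ne.symm hne)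
    rw [← hU] at hdis
    exact c.U_ne_bot E (disjoint_self.mp hdis)

/-- the `X`-fixed plane attached to the block `E`. -/
noncomputable def Wbar : Subgroup Γ :=
  (((c.U E).subgroupOf V).map (Blocks.nu X V hXV hVc)).map V.subtype

theorem Wbar_le_V : c.Wbar hVc X hXV E ≤ V := Subgroup.map_subtype_le _

theorem mem_Wbar_iff {w : Γ} : w ∈ c.Wbar hVc X hXV E ↔
    ∃ u : Γ, ∃ hu : u ∈ c.U E, w = ((Blocks.nu X V hXV hVc ⟨u, c.U_le_V E hu⟩ : ↥V) : Γ) := by
  constructor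
  · rintro ⟨_, ⟨a, ha, rfl⟩, rfl⟩
    exact ⟨(a : Γ), Subgroup.mem_subgroupOf.mp ha, rfl⟩
  · rintro ⟨u, hu, rfl⟩
    exact ⟨_, ⟨⟨u, c.U_le_V E hu⟩, Subgroup.mem_subgroupOf.mpr hu, rfl⟩, rfl⟩

theorem Wbar_le_centralizer : c.Wbar hVc X hXV E ≤ Subgroup.centralizer (X : Set Γ) := by
  intro w hw
  obtain ⟨u, hu, rfl⟩ := (c.mem_Wbar_iff hVc X hXV E).mp hw
  exact Blocks.nu_mem_centralizer X V hXV hVc _

include hq2 hq3 hXq hXH in
/-- the norm map is injective on `[V,E]`. -/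
theorem nu_eq_one {u : Γ} (hu : u ∈ c.U E)
    (h : Blocks.nu X V hXV hVc ⟨u, c.U_le_V E hu⟩ = 1) : u = 1 := by
  obtain ⟨r, hr, hnu⟩ := Blocks.nu_block X V hXV hVc (c.U E) (c.restU E) (c.U_le_V E)
    (c.h1U X hXV hXH E) (c.h2U X hq2 hq3 hXq hXV hXH E) u hu
  rw [h] at hnu
  set m := Nat.card ((Subgroup.normalizer ((c.U E : Subgroup Γ) : Set Γ)).subgroupOf X) with hm
  have h1 : u ^ m = r⁻¹ := by
    have : (1 : Γ) = u ^ m * r := hnu
    calc u ^ m = (u ^ m * r) * r⁻¹ := by group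
      _ = r⁻¹ := by rw [← this, one_mul]
  have h2 : u ^ m ∈ c.U E ⊓ c.restU E :=
    ⟨Subgroup.pow_mem _ hu m, by rw [h1]; exact Subgroup.inv_mem _ hr⟩
  rw [c.U_inf_restU E, Subgroup.mem_bot] at h2
  -- orders
  have hmq : ∃ k, m = q ^ k := by
    have h1 : m ∣ Nat.card X := Subgroup.card_subgroup_dvd_card _
    obtain ⟨n, hn⟩ := IsPGroup.iff_card.mp hXq
    rw [hn] at h1
    obtain ⟨k, -, hk⟩ := (Nat.dvd_prime_pow Fact.out).mp h1
    exact ⟨k, hk⟩
  obtain ⟨k, hk⟩ := hmq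
  have ho1 : orderOf u ∣ q ^ k := by rw [← hk]; exact orderOf_dvd_of_pow_eq_one h2
  have ho2 : orderOf u ∣ p ^ 2 := by
    have := orderOf_dvd_natCard (⟨u, hu⟩ : c.U E)
    rw [Subgroup.orderOf_mk, c.card_U E] at this
    exact this
  have hpq : Nat.Coprime (q ^ k) (p ^ 2) := by
    apply Nat.Coprime.pow
    rw [Nat.coprime_primes Fact.out Fact.out]
    rcases c.hp with h | h
    · rw [h]; exact hq2
    · rw [h]; exact hq3
  have : orderOf u ∣ 1 := by
    have := Nat.dvd_gcd ho1 ho2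
    rwa [hpq] at this
  exact orderOf_eq_one_iff.mp (Nat.dvd_one.mp this)

include hq2 hq3 hXq hXH in
theorem card_Wbar : Nat.card (c.Wbar hVc X hXV E) = p ^ 2 := by
  unfold Wbar
  rw [Subgroup.card_map_of_injective V.subtype_injective]
  have hinj : Function.Injective ((Blocks.nu X V hXV hVc).domRestrict ((c.U E).subgroupOf V)) := by
    rw [injective_iff_map_eq_one]
    intro a ha
    have hu : ((a : ↥V) : Γ) ∈ c.U E := Subgroup.mem_subgroupOf.mp a.2
    have h1 : Blocks.nu X V hXV hVc ⟨((a : ↥V) : Γ), c.U_le_V E hu⟩ = 1 := ha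
    have := c.nu_eq_one hVc X hq2 hq3 hXq hXV hXH E hu h1
    apply Subtype.ext
    apply Subtype.ext
    exact this
  rw [← MonoidHom.domRestrict_range, ← Nat.card_congr (MonoidHom.ofInjective hinj).toEquiv,
    Nat.card_congr (Subgroup.subgroupOfEquivOfLe (c.U_le_V E)).toEquiv]
  exact c.card_U E

end Plane

section Action

variable [Fact p.Prime] (c : BlockCfg p V H) (hVc : ∀ a ∈ V, ∀ b ∈ V, a * b = b * a)
  (X : Subgroup Γ) {q : ℕ} [Fact q.Prime] (hq2 : q ≠ 2) (hq3 : q ≠ 3) (hXq : IsPGroup q X)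
  (hXV : X ≤ Subgroup.normalizer (V : Set Γ)) (hXH : X ≤ Subgroup.normalizer (H : Set Γ))
  (E : Blk p V H)

/-- `d ∈ H` acts on `[V,E]` like its projection to `E`. -/
theorem conj_U_eq (d : ↥H) {u : Γ} (hu : u ∈ c.U E) :
    (d : Γ) * u * (d : Γ)⁻¹ = (c.proj E d : Γ) * u * (c.proj E d : Γ)⁻¹ := by
  obtain ⟨r, hr, hd⟩ := c.proj_spec E d
  have hru : r * u = u * r :=
    (Subgroup.mem_centralizer_iff.mp (c.rest_le_centralizer_U E hr) u hu).symm
  rw [hd]
  calc (c.proj E d : Γ) * r * u * ((c.proj E d : Γ) * r)⁻¹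
      = (c.proj E d : Γ) * (r * u) * r⁻¹ * (c.proj E d : Γ)⁻¹ := by group
    _ = (c.proj E d : Γ) * (u * r) * r⁻¹ * (c.proj E d : Γ)⁻¹ := by rw [hru]
    _ = _ := by group

theorem conj_U_mem (d : ↥H) {u : Γ} (hu : u ∈ c.U E) : (d : Γ) * u * (d : Γ)⁻¹ ∈ c.U E := by
  rw [c.conj_U_eq E d hu]
  have he := (c.proj E d).2
  have heN : (c.proj E d : Γ) ∈ Subgroup.normalizer ((c.U E : Subgroup Γ) : Set Γ) :=
    c.le_normalizer_U E (c.hHV (c.le_H E he)) (Subgroup.le_normalizer he)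
  exact (Subgroup.mem_normalizer_iff.mp heN u).mp hu

/-- conjugation by `d ∈ C_H(X)` commutes with the norm map. -/
theorem conj_nu (d : ↥H) (hdX : (d : Γ) ∈ Subgroup.centralizer (X : Set Γ)) {u : Γ} (hu : u ∈ c.U E) :
    (d : Γ) * ((Blocks.nu X V hXV hVc ⟨u, c.U_le_V E hu⟩ : ↥V) : Γ) * (d : Γ)⁻¹ =
      ((Blocks.nu X V hXV hVc ⟨(d : Γ) * u * (d : Γ)⁻¹, c.U_le_V E (c.conj_U_mem E d hu)⟩ : ↥V) : Γ) := by
  have hdV : (d : Γ) ∈ Subgroup.normalizer (V : Set Γ) := c.hHV d.2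
  have := Blocks.nu_conj X V hXV hVc hdV hdX ⟨u, c.U_le_V E hu⟩
  have h2 := congrArg Subtype.val this
  rw [Blocks.conjV_apply] at h2
  rw [← h2]
  rfl

/-- `C_H(X)` normalizes the fixed plane. -/
theorem conj_Wbar_mem (d : ↥H) (hdX : (d : Γ) ∈ Subgroup.centralizer (X : Set Γ)) {w : Γ}
    (hw : w ∈ c.Wbar hVc X hXV E) : (d : Γ) * w * (d : Γ)⁻¹ ∈ c.Wbar hVc X hXV E := by
  obtain ⟨u, hu, rfl⟩ := (c.mem_Wbar_iff hVc X hXV E).mp hw
  rw [c.conj_nu hVc X hXV E d hdX hu]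
  exact (c.mem_Wbar_iff hVc X hXV E).mpr ⟨_, c.conj_U_mem E d hu, rfl⟩

include hq2 hq3 hXq hXH in
/-- `d ∈ C_H(X)` centralizes the fixed plane iff its projection to `E` is trivial. -/
theorem mem_centralizer_Wbar_iff (d : ↥H) (hdX : (d : Γ) ∈ Subgroup.centralizer (X : Set Γ)) :
    (d : Γ) ∈ Subgroup.centralizer ((c.Wbar hVc X hXV E : Subgroup Γ) : Set Γ) ↔ c.proj E d = 1 := by
  constructor
  · intro hcen
    -- e centralizes U
    have hU : ∀ u ∈ c.U E, (c.proj E d : Γ) * u * (c.proj E d : Γ)⁻¹ = u := by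
      intro u hu
      have hw : ((Blocks.nu X V hXV hVc ⟨u, c.U_le_V E hu⟩ : ↥V) : Γ) ∈ c.Wbar hVc X hXV E :=
        (c.mem_Wbar_iff hVc X hXV E).mpr ⟨u, hu, rfl⟩
      have h1 := Subgroup.mem_centralizer_iff.mp hcen _ hw
      have h2 : (d : Γ) * ((Blocks.nu X V hXV hVc ⟨u, c.U_le_V E hu⟩ : ↥V) : Γ) * (d : Γ)⁻¹ =
          ((Blocks.nu X V hXV hVc ⟨u, c.U_le_V E hu⟩ : ↥V) : Γ) := by
        rw [← h1]; group
      rw [c.conj_nu hVc X hXV E d hdX hu] at h2
      -- nu (d u d⁻¹) = nu u, so nu ((d u d⁻¹) * u⁻¹) = 1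
      have hmem : (d : Γ) * u * (d : Γ)⁻¹ * u⁻¹ ∈ c.U E :=
        Subgroup.mul_mem _ (c.conj_U_mem E d hu) (Subgroup.inv_mem _ hu)
      have h3 : Blocks.nu X V hXV hVc ⟨(d : Γ) * u * (d : Γ)⁻¹ * u⁻¹, c.U_le_V E hmem⟩ = 1 := by
        have h4 : (⟨(d : Γ) * u * (d : Γ)⁻¹ * u⁻¹, c.U_le_V E hmem⟩ : ↥V) =
            ⟨(d : Γ) * u * (d : Γ)⁻¹, c.U_le_V E (c.conj_U_mem E d hu)⟩ * (⟨u, c.U_le_V E hu⟩ : ↥V)⁻¹ := by
          apply Subtype.ext; rfl
        rw [h4, map_mul, map_inv, Subtype.ext h2, mul_inv_cancel]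
      have h5 := c.nu_eq_one hVc X hq2 hq3 hXq hXV hXH E hmem h3
      rw [← c.conj_U_eq E d hu]
      calc (d : Γ) * u * (d : Γ)⁻¹ = ((d : Γ) * u * (d : Γ)⁻¹ * u⁻¹) * u := by group
        _ = u := by rw [h5, one_mul]
    have hcenU : (c.proj E d : Γ) ∈ (E : Subgroup Γ) ⊓ Subgroup.centralizer ((c.U E : Subgroup Γ) : Set Γ) := by
      refine ⟨(c.proj E d).2, ?_⟩
      apply Subgroup.mem_centralizer_iff.mpr
      intro u hu
      have := hU u hu
      calc u * (c.proj E d : Γ) = ((c.proj E d : Γ) * u * (c.proj E d : Γ)⁻¹) * (c.proj E d : Γ) := by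
            rw [this]
        _ = (c.proj E d : Γ) * u := by group
    rw [c.inf_centralizer_U E, Subgroup.mem_bot] at hcenU
    exact Subtype.ext hcenU
  · intro hproj
    rw [Subgroup.mem_centralizer_iff]
    intro w hw
    obtain ⟨u, hu, rfl⟩ := (c.mem_Wbar_iff hVc X hXV E).mp hw
    have h1 := c.conj_nu hVc X hXV E d hdX hu
    have h2 : (d : Γ) * u * (d : Γ)⁻¹ = u := by
      rw [c.conj_U_eq E d hu, hproj]; simp
    have h3 : (d : Γ) * ((Blocks.nu X V hXV hVc ⟨u, c.U_le_V E hu⟩ : ↥V) : Γ) * (d : Γ)⁻¹ =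
        ((Blocks.nu X V hXV hVc ⟨u, c.U_le_V E hu⟩ : ↥V) : Γ) := by
      rw [h1]
      congr 2
      exact Subtype.ext h2
    calc ((Blocks.nu X V hXV hVc ⟨u, c.U_le_V E hu⟩ : ↥V) : Γ) * (d : Γ)
        = ((d : Γ) * ((Blocks.nu X V hXV hVc ⟨u, c.U_le_V E hu⟩ : ↥V) : Γ) * (d : Γ)⁻¹) * (d : Γ) := by rw [h3]
      _ = (d : Γ) * ((Blocks.nu X V hXV hVc ⟨u, c.U_le_V E hu⟩ : ↥V) : Γ) := by group

include hq2 hq3 hXq hXV hXH in
/-- every element of `E` is the projection of an `X`-fixed element of `H`. -/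
theorem exists_fixed_proj (e : ↥(E : Subgroup Γ)) (heq : (orderOf (e : Γ)).Coprime q) :
    ∃ d : ↥H, (d : Γ) ∈ Subgroup.centralizer (X : Set Γ) ∧ c.proj E d = e := by
  obtain ⟨d, hdX, hdH, r, hr, hdr⟩ := c.exists_fixed hq2 hq3 X hXq hXV hXH E e e.2 heq
  refine ⟨⟨d, hdH⟩, hdX, ?_⟩
  apply Subtype.ext
  exact c.proj_eq_of E ⟨d, hdH⟩ e.2 hr hdr

end Action

end BlockCfg

end Cfsg.Agent.Lib.Helper49.FFB
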