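import Cfsg.Agent.Lib.Helper49.FF620
import Cfsg.Agent.Lib.Helper49.FFBlocks2

/-!
# S0621 from S0617: the fixed plane of a coprime `q`-group and the `SL(2,p)` acting on it

Abstract form `plane_of`: `K` a `p`-separable group with `O_{p'}(K) = 1` that is not Thompson factorizable,
`𝔛 ≤ Aut K` a `q`-group, `q ∤ |K|`; then `p ∈ {2,3}` and `C_K(𝔛)` contains an elementary abelian `W₀` of
order `p²` and a subgroup `D₀` normalizing `W₀` with `D₀ / C_{D₀}(W₀) ≅ SL(2,p)`.
-/

set_option autoImplicit false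
set_option linter.unusedSectionVars false
open Cfsg

namespace Cfsg.Agent.Lib.Helper49.FF621

universe u

open Cfsg.Agent.Lib.Helper49 Cfsg.Agent.Lib.Helper49.FFB Cfsg.Agent.Lib.Helper49.FF620

/-- first isomorphism theorem, packaged. -/
theorem quot_iso_of_ker {D E : Type*} [Group D] [Group E] (ρ : D →* E) (hs : Function.Surjective ρ)
    (N : Subgroup D) (hN : ρ.ker = N) : ∃ _ : N.Normal, Nonempty (D ⧸ N ≃* E) := by
  subst hN
  exact ⟨inferInstance, ⟨QuotientGroup.quotientKerEquivOfSurjective ρ hs⟩⟩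

section Main

variable {K : Type u} [Group K] [Finite K] {p q : ℕ} [Fact p.Prime] [Fact q.Prime]

attribute [local instance] bigW_characteristic Jk_characteristic

/-- **S0621, abstract form** (assuming the statement of S0617). -/
theorem plane_of (h617 : FF618.S0617Type.{u}) (𝔛 : Subgroup (MulAut K)) (h𝔛 : IsPGroup q 𝔛)
    (hq : ¬ q ∣ Nat.card K) (hsep : Cfsg.IsPSolvable p K) (hO : Cfsg.pPrimeCore p K = ⊥)
    (hnf : ¬ Cfsg.IsThompsonFactorizable p K) :
    (p = 2 ∨ p = 3) ∧ ∃ W₀ D₀ : Subgroup K, W₀ ≤ fixedSubgroup 𝔛 ∧ D₀ ≤ fixedSubgroup 𝔛 ∧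
      Cfsg.IsElementaryAbelian p W₀ ∧ Nat.card W₀ = p ^ 2 ∧
      D₀ ≤ Subgroup.normalizer (W₀ : Set K) ∧
      ∃ ρ : ↥D₀ →* Matrix.SpecialLinearGroup (Fin 2) (ZMod p), Function.Surjective ρ ∧
        ∀ d : ↥D₀, ρ d = 1 ↔ (d : K) ∈ Subgroup.centralizer (W₀ : Set K) := by
  obtain ⟨cfg, hH1⟩ := blockCfg_of h617 hsep hO hnf
  refine ⟨cfg.hp, ?_⟩
  -- notation
  set W : Subgroup K := Wk p K with hW
  set ψ : K →* Hol W := holHom W with hψ
  set ι : ↥W →* Hol W := SemidirectProduct.inl with hι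
  have hιinj : Function.Injective ι := SemidirectProduct.inl_injective
  set H' : Subgroup (Hol W) := (Jk p K).map ψ with hH'
  -- W is elementary abelian
  have hc := centralizer_pCore_le_of hsep hO
  obtain ⟨-, hWe, -⟩ := Cfsg.Agent.S0601.result (p := p) hc
  change IsElementaryAbelian p W at hWe
  have hV'e : IsElementaryAbelian p (holV W) := holV_isElementaryAbelian _ hWe
  have hVc : ∀ a ∈ holV W, ∀ b ∈ holV W, a * b = b * a := by
    intro a ha b hb
    have := hV'e.1.is_comm.comm ⟨a, ha⟩ ⟨b, hb⟩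
    exact congrArg Subtype.val this
  -- a block
  have hne : Nonempty (Blk p (holV W) H') := by
    by_contra hemp
    rw [not_nonempty_iff] at hemp
    apply hH1
    rw [← cfg.hsup]
    exact iSup_of_empty _
  obtain ⟨E⟩ := hne
  obtain ⟨hEn, ⟨eSL⟩, -⟩ := cfg.hE E
  have hEH := cfg.le_H E
  -- q ∉ {2, 3}
  have hcardE : Nat.card (E : Subgroup (Hol W)) ∣ Nat.card K := by
    have h1 : Nat.card (E : Subgroup (Hol W)) ∣ Nat.card H' := Subgroup.card_dvd_of_le hEH
    have h2 : Nat.card H' ∣ Nat.card (Jk p K) := Dvd.intro _ (card_map_holHom_mul W (Jk p K))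
    exact h1.trans (h2.trans (Subgroup.card_subgroup_dvd_card _))
  obtain ⟨h2E, h3E⟩ := two_three_dvd_card cfg.hp eSL
  have hq2 : q ≠ 2 := by
    rintro rfl
    exact hq (h2E.trans hcardE)
  have hq3 : q ≠ 3 := by
    rintro rfl
    exact hq (h3E.trans hcardE)
  -- the operator group in the holomorph
  set X' : Subgroup (Hol W) := 𝔛.map (holAut W) with hX'
  have hX'q : IsPGroup q X' := h𝔛.map _
  have hX'V : X' ≤ Subgroup.normalizer ((holV W : Subgroup (Hol W)) : Set (Hol W)) := by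
    have : (holV W).Normal := holV_normal _
    rw [Subgroup.normalizer_eq_top]; exact le_top
  have hX'H : X' ≤ Subgroup.normalizer ((H' : Subgroup (Hol W)) : Set (Hol W)) := by
    rintro _ ⟨α, -, rfl⟩
    exact holAut_mem_normalizer_map _ _ α
  -- the fixed plane
  set Wb : Subgroup (Hol W) := cfg.Wbar hVc X' hX'V E with hWb
  have hWbV : Wb ≤ holV W := cfg.Wbar_le_V hVc X' hX'V E
  have hWbX : Wb ≤ Subgroup.centralizer (X' : Set (Hol W)) := cfg.Wbar_le_centralizer hVc X' hX'V E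
  have hWbcard : Nat.card Wb = p ^ 2 := cfg.card_Wbar hVc X' hq2 hq3 hX'q hX'V hX'H E
  set W₁ : Subgroup ↥W := Wb.comap ι with hW₁
  have hW₁map : W₁.map ι = Wb := by
    rw [hW₁, Subgroup.map_comap_eq, inf_eq_right]
    exact hWbV
  set W₀ : Subgroup K := W₁.map W.subtype with hW₀
  have hW₀W : W₀ ≤ W := Subgroup.map_subtype_le _
  have hmemW₀ : ∀ {w : K}, w ∈ W₀ ↔ ∃ hw : w ∈ W, ι ⟨w, hw⟩ ∈ Wb := by
    intro w
    constructor
    · rintro ⟨w₁, hw₁, rfl⟩
      exact ⟨w₁.2, hw₁⟩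
    · rintro ⟨hw, h⟩
      exact ⟨⟨w, hw⟩, h, rfl⟩
  -- the subgroup D₀
  set D₀ : Subgroup K := fixedSubgroup 𝔛 ⊓ H'.comap ψ with hD₀
  have hψfix : ∀ k ∈ fixedSubgroup 𝔛, ψ k ∈ Subgroup.centralizer (X' : Set (Hol W)) := by
    intro k hk
    rw [Subgroup.mem_centralizer_iff]
    rintro _ ⟨α, hα, rfl⟩
    have h1 : ψ (α k) = holAut W α * ψ k * (holAut W α)⁻¹ := holHom_aut W α k
    rw [mem_fixedSubgroup.mp hk α hα] at h1
    calc holAut W α * ψ k = (holAut W α * ψ k * (holAut W α)⁻¹) * holAut W α := by group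
      _ = ψ k * holAut W α := by rw [← h1]
  -- conjugation of `ι w` by `ψ k`
  have hconj : ∀ (k : K) (w : K) (hw : w ∈ W),
      ψ k * ι ⟨w, hw⟩ * (ψ k)⁻¹ = ι ⟨k * w * k⁻¹, (inferInstance : W.Normal).conj_mem w hw k⟩ := by
    intro k w hw
    rw [hψ, hι, holHom_conj_inl]
    rfl
  refine ⟨W₀, D₀, ?_, inf_le_left, ?_, ?_, ?_, ?_⟩
  · -- W₀ is fixed by 𝔛
    rintro _ ⟨w₁, hw₁, rfl⟩
    rw [mem_fixedSubgroup]
    intro α hα
    have h1 : ι w₁ ∈ Subgroup.centralizer (X' : Set (Hol W)) := hWbX hw₁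
    have h2 := Subgroup.mem_centralizer_iff.mp h1 (holAut W α) ⟨α, hα, rfl⟩
    have h3 : holAut W α * ι w₁ * (holAut W α)⁻¹ = ι w₁ := by
      rw [h2]; group
    rw [hι, holAut_conj_inl] at h3
    have h4 := hιinj h3
    have h5 := congrArg Subtype.val h4
    exact h5
  · -- elementary abelian
    refine ⟨⟨⟨?_⟩⟩, ?_⟩
    · rintro ⟨a, ha⟩ ⟨b, hb⟩
      apply Subtype.ext
      show a * b = b * a
      have := hWe.1.is_comm.comm ⟨a, hW₀W ha⟩ ⟨b, hW₀W hb⟩
      exact congrArg Subtype.val this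
    · intro a ha
      exact hWe.2 a (hW₀W ha)
  · -- order
    rw [hW₀, Subgroup.card_map_of_injective W.subtype_injective, ← hWbcard, ← hW₁map,
      Subgroup.card_map_of_injective hιinj]
  · -- D₀ normalizes W₀
    have key : ∀ k ∈ D₀, ∀ w ∈ W₀, k * w * k⁻¹ ∈ W₀ := by
      intro k hk w hw
      obtain ⟨hwW, hwb⟩ := hmemW₀.mp hw
      refine hmemW₀.mpr ⟨(inferInstance : W.Normal).conj_mem w hwW k, ?_⟩
      rw [← hconj k w hwW]
      exact cfg.conj_Wbar_mem hVc X' hX'V E ⟨ψ k, hk.2⟩ (hψfix k hk.1) hwb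
    intro k hk
    rw [Subgroup.mem_normalizer_iff]
    intro w
    constructor
    · exact key k hk w
    · intro h
      have := key k⁻¹ (D₀.inv_mem hk) _ h
      simpa [mul_assoc] using this
  · -- the homomorphism onto `E`
    let ρ₀ : ↥D₀ →* ↥(E : Subgroup (Hol W)) :=
      (cfg.proj E).comp ((ψ.comp D₀.subtype).codRestrict H' (fun k => k.2.2))
    have hρ₀ : ∀ d : ↥D₀, ρ₀ d = cfg.proj E ⟨ψ d, d.2.2⟩ := fun d => rfl
    refine ⟨eSL.toMonoidHom.comp ρ₀, ?_, ?_⟩
    · -- surjective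
      have hs₀ : Function.Surjective ρ₀ := by
        intro e
        have heq : (orderOf (e : Hol W)).Coprime q := by
          have h1 : orderOf (e : Hol W) ∣ Nat.card K := by
            have := orderOf_dvd_natCard e
            rw [Subgroup.orderOf_coe] at *
            exact this.trans hcardE
          have hqp : q.Prime := Fact.out
          exact (Nat.Coprime.coprime_dvd_left h1 ((Nat.Prime.coprime_iff_not_dvd hqp).mpr hq).symm)
        obtain ⟨d, hdX, hde⟩ := cfg.exists_fixed_proj X' hq2 hq3 hX'q hX'V hX'H E e heq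
        obtain ⟨k₀, hk₀J, hk₀⟩ := d.2
        have hfix : holHom W k₀ ∈ Subgroup.centralizer ((𝔛.map (holAut W) : Subgroup (Hol W)) : Set (Hol W)) := by
          rw [hk₀]; exact hdX
        obtain ⟨k, hk, hkk⟩ := exists_fixed_preimage W 𝔛 h𝔛 hq k₀ hfix
        have hkd : ψ k = (d : Hol W) := by rw [hψ, hkk, hk₀]
        have hkD : k ∈ D₀ := ⟨hk, by show ψ k ∈ H'; rw [hkd]; exact d.2⟩
        refine ⟨⟨k, hkD⟩, ?_⟩
        rw [hρ₀, ← hde]
        congr 1
        exact Subtype.ext hkd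
      intro m
      obtain ⟨d, hd⟩ := hs₀ (eSL.symm m)
      exact ⟨d, by simp [hd]⟩
    · -- kernel
      intro d
      have h1 : (eSL.toMonoidHom.comp ρ₀) d = 1 ↔ ρ₀ d = 1 := by
        simp
      rw [h1, hρ₀, ← cfg.mem_centralizer_Wbar_iff hVc X' hq2 hq3 hX'q hX'V hX'H E ⟨ψ d, d.2.2⟩
        (hψfix d d.2.1)]
      show ψ d ∈ Subgroup.centralizer ((Wb : Subgroup (Hol W)) : Set (Hol W)) ↔ _
      constructor
      · intro h
        apply Subgroup.mem_centralizer_iff.mpr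
        intro w hw
        obtain ⟨hwW, hwb⟩ := hmemW₀.mp hw
        have h2 := Subgroup.mem_centralizer_iff.mp h _ hwb
        have h3 : ψ d * ι ⟨w, hwW⟩ * (ψ d)⁻¹ = ι ⟨w, hwW⟩ := by
          rw [← h2]; group
        rw [hconj] at h3
        have h4 := congrArg Subtype.val (hιinj h3)
        have h5 : (d : K) * w * (d : K)⁻¹ = w := h4
        calc w * (d : K) = ((d : K) * w * (d : K)⁻¹) * (d : K) := by rw [h5]
          _ = (d : K) * w := by group
      · intro h
        apply Subgroup.mem_centralizer_iff.mpr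
        intro x hx
        rw [← hW₁map] at hx
        obtain ⟨w₁, hw₁, rfl⟩ := hx
        have hw : (w₁ : K) ∈ W₀ := ⟨w₁, hw₁, rfl⟩
        have h2 := Subgroup.mem_centralizer_iff.mp h _ hw
        have h3 : ψ d * ι ⟨(w₁ : K), w₁.2⟩ * (ψ d)⁻¹ = ι ⟨(w₁ : K), w₁.2⟩ := by
          rw [hconj]
          congr 1
          apply Subtype.ext
          show (d : K) * (w₁ : K) * (d : K)⁻¹ = (w₁ : K)
          rw [← h2]; group
        have h4 : ι w₁ * ψ d = (ψ d * ι w₁ * (ψ d)⁻¹) * ψ d := by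
          rw [show w₁ = ⟨(w₁ : K), w₁.2⟩ from rfl, h3]
        rw [h4]; group

end Main

section Transport

variable {G : Type u} [Group G]

/-- **S0621** assuming the statement of S0617. -/
theorem result_of [Finite G] {p : ℕ} [Fact p.Prime] {q : ℕ} [Fact q.Prime] (h617 : FF618.S0617Type.{u})
    (K X : Subgroup G) (hXK : X ≤ Subgroup.normalizer (K : Set G)) (hX : Cfsg.IsElementaryAbelian q X)
    (hq : ¬ q ∣ Nat.card K) (hsep : Cfsg.IsPSolvable p ↥K) (hO : Cfsg.pPrimeCore p ↥K = ⊥)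
    (hnf : ¬ Cfsg.IsThompsonFactorizable p ↥K) :
    (p = 2 ∨ p = 3) ∧ ∃ W D : Subgroup G, W ≤ K ⊓ Subgroup.centralizer (X : Set G) ∧ D ≤ K ⊓ Subgroup.centralizer (X : Set G) ∧ Cfsg.IsElementaryAbelian p W ∧ Nat.card W = p ^ 2 ∧ D ≤ Subgroup.normalizer (W : Set G) ∧ ∃ hn : ((Subgroup.centralizer (W : Set G)).subgroupOf D).Normal, Nonempty ((↥D ⧸ (Subgroup.centralizer (W : Set G)).subgroupOf D) ≃* Matrix.SpecialLinearGroup (Fin 2) (ZMod p)) := by
  obtain ⟨hp, W₀, D₀, hW₀, hD₀, hWe, hWc, hDN, ρ, hρs, hρk⟩ := plane_of h617 (opGroup K X)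
    (isPGroup_opGroup K X (Cfsg.Agent.Lib.Helper97.isPGroup_of_isElementaryAbelian hX)) hq hsep hO hnf
  rw [fixedSubgroup_opGroup K X hXK] at hW₀ hD₀
  refine ⟨hp, W₀.map K.subtype, D₀.map K.subtype, ?_, ?_, ?_, ?_, ?_, ?_⟩
  · rintro _ ⟨w, hw, rfl⟩
    exact ⟨w.2, Subgroup.mem_subgroupOf.mp (hW₀ hw)⟩
  · rintro _ ⟨d, hd, rfl⟩
    exact ⟨d.2, Subgroup.mem_subgroupOf.mp (hD₀ hd)⟩
  · refine ⟨⟨⟨?_⟩⟩, ?_⟩
    · rintro ⟨_, ⟨a, ha, rfl⟩⟩ ⟨_, ⟨b, hb, rfl⟩⟩
      apply Subtype.ext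
      show (a : G) * (b : G) = (b : G) * (a : G)
      have := hWe.1.is_comm.comm ⟨a, ha⟩ ⟨b, hb⟩
      have h2 : a * b = b * a := congrArg Subtype.val this
      exact congrArg Subtype.val h2
    · rintro _ ⟨a, ha, rfl⟩
      have := hWe.2 a ha
      show (K.subtype a) ^ p = 1
      rw [← map_pow, this, map_one]
  · rw [Subgroup.card_map_of_injective K.subtype_injective, hWc]
  · exact (Subgroup.map_mono hDN).trans (Subgroup.le_normalizer_map _)
  · set e : ↥D₀ ≃* ↥(D₀.map K.subtype) := D₀.equivMapOfInjective K.subtype K.subtype_injective with he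
    have hecoe : ∀ d : ↥(D₀.map K.subtype), (((e.symm d : ↥D₀) : ↥K) : G) = (d : G) := by
      intro d
      have h1 : e (e.symm d) = d := e.apply_symm_apply d
      have h2 := congrArg Subtype.val h1
      rw [he, Subgroup.coe_equivMapOfInjective_apply] at h2
      exact h2
    apply quot_iso_of_ker (ρ.comp e.symm.toMonoidHom)
    · intro m
      obtain ⟨d, hd⟩ := hρs m
      exact ⟨e d, by simp [hd]⟩
    · ext d
      rw [MonoidHom.mem_ker, Subgroup.mem_subgroupOf]
      have h1 : (ρ.comp e.symm.toMonoidHom) d = ρ (e.symm d) := rfl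
      rw [h1, hρk]
      constructor
      · intro h
        apply Subgroup.mem_centralizer_iff.mpr
        rintro _ ⟨w, hw, rfl⟩
        have h2 := Subgroup.mem_centralizer_iff.mp h w hw
        have h3 := congrArg Subtype.val h2
        rw [← hecoe d]
        exact h3
      · intro h
        apply Subgroup.mem_centralizer_iff.mpr
        intro w hw
        have h2 := Subgroup.mem_centralizer_iff.mp h (w : G) ⟨w, hw, rfl⟩
        apply Subtype.ext
        show (w : G) * (((e.symm d : ↥D₀) : ↥K) : G) = (((e.symm d : ↥D₀) : ↥K) : G) * (w : G)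
        rw [hecoe d]
        exact h2

end Transport

end Cfsg.Agent.Lib.Helper49.FF621
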