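import Cfsg.Agent.Lib.Helper49.FF618
import Cfsg.Agent.Lib.Helper1.MinimalNormal
import Cfsg.Agent.S4145

/-!
# S0109 (Thompson factorization for solvable groups) from S0617

If `G` is solvable with `O_{p'}(G) = 1`, `p` odd, and abelian Sylow 2-subgroups when `p = 3`, then
`G` is Thompson factorizable: otherwise `FF618.result_of` gives `p = 3` and a section `SL(2,3)`,
whose Sylow 2-subgroups are not abelian.
-/

set_option autoImplicit false
open Cfsg

namespace Cfsg.Agent.Lib.Helper49.TF109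

universe u

open Cfsg.Agent.Lib.Helper49

/-- A finite solvable group is `p`-solvable (proof as in `Lib/Helper77/FongPrincipal`). -/
theorem isPSolvable_of_isSolvable' (p : ℕ) [Fact p.Prime] :
    ∀ (n : ℕ) (G : Type u) [Group G] [Finite G] [Group.IsSolvable G], Nat.card G = n →
      IsPSolvable p G := by
  intro n
  induction n using Nat.strong_induction_on with
  | _ n ih =>
    intro G _ _ _ hn
    by_cases hG : Subsingleton G
    · exact Cfsg.Agent.S4145.isPSolvable_of_subsingleton p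
    · rw [not_subsingleton_iff_nontrivial] at hG
      obtain ⟨q, R, hq, hRn, hR1, hRq, -, -, -⟩ :=
        Cfsg.Agent.Lib.Helper1.exists_normal_pSubgroup_of_isSolvable (G := G)
      have hcard : Nat.card (G ⧸ R) < n := by
        rw [← hn, ← Subgroup.index_eq_card]
        have h1 : Nat.card R * R.index = Nat.card G := Subgroup.card_mul_index R
        have h2 : 1 < Nat.card R := by
          rw [Finite.one_lt_card_iff_nontrivial]
          exact (Subgroup.nontrivial_iff_ne_bot R).mpr hR1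
        have h3 : 0 < R.index := Nat.pos_of_ne_zero Subgroup.index_ne_zero_of_finite
        nlinarith
      have hquot : IsPSolvable p (G ⧸ R) := ih _ hcard (G ⧸ R) rfl
      apply Cfsg.Agent.S4145.isPSolvable_of_quotient p R _ hquot
      have : Fact q.Prime := ⟨hq⟩
      obtain ⟨k, hk⟩ := hRq.exists_card_eq
      by_cases hpq : q = p
      · left
        exact ⟨k, by rw [hk, hpq]⟩
      · right
        rw [hk]
        apply Nat.Coprime.pow_left
        exact (Nat.coprime_primes hq (Fact.out : p.Prime)).mpr hpq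

section AS2

/-- all 2-subgroups are abelian (elementwise form). -/
def AS2 (X : Type*) [Group X] : Prop :=
  ∀ Q : Subgroup X, IsPGroup 2 Q → ∀ x ∈ Q, ∀ y ∈ Q, x * y = y * x

theorem as2_of_sylow {X : Type*} [Group X] [Finite X]
    (h : ∀ T : Sylow 2 X, IsMulCommutative T) : AS2 X := by
  intro Q hQ x hx y hy
  obtain ⟨T, hT⟩ := hQ.exists_le_sylow
  have := (h T).is_comm.comm ⟨x, hT hx⟩ ⟨y, hT hy⟩
  exact congrArg Subtype.val this

theorem AS2.subgroup {X : Type*} [Group X] (h : AS2 X) (E : Subgroup X) : AS2 ↥E := by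
  intro Q hQ x hx y hy
  have := h (Q.map E.subtype) (hQ.map _) x ⟨x, hx, rfl⟩ y ⟨y, hy, rfl⟩
  exact Subtype.ext this

theorem AS2.quotient {X : Type*} [Group X] [Finite X] (h : AS2 X) (N : Subgroup X) [N.Normal] :
    AS2 (X ⧸ N) := by
  intro Q hQ x hx y hy
  have hsurj : Function.Surjective (QuotientGroup.mk' N) := QuotientGroup.mk'_surjective N
  obtain ⟨T'', hT''⟩ := hQ.exists_le_sylow
  obtain ⟨T⟩ : Nonempty (Sylow 2 X) := inferInstance
  obtain ⟨g, hg⟩ := MulAction.exists_smul_eq (X ⧸ N) (T.mapSurjective hsurj) T''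
  have hmem : ∀ z : X ⧸ N, z ∈ Q → ∃ t ∈ (T : Subgroup X), g⁻¹ * z * g = (t : X ⧸ N) := by
    intro z hz
    have hz' : z ∈ ((g • T.mapSurjective hsurj : Sylow 2 (X ⧸ N)) : Subgroup (X ⧸ N)) := by
      rw [hg]; exact hT'' hz
    rw [Sylow.coe_subgroup_smul, Subgroup.mem_pointwise_smul_iff_inv_smul_mem,
      Sylow.coe_mapSurjective] at hz'
    obtain ⟨t, ht, hte⟩ := hz'
    refine ⟨t, ht, ?_⟩
    rw [MulAut.smul_def, ← map_inv, MulAut.conj_apply, inv_inv] at hte
    exact hte.symm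
  obtain ⟨t₁, ht₁, e₁⟩ := hmem x hx
  obtain ⟨t₂, ht₂, e₂⟩ := hmem y hy
  have hcomm : t₁ * t₂ = t₂ * t₁ := h (T : Subgroup X) T.isPGroup' t₁ ht₁ t₂ ht₂
  have hc2 : (g⁻¹ * x * g) * (g⁻¹ * y * g) = (g⁻¹ * y * g) * (g⁻¹ * x * g) := by
    rw [e₁, e₂, ← QuotientGroup.mk_mul, ← QuotientGroup.mk_mul, hcomm]
  have h3 : g⁻¹ * (x * y) * g = g⁻¹ * (y * x) * g := by
    calc g⁻¹ * (x * y) * g = (g⁻¹ * x * g) * (g⁻¹ * y * g) := by group
      _ = (g⁻¹ * y * g) * (g⁻¹ * x * g) := hc2
      _ = g⁻¹ * (y * x) * g := by group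
  exact mul_left_cancel (mul_right_cancel h3)

theorem isPGroup_two_zpowers {X : Type*} [Group X] (a : X) (ha : a ^ 4 = 1) :
    IsPGroup 2 (Subgroup.zpowers a) := by
  rintro ⟨x, hx⟩
  obtain ⟨k, rfl⟩ := Subgroup.mem_zpowers_iff.mp hx
  refine ⟨2, ?_⟩
  apply Subtype.ext
  show (a ^ k) ^ (2 ^ 2) = 1
  have : (2 : ℕ) ^ 2 = 4 := by norm_num
  rw [this, ← zpow_natCast, ← zpow_mul, mul_comm, zpow_mul, zpow_natCast, ha, one_zpow]

/-- Quaternion relations force commuting when all 2-subgroups are abelian. -/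
theorem AS2.comm_of_q8 {X : Type*} [Group X] (h : AS2 X) (a b : X) (ha : a ^ 4 = 1)
    (hb : b ^ 4 = 1) (hab : b * a * b⁻¹ = a⁻¹) : a * b = b * a := by
  have h1 := isPGroup_two_zpowers a ha
  have h2 := isPGroup_two_zpowers b hb
  have hn : Subgroup.zpowers b ≤ Subgroup.normalizer (Subgroup.zpowers a : Set X) := by
    rw [Subgroup.zpowers_le, Subgroup.mem_normalizer_iff_map_conj_eq, MonoidHom.map_zpowers]
    show Subgroup.zpowers (MulAut.conj b a) = Subgroup.zpowers a
    rw [MulAut.conj_apply, hab, Subgroup.zpowers_inv]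
  have h3 : IsPGroup 2 ↥(Subgroup.zpowers b ⊔ Subgroup.zpowers a) :=
    IsPGroup.to_sup_of_normal_right' h2 h1 hn
  exact h _ h3 a (le_sup_right (a := Subgroup.zpowers b) (Subgroup.mem_zpowers a)) b
    (le_sup_left (b := Subgroup.zpowers a) (Subgroup.mem_zpowers b))

/-- the quaternion generators in `SL(2,3)`. -/
def qa : Matrix.SpecialLinearGroup (Fin 2) (ZMod 3) := ⟨!![0, -1; 1, 0], by decide⟩

def qb : Matrix.SpecialLinearGroup (Fin 2) (ZMod 3) := ⟨!![1, 1; 1, -1], by decide⟩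

theorem qa_pow : qa ^ 4 = 1 := by decide
theorem qb_pow : qb ^ 4 = 1 := by decide
theorem qab : qb * qa * qb⁻¹ = qa⁻¹ := by decide
theorem qab_ne : qa * qb ≠ qb * qa := by decide

theorem not_as2_of_equiv {X : Type*} [Group X] (e : X ≃* Matrix.SpecialLinearGroup (Fin 2) (ZMod 3)) :
    ¬ AS2 X := by
  intro h
  have h1 : (e.symm qa) ^ 4 = 1 := by rw [← map_pow, qa_pow, map_one]
  have h2 : (e.symm qb) ^ 4 = 1 := by rw [← map_pow, qb_pow, map_one]
  have h3 : e.symm qb * e.symm qa * (e.symm qb)⁻¹ = (e.symm qa)⁻¹ := by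
    rw [← map_inv, ← map_mul, ← map_mul, qab, map_inv]
  have h4 := h.comm_of_q8 _ _ h1 h2 h3
  rw [← map_mul, ← map_mul] at h4
  exact qab_ne (e.symm.injective h4)

end AS2

section Main

variable {G : Type u} [Group G] [Finite G] {p : ℕ} [Fact p.Prime]

/-- S0109 assuming the statement of S0617. -/
theorem result_of (h617 : FF618.S0617Type.{u}) (hp : p ≠ 2) (hs : Group.IsSolvable G)
    (h3 : p = 3 → ∀ T : Sylow 2 G, IsMulCommutative T)
    (hF : ∀ N : Subgroup G, N.Normal → Nat.Coprime (Nat.card N) p → N = ⊥) (P : Sylow p G) (g : G) :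
    ∃ a ∈ Subgroup.normalizer (Cfsg.thompsonSubgroupOf p (P : Subgroup G) : Set G),
      ∃ c ∈ Subgroup.centralizer {x : G | x ∈ (P : Subgroup G) ∧ (∀ y ∈ (P : Subgroup G), x * y = y * x) ∧ x ^ p = 1},
        g = a * c := by
  have hsep : IsPSolvable p G := isPSolvable_of_isSolvable' p _ G rfl
  have hO : pPrimeCore p G = ⊥ := by
    unfold pPrimeCore
    rw [eq_bot_iff]
    apply sSup_le
    rintro N ⟨hN, hcop⟩
    rw [hF N hN hcop]
  have hfac : IsThompsonFactorizable p G := by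
    by_contra hnf
    obtain ⟨hp23, E, -, -, -, hn, ⟨e⟩⟩ := FF618.result_of h617 hsep hO hnf
    have hp3 : p = 3 := by
      rcases hp23 with h | h
      · exact absurd h hp
      · exact h
    subst hp3
    have has : AS2 G := as2_of_sylow (h3 rfl)
    have has2 := (has.subgroup E).quotient
      ((Subgroup.centralizer (⨆ S : Sylow 3 G, (Cfsg.omegaOne 3 ((S : Subgroup G) ⊓ Subgroup.centralizer ((S : Subgroup G) : Set G)) : Set G))).subgroupOf E)
    exact not_as2_of_equiv e has2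
  obtain ⟨x, hx, c, hc, n, hn, hg⟩ := hfac P g⁻¹
  rw [hO, Subgroup.mem_bot] at hx
  subst hx
  refine ⟨n⁻¹, Subgroup.inv_mem _ hn, c⁻¹, ?_, ?_⟩
  · apply Subgroup.inv_mem
    refine Subgroup.centralizer_le ?_ hc
    intro x hx
    obtain ⟨hxP, hxc, hxp⟩ := hx
    apply Subgroup.subset_closure
    refine ⟨⟨hxP, ?_⟩, hxp⟩
    apply Subgroup.mem_centralizer_iff.mpr
    intro y hy
    exact (hxc y hy).symm
  · have : g = (g⁻¹)⁻¹ := (inv_inv g).symm
    rw [this, hg]
    group

end Main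

end Cfsg.Agent.Lib.Helper49.TF109
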