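import Cfsg.Agent.Lib.Helper49.SylowChain

/-!
# Helper49 library: regularity of a subgroup for a normalizer functor (`Cfsg.IsFunctorRegular`)
in terms of chains of subgroups of the ambient group.
-/

set_option autoImplicit false

namespace Cfsg.Agent.Lib.Helper49

open Cfsg.Agent.Lib.Helper33

variable {G : Type*} [Group G]

/-- Chains of Sylow `p`-subgroups of `M` (as subgroups of `G`) linked through the normalizers in `M` of the
members of `f P`, `P` a Sylow `p`-subgroup of `M`; every link contains `D`. -/
inductive FChain (p : ℕ) (f : Subgroup G → Set (Subgroup G)) (M D : Subgroup G) :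
    Subgroup G → Subgroup G → Prop
  | refl (A : Subgroup G) : FChain p f M D A A
  | tail {A B C : Subgroup G} (P F : Subgroup G) (x : G) (h : FChain p f M D A B)
      (hP : SylIn p P M) (hF : F ∈ f P)
      (hB : B ≤ Subgroup.normalizer (F : Set G)) (hC : C ≤ Subgroup.normalizer (F : Set G))
      (hxM : x ∈ M) (hxF : x ∈ Subgroup.normalizer (F : Set G))
      (hconj : cj x⁻¹ C = B) (hD : D ≤ C) : FChain p f M D A C

theorem FChain.mono {p : ℕ} {f : Subgroup G → Set (Subgroup G)} {M D D' : Subgroup G} (hD : D' ≤ D)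
    {A B : Subgroup G} (h : FChain p f M D A B) : FChain p f M D' A B := by
  induction h with
  | refl => exact FChain.refl _
  | tail P F x _ hP hF hB hC hxM hxF hconj hD' ih =>
    exact FChain.tail P F x ih hP hF hB hC hxM hxF hconj (hD.trans hD')

theorem FChain.trans {p : ℕ} {f : Subgroup G → Set (Subgroup G)} {M D : Subgroup G}
    {A B C : Subgroup G} (h₁ : FChain p f M D A B) (h₂ : FChain p f M D B C) : FChain p f M D A C := by
  induction h₂ with
  | refl => exact h₁
  | tail P F x _ hP hF hB hC hxM hxF hconj hD' ih =>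
    exact FChain.tail P F x ih hP hF hB hC hxM hxF hconj hD'

/-- Equivariance of a normalizer functor, in `cj` form. -/
theorem IsNormalizerFunctor_cj_mem {p : ℕ} {f : Subgroup G → Set (Subgroup G)}
    (hf : Cfsg.IsNormalizerFunctor p f) {P F : Subgroup G} (hP : IsPGroup p P) (hF : F ∈ f P) (g : G) :
    cj g F ∈ f (cj g P) := by
  have := (hf P hP).2 g
  rw [cj_def, this]
  exact ⟨F, hF, rfl⟩

theorem FChain.conj [Finite G] {p : ℕ} [Fact p.Prime] {f : Subgroup G → Set (Subgroup G)}
    (hf : Cfsg.IsNormalizerFunctor p f) {M D : Subgroup G}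
    {A B : Subgroup G} (h : FChain p f M D A B) (g : G) :
    FChain p f (cj g M) (cj g D) (cj g A) (cj g B) := by
  induction h with
  | refl => exact FChain.refl _
  | @tail B C P F x _ hP hF hB hC hxM hxF hconj hD' ih =>
    refine FChain.tail (cj g P) (cj g F) (g * x * g⁻¹) ih (hP.cj g)
      (IsNormalizerFunctor_cj_mem hf hP.isPGroup hF g) ?_ ?_ (conj_mem_cj hxM) ?_ ?_ (cj_mono hD')
    · rw [← cj_normalizer]; exact cj_mono hB
    · rw [← cj_normalizer]; exact cj_mono hC
    · rw [← cj_normalizer]; exact conj_mem_cj hxF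
    · rw [← hconj]
      have : (g * x * g⁻¹)⁻¹ * g = g * x⁻¹ := by group
      rw [← cj_mul, this, cj_mul]

/-- Enlarging the ambient subgroup, when Sylow subgroups stay Sylow subgroups. -/
theorem FChain.mono_subgroup {p : ℕ} {f : Subgroup G → Set (Subgroup G)} {M M' D : Subgroup G}
    (hM : M ≤ M') (hS : ∀ P, SylIn p P M → SylIn p P M')
    {A B : Subgroup G} (h : FChain p f M D A B) : FChain p f M' D A B := by
  induction h with
  | refl => exact FChain.refl _
  | tail P F x _ hP hF hB hC hxM hxF hconj hD' ih =>
    exact FChain.tail P F x ih (hS P hP) hF hB hC (hM hxM) hxF hconj hD'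

/-! ### Transport between `↥M` and `G` -/

theorem map_subtype_cj (M : Subgroup G) (m : M) (Q : Subgroup M) :
    (cj m Q).map M.subtype = cj (m : G) (Q.map M.subtype) := by
  unfold cj
  rw [Subgroup.map_map, Subgroup.map_map]
  congr 1

theorem map_subtype_sylow_injective {p : ℕ} (M : Subgroup G) {S T : Sylow p M}
    (h : (S : Subgroup M).map M.subtype = (T : Subgroup M).map M.subtype) : S = T :=
  Sylow.ext (Subgroup.map_injective (Subgroup.subtype_injective M) h)

theorem map_subtype_toSylow {p : ℕ} [Fact p.Prime] {M A : Subgroup G} (hA : SylIn p A M) :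
    (hA.toSylow : Subgroup M).map M.subtype = A := by
  rw [SylIn.coe_toSylow, Subgroup.subgroupOf_map_subtype, inf_eq_left.mpr hA.le]

end Cfsg.Agent.Lib.Helper49
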