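import Cfsg.Agent.Lib.Helper49.FunctorChain

/-!
# Helper49 library: `Cfsg.IsFunctorRegular p f M` in terms of `FChain`.
-/

set_option autoImplicit false

namespace Cfsg.Agent.Lib.Helper49

open Cfsg.Agent.Lib.Helper33

variable {G : Type*} [Group G]

/-- If `X` contains a Sylow `p`-subgroup of `G` and `c ⊓ X` is a Sylow `p`-subgroup of `X` for the Sylow
`p`-subgroup `c` of `G`, then `c ≤ X`. -/
theorem sylow_le_of_sylIn_inf [Finite G] {p : ℕ} [Fact p.Prime] (c P₀ : Sylow p G) {X : Subgroup G}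
    (hP₀ : (P₀ : Subgroup G) ≤ X) (h : SylIn p ((c : Subgroup G) ⊓ X) X) : (c : Subgroup G) ≤ X := by
  obtain ⟨h', -, hle⟩ := h.exists_cj_le hP₀ P₀.isPGroup'
  have h1 : Nat.card (P₀ : Subgroup G) ≤ Nat.card ((c : Subgroup G) ⊓ X : Subgroup G) := by
    rw [← card_cj h' (P₀ : Subgroup G)]
    exact Subgroup.card_le_of_le hle
  have h2 : Nat.card (c : Subgroup G) = Nat.card (P₀ : Subgroup G) := by
    rw [Sylow.card_eq_multiplicity, Sylow.card_eq_multiplicity]
  have h3 : (c : Subgroup G) ⊓ X = c := Subgroup.eq_of_le_of_card_ge inf_le_left (h2 ▸ h1)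
  rw [← h3]
  exact inf_le_right

/-- The members of the family induced by `f` in `M`, viewed in `↥M`. -/
theorem exists_of_mem_functorFamily_image [Finite G] {p : ℕ} [Fact p.Prime] {f : Subgroup G → Set (Subgroup G)}
    (hf : Cfsg.IsNormalizerFunctor p f) {M : Subgroup G} {X : Subgroup M}
    (hX : X ∈ (fun X : Subgroup G => X.subgroupOf M) '' Cfsg.functorFamily p f M) :
    ∃ (P : Sylow p M) (F : Subgroup G), F ∈ f ((P : Subgroup M).map M.subtype) ∧
      X = (M ⊓ Subgroup.normalizer (F : Set G)).subgroupOf M ∧ (P : Subgroup M) ≤ X := by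
  obtain ⟨Y, ⟨P, F, hF, rfl⟩, rfl⟩ := hX
  refine ⟨P, F, hF, rfl, ?_⟩
  have hPp : IsPGroup p ((P : Subgroup M).map M.subtype) := P.isPGroup'.map _
  have hFN := ((hf _ hPp).1 F hF).2
  intro y hy
  rw [Subgroup.mem_subgroupOf]
  exact ⟨y.2, hFN (Subgroup.le_normalizer ⟨y, hy, rfl⟩)⟩

theorem sylow_le_of_mem_functor_sylowMembers [Finite G] {p : ℕ} [Fact p.Prime]
    {f : Subgroup G → Set (Subgroup G)} (hf : Cfsg.IsNormalizerFunctor p f) {M : Subgroup G}
    {X : Subgroup M} {c : Sylow p M}
    (hX : X ∈ Cfsg.sylowMembers p ((fun X : Subgroup G => X.subgroupOf M) '' Cfsg.functorFamily p f M)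
      (c : Subgroup M)) : (c : Subgroup M) ≤ X := by
  rw [mem_sylowMembers_iff] at hX
  obtain ⟨P, F, -, -, hPX⟩ := exists_of_mem_functorFamily_image hf hX.1
  exact sylow_le_of_sylIn_inf c P hPX hX.2

theorem mem_functor_sylowMembers_of_le [Finite G] {p : ℕ} [Fact p.Prime]
    {f : Subgroup G → Set (Subgroup G)} {M P F : Subgroup G} (hP : SylIn p P M) (hF : F ∈ f P)
    (c : Sylow p M) (hc : (c : Subgroup M).map M.subtype ≤ Subgroup.normalizer (F : Set G)) :
    (M ⊓ Subgroup.normalizer (F : Set G)).subgroupOf M ∈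
      Cfsg.sylowMembers p ((fun X : Subgroup G => X.subgroupOf M) '' Cfsg.functorFamily p f M)
        (c : Subgroup M) := by
  rw [mem_sylowMembers_iff]
  refine ⟨⟨M ⊓ Subgroup.normalizer (F : Set G), ⟨hP.toSylow, F, ?_, rfl⟩, rfl⟩, ?_⟩
  · rw [map_subtype_toSylow]; exact hF
  · have hle : (c : Subgroup M) ≤ (M ⊓ Subgroup.normalizer (F : Set G)).subgroupOf M := by
      intro y hy
      rw [Subgroup.mem_subgroupOf]
      exact ⟨y.2, hc ⟨y, hy, rfl⟩⟩
    rw [inf_eq_left.mpr hle]
    exact sylIn_of_sylow_le c hle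

theorem fchain_of_schain [Finite G] {p : ℕ} [Fact p.Prime] {f : Subgroup G → Set (Subgroup G)}
    (hf : Cfsg.IsNormalizerFunctor p f) {M : Subgroup G} {D' : Subgroup M} {S T : Sylow p M}
    (h : SChain p ((fun X : Subgroup G => X.subgroupOf M) '' Cfsg.functorFamily p f M) D' S T) :
    FChain p f M (D'.map M.subtype) ((S : Subgroup M).map M.subtype) ((T : Subgroup M).map M.subtype) := by
  induction h with
  | refl => exact FChain.refl _
  | @tail T U X x _ hT hU hx hconj hD ih =>
    have hTX := sylow_le_of_mem_functor_sylowMembers hf hT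
    have hUX := sylow_le_of_mem_functor_sylowMembers hf hU
    obtain ⟨P, F, hF, rfl, -⟩ := exists_of_mem_functorFamily_image hf hT.1
    have hmapX : ∀ Q : Subgroup M, Q ≤ (M ⊓ Subgroup.normalizer (F : Set G)).subgroupOf M →
        Q.map M.subtype ≤ Subgroup.normalizer (F : Set G) := by
      rintro Q hQ _ ⟨y, hy, rfl⟩
      have := hQ hy
      rw [Subgroup.mem_subgroupOf] at this
      exact this.2
    rw [Subgroup.mem_subgroupOf] at hx
    refine FChain.tail ((P : Subgroup M).map M.subtype) F (x : G) ih (sylIn_of_sylow P) hF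
      (hmapX _ hTX) (hmapX _ hUX) hx.1 hx.2 ?_ (Subgroup.map_mono (hD.trans inf_le_left))
    rw [← hconj, subgroupConjRight_eq_cj, map_subtype_cj]
    rfl

theorem schain_of_fchain [Finite G] {p : ℕ} [Fact p.Prime] {f : Subgroup G → Set (Subgroup G)}
    {M D : Subgroup G} {A C : Subgroup G}
    (h : FChain p f M D A C) (S : Sylow p M) (hS : (S : Subgroup M).map M.subtype = A) :
    ∃ U : Sylow p M, (U : Subgroup M).map M.subtype = C ∧
      SChain p ((fun X : Subgroup G => X.subgroupOf M) '' Cfsg.functorFamily p f M) (D.subgroupOf M) S U := by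
  induction h with
  | refl => exact ⟨S, hS, SChain.refl S⟩
  | @tail B C P F x _ hP hF hB hC hxM hxF hconj hD ih =>
    obtain ⟨T, hTB, hST⟩ := ih
    have hUC : (((⟨x, hxM⟩ : M) • T : Sylow p M) : Subgroup M).map M.subtype = C := by
      rw [coe_smul_sylow, map_subtype_cj, hTB, ← hconj]
      exact cj_cj_inv x C
    refine ⟨(⟨x, hxM⟩ : M) • T, hUC,
      SChain.tail ((M ⊓ Subgroup.normalizer (F : Set G)).subgroupOf M) (⟨x, hxM⟩ : M) hST ?_ ?_ ?_ ?_ ?_⟩
    · exact mem_functor_sylowMembers_of_le hP hF T (hTB ▸ hB)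
    · exact mem_functor_sylowMembers_of_le hP hF _ (hUC ▸ hC)
    · rw [Subgroup.mem_subgroupOf]; exact ⟨hxM, hxF⟩
    · rw [subgroupConjRight_eq_cj, coe_smul_sylow, cj_inv_cj]
    · intro y hy
      rw [Subgroup.mem_subgroupOf] at hy
      have hyC : (y : G) ∈ C := hD hy
      refine ⟨?_, ?_⟩
      · have h1 := hyC
        rw [← hUC] at h1
        obtain ⟨z, hz, hzy⟩ := h1
        have : z = y := Subtype.ext hzy
        rw [← this]; exact hz
      · show y ∈ (M ⊓ Subgroup.normalizer (F : Set G)).subgroupOf M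
        rw [Subgroup.mem_subgroupOf]
        exact ⟨y.2, hC hyC⟩

/-- Regularity of `M` for `f` in terms of chains of subgroups of the ambient group. -/
theorem isFunctorRegular_iff [Finite G] {p : ℕ} [Fact p.Prime] {f : Subgroup G → Set (Subgroup G)}
    (hf : Cfsg.IsNormalizerFunctor p f) (M : Subgroup G) :
    Cfsg.IsFunctorRegular p f M ↔
      ∀ A B : Subgroup G, SylIn p A M → SylIn p B M → A ≠ B → A ⊓ B ≠ ⊥ → FChain p f M (A ⊓ B) A B := by
  unfold Cfsg.IsFunctorRegular
  rw [controlsSylowIntersections_iff]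
  constructor
  · intro h A B hA hB hne hint
    have hSA := map_subtype_toSylow hA
    have hTB := map_subtype_toSylow hB
    have h1 : hA.toSylow ≠ hB.toSylow := by
      intro he; apply hne; rw [← hSA, ← hTB, he]
    have hinf : ((hA.toSylow : Subgroup M) ⊓ (hB.toSylow : Subgroup M)).map M.subtype = A ⊓ B := by
      rw [Subgroup.map_inf _ _ _ (Subgroup.subtype_injective M), hSA, hTB]
    have h2 : (hA.toSylow : Subgroup M) ⊓ (hB.toSylow : Subgroup M) ≠ ⊥ := by
      intro he; apply hint; rw [← hinf, he, Subgroup.map_bot]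
    have := fchain_of_schain hf (h _ _ h1 h2)
    rwa [hinf, hSA, hTB] at this
  · intro h S T hne hint
    have hA := sylIn_of_sylow S
    have hB := sylIn_of_sylow T
    have hinf : ((S : Subgroup M) ⊓ (T : Subgroup M)).map M.subtype =
        (S : Subgroup M).map M.subtype ⊓ (T : Subgroup M).map M.subtype :=
      Subgroup.map_inf _ _ _ (Subgroup.subtype_injective M)
    have h1 : (S : Subgroup M).map M.subtype ≠ (T : Subgroup M).map M.subtype :=
      fun he => hne (map_subtype_sylow_injective M he)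
    have h2 : (S : Subgroup M).map M.subtype ⊓ (T : Subgroup M).map M.subtype ≠ ⊥ := by
      rw [← hinf]
      intro he
      exact hint ((Subgroup.map_eq_bot_iff_of_injective _ (Subgroup.subtype_injective M)).mp he)
    obtain ⟨U, hU, hch⟩ := schain_of_fchain (h _ _ hA hB h1 h2) S rfl
    have hUT : U = T := map_subtype_sylow_injective M hU
    rw [hUT] at hch
    have hD : ((S : Subgroup M).map M.subtype ⊓ (T : Subgroup M).map M.subtype).subgroupOf M =
        (S : Subgroup M) ⊓ (T : Subgroup M) := by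
      rw [← hinf]
      exact Subgroup.comap_map_eq_self_of_injective (Subgroup.subtype_injective M) _
    rw [hD] at hch
    exact hch

end Cfsg.Agent.Lib.Helper49
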