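import Cfsg.Agent.Lib.Helper49.SylowChain

/-!
# Helper49 library: strong control of fusion by a family (`Cfsg.FamilyStronglyControlsFusion`)
as an inductive relation, and conjugation of `SChain`.
-/

set_option autoImplicit false

namespace Cfsg.Agent.Lib.Helper49

open Cfsg.Agent.Lib.Helper33

variable {G : Type*} [Group G]

/-- `RFus p 𝓕 S A u`: `u = y₁ ⋯ yₙ` with `yᵢ ∈ Yᵢ ∈ 𝓕(S)` and `A^{y₁⋯yᵢ} ⊆ S ∩ Yᵢ` for each `i`. -/
inductive RFus (p : ℕ) (𝓕 : Set (Subgroup G)) (S : Subgroup G) (A : Set G) : G → Prop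
  | nil : RFus p 𝓕 S A 1
  | snoc {u : G} (Y : Subgroup G) (y : G) (h : RFus p 𝓕 S A u) (hY : Y ∈ Cfsg.sylowMembers p 𝓕 S)
      (hy : y ∈ Y) (hA : Cfsg.conjRight (u * y) A ⊆ (S : Set G) ∩ (Y : Set G)) : RFus p 𝓕 S A (u * y)

theorem ofFn_snoc {α : Type*} {n : ℕ} (y : Fin n → α) (y' : α) :
    List.ofFn (Fin.snoc (α := fun _ => α) y y') = List.ofFn y ++ [y'] := by
  rw [List.ofFn_succ', List.concat_eq_append]
  simp

theorem RFus.exists_data {p : ℕ} {𝓕 : Set (Subgroup G)} {S : Subgroup G} {A : Set G} {u : G}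
    (h : RFus p 𝓕 S A u) :
    ∃ (n : ℕ) (Y : Fin n → Subgroup G) (y : Fin n → G),
      (∀ i : Fin n, Y i ∈ Cfsg.sylowMembers p 𝓕 S ∧ y i ∈ Y i) ∧ u = (List.ofFn y).prod ∧
      ∀ i : Fin n, Cfsg.conjRight (((List.ofFn y).take (i.val + 1)).prod) A ⊆ (S : Set G) ∩ (Y i : Set G) := by
  induction h with
  | nil => exact ⟨0, Fin.elim0, Fin.elim0, fun i => i.elim0, by simp, fun i => i.elim0⟩
  | @snoc u Y' y' _ hY hy hA ih =>
    obtain ⟨n, Y, y, hYy, hu, hcond⟩ := ih
    refine ⟨n + 1, Fin.snoc (α := fun _ => Subgroup G) Y Y', Fin.snoc (α := fun _ => G) y y', ?_, ?_, ?_⟩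
    · intro i
      refine Fin.lastCases ?_ (fun j => ?_) i
      · rw [Fin.snoc_last (α := fun _ => Subgroup G), Fin.snoc_last (α := fun _ => G)]
        exact ⟨hY, hy⟩
      · rw [Fin.snoc_castSucc (α := fun _ => Subgroup G), Fin.snoc_castSucc (α := fun _ => G)]
        exact hYy j
    · rw [ofFn_snoc, List.prod_append, List.prod_singleton, ← hu]
    · intro i
      refine Fin.lastCases ?_ (fun j => ?_) i
      · rw [Fin.snoc_last (α := fun _ => Subgroup G), ofFn_snoc]
        have hlen : (List.ofFn y ++ [y']).length ≤ (Fin.last n).val + 1 := by simp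
        rw [List.take_of_length_le hlen, List.prod_append, List.prod_singleton, ← hu]
        exact hA
      · rw [Fin.snoc_castSucc (α := fun _ => Subgroup G), ofFn_snoc]
        have hlen : (Fin.castSucc j).val + 1 ≤ (List.ofFn y).length := by
          simp only [Fin.val_castSucc, List.length_ofFn]; exact j.2
        rw [List.take_append_of_le_length hlen]
        exact hcond j

theorem RFus.of_data {p : ℕ} {𝓕 : Set (Subgroup G)} {S : Subgroup G} {A : Set G} :
    ∀ (n : ℕ) (Y : Fin n → Subgroup G) (y : Fin n → G),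
      (∀ i : Fin n, Y i ∈ Cfsg.sylowMembers p 𝓕 S ∧ y i ∈ Y i) →
      (∀ i : Fin n, Cfsg.conjRight (((List.ofFn y).take (i.val + 1)).prod) A ⊆ (S : Set G) ∩ (Y i : Set G)) →
      RFus p 𝓕 S A (List.ofFn y).prod := by
  intro n
  induction n with
  | zero =>
    intro Y y _ _
    simpa using (RFus.nil : RFus p 𝓕 S A 1)
  | succ n ih =>
    intro Y y hYy hcond
    have hlist : List.ofFn y = List.ofFn (fun i : Fin n => y i.castSucc) ++ [y (Fin.last n)] := by
      rw [List.ofFn_succ', List.concat_eq_append]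
    have h1 := ih (fun i => Y i.castSucc) (fun i => y i.castSucc) (fun i => hYy i.castSucc) (by
      intro i
      have := hcond i.castSucc
      rw [hlist] at this
      have hlen : (Fin.castSucc i).val + 1 ≤ (List.ofFn (fun i : Fin n => y i.castSucc)).length := by
        simp only [Fin.val_castSucc, List.length_ofFn]; exact i.2
      rw [List.take_append_of_le_length hlen] at this
      exact this)
    have h2 := hcond (Fin.last n)
    have hlen : (List.ofFn y).length ≤ (Fin.last n).val + 1 := by simp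
    rw [List.take_of_length_le hlen] at h2
    rw [hlist, List.prod_append, List.prod_singleton] at h2 ⊢
    exact RFus.snoc (Y (Fin.last n)) (y (Fin.last n)) h1 (hYy (Fin.last n)).1 (hYy (Fin.last n)).2 h2

/-- Strong control of fusion in terms of `RFus`. -/
theorem familyStronglyControlsFusion_iff {p : ℕ} {𝓕 : Set (Subgroup G)} :
    Cfsg.FamilyStronglyControlsFusion p 𝓕 ↔
      ∀ (S : Sylow p G) (A : Set G) (g : G), A ⊆ (S : Set G) → (∃ a ∈ A, a ≠ 1) →
        Cfsg.conjRight g A ⊆ (S : Set G) →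
        ∃ u y₀ : G, y₀ ∈ Subgroup.normalizer ((S : Subgroup G) : Set G) ∧ g = u * y₀ ∧
          RFus p 𝓕 (S : Subgroup G) A u := by
  constructor
  · intro h S A g hA hne hAg
    obtain ⟨n, Y, y, y₀, hy₀, hYy, hg, hcond⟩ := h S A g hA hne hAg
    exact ⟨(List.ofFn y).prod, y₀, hy₀, hg, RFus.of_data n Y y hYy hcond⟩
  · intro h S A g hA hne hAg
    obtain ⟨u, y₀, hy₀, hg, hu⟩ := h S A g hA hne hAg
    obtain ⟨n, Y, y, hYy, hprod, hcond⟩ := hu.exists_data
    exact ⟨n, Y, y, y₀, hy₀, hYy, by rw [hg, hprod], hcond⟩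

/-- Conjugating a chain, for a normal family. -/
theorem SChain.conj [Finite G] {p : ℕ} [Fact p.Prime] {𝓕 : Set (Subgroup G)} (h𝓕 : Cfsg.IsNormalSet 𝓕)
    {D : Subgroup G} {S T : Sylow p G} (h : SChain p 𝓕 D S T) (g : G) :
    SChain p 𝓕 (cj g D) (g • S) (g • T) := by
  induction h with
  | refl => exact SChain.refl _
  | @tail T U X x _ hT hU hx hconj hD ih =>
    refine SChain.tail (cj g X) (g * x * g⁻¹) ih ?_ ?_ (conj_mem_cj hx) ?_ ?_
    · rw [coe_smul_sylow]; exact cj_mem_sylowMembers h𝓕 g hT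
    · rw [coe_smul_sylow]; exact cj_mem_sylowMembers h𝓕 g hU
    · rw [subgroupConjRight_eq_cj] at hconj ⊢
      rw [coe_smul_sylow, coe_smul_sylow, ← hconj]
      have : (g * x * g⁻¹)⁻¹ * g = g * x⁻¹ := by group
      rw [← cj_mul, this, cj_mul]
    · rw [coe_smul_sylow, ← cj_inf]; exact cj_mono hD

end Cfsg.Agent.Lib.Helper49
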