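import Mathlib
import Cfsg.Prelude.Def_HallClasses

set_option autoImplicit false

open Cfsg Equiv

namespace Cfsg.Agent.Lib.Helper49.HallAlt

variable {β : Type} [Fintype β] [DecidableEq β]

/-- **[HALF]** an intransitive subgroup of index 2 in a transitive group has an invariant half -/
theorem exists_invariant_half (K N : Subgroup (Perm β)) (hNK : N ≤ K) (hidx : N.relIndex K = 2)
    (htrK : ∀ a b : β, ∃ h ∈ K, h a = b) (hN : ¬ ∀ a b : β, ∃ h ∈ N, h a = b) :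
    ∃ t : Finset β, (∀ h ∈ N, ∀ a ∈ t, h a ∈ t) ∧ 2 * t.card = Fintype.card β := by
  classical
  push Not at hN
  obtain ⟨a, b, hab⟩ := hN
  -- multiplication rule in index 2
  have hmul : ∀ x y : Perm β, x ∈ K → y ∈ K → (x * y ∈ N ↔ (x ∈ N ↔ y ∈ N)) := by
    intro x y hx hy
    have h2 : (N.subgroupOf K).index = 2 := hidx
    have := Subgroup.mul_mem_iff_of_index_two h2 (a := ⟨x, hx⟩) (b := ⟨y, hy⟩)
    simpa [Subgroup.mem_subgroupOf] using this
  obtain ⟨k₀, hk₀K, hk₀⟩ := htrK a b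
  have hk₀N : k₀ ∉ N := fun h => hab k₀ h hk₀
  have hk₀inv : k₀⁻¹ ∉ N := fun h => hk₀N (by simpa using N.inv_mem h)
  let t : Finset β := Finset.univ.filter (fun x => ∃ h ∈ N, h a = x)
  have ht : ∀ x, x ∈ t ↔ ∃ h ∈ N, h a = x := fun x => by simp [t]
  let t' : Finset β := t.map k₀.toEmbedding
  have ht' : ∀ x, x ∈ t' ↔ ∃ y ∈ t, k₀ y = x := fun x => by
    rw [Finset.mem_map]
    rfl
  have hunion : t ∪ t' = Finset.univ := by
    apply Finset.eq_univ_of_forall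
    intro x
    rw [Finset.mem_union]
    obtain ⟨k, hkK, hk⟩ := htrK a x
    by_cases hkN : k ∈ N
    · left; rw [ht]; exact ⟨k, hkN, hk⟩
    · right
      rw [ht']
      have h1 : k₀⁻¹ * k ∈ N := by
        rw [hmul _ _ (K.inv_mem hk₀K) hkK]
        exact ⟨fun h => absurd h hk₀inv, fun h => absurd h hkN⟩
      refine ⟨(k₀⁻¹ * k) a, (ht _).2 ⟨_, h1, rfl⟩, ?_⟩
      simp [hk]
  have hdisj : Disjoint t t' := by
    rw [Finset.disjoint_left]
    intro x hx hx'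
    obtain ⟨n, hn, rfl⟩ := (ht x).1 hx
    obtain ⟨y, hy, hyx⟩ := (ht' _).1 hx'
    obtain ⟨n', hn', rfl⟩ := (ht y).1 hy
    -- b = k₀ a = (k₀ n'⁻¹ k₀⁻¹) (n a)
    have h1 : k₀ * n'⁻¹ * k₀⁻¹ ∈ N := by
      have h2 : k₀ * n'⁻¹ ∉ N := by
        rw [hmul _ _ hk₀K (K.inv_mem (hNK hn'))]
        intro h
        exact hk₀N (h.2 (N.inv_mem hn'))
      rw [hmul _ _ (K.mul_mem hk₀K (K.inv_mem (hNK hn'))) (K.inv_mem hk₀K)]
      exact ⟨fun h => absurd h h2, fun h => absurd h hk₀inv⟩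
    apply hab (k₀ * n'⁻¹ * k₀⁻¹ * n) (N.mul_mem h1 hn)
    simp only [Perm.coe_mul, Function.comp_apply]
    rw [← hyx]
    simp [hk₀]
  refine ⟨t, ?_, ?_⟩
  · intro h hh x hx
    obtain ⟨n, hn, rfl⟩ := (ht x).1 hx
    exact (ht _).2 ⟨h * n, N.mul_mem hh hn, rfl⟩
  · have hcard : (t ∪ t').card = t.card + t'.card := Finset.card_union_of_disjoint hdisj
    rw [hunion, Finset.card_univ, Finset.card_map] at hcard
    omega

end Cfsg.Agent.Lib.Helper49.HallAlt
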