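import Mathlib.GroupTheory.Sylow
import Mathlib.GroupTheory.Nilpotent
import Cfsg.Prelude.Def_IsolatedElements

set_option autoImplicit false

/-!
Basic facts on isolated elements (`Cfsg.IsIsolated`): an isolated `p`-element is central in every
`p`-subgroup containing it, and two conjugates of an isolated `p`-element lying in a subgroup `H` are
conjugate in `H`. By helper49.
-/

namespace Cfsg.Agent.Lib.Helper49

open Cfsg

variable {G : Type*} [Group G]

/-- Conjugates of isolated elements are isolated. -/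
theorem isIsolated_conj {x : G} (hx : IsIsolated x) (h : G) : IsIsolated (h * x * h⁻¹) := by
  intro g hc
  have h1 : Commute x ((h⁻¹ * g * h) * x * (h⁻¹ * g * h)⁻¹) := by
    have h2 : (h⁻¹ * g * h) * x * (h⁻¹ * g * h)⁻¹ = h⁻¹ * (g * (h * x * h⁻¹) * g⁻¹) * h := by group
    have h3 : x = h⁻¹ * (h * x * h⁻¹) * h := by group
    rw [h2]
    nth_rewrite 1 [h3]
    show h⁻¹ * (h * x * h⁻¹) * h * (h⁻¹ * (g * (h * x * h⁻¹) * g⁻¹) * h)
      = h⁻¹ * (g * (h * x * h⁻¹) * g⁻¹) * h * (h⁻¹ * (h * x * h⁻¹) * h)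
    have e1 : h⁻¹ * (h * x * h⁻¹) * h * (h⁻¹ * (g * (h * x * h⁻¹) * g⁻¹) * h)
        = h⁻¹ * ((h * x * h⁻¹) * (g * (h * x * h⁻¹) * g⁻¹)) * h := by group
    have e2 : h⁻¹ * (g * (h * x * h⁻¹) * g⁻¹) * h * (h⁻¹ * (h * x * h⁻¹) * h)
        = h⁻¹ * ((g * (h * x * h⁻¹) * g⁻¹) * (h * x * h⁻¹)) * h := by group
    rw [e1, e2, hc.eq]
  have h4 := hx _ h1
  have h5 : g * (h * x * h⁻¹) * g⁻¹ = h * ((h⁻¹ * g * h) * x * (h⁻¹ * g * h)⁻¹) * h⁻¹ := by group
  rw [h5, h4]

/-- An isolated element lying in a finite `p`-subgroup commutes with every element of it. -/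
theorem isIsolated_commute_of_mem_pGroup {p : ℕ} [Fact p.Prime] {x : G} (hx : IsIsolated x)
    {P : Subgroup G} [Finite P] (hP : IsPGroup p P) (hxP : x ∈ P) :
    ∀ y ∈ P, Commute x y := by
  have hnil : Group.IsNilpotent P := hP.isNilpotent
  have hNC : NormalizerCondition P := Group.normalizerCondition_of_isNilpotent
  rw [normalizerCondition_iff_only_full_group_self_normalizing] at hNC
  set x' : P := ⟨x, hxP⟩ with hx'
  have htop : Subgroup.centralizer ({x'} : Set P) = ⊤ := by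
    apply hNC
    apply le_antisymm _ Subgroup.le_normalizer
    intro g hg
    have hxmem : x' ∈ Subgroup.centralizer ({x'} : Set P) := by
      rw [Subgroup.mem_centralizer_singleton_iff]
    have h1 : g * x' * g⁻¹ ∈ Subgroup.centralizer ({x'} : Set P) :=
      (Subgroup.mem_normalizer_iff.mp hg x').mp hxmem
    rw [Subgroup.mem_centralizer_singleton_iff] at h1
    have h2 : Commute x ((g : G) * x * (g : G)⁻¹) := by
      have := congrArg Subtype.val h1
      simp only [Subgroup.coe_mul, Subgroup.coe_inv, hx'] at this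
      exact this.symm
    have h3 := hx _ h2
    rw [Subgroup.mem_centralizer_singleton_iff]
    apply Subtype.ext
    simp only [Subgroup.coe_mul, hx']
    calc (g : G) * x = ((g : G) * x * (g : G)⁻¹) * g := by group
      _ = x * g := by rw [h3]
  intro y hy
  have : (⟨y, hy⟩ : P) ∈ Subgroup.centralizer ({x'} : Set P) := by rw [htop]; trivial
  rw [Subgroup.mem_centralizer_singleton_iff] at this
  have := congrArg Subtype.val this
  simp only [Subgroup.coe_mul, hx'] at this
  exact this.symm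

/-- If an isolated `p`-element `x` and a conjugate `g x g⁻¹` both lie in a finite subgroup `H`, then they
are conjugate by an element of `H`. -/
theorem isIsolated_exists_conj_mem {p : ℕ} [Fact p.Prime] [Finite G] {x : G} (hx : IsIsolated x)
    (hxp : ∃ k : ℕ, orderOf x = p ^ k) {H : Subgroup G} (hxH : x ∈ H) {g : G}
    (hgH : g * x * g⁻¹ ∈ H) : ∃ h ∈ H, g * x * g⁻¹ = h * x * h⁻¹ := by
  obtain ⟨k, hk⟩ := hxp
  -- `x` and `y = g x g⁻¹` as elements of `H`
  set x' : H := ⟨x, hxH⟩ with hx'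
  set y' : H := ⟨g * x * g⁻¹, hgH⟩ with hy'
  have hpx : IsPGroup p (Subgroup.zpowers x') := by
    apply IsPGroup.of_card (n := k)
    rw [Nat.card_zpowers, ← hk, hx', ← Subgroup.orderOf_coe]
  have hpy : IsPGroup p (Subgroup.zpowers y') := by
    apply IsPGroup.of_card (n := k)
    rw [Nat.card_zpowers, ← hk, hy', ← Subgroup.orderOf_coe]
    show orderOf (g * x * g⁻¹) = orderOf x
    rw [show g * x * g⁻¹ = MulAut.conj g x from rfl, MulEquiv.orderOf_eq]
  obtain ⟨P₁, hP₁⟩ := hpx.exists_le_sylow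
  obtain ⟨P₂, hP₂⟩ := hpy.exists_le_sylow
  obtain ⟨h, hh⟩ := MulAction.exists_smul_eq H P₂ P₁
  have hx1 : x' ∈ (P₁ : Subgroup H) := hP₁ (Subgroup.mem_zpowers x')
  have hy2 : y' ∈ (P₂ : Subgroup H) := hP₂ (Subgroup.mem_zpowers y')
  have hy1 : h * y' * h⁻¹ ∈ (P₁ : Subgroup H) := by
    rw [← hh, Sylow.coe_subgroup_smul, Subgroup.mem_pointwise_smul_iff_inv_smul_mem]
    simpa [MulAut.smul_def, MulAut.conj_apply, mul_assoc] using hy2
  -- view `P₁` inside `G`
  set P : Subgroup G := (P₁ : Subgroup H).map H.subtype with hPdef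
  have hPp : IsPGroup p P := P₁.2.map H.subtype
  have hxP : x ∈ P := ⟨x', hx1, rfl⟩
  have hyP : ((h : G) * g) * x * ((h : G) * g)⁻¹ ∈ P := by
    refine ⟨h * y' * h⁻¹, hy1, ?_⟩
    simp only [Subgroup.coe_subtype, Subgroup.coe_mul, Subgroup.coe_inv, hy']
    group
  have hcomm := isIsolated_commute_of_mem_pGroup hx hPp hxP _ hyP
  have heq := hx _ hcomm
  refine ⟨(h : G)⁻¹, H.inv_mem h.2, ?_⟩
  calc g * x * g⁻¹ = (h : G)⁻¹ * (((h : G) * g) * x * ((h : G) * g)⁻¹) * (h : G) := by group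
    _ = (h : G)⁻¹ * x * (h : G)⁻¹⁻¹ := by rw [heq, inv_inv]

end Cfsg.Agent.Lib.Helper49
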