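import Mathlib
import Cfsg.Agent.Lib.Helper27.McLGroup
import Cfsg.Prelude.Def_Spor_Conway

/-!
# S5323 module [MCLISO] (helper86, board #4183)

`Cfsg.Spor.McL` has order `898128000` and contains an isomorphic copy of the two-point stabiliser
`M0` of `M24` (acting by coordinate permutations).
-/

set_option autoImplicit false

namespace Cfsg.Agent.Lib.Helper49.McLFus

open Cfsg Cfsg.Agent.Lib.Helper7 Cfsg.Agent.Lib.Helper8 Cfsg.Agent.Lib.Helper27 Cfsg.Spor

/-- the two-point stabiliser of `M24`, as a subgroup of `Perm GolayPt` -/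
def M0 : Subgroup (Equiv.Perm GolayPt) := M24 ⊓ MulAction.stabilizer (Equiv.Perm GolayPt) (none : GolayPt) ⊓ MulAction.stabilizer (Equiv.Perm GolayPt) (some 0 : GolayPt)

theorem mem_M0 (σ : Equiv.Perm GolayPt) :
    σ ∈ M0 ↔ σ ∈ M24 ∧ σ none = none ∧ σ (some 0) = some 0 := by
  unfold M0
  constructor
  · rintro ⟨⟨h1, h2⟩, h3⟩
    exact ⟨h1, MulAction.mem_stabilizer_iff.1 h2, MulAction.mem_stabilizer_iff.1 h3⟩
  · rintro ⟨h1, h2, h3⟩
    exact ⟨⟨h1, MulAction.mem_stabilizer_iff.2 h2⟩, MulAction.mem_stabilizer_iff.2 h3⟩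

/-- `(1,-3,1^22) = -((4,4,0^22) + (-5,-1^23))` -/
theorem wL_eq : wL = -(leechU + leechV) := by
  apply Subtype.ext
  show wF = -(vecU + vecV)
  decide +kernel

theorem fix_wL_iff (g : Co0) (h1 : g • leechU = leechU) :
    g • wL = wL ↔ g • leechV = leechV := by
  rw [wL_eq, co0_smul_neg, co0_smul_add, h1, neg_inj, add_right_inj]

theorem mem_McL_iff (f : Equiv.Perm leechLattice) :
    f ∈ Spor.McL ↔ f ∈ Co0 ∧ f leechV = leechV ∧ f leechU = leechU := by
  unfold Spor.McL Spor.Co3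
  rw [Subgroup.mem_inf, Subgroup.mem_inf, MulAction.mem_stabilizer_iff,
    MulAction.mem_stabilizer_iff, and_assoc]
  rfl

theorem co0_smul_coe (g : Co0) (x : leechLattice) : g • x = (g : Equiv.Perm leechLattice) x := rfl

/-- the stabiliser `Mstd` of the standard McLaughlin pair is the frozen group `Spor.McL` -/
noncomputable def mstdEquiv : Mstd ≃* ↥Spor.McL where
  toFun g := ⟨((g : Co0) : Equiv.Perm leechLattice), by
    obtain ⟨h1, h2⟩ := (mem_Mstd (g : Co0)).1 g.2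
    rw [mem_McL_iff]
    exact ⟨(g : Co0).2, (fix_wL_iff _ h1).1 h2, h1⟩⟩
  invFun f := ⟨⟨(f : Equiv.Perm leechLattice), ((mem_McL_iff _).1 f.2).1⟩, by
    obtain ⟨h0, h1, h2⟩ := (mem_McL_iff _).1 f.2
    rw [mem_Mstd]
    have hU : (⟨(f : Equiv.Perm leechLattice), h0⟩ : Co0) • leechU = leechU := h2
    exact ⟨hU, (fix_wL_iff _ hU).2 h1⟩⟩
  left_inv g := rfl
  right_inv f := rfl
  map_mul' _ _ := rfl

theorem card_McL : Nat.card ↥Spor.McL = 898128000 := by
  rw [← Nat.card_congr mstdEquiv.toEquiv, card_Mstd]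

/-- `M0` as a subgroup of `↥M24` -/
def toM22' : ↥M0 →* M22' where
  toFun σ := ⟨⟨σ.1, ((mem_M0 _).1 σ.2).1⟩, (mem_M22' _).2 ((mem_M0 _).1 σ.2).2⟩
  map_one' := rfl
  map_mul' _ _ := rfl

theorem toM22'_injective : Function.Injective toM22' := by
  intro a b h
  apply Subtype.ext
  have := congrArg (fun x : M22' => ((x : M24) : Equiv.Perm GolayPt)) h
  exact this

/-- **[MCLISO]** -/
theorem exists_hom_McL : Nat.card ↥Cfsg.Spor.McL = 898128000 ∧ ∃ φ : ↥M0 →* ↥Cfsg.Spor.McL, Function.Injective φ :=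
  ⟨card_McL, (mstdEquiv.toMonoidHom.comp phiMcL).comp toM22',
    (mstdEquiv.injective.comp phiMcL_injective).comp toM22'_injective⟩

end Cfsg.Agent.Lib.Helper49.McLFus
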