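import Mathlib
import Cfsg.Agent.Lib.Helper99.MinIdx.Defs

/-!
# S2140-[LA1] (helper99's project: minimal index of `PSL_n(q)`)
-/

set_option autoImplicit false

namespace Cfsg.Agent.Lib.Helper49.MinIdx

open Module Cfsg.Agent.Lib.Helper99.MinIdx

variable {F : Type*} [Field F] {V : Type*} [AddCommGroup V] [Module F V]

/-- Two non-proportional functionals (`r₀ ≠ 0`) take the value `1` at a common vector. -/
theorem exists_apply_eq_one_one {r₀ r₁ : Dual F V} (h0 : r₀ ≠ 0) (h1 : ∀ c : F, r₁ ≠ c • r₀) :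
    ∃ a : V, r₀ a = 1 ∧ r₁ a = 1 := by
  have hex : ∀ f : Dual F V, f ≠ 0 → ∃ x, f x = 1 := by
    intro f hf
    obtain ⟨x, hx⟩ : ∃ x, f x ≠ 0 := by
      by_contra hall
      push Not at hall
      exact hf (LinearMap.ext hall)
    exact ⟨(f x)⁻¹ • x, by rw [map_smul, smul_eq_mul, inv_mul_cancel₀ hx]⟩
  obtain ⟨u, hu1⟩ := hex r₀ h0
  have ht0 : r₁ - (r₁ u) • r₀ ≠ 0 := by
    intro h
    apply h1 (r₁ u)
    rw [sub_eq_zero] at h
    exact h
  obtain ⟨w, hw1⟩ := hex _ ht0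
  rw [LinearMap.sub_apply, LinearMap.smul_apply, smul_eq_mul] at hw1
  refine ⟨u + (1 - r₁ u) • (w - (r₀ w) • u), ?_, ?_⟩
  · simp only [map_add, map_smul, map_sub, hu1, smul_eq_mul]; ring
  · simp only [map_add, map_smul, map_sub, smul_eq_mul]
    linear_combination (1 - r₁ u) * hw1

/-- In a space of functionals of dimension `≥ 2` there is one not proportional to `r₀`. -/
theorem exists_not_smul [FiniteDimensional F V] (hn : 3 ≤ finrank F V) {e : V} (he : e ≠ 0)
    (r₀ : Dual F V) : ∃ r₂ : Dual F V, r₂ e = 0 ∧ ∀ c : F, r₂ ≠ c • r₀ := by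
  by_contra hcon
  push Not at hcon
  have hle : annE (F := F) e ≤ Submodule.span F {r₀} := by
    intro r hr
    obtain ⟨c, hc⟩ := hcon r hr
    rw [hc]
    exact Submodule.smul_mem _ _ (Submodule.mem_span_singleton_self r₀)
  have h1 := Submodule.finrank_mono hle
  have h2 : finrank F (Submodule.span F {r₀}) ≤ 1 := by
    by_cases h0 : r₀ = 0
    · subst h0
      rw [Submodule.span_zero_singleton, finrank_bot]
      exact Nat.zero_le 1
    · rw [finrank_span_singleton h0]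
  rw [finrank_annE he] at h1
  omega

/-- **S2140-[LA1]**. -/
theorem la1 [Finite F] [FiniteDimensional F V] (hn : 3 ≤ finrank F V) {e : V} (he : e ≠ 0)
    (S : AddSubgroup (Dual F V)) (hSann : ∀ r ∈ S, r e = 0) (hS0 : ∃ r ∈ S, r ≠ 0)
    (hSne : ∃ r : Dual F V, r e = 0 ∧ r ∉ S)
    (hdich : ∀ (a : V) (μ : Dual F V), μ a = 0 → μ e = 0 →
        (∀ r ∈ S, r + r a • μ ∈ S) ∨
        (∀ w : Dual F V, w e = 0 → ∃ s ∈ S, ∃ s' ∈ S, w = s + (s' - s' a • μ))) :
    Nat.card (annE (F := F) e) ≤ Nat.card F * Nat.card S := by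
  classical
  have : Finite V := Module.finite_of_finite F
  have : Finite (Dual F V) := Module.finite_of_finite F
  -- a good pair
  obtain ⟨r₀, hr₀S, hr₀0, r₁, hr₁e, hr₁S, hind⟩ :
      ∃ r₀ ∈ S, r₀ ≠ 0 ∧ ∃ r₁ : Dual F V, r₁ e = 0 ∧ r₁ ∉ S ∧ ∀ c : F, r₁ ≠ c • r₀ := by
    obtain ⟨r₀, hr₀S, hr₀0⟩ := hS0
    obtain ⟨r₁, hr₁e, hr₁S⟩ := hSne
    by_cases h : ∃ c : F, r₁ = c • r₀
    · obtain ⟨c, hc⟩ := h
      have hc0 : c ≠ 0 := by
        rintro rfl
        rw [zero_smul] at hc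
        exact hr₁S (hc ▸ S.zero_mem)
      obtain ⟨r₂, hr₂e, hr₂⟩ := exists_not_smul hn he r₀
      by_cases h2 : r₂ ∈ S
      · refine ⟨r₂, h2, ?_, r₁, hr₁e, hr₁S, ?_⟩
        · rintro rfl
          exact hr₂ 0 (zero_smul F r₀).symm
        · intro c' hc'
          have hc'0 : c' ≠ 0 := by
            rintro rfl
            rw [zero_smul] at hc'
            exact hr₁S (hc' ▸ S.zero_mem)
          apply hr₂ (c'⁻¹ * c)
          rw [mul_smul, ← hc, hc', smul_smul, inv_mul_cancel₀ hc'0, one_smul]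
      · exact ⟨r₀, hr₀S, hr₀0, r₂, hr₂e, h2, hr₂⟩
    · push Not at h
      exact ⟨r₀, hr₀S, hr₀0, r₁, hr₁e, hr₁S, h⟩
  obtain ⟨a, ha0, ha1⟩ := exists_apply_eq_one_one hr₀0 hind
  set μ : Dual F V := r₁ - r₀ with hμ
  have hμa : μ a = 0 := by rw [hμ, LinearMap.sub_apply, ha0, ha1, sub_self]
  have hμe : μ e = 0 := by rw [hμ, LinearMap.sub_apply, hr₁e, hSann r₀ hr₀S, sub_self]
  rcases hdich a μ hμa hμe with h | h
  · exfalso
    apply hr₁S
    have := h r₀ hr₀S
    rw [ha0, one_smul, hμ, add_sub_cancel] at this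
    exact this
  · -- `W ⊆ S + F μ`
    have hex : ∀ w : annE (F := F) e, ∃ p : S × F, (w : Dual F V) = (p.1 : Dual F V) + p.2 • μ := by
      intro w
      obtain ⟨s, hs, s', hs', hw⟩ := h w.1 w.2
      refine ⟨(⟨s + s', S.add_mem hs hs'⟩, - s' a), ?_⟩
      rw [hw]
      change s + (s' - s' a • μ) = s + s' + (- s' a) • μ
      module
    choose f hf using hex
    have hinj : Function.Injective f := by
      intro w w' hww
      apply Subtype.ext
      rw [hf w, hf w', hww]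
    have := Nat.card_le_card_of_injective f hinj
    rw [Nat.card_prod] at this
    rw [mul_comm]
    exact this

end Cfsg.Agent.Lib.Helper49.MinIdx
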