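import Mathlib
import Cfsg.Agent.Lib.Helper99.MinIdx.Defs

/-!
# S2140-[LA2] (helper99's project: minimal index of `PSL_n(q)`)
-/

set_option autoImplicit false

namespace Cfsg.Agent.Lib.Helper49.MinIdx

open Module Cfsg.Agent.Lib.Helper99.MinIdx

variable {F : Type*} [Field F] {V : Type*} [AddCommGroup V] [Module F V]

/-- The functionals killing two independent vectors: `q^(n-2)` of them. -/
theorem card_ann_pair [Finite F] [FiniteDimensional F V] {e y : V} (he : e ≠ 0)
    (hy : y ∉ Submodule.span F {e}) :
    Nat.card {r : Dual F V // r e = 0 ∧ r y = 0} = Nat.card F ^ (finrank F V - 2) := by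
  set P : Submodule F V := Submodule.span F {e, y} with hP
  have hli : LinearIndependent F ![e, y] :=
    (LinearIndependent.pair_iff' he).2 (fun a h => hy (Submodule.mem_span_singleton.2 ⟨a, h⟩))
  have hr : Set.range ![e, y] = {e, y} := by
    ext z
    simp only [Set.mem_range, Fin.exists_fin_two, Matrix.cons_val_zero, Matrix.cons_val_one,
      Set.mem_insert_iff, Set.mem_singleton_iff]
    constructor
    · rintro (h | h)
      · exact Or.inl h.symm
      · exact Or.inr h.symm
    · rintro (h | h)
      · exact Or.inl h.symm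
      · exact Or.inr h.symm
  have h2 : finrank F P = 2 := by
    have := finrank_span_eq_card hli
    rw [hr] at this
    rw [hP, this]
    simp
  have h3 : finrank F P.dualAnnihilator = finrank F V - 2 := by
    have := Subspace.finrank_add_finrank_dualAnnihilator_eq P
    omega
  have hmem : ∀ r : Dual F V, (r e = 0 ∧ r y = 0) ↔ r ∈ P.dualAnnihilator := by
    intro r
    rw [Submodule.mem_dualAnnihilator]
    constructor
    · rintro ⟨h1, h2⟩ w hw
      obtain ⟨a, b, rfl⟩ := Submodule.mem_span_pair.1 hw
      simp [h1, h2]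
    · intro h
      exact ⟨h e (Submodule.subset_span (by simp)), h y (Submodule.subset_span (by simp))⟩
  rw [Nat.card_congr (Equiv.subtypeEquivRight hmem), ← h3]
  exact Module.natCard_eq_pow_finrank (K := F) (V := P.dualAnnihilator)

/-- An additive group of functionals of the right order, comparable with the annihilator of a pair,
is that annihilator. -/
theorem mem_iff_of_subset [Finite F] [FiniteDimensional F V] {e y : V} (he : e ≠ 0)
    (hy : y ∉ Submodule.span F {e}) (S : AddSubgroup (Dual F V))
    (hS : Nat.card S = Nat.card F ^ (finrank F V - 2))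
    (h : (∀ r ∈ S, r e = 0 ∧ r y = 0) ∨ (∀ r : Dual F V, r e = 0 → r y = 0 → r ∈ S)) :
    ∀ r : Dual F V, r ∈ S ↔ (r e = 0 ∧ r y = 0) := by
  have : Finite V := Module.finite_of_finite F
  have : Finite (Dual F V) := Module.finite_of_finite F
  set A : Set (Dual F V) := (S : Set (Dual F V)) with hA
  set B : Set (Dual F V) := {r | r e = 0 ∧ r y = 0} with hB
  have hcA : A.ncard = Nat.card F ^ (finrank F V - 2) := by
    rw [← _root_.Nat.card_coe_set_eq, hA]; exact hS
  have hcB : B.ncard = Nat.card F ^ (finrank F V - 2) := by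
    rw [← _root_.Nat.card_coe_set_eq, hB]; exact card_ann_pair he hy
  have hAB : A = B := by
    rcases h with h | h
    · exact Set.eq_of_subset_of_ncard_le (fun r hr => h r hr) (by rw [hcA, hcB]) (Set.toFinite B)
    · exact (Set.eq_of_subset_of_ncard_le (fun r hr => h r hr.1 hr.2) (by rw [hcA, hcB])
        (Set.toFinite A)).symm
  intro r
  have : r ∈ A ↔ r ∈ B := by rw [hAB]
  exact this

/-- Under the second alternative the sum `S + F μ` is direct. -/
theorem inj_of_alt2 [Finite F] [FiniteDimensional F V] {e : V}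
    (S : AddSubgroup (Dual F V)) (hSann : ∀ r ∈ S, r e = 0)
    (hcard : Nat.card (annE (F := F) e) = Nat.card F * Nat.card S) {a : V} {μ : Dual F V}
    (hμe : μ e = 0)
    (h2 : ∀ w : Dual F V, w e = 0 → ∃ s ∈ S, ∃ s' ∈ S, w = s + (s' - s' a • μ)) :
    ∀ s₁ ∈ S, ∀ s₂ ∈ S, ∀ c₁ c₂ : F, s₁ + c₁ • μ = s₂ + c₂ • μ → c₁ = c₂ := by
  have : Finite V := Module.finite_of_finite F
  have : Finite (Dual F V) := Module.finite_of_finite F
  let g : S × F → annE (F := F) e := fun p =>
    ⟨(p.1 : Dual F V) + p.2 • μ, by
      rw [mem_annE, LinearMap.add_apply, LinearMap.smul_apply, hSann _ p.1.2, hμe, smul_zero,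
        add_zero]⟩
  have hsurj : Function.Surjective g := by
    intro w
    obtain ⟨s, hs, s', hs', hw⟩ := h2 w.1 w.2
    refine ⟨(⟨s + s', S.add_mem hs hs'⟩, - s' a), ?_⟩
    apply Subtype.ext
    rw [hw]
    change s + s' + (- s' a) • μ = s + (s' - s' a • μ)
    module
  have hc : Nat.card (S × F) = Nat.card (annE (F := F) e) := by
    rw [Nat.card_prod, hcard, mul_comm]
  obtain ⟨eqv⟩ := Finite.card_eq.1 hc
  have hinj : Function.Injective g := (Finite.injective_iff_surjective_of_equiv eqv).2 hsurj
  intro s₁ hs₁ s₂ hs₂ c₁ c₂ h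
  have : g (⟨s₁, hs₁⟩, c₁) = g (⟨s₂, hs₂⟩, c₂) := Subtype.ext h
  exact (Prod.ext_iff.1 (hinj this)).2

/-- **S2140-[LA2]**. -/
theorem la2 [Finite F] [FiniteDimensional F V] (hn : 3 ≤ finrank F V) {e : V} (he : e ≠ 0)
    (S : AddSubgroup (Dual F V)) (hSann : ∀ r ∈ S, r e = 0)
    (hcard : Nat.card (annE (F := F) e) = Nat.card F * Nat.card S)
    (hdich : ∀ (a : V) (μ : Dual F V), μ a = 0 → μ e = 0 →
        (∀ r ∈ S, r + r a • μ ∈ S) ∨
        (∀ w : Dual F V, w e = 0 → ∃ s ∈ S, ∃ s' ∈ S, w = s + (s' - s' a • μ))) :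
    ∃ y : V, y ∉ Submodule.span F {e} ∧ ∀ r : Dual F V, r e = 0 → (r ∈ S ↔ r y = 0) := by
  classical
  have : Finite V := Module.finite_of_finite F
  have : Finite (Dual F V) := Module.finite_of_finite F
  have hq : 0 < Nat.card F := Nat.card_pos
  -- `|S| = q^(n-2)`
  have hS : Nat.card S = Nat.card F ^ (finrank F V - 2) := by
    rw [card_annE he] at hcard
    have h1 : finrank F V - 1 = (finrank F V - 2) + 1 := by omega
    rw [h1, pow_succ, mul_comm] at hcard
    exact (Nat.eq_of_mul_eq_mul_left hq hcard).symm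
  -- the final step
  have fin : ∀ y : V, y ∉ Submodule.span F {e} → (∀ r ∈ S, r y = 0) →
      ∃ y : V, y ∉ Submodule.span F {e} ∧ ∀ r : Dual F V, r e = 0 → (r ∈ S ↔ r y = 0) := by
    intro y hy hSy
    refine ⟨y, hy, fun r hre => ?_⟩
    have := mem_iff_of_subset he hy S hS (Or.inl fun r hr => ⟨hSann r hr, hSy r hr⟩) r
    rw [this]
    exact ⟨fun h => h.2, fun h => ⟨hre, h⟩⟩
  by_cases hA : ∃ a : V, a ∉ Submodule.span F {e} ∧ ∃ c₁ : F, ∀ r ∈ S, r a ≠ c₁
  · -- Case A
    obtain ⟨a, ha, c₁, hc₁⟩ := hA
    have claim1 : ∀ μ : Dual F V, μ a = 0 → μ e = 0 → ∀ r ∈ S, r + r a • μ ∈ S := by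
      intro μ hμa hμe
      rcases hdich a μ hμa hμe with h | h
      · exact h
      · exfalso
        have hinj := inj_of_alt2 S hSann hcard hμe h
        obtain ⟨s, hs, s', hs', hw⟩ := h (c₁ • μ) (by rw [LinearMap.smul_apply, hμe, smul_zero])
        have h1 : (0 : Dual F V) + c₁ • μ = (s + s') + (- s' a) • μ := by
          rw [zero_add, hw]
          module
        have h2 := hinj 0 S.zero_mem (s + s') (S.add_mem hs hs') c₁ (- s' a) h1
        apply hc₁ (-s') (S.neg_mem hs')
        rw [h2, LinearMap.neg_apply]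
    by_cases hΛ : ∀ r ∈ S, r a = 0
    · exact fin a ha hΛ
    · exfalso
      push Not at hΛ
      obtain ⟨r₀, hr₀, hr₀a⟩ := hΛ
      have hsub : ∀ μ : Dual F V, μ e = 0 → μ a = 0 → μ ∈ S := by
        intro μ hμe hμa
        have h1 := claim1 ((r₀ a)⁻¹ • μ) (by rw [LinearMap.smul_apply, hμa, smul_zero])
          (by rw [LinearMap.smul_apply, hμe, smul_zero]) r₀ hr₀
        rw [smul_smul, mul_inv_cancel₀ hr₀a, one_smul] at h1
        have := S.sub_mem h1 hr₀
        rwa [add_sub_cancel_left] at this
      have := (mem_iff_of_subset he ha S hS (Or.inr hsub) r₀).1 hr₀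
      exact hr₀a this.2
  · -- Case B
    push Not at hA
    -- every `μ` kills some `a ∉ F e`
    have hker : ∀ μ : Dual F V, ∃ a : V, a ∉ Submodule.span F {e} ∧ μ a = 0 := by
      intro μ
      by_contra hcon
      push Not at hcon
      have hle : LinearMap.ker μ ≤ Submodule.span F {e} := by
        intro x hx
        by_contra hx'
        exact hcon x hx' (LinearMap.mem_ker.1 hx)
      have h1 := Submodule.finrank_mono hle
      rw [finrank_span_singleton he] at h1
      have h2 := LinearMap.finrank_range_add_finrank_ker μ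
      have h3 : finrank F (LinearMap.range μ) ≤ 1 := by
        have := Submodule.finrank_le (LinearMap.range μ)
        rwa [finrank_self] at this
      omega
    have B1 : ∀ μ : Dual F V, μ e = 0 → (∀ c : F, c • μ ∈ S) ∨ (∀ c : F, c • μ ∈ S → c = 0) := by
      intro μ hμe
      obtain ⟨a, ha, hμa⟩ := hker μ
      rcases hdich a μ hμa hμe with h | h
      · left
        intro c
        obtain ⟨r, hr, hrc⟩ := hA a ha c
        have h1 := h r hr
        rw [hrc] at h1
        have := S.sub_mem h1 hr
        rwa [add_sub_cancel_left] at this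
      · right
        intro c hc
        have hinj := inj_of_alt2 S hSann hcard hμe h
        have h1 : (0 : Dual F V) + c • μ = c • μ + (0 : F) • μ := by
          rw [zero_add, zero_smul, add_zero]
        exact hinj 0 S.zero_mem (c • μ) hc c 0 h1
    have B2 : ∀ (c : F) (s : Dual F V), s ∈ S → c • s ∈ S := by
      intro c s hs
      rcases B1 s (hSann s hs) with h | h
      · exact h c
      · exfalso
        have := h 1 (by rw [one_smul]; exact hs)
        exact one_ne_zero this
    let S' : Submodule F (Dual F V) :=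
      { carrier := S
        add_mem' := fun ha hb => S.add_mem ha hb
        zero_mem' := S.zero_mem
        smul_mem' := fun c s hs => B2 c s hs }
    have hS'card : Nat.card S' = Nat.card F ^ (finrank F V - 2) := hS
    have hfr : finrank F S' = finrank F V - 2 := by
      have h1 := Module.natCard_eq_pow_finrank (K := F) (V := S')
      rw [hS'card] at h1
      have hq2 : 2 ≤ Nat.card F := Finite.one_lt_card
      exact (Nat.pow_right_injective hq2 h1).symm
    have hK := Subspace.finrank_add_finrank_dualCoannihilator_eq S'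
    have hK2 : finrank F S'.dualCoannihilator = 2 := by omega
    have heK : e ∈ S'.dualCoannihilator := by
      rw [Submodule.mem_dualCoannihilator]
      intro φ hφ
      exact hSann φ hφ
    obtain ⟨y, hyK, hy⟩ : ∃ y ∈ S'.dualCoannihilator, y ∉ Submodule.span F {e} := by
      by_contra hcon
      push Not at hcon
      have hle : S'.dualCoannihilator ≤ Submodule.span F {e} := fun x hx => hcon x hx
      have h1 := Submodule.finrank_mono hle
      rw [finrank_span_singleton he, hK2] at h1
      omega
    refine fin y hy fun r hr => ?_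
    exact (Submodule.mem_dualCoannihilator y).1 hyK r hr

end Cfsg.Agent.Lib.Helper49.MinIdx
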