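import Mathlib
import Cfsg.Agent.Lib.Helper99.MinIdx.Defs
import Cfsg.Agent.Lib.Helper49.MinIdxLA1

/-!
# S2140-[TVCONJ] (helper99's project: minimal index of `PSL_n(q)`)

`SL(V)` is transitive on flags `(v, r)`, `r v = 0`, `v ≠ 0`, `r ≠ 0`, when `dim V ≥ 3`
(by hand, with transvections).
-/

set_option autoImplicit false

namespace Cfsg.Agent.Lib.Helper49.MinIdx

open Module Cfsg.Agent.Lib.Helper99.MinIdx

variable {F : Type*} [Field F] {V : Type*} [AddCommGroup V] [Module F V]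

/-- Two non-proportional vectors (`v ≠ 0`) are sent to `1` by a common functional. -/
theorem exists_dual_eq_one_one {v v' : V} (hv : v ≠ 0) (h : ∀ c : F, v' ≠ c • v) :
    ∃ μ : Dual F V, μ v = 1 ∧ μ v' = 1 := by
  have hv1 : v' ∉ Submodule.span F {v} := fun hm => by
    obtain ⟨c, hc⟩ := Submodule.mem_span_singleton.1 hm
    exact h c hc.symm
  have hv2 : v ∉ Submodule.span F {v'} := fun hm => by
    obtain ⟨c, hc⟩ := Submodule.mem_span_singleton.1 hm
    have hc0 : c ≠ 0 := by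
      rintro rfl
      rw [zero_smul] at hc
      exact hv hc.symm
    apply h c⁻¹
    rw [← hc, smul_smul, inv_mul_cancel₀ hc0, one_smul]
  obtain ⟨ψ, hψ, hψ0⟩ := Submodule.exists_dual_map_eq_bot_of_notMem hv1 inferInstance
  obtain ⟨φ, hφ, hφ0⟩ := Submodule.exists_dual_map_eq_bot_of_notMem hv2 inferInstance
  have hψv : ψ v = 0 := by
    have : ψ v ∈ (Submodule.span F {v}).map ψ :=
      Submodule.mem_map_of_mem (Submodule.mem_span_singleton_self v)
    rw [hψ0] at this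
    exact (Submodule.mem_bot F).1 this
  have hφv' : φ v' = 0 := by
    have : φ v' ∈ (Submodule.span F {v'}).map φ :=
      Submodule.mem_map_of_mem (Submodule.mem_span_singleton_self v')
    rw [hφ0] at this
    exact (Submodule.mem_bot F).1 this
  refine ⟨(ψ v')⁻¹ • ψ + (φ v)⁻¹ • φ, ?_, ?_⟩
  · rw [LinearMap.add_apply, LinearMap.smul_apply, LinearMap.smul_apply, hψv, smul_zero, zero_add,
      smul_eq_mul, inv_mul_cancel₀ hφ]
  · rw [LinearMap.add_apply, LinearMap.smul_apply, LinearMap.smul_apply, hφv', smul_zero, add_zero,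
      smul_eq_mul, inv_mul_cancel₀ hψ]

/-- In dimension `≥ 2` some vector is not proportional to `v`. -/
theorem exists_not_smul_vec [FiniteDimensional F V] (hn : 2 ≤ finrank F V) (v : V) :
    ∃ z : V, ∀ c : F, z ≠ c • v := by
  by_contra hcon
  push Not at hcon
  have hle : (⊤ : Submodule F V) ≤ Submodule.span F {v} := by
    intro z _
    obtain ⟨c, hc⟩ := hcon z
    rw [hc]
    exact Submodule.smul_mem _ _ (Submodule.mem_span_singleton_self v)
  have h1 := Submodule.finrank_mono hle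
  rw [finrank_top] at h1
  have h2 : finrank F (Submodule.span F {v}) ≤ 1 := by
    by_cases h0 : v = 0
    · subst h0
      rw [Submodule.span_zero_singleton, finrank_bot]
      exact Nat.zero_le 1
    · rw [finrank_span_singleton h0]
  omega

/-- `SL(V)` is transitive on nonzero vectors (`dim V ≥ 2`). -/
theorem exists_sl_apply_eq [FiniteDimensional F V] (hn : 2 ≤ finrank F V) {v v' : V}
    (hv : v ≠ 0) (hv' : v' ≠ 0) : ∃ g : SpecialLinearGroup F V, g v = v' := by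
  have key : ∀ {u u' : V}, u ≠ 0 → (∀ c : F, u' ≠ c • u) →
      ∃ g : SpecialLinearGroup F V, g u = u' := by
    intro u u' hu hnp
    obtain ⟨μ, hμ1, hμ2⟩ := exists_dual_eq_one_one hu hnp
    have h0 : μ (u' - u) = 0 := by rw [map_sub, hμ1, hμ2, sub_self]
    refine ⟨tv (u' - u) μ, ?_⟩
    rw [tv_apply h0, hμ1, one_smul, add_sub_cancel]
  by_cases hnp : ∀ c : F, v' ≠ c • v
  · exact key hv hnp
  · push Not at hnp
    obtain ⟨c, hc⟩ := hnp
    obtain ⟨z, hz⟩ := exists_not_smul_vec hn v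
    have hz0 : z ≠ 0 := by
      rintro rfl
      exact hz 0 (zero_smul F v).symm
    have hz' : ∀ c' : F, v' ≠ c' • z := by
      intro c' hc'
      have hc'0 : c' ≠ 0 := by
        rintro rfl
        rw [zero_smul] at hc'
        exact hv' hc'
      apply hz (c'⁻¹ * c)
      rw [mul_smul, ← hc, hc', smul_smul, inv_mul_cancel₀ hc'0, one_smul]
    obtain ⟨g₁, hg₁⟩ := key hv hz
    obtain ⟨g₂, hg₂⟩ := key hz0 hz'
    refine ⟨g₂ * g₁, ?_⟩
    change g₂ (g₁ v) = v'
    rw [hg₁, hg₂]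

/-- With `v` fixed, `SL(V)_v` is transitive on the nonzero functionals killing `v` (`dim V ≥ 3`). -/
theorem exists_sl_fix_functional [FiniteDimensional F V] (hn : 3 ≤ finrank F V) {v : V}
    (hv : v ≠ 0) {r r' : Dual F V} (hr : r ≠ 0) (hr' : r' ≠ 0) (h : r v = 0) (h' : r' v = 0) :
    ∃ g : SpecialLinearGroup F V, g v = v ∧ ∀ x, r' (g x) = r x := by
  have key : ∀ {s s' : Dual F V}, s' ≠ 0 → s v = 0 → s' v = 0 → (∀ c : F, s ≠ c • s') →
      ∃ g : SpecialLinearGroup F V, g v = v ∧ ∀ x, s' (g x) = s x := by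
    intro s s' hs' hsv hs'v hnp
    obtain ⟨a, ha', ha⟩ := exists_apply_eq_one_one hs' hnp
    have h0 : (s - s') a = 0 := by rw [LinearMap.sub_apply, ha, ha', sub_self]
    refine ⟨tv a (s - s'), ?_, fun x => ?_⟩
    · rw [tv_apply h0, LinearMap.sub_apply, hsv, hs'v, sub_self, zero_smul, add_zero]
    · rw [tv_apply h0, map_add, map_smul, ha', LinearMap.sub_apply, smul_eq_mul, mul_one]
      ring
  by_cases hnp : ∀ c : F, r ≠ c • r'
  · exact key hr' h h' hnp
  · push Not at hnp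
    obtain ⟨c, hc⟩ := hnp
    obtain ⟨r₂, hr₂v, hr₂⟩ := exists_not_smul hn hv r'
    have hr₂0 : r₂ ≠ 0 := by
      rintro rfl
      exact hr₂ 0 (zero_smul F r').symm
    have hnp' : ∀ c' : F, r ≠ c' • r₂ := by
      intro c' hc'
      have hc'0 : c' ≠ 0 := by
        rintro rfl
        rw [zero_smul] at hc'
        exact hr hc'
      apply hr₂ (c'⁻¹ * c)
      rw [mul_smul, ← hc, hc', smul_smul, inv_mul_cancel₀ hc'0, one_smul]
    obtain ⟨g₁, hg₁v, hg₁⟩ := key hr₂0 h hr₂v hnp'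
    obtain ⟨g₂, hg₂v, hg₂⟩ := key hr' hr₂v h' hr₂
    refine ⟨g₂ * g₁, ?_, fun x => ?_⟩
    · change g₂ (g₁ v) = v
      rw [hg₁v, hg₂v]
    · change r' (g₂ (g₁ x)) = r x
      rw [hg₂, hg₁]

/-- **S2140-[TVCONJ]**. -/
theorem tv_flag_transitive [FiniteDimensional F V] (hn : 3 ≤ finrank F V) {v v' : V}
    {r r' : Dual F V} (hv : v ≠ 0) (hv' : v' ≠ 0) (hr : r ≠ 0) (hr' : r' ≠ 0) (h : r v = 0)
    (h' : r' v' = 0) : ∃ g : SpecialLinearGroup F V, g v = v' ∧ ∀ x, r' (g x) = r x := by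
  have hn2 : 2 ≤ finrank F V := by omega
  obtain ⟨g₁, hg₁⟩ := exists_sl_apply_eq (F := F) hn2 hv hv'
  have hinv : ∀ x, g₁⁻¹ (g₁ x) = x := by
    intro x
    change (g₁⁻¹ * g₁) x = x
    rw [inv_mul_cancel]
    rfl
  have hinv' : ∀ x, g₁ (g₁⁻¹ x) = x := by
    intro x
    change (g₁ * g₁⁻¹) x = x
    rw [mul_inv_cancel]
    rfl
  let r₁ : Dual F V := r.comp ((g₁⁻¹).1 : V →ₗ[F] V)
  have hr₁ : ∀ x, r₁ x = r (g₁⁻¹ x) := fun x => rfl
  have hr₁g : ∀ x, r₁ (g₁ x) = r x := by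
    intro x
    rw [hr₁, hinv]
  have hr₁0 : r₁ ≠ 0 := by
    intro h0
    apply hr
    ext x
    rw [← hr₁g, h0]
    rfl
  have hr₁v : r₁ v' = 0 := by rw [← hg₁, hr₁g, h]
  obtain ⟨g₂, hg₂v, hg₂⟩ := exists_sl_fix_functional hn hv' hr₁0 hr' hr₁v h'
  refine ⟨g₂ * g₁, ?_, fun x => ?_⟩
  · change g₂ (g₁ v) = v'
    rw [hg₁, hg₂v]
  · change r' (g₂ (g₁ x)) = r x
    rw [hg₂, hr₁g]

end Cfsg.Agent.Lib.Helper49.MinIdx
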