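import Mathlib

set_option autoImplicit false

namespace Cfsg.Agent.Lib.Helper49.PFQSing

open Subgroup

/-- conjugation preserves the order -/
theorem orderOf_conj' {G : Type*} [Group G] (x g : G) : orderOf (x * g * x⁻¹) = orderOf g := by
  have := orderOf_injective (MulAut.conj x).toMonoidHom (MulAut.conj x).injective g
  simpa using this

/-- **[QSING]** If a Sylow `q`-subgroup `Q` of `G` lies in `T` and `C_G(y) ≤ T` for all `y ∈ Q#`,
then every `q`-singular element of `G` is conjugate to a `q`-singular element of `T`; hence the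
number of `q`-singular elements of `G` is at most `[G:T]` times that of `T`. -/
theorem card_qsingular_le {G : Type*} [Group G] [Finite G] (q : ℕ) [Fact q.Prime] (T : Subgroup G)
    (Q : Sylow q G) (_hQT : (Q : Subgroup G) ≤ T)
    (hC : ∀ y ∈ (Q : Subgroup G), y ≠ 1 → Subgroup.centralizer ({y} : Set G) ≤ T) :
    Nat.card {g : G // q ∣ orderOf g} ≤ T.index * Nat.card {t : T // q ∣ orderOf (t : G)} := by
  classical
  have hq : q.Prime := Fact.out
  -- the map
  let f : (G ⧸ T) × {t : T // q ∣ orderOf (t : G)} → {g : G // q ∣ orderOf g} := fun ct =>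
    ⟨ct.1.out * (ct.2.1 : G) * (ct.1.out)⁻¹, by rw [orderOf_conj']; exact ct.2.2⟩
  have hsurj : Function.Surjective f := by
    rintro ⟨g, hg⟩
    have hn : orderOf g ≠ 0 := (orderOf_pos g).ne'
    set y₀ := g ^ (orderOf g / q) with hy₀
    have hy₀o : orderOf y₀ = q := orderOf_pow_orderOf_div hn hg
    -- y₀ lies in a Sylow q-subgroup
    have hpg : IsPGroup q (Subgroup.zpowers y₀) := by
      apply IsPGroup.of_card (n := 1)
      rw [Nat.card_zpowers, hy₀o, pow_one]
    obtain ⟨Q', hQ'⟩ := hpg.exists_le_sylow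
    obtain ⟨x, hx⟩ := MulAction.exists_smul_eq G Q Q'
    have hy₀Q' : y₀ ∈ (Q' : Subgroup G) := hQ' (Subgroup.mem_zpowers y₀)
    rw [← hx, Sylow.coe_subgroup_smul, Subgroup.mem_pointwise_smul_iff_inv_smul_mem,
      ← map_inv, MulAut.smul_def, MulAut.conj_apply, inv_inv] at hy₀Q'
    -- y := x⁻¹ y₀ x ∈ Q
    set y := x⁻¹ * y₀ * x with hy
    have hy1 : y ≠ 1 := by
      intro h
      have : orderOf y = 1 := by rw [h, orderOf_one]
      have h2 : orderOf y = q := by
        rw [hy]
        have := orderOf_conj' x⁻¹ y₀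
        rw [inv_inv] at this
        rw [this, hy₀o]
      rw [h2] at this
      exact hq.one_lt.ne' this
    -- g' := x⁻¹ g x centralizes y
    set g' := x⁻¹ * g * x with hg'
    have hcomm : g * y₀ = y₀ * g := by
      rw [hy₀]
      exact (Commute.pow_right (Commute.refl g) _).eq
    have hg'c : g' ∈ Subgroup.centralizer ({y} : Set G) := by
      rw [Subgroup.mem_centralizer_iff]
      intro z hz
      rw [Set.mem_singleton_iff] at hz
      subst hz
      rw [hy, hg']
      calc x⁻¹ * y₀ * x * (x⁻¹ * g * x) = x⁻¹ * (y₀ * g) * x := by group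
        _ = x⁻¹ * (g * y₀) * x := by rw [hcomm]
        _ = x⁻¹ * g * x * (x⁻¹ * y₀ * x) := by group
    have hg'T : g' ∈ T := hC y hy₀Q' hy1 hg'c
    have hg'o : orderOf g' = orderOf g := by
      rw [hg']
      have := orderOf_conj' x⁻¹ g
      rwa [inv_inv] at this
    -- representative of the coset
    set c : G ⧸ T := (x : G ⧸ T) with hc
    have hout : (x⁻¹ * c.out) ∈ T := by
      have : ((c.out : G) : G ⧸ T) = (x : G ⧸ T) := by rw [hc]; exact Quotient.out_eq' _
      exact (QuotientGroup.eq.1 this.symm)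
    set t₀ := x⁻¹ * c.out with ht₀
    have hcout : c.out = x * t₀ := by rw [ht₀]; group
    have hmem : t₀⁻¹ * g' * t₀ ∈ T := T.mul_mem (T.mul_mem (T.inv_mem hout) hg'T) hout
    have hord : q ∣ orderOf (t₀⁻¹ * g' * t₀) := by
      have := orderOf_conj' t₀⁻¹ g'
      rw [inv_inv] at this
      rw [this, hg'o]; exact hg
    refine ⟨(c, ⟨⟨t₀⁻¹ * g' * t₀, hmem⟩, hord⟩), ?_⟩
    apply Subtype.ext
    show c.out * (t₀⁻¹ * g' * t₀) * (c.out)⁻¹ = g
    rw [hcout, hg']
    group
  have := Nat.card_le_card_of_surjective f hsurj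
  rw [Nat.card_prod, ← Subgroup.index_eq_card] at this
  exact this

end Cfsg.Agent.Lib.Helper49.PFQSing
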