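import Mathlib

set_option autoImplicit false

namespace Cfsg.Agent.Lib.Helper49.PFQSing

open Subgroup

variable {G : Type*} [Group G]

/-- partial norm: `pn t k y = y * (t y t⁻¹) * ... * (t^(k-1) y t^-(k-1))` -/
def pn (t : G) : ℕ → G → G
  | 0, _ => 1
  | (k + 1), y => pn t k y * (t ^ k * y * (t ^ k)⁻¹)

theorem pn_zero (t y : G) : pn t 0 y = 1 := rfl

theorem pn_succ (t : G) (k : ℕ) (y : G) : pn t (k + 1) y = pn t k y * (t ^ k * y * (t ^ k)⁻¹) := rfl

/-- `(y t)^k = pn t k y * t^k` -/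
theorem mul_pow_eq_pn (t y : G) (k : ℕ) : (y * t) ^ k = pn t k y * t ^ k := by
  induction k with
  | zero => simp [pn_zero]
  | succ k ih =>
    rw [pow_succ, ih, pn_succ, pow_succ]
    group

theorem conj_pow_mem {Q : Subgroup G} [Q.Normal] (t : G) (k : ℕ) {y : G} (hy : y ∈ Q) :
    t ^ k * y * (t ^ k)⁻¹ ∈ Q := Subgroup.Normal.conj_mem inferInstance y hy (t ^ k)

theorem pn_mem {Q : Subgroup G} [Q.Normal] (t : G) (k : ℕ) {y : G} (hy : y ∈ Q) :
    pn t k y ∈ Q := by
  induction k with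
  | zero => rw [pn_zero]; exact Q.one_mem
  | succ k ih => rw [pn_succ]; exact Q.mul_mem ih (conj_pow_mem t k hy)

theorem pn_mul {Q : Subgroup G} [Q.Normal] (hQc : ∀ a ∈ Q, ∀ b ∈ Q, a * b = b * a) (t : G)
    (k : ℕ) {y z : G} (hy : y ∈ Q) (hz : z ∈ Q) : pn t k (y * z) = pn t k y * pn t k z := by
  induction k with
  | zero => simp [pn_zero]
  | succ k ih =>
    rw [pn_succ, pn_succ, pn_succ, ih]
    have h1 : t ^ k * (y * z) * (t ^ k)⁻¹ = (t ^ k * y * (t ^ k)⁻¹) * (t ^ k * z * (t ^ k)⁻¹) := by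
      group
    rw [h1]
    have hA := pn_mem (Q := Q) t k hy
    have hB := pn_mem (Q := Q) t k hz
    have hC := conj_pow_mem (Q := Q) t k hy
    have hD := conj_pow_mem (Q := Q) t k hz
    -- A * B * (C * D) = A * C * (B * D)
    calc pn t k y * pn t k z * (t ^ k * y * (t ^ k)⁻¹ * (t ^ k * z * (t ^ k)⁻¹))
        = pn t k y * (pn t k z * (t ^ k * y * (t ^ k)⁻¹)) * (t ^ k * z * (t ^ k)⁻¹) := by
          simp only [mul_assoc]
      _ = pn t k y * ((t ^ k * y * (t ^ k)⁻¹) * pn t k z) * (t ^ k * z * (t ^ k)⁻¹) := by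
          rw [hQc _ hB _ hC]
      _ = pn t k y * (t ^ k * y * (t ^ k)⁻¹) * (pn t k z * (t ^ k * z * (t ^ k)⁻¹)) := by
          simp only [mul_assoc]

/-- on the centralizer of `t` the partial norm is the `k`-th power -/
theorem pn_of_comm (t : G) (k : ℕ) {y : G} (hy : t * y = y * t) : pn t k y = y ^ k := by
  induction k with
  | zero => simp [pn_zero]
  | succ k ih =>
    rw [pn_succ, ih, pow_succ]
    have : t ^ k * y * (t ^ k)⁻¹ = y := by
      have hc : Commute (t ^ k) y := (Commute.pow_left (show Commute t y from hy) k)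
      rw [hc.eq, mul_inv_cancel_right]
    rw [this]

/-- the full norm is fixed by `t` -/
theorem pn_orderOf_comm {Q : Subgroup G} [Q.Normal] (hQc : ∀ a ∈ Q, ∀ b ∈ Q, a * b = b * a)
    (t : G) {y : G} (hy : y ∈ Q) {n : ℕ} (hn : t ^ n = 1) :
    t * pn t n y = pn t n y * t := by
  -- t * pn k y * t⁻¹ = y⁻¹ * pn k y * (t^k y t^-k)
  have key : ∀ k : ℕ, t * pn t k y * t⁻¹ = y⁻¹ * pn t k y * (t ^ k * y * (t ^ k)⁻¹) := by
    intro k
    induction k with
    | zero => simp [pn_zero]
    | succ k ih =>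
      rw [pn_succ]
      have h1 : t * (pn t k y * (t ^ k * y * (t ^ k)⁻¹)) * t⁻¹
          = (t * pn t k y * t⁻¹) * (t ^ (k + 1) * y * (t ^ (k + 1))⁻¹) := by
        rw [pow_succ']; group
      rw [h1, ih]
      simp only [mul_assoc]
  have h := key n
  rw [hn] at h
  simp only [one_mul, inv_one, mul_one] at h
  -- y⁻¹ * pn * y = pn
  have hP := pn_mem (Q := Q) t n hy
  have : y⁻¹ * pn t n y * y = pn t n y := by
    rw [mul_assoc, hQc _ hP _ hy, ← mul_assoc, inv_mul_cancel, one_mul]
  rw [this] at h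
  calc t * pn t n y = t * pn t n y * t⁻¹ * t := by group
    _ = pn t n y * t := by rw [h]


/-- elements of a `q`-group of order prime to `q` are trivial -/
theorem eq_one_of_not_dvd_orderOf {Q : Subgroup G} {q : ℕ} [Fact q.Prime] (hQ : IsPGroup q Q)
    {z : G} (hz : z ∈ Q) (h : ¬ q ∣ orderOf z) : z = 1 := by
  obtain ⟨k, hk⟩ := hQ ⟨z, hz⟩
  have hk' : z ^ q ^ k = 1 := by
    have := congrArg Subtype.val hk
    simpa using this
  have hd : orderOf z ∣ q ^ k := orderOf_dvd_of_pow_eq_one hk'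
  obtain ⟨j, _, hj⟩ := (Nat.dvd_prime_pow (Fact.out : q.Prime)).1 hd
  rcases Nat.eq_zero_or_pos j with h0 | hpos
  · rw [h0, pow_zero] at hj
    exact orderOf_eq_one_iff.1 hj
  · exfalso; apply h; rw [hj]; exact dvd_pow_self q hpos.ne'

/-- the norm homomorphism `Q → Q` attached to `t` -/
def normHom {Q : Subgroup G} [Q.Normal] (hQc : ∀ a ∈ Q, ∀ b ∈ Q, a * b = b * a) (t : G) (n : ℕ) :
    Q →* Q where
  toFun y := ⟨pn t n y, pn_mem t n y.2⟩
  map_one' := by
    apply Subtype.ext
    show pn t n ((1 : Q) : G) = ((1 : Q) : G)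
    rw [Subgroup.coe_one, pn_of_comm t n (by simp), one_pow]
  map_mul' y z := by
    apply Subtype.ext
    show pn t n ((y * z : Q) : G) = pn t n y * pn t n z
    rw [Subgroup.coe_mul, pn_mul hQc t n y.2 z.2]

theorem normHom_apply {Q : Subgroup G} [Q.Normal] (hQc : ∀ a ∈ Q, ∀ b ∈ Q, a * b = b * a) (t : G)
    (n : ℕ) (y : Q) : ((normHom hQc t n y : Q) : G) = pn t n y := rfl

/-- **[COSET]** In the coset `Q t` of a `q`-regular element `t` (with `Q` an abelian normal
`q`-subgroup) exactly `|Q : C_Q(t)|` elements are `q`-regular. -/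
theorem card_regular_coset_mul [Finite G] {Q : Subgroup G} [Q.Normal] (q : ℕ) [Fact q.Prime]
    (hQ : IsPGroup q Q) (hQc : ∀ a ∈ Q, ∀ b ∈ Q, a * b = b * a) (t : G) (ht : ¬ q ∣ orderOf t) :
    Nat.card {y : Q // ¬ q ∣ orderOf ((y : G) * t)}
        * Nat.card (Q ⊓ Subgroup.centralizer ({t} : Set G) : Subgroup G) = Nat.card Q := by
  classical
  set n := orderOf t with hn
  have htn : t ^ n = 1 := pow_orderOf_eq_one t
  set N := normHom hQc t n with hN
  -- kernel
  have hker : ∀ y : Q, y ∈ N.ker ↔ ¬ q ∣ orderOf ((y : G) * t) := by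
    intro y
    rw [MonoidHom.mem_ker]
    have hpow : ((y : G) * t) ^ n = pn t n y := by rw [mul_pow_eq_pn, htn, mul_one]
    constructor
    · intro h
      have h1 : pn t n (y : G) = 1 := by
        have := congrArg Subtype.val h
        simpa [hN, normHom_apply] using this
      rw [h1] at hpow
      intro hq
      exact ht (hq.trans (orderOf_dvd_of_pow_eq_one hpow))
    · intro h
      apply Subtype.ext
      show pn t n (y : G) = 1
      apply eq_one_of_not_dvd_orderOf hQ (pn_mem t n y.2)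
      intro hq
      apply h
      rw [← hpow] at hq
      exact hq.trans (orderOf_pow_dvd n)
  -- range
  have hrange : N.range = (Q ⊓ Subgroup.centralizer ({t} : Set G)).subgroupOf Q := by
    ext z
    rw [MonoidHom.mem_range, Subgroup.mem_subgroupOf, Subgroup.mem_inf,
      Subgroup.mem_centralizer_iff]
    constructor
    · rintro ⟨y, rfl⟩
      refine ⟨(N y).2, ?_⟩
      intro x hx
      rw [Set.mem_singleton_iff] at hx
      subst hx
      exact pn_orderOf_comm hQc x y.2 htn
    · rintro ⟨hzQ, hzc⟩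
      have hzt : t * (z : G) = (z : G) * t := hzc t (Set.mem_singleton t)
      -- the power map on C = Q ⊓ C(t) is injective hence surjective
      let C : Subgroup G := Q ⊓ Subgroup.centralizer ({t} : Set G)
      let pw : C → C := fun c => ⟨(c : G) ^ n, C.pow_mem c.2 n⟩
      have hinj : Function.Injective pw := by
        intro c₁ c₂ h
        have h' : (c₁ : G) ^ n = (c₂ : G) ^ n := congrArg Subtype.val h
        have hcomm : Commute (c₁ : G) ((c₂ : G)⁻¹) :=
          hQc _ (Subgroup.mem_inf.1 c₁.2).1 _ (Q.inv_mem (Subgroup.mem_inf.1 c₂.2).1)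
        have h1 : ((c₁ : G) * (c₂ : G)⁻¹) ^ n = 1 := by
          rw [hcomm.mul_pow, h', inv_pow, mul_inv_cancel]
        have hmem : (c₁ : G) * (c₂ : G)⁻¹ ∈ Q := Q.mul_mem (Subgroup.mem_inf.1 c₁.2).1 (Q.inv_mem (Subgroup.mem_inf.1 c₂.2).1)
        have : (c₁ : G) * (c₂ : G)⁻¹ = 1 := by
          apply eq_one_of_not_dvd_orderOf hQ hmem
          intro hq
          exact ht (hq.trans (orderOf_dvd_of_pow_eq_one h1))
        apply Subtype.ext
        exact mul_inv_eq_one.1 this
      have hsurj : Function.Surjective pw := Finite.injective_iff_surjective.1 hinj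
      have hzC : (z : G) ∈ C := by
        refine Subgroup.mem_inf.2 ⟨hzQ, ?_⟩
        rw [Subgroup.mem_centralizer_iff]; intro x hx
        rw [Set.mem_singleton_iff] at hx; subst hx; exact hzt
      obtain ⟨c, hc⟩ := hsurj ⟨(z : G), hzC⟩
      have hc' : (c : G) ^ n = (z : G) := congrArg Subtype.val hc
      have hct : t * (c : G) = (c : G) * t := by
        have := (Subgroup.mem_inf.1 c.2).2
        rw [Subgroup.mem_centralizer_iff] at this
        exact this t (Set.mem_singleton t)
      refine ⟨⟨(c : G), (Subgroup.mem_inf.1 c.2).1⟩, ?_⟩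
      apply Subtype.ext
      show pn t n (c : G) = (z : G)
      rw [pn_of_comm t n hct, hc']
  have h1 : N.ker.index * Nat.card N.ker = Nat.card Q := Subgroup.index_mul_card N.ker
  rw [Subgroup.index_ker, hrange] at h1
  have h2 : Nat.card ((Q ⊓ Subgroup.centralizer ({t} : Set G)).subgroupOf Q)
      = Nat.card (Q ⊓ Subgroup.centralizer ({t} : Set G) : Subgroup G) :=
    Nat.card_congr (Subgroup.subgroupOfEquivOfLe inf_le_left).toEquiv
  have h3 : Nat.card N.ker = Nat.card {y : Q // ¬ q ∣ orderOf ((y : G) * t)} :=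
    Nat.card_congr (Equiv.subtypeEquivRight hker)
  rw [h2, h3, mul_comm] at h1
  exact h1


/-- for `y ∈ Q` abelian, `C_Q(y t) = C_Q(t)` -/
theorem inf_centralizer_mul_eq {Q : Subgroup G} (hQc : ∀ a ∈ Q, ∀ b ∈ Q, a * b = b * a) {y : G}
    (hy : y ∈ Q) (t : G) :
    Q ⊓ Subgroup.centralizer ({y * t} : Set G) = Q ⊓ Subgroup.centralizer ({t} : Set G) := by
  ext z
  simp only [Subgroup.mem_inf, Subgroup.mem_centralizer_iff, Set.mem_singleton_iff, forall_eq]
  constructor
  · rintro ⟨hz, h⟩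
    refine ⟨hz, ?_⟩
    have h1 : y * (t * z) = y * (z * t) := by
      calc y * (t * z) = y * t * z := by group
        _ = z * (y * t) := h
        _ = (z * y) * t := by group
        _ = (y * z) * t := by rw [hQc z hz y hy]
        _ = y * (z * t) := by group
    exact mul_left_cancel h1
  · rintro ⟨hz, h⟩
    refine ⟨hz, ?_⟩
    calc y * t * z = y * (t * z) := by group
      _ = y * (z * t) := by rw [h]
      _ = (y * z) * t := by group
      _ = (z * y) * t := by rw [hQc y hy z hz]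
      _ = z * (y * t) := by group

/-- every coset of a normal Sylow `q`-subgroup contains a `q`-regular element -/
theorem exists_regular_in_coset [Finite G] {Q : Subgroup G} [Q.Normal] (q : ℕ) [Fact q.Prime]
    (hQ : IsPGroup q Q) (hidx : ¬ q ∣ Q.index) (t : G) :
    ∃ y ∈ Q, ¬ q ∣ orderOf (y * t) := by
  have hq : q.Prime := Fact.out
  obtain ⟨s, hs⟩ := IsPGroup.iff_card.1 hQ
  set e := Nat.card Q with he
  set m := Q.index with hm
  have hcop : Nat.Coprime e m := by
    rw [hs]
    exact Nat.Coprime.pow_left s ((Nat.Prime.coprime_iff_not_dvd hq).2 hidx)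
  have hm1 : 0 < m := Nat.pos_of_ne_zero (Subgroup.index_ne_zero_of_finite)
  -- j with e * j ≡ 1 mod m
  obtain ⟨j, hj⟩ : ∃ j : ℕ, (e * j) % m = 1 % m := by
    obtain ⟨j, -, hj⟩ := Nat.exists_mul_mod_eq_of_coprime 1 hcop hm1.ne'
    exact ⟨j, hj⟩
  -- t^(e j) is in the coset of t
  have hcoset : ((t ^ (e * j) : G) : G ⧸ Q) = (t : G ⧸ Q) := by
    have hcard : Nat.card (G ⧸ Q) = m := (Subgroup.index_eq_card Q).symm
    have hpow : ((t : G ⧸ Q)) ^ m = 1 := by
      rw [← hcard]; exact pow_card_eq_one'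
    have h1 : ((t : G ⧸ Q)) ^ (e * j) = ((t : G ⧸ Q)) ^ 1 := by
      rw [← Nat.mod_add_div (e * j) m, pow_add, pow_mul, hpow, one_pow, mul_one, hj]
      rw [← Nat.mod_add_div 1 m, pow_add, pow_mul, hpow, one_pow, mul_one]
      simp
    rw [QuotientGroup.mk_pow, h1, pow_one]
  refine ⟨t ^ (e * j) * t⁻¹, ?_, ?_⟩
  · have := QuotientGroup.eq.1 hcoset.symm
    -- t⁻¹ * t^(ej) ∈ Q, conjugate
    have h2 : t * (t⁻¹ * t ^ (e * j)) * t⁻¹ ∈ Q := Subgroup.Normal.conj_mem inferInstance _ this t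
    have h3 : t * (t⁻¹ * t ^ (e * j)) * t⁻¹ = t ^ (e * j) * t⁻¹ := by group
    rwa [h3] at h2
  · rw [inv_mul_cancel_right]
    intro hdvd
    -- (t^(e j))^m = 1
    have h1 : (t ^ (e * j)) ^ m = 1 := by
      have : e * m = Nat.card G := by rw [he, hm, mul_comm]; exact Subgroup.index_mul_card Q
      rw [← pow_mul, mul_right_comm, this, pow_mul, pow_card_eq_one', one_pow]
    exact hidx (hdvd.trans (orderOf_dvd_of_pow_eq_one h1))

/-- **[FIBER]** the `q`-regular elements in the coset of a `q`-regular `t₀` -/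
theorem card_regular_fiber [Finite G] {Q : Subgroup G} [Q.Normal] (q : ℕ) [Fact q.Prime]
    (hQ : IsPGroup q Q) (hQc : ∀ a ∈ Q, ∀ b ∈ Q, a * b = b * a) (t₀ : G)
    (ht₀ : ¬ q ∣ orderOf t₀) :
    Nat.card {t : G // (t : G ⧸ Q) = (t₀ : G ⧸ Q) ∧ ¬ q ∣ orderOf t}
        * Nat.card (Q ⊓ Subgroup.centralizer ({t₀} : Set G) : Subgroup G) = Nat.card Q := by
  rw [← card_regular_coset_mul q hQ hQc t₀ ht₀]
  congr 1
  apply Nat.card_congr
  refine
    { toFun := fun t => ⟨⟨(t : G) * t₀⁻¹, ?_⟩, ?_⟩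
      invFun := fun y => ⟨(y : G) * t₀, ?_, y.2⟩
      left_inv := ?_
      right_inv := ?_ }
  · have := QuotientGroup.eq.1 t.2.1.symm
    have h2 : t₀ * (t₀⁻¹ * (t : G)) * t₀⁻¹ ∈ Q := Subgroup.Normal.conj_mem inferInstance _ this t₀
    have h3 : t₀ * (t₀⁻¹ * (t : G)) * t₀⁻¹ = (t : G) * t₀⁻¹ := by group
    rwa [h3] at h2
  · show ¬ q ∣ orderOf ((t : G) * t₀⁻¹ * t₀)
    rw [inv_mul_cancel_right]; exact t.2.2
  · apply QuotientGroup.eq.2
    have h2 : t₀⁻¹ * ((y : Q) : G)⁻¹ * t₀⁻¹⁻¹ ∈ Q :=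
      Subgroup.Normal.conj_mem inferInstance _ (Q.inv_mem y.1.2) t₀⁻¹
    have h3 : t₀⁻¹ * ((y : Q) : G)⁻¹ * t₀⁻¹⁻¹ = (((y : Q) : G) * t₀)⁻¹ * t₀ := by group
    rwa [h3] at h2
  · intro t
    apply Subtype.ext
    show (t : G) * t₀⁻¹ * t₀ = t
    rw [inv_mul_cancel_right]
  · intro y
    apply Subtype.ext
    apply Subtype.ext
    show ((y : Q) : G) * t₀ * t₀⁻¹ = y
    rw [mul_inv_cancel_right]


/-- size of a coset as a fibre of the quotient map -/
theorem card_fiber_mk [Finite G] {Q : Subgroup G} [Q.Normal] (t₀ : G) :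
    Nat.card {t : G // (t : G ⧸ Q) = (t₀ : G ⧸ Q)} = Nat.card Q := by
  apply Nat.card_congr
  refine
    { toFun := fun t => ⟨t₀⁻¹ * (t : G), QuotientGroup.eq.1 t.2.symm⟩
      invFun := fun y => ⟨t₀ * (y : G), ?_⟩
      left_inv := ?_
      right_inv := ?_ }
  · apply QuotientGroup.eq.2
    have : (t₀ * (y : G))⁻¹ * t₀ = ((y : G))⁻¹ := by group
    rw [this]; exact Q.inv_mem y.2
  · intro t; apply Subtype.ext; show t₀ * (t₀⁻¹ * (t : G)) = t; group
  · intro y; apply Subtype.ext; show t₀⁻¹ * (t₀ * (y : G)) = y; group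

/-- **[TCOUNT]** `Q ≤ N ≤ G`, `Q` an abelian normal Sylow `q`-subgroup, and every `q`-regular
element outside `N` has exactly `q` fixed points on `Q`: then the `q`-regular elements outside `N`
are exactly a `q`-th of `G - N`. -/
theorem card_regular_outside [Finite G] {Q N : Subgroup G} [Q.Normal] (hQN : Q ≤ N) (q : ℕ)
    [Fact q.Prime] (hQ : IsPGroup q Q) (hQc : ∀ a ∈ Q, ∀ b ∈ Q, a * b = b * a)
    (hidx : ¬ q ∣ Q.index)
    (h2 : ∀ t : G, t ∉ N → ¬ q ∣ orderOf t →
      Nat.card (Q ⊓ Subgroup.centralizer ({t} : Set G) : Subgroup G) = q) :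
    q * Nat.card {t : G // t ∉ N ∧ ¬ q ∣ orderOf t} + Nat.card N = Nat.card G := by
  classical
  have : Fintype G := Fintype.ofFinite G
  have : Fintype (G ⧸ Q) := Fintype.ofFinite _
  -- membership in N only depends on the coset
  have hcosetN : ∀ t t' : G, (t : G ⧸ Q) = (t' : G ⧸ Q) → (t ∈ N ↔ t' ∈ N) := by
    intro t t' h
    have h1 : t⁻¹ * t' ∈ N := hQN (QuotientGroup.eq.1 h)
    constructor
    · intro ht
      have : t * (t⁻¹ * t') ∈ N := N.mul_mem ht h1
      simpa using this
    · intro ht'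
      have : t' * (t⁻¹ * t')⁻¹ ∈ N := N.mul_mem ht' (N.inv_mem h1)
      simpa using this
  -- fibrewise identity
  have hfib : ∀ c : G ⧸ Q,
      (Finset.univ.filter (fun t : G => t ∉ N ∧ (t : G ⧸ Q) = c)).card
        = q * (Finset.univ.filter
            (fun t : G => (t ∉ N ∧ ¬ q ∣ orderOf t) ∧ (t : G ⧸ Q) = c)).card := by
    intro c
    obtain ⟨x, rfl⟩ := QuotientGroup.mk_surjective c
    by_cases hx : x ∈ N
    · have e1 : (Finset.univ.filter (fun t : G => t ∉ N ∧ (t : G ⧸ Q) = (x : G ⧸ Q))) = ∅ := by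
        apply Finset.filter_eq_empty_iff.2
        intro t _ h
        exact h.1 ((hcosetN t x h.2).2 hx)
      have e2 : (Finset.univ.filter
          (fun t : G => (t ∉ N ∧ ¬ q ∣ orderOf t) ∧ (t : G ⧸ Q) = (x : G ⧸ Q))) = ∅ := by
        apply Finset.filter_eq_empty_iff.2
        intro t _ h
        exact h.1.1 ((hcosetN t x h.2).2 hx)
      rw [e1, e2]; simp
    · -- a regular representative
      obtain ⟨y, hy, hreg⟩ := exists_regular_in_coset q hQ hidx x
      set t₀ := y * x with ht₀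
      have hmk : (t₀ : G ⧸ Q) = (x : G ⧸ Q) := by
        apply QuotientGroup.eq.2
        have h2' : x⁻¹ * y⁻¹ * x⁻¹⁻¹ ∈ Q :=
          Subgroup.Normal.conj_mem inferInstance _ (Q.inv_mem hy) x⁻¹
        have h3 : x⁻¹ * y⁻¹ * x⁻¹⁻¹ = (y * x)⁻¹ * x := by group
        rwa [h3] at h2'
      have ht₀N : t₀ ∉ N := fun h => hx ((hcosetN t₀ x hmk).1 h)
      have hC := h2 t₀ ht₀N hreg
      have hF := card_regular_fiber q hQ hQc t₀ hreg
      rw [hC] at hF
      have hA : (Finset.univ.filter (fun t : G => t ∉ N ∧ (t : G ⧸ Q) = (x : G ⧸ Q))).card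
          = Nat.card Q := by
        rw [← card_fiber_mk (Q := Q) x, Nat.card_eq_fintype_card, Fintype.card_subtype]
        congr 1
        ext t
        simp only [Finset.mem_filter, Finset.mem_univ, true_and]
        constructor
        · intro h; exact h.2
        · intro h; exact ⟨fun hN => hx ((hcosetN t x h).1 hN), h⟩
      have hB : (Finset.univ.filter
          (fun t : G => (t ∉ N ∧ ¬ q ∣ orderOf t) ∧ (t : G ⧸ Q) = (x : G ⧸ Q))).card
          = Nat.card {t : G // (t : G ⧸ Q) = (t₀ : G ⧸ Q) ∧ ¬ q ∣ orderOf t} := by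
        rw [Nat.card_eq_fintype_card, Fintype.card_subtype]
        congr 1
        ext t
        simp only [Finset.mem_filter, Finset.mem_univ, true_and]
        rw [hmk]
        constructor
        · intro h; exact ⟨h.2, h.1.2⟩
        · intro h; exact ⟨⟨fun hN => hx ((hcosetN t x h.1).1 hN), h.2⟩, h.1⟩
      rw [hA, hB, ← hF, mul_comm]
  -- sum over the cosets
  have hsum1 : (Finset.univ.filter (fun t : G => t ∉ N)).card
      = ∑ c : G ⧸ Q, (Finset.univ.filter (fun t : G => t ∉ N ∧ (t : G ⧸ Q) = c)).card := by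
    rw [Finset.card_eq_sum_card_fiberwise (f := fun t : G => (t : G ⧸ Q)) (t := Finset.univ)
      (fun _ _ => Finset.mem_univ _)]
    apply Finset.sum_congr rfl
    intro c _
    rw [Finset.filter_filter]
  have hsum2 : (Finset.univ.filter (fun t : G => t ∉ N ∧ ¬ q ∣ orderOf t)).card
      = ∑ c : G ⧸ Q, (Finset.univ.filter
          (fun t : G => (t ∉ N ∧ ¬ q ∣ orderOf t) ∧ (t : G ⧸ Q) = c)).card := by
    rw [Finset.card_eq_sum_card_fiberwise (f := fun t : G => (t : G ⧸ Q)) (t := Finset.univ)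
      (fun _ _ => Finset.mem_univ _)]
    apply Finset.sum_congr rfl
    intro c _
    rw [Finset.filter_filter]
  have hmain : (Finset.univ.filter (fun t : G => t ∉ N)).card
      = q * (Finset.univ.filter (fun t : G => t ∉ N ∧ ¬ q ∣ orderOf t)).card := by
    rw [hsum1, hsum2, Finset.mul_sum]
    exact Finset.sum_congr rfl (fun c _ => hfib c)
  have hcompl : (Finset.univ.filter (fun t : G => t ∉ N)).card + Nat.card N = Nat.card G := by
    rw [Nat.card_eq_fintype_card (α := G), Nat.card_eq_fintype_card (α := N),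
      Fintype.card_subtype, ← Finset.card_univ (α := G)]
    rw [add_comm]
    exact Finset.card_filter_add_card_filter_not (s := Finset.univ) (fun t : G => t ∈ N)
  rw [← hcompl, hmain]
  congr 2
  rw [Nat.card_eq_fintype_card, Fintype.card_subtype]


/-- in a `q`-group the `q`-singular elements are the non-identity elements -/
theorem dvd_orderOf_iff_ne_one {Q : Subgroup G} {q : ℕ} [Fact q.Prime] (hQ : IsPGroup q Q)
    {z : G} (hz : z ∈ Q) : q ∣ orderOf z ↔ z ≠ 1 := by
  constructor
  · intro h h1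
    rw [h1, orderOf_one] at h
    exact (Fact.out : q.Prime).one_lt.ne' (Nat.dvd_one.1 h)
  · intro h
    by_contra hnd
    exact h (eq_one_of_not_dvd_orderOf hQ hz hnd)

/-- **[TCOUNT, final form]** the number of `q`-singular elements in the extremal situation:
`Q ≤ N ≤ G`, `Q` abelian normal Sylow `q`-subgroup, all elements of `N - Q` are `q`-regular, every
`q`-regular element outside `N` has `q` fixed points on `Q`. Additive form of
`q * #sing = q (|Q| - 1) + (q - 1) (|G| - |N|)`. -/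
theorem card_qsingular_extremal [Finite G] {Q N : Subgroup G} [Q.Normal] (hQN : Q ≤ N) (q : ℕ)
    [Fact q.Prime] (hQ : IsPGroup q Q) (hQc : ∀ a ∈ Q, ∀ b ∈ Q, a * b = b * a)
    (hidx : ¬ q ∣ Q.index)
    (h1 : ∀ t : G, t ∈ N → t ∉ Q → ¬ q ∣ orderOf t)
    (h2 : ∀ t : G, t ∉ N → ¬ q ∣ orderOf t →
      Nat.card (Q ⊓ Subgroup.centralizer ({t} : Set G) : Subgroup G) = q) :
    q * Nat.card {t : G // q ∣ orderOf t} + q + Nat.card G + (q - 1) * Nat.card N
      = q * Nat.card Q + q * Nat.card G := by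
  classical
  have : Fintype G := Fintype.ofFinite G
  have hq : q.Prime := Fact.out
  have hout := card_regular_outside hQN q hQ hQc hidx h2
  -- counts as finset cards
  set sing := (Finset.univ.filter (fun t : G => q ∣ orderOf t)).card with hsing
  set singN := (Finset.univ.filter (fun t : G => t ∈ N ∧ q ∣ orderOf t)).card with hsingN
  set singO := (Finset.univ.filter (fun t : G => t ∉ N ∧ q ∣ orderOf t)).card with hsingO
  set regO := (Finset.univ.filter (fun t : G => t ∉ N ∧ ¬ q ∣ orderOf t)).card with hregO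
  set outN := (Finset.univ.filter (fun t : G => t ∉ N)).card with houtN
  have e1 : sing = singN + singO := by
    rw [hsing, hsingN, hsingO]
    rw [← Finset.card_filter_add_card_filter_not (s := Finset.univ.filter (fun t : G => q ∣ orderOf t))
      (fun t : G => t ∈ N)]
    congr 1
    · congr 1; ext t; simp [and_comm]
    · congr 1; ext t; simp [and_comm]
  have e2 : outN = singO + regO := by
    rw [houtN, hsingO, hregO]
    rw [← Finset.card_filter_add_card_filter_not (s := Finset.univ.filter (fun t : G => t ∉ N))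
      (fun t : G => q ∣ orderOf t)]
    congr 1
    · congr 1; ext t; simp
    · congr 1; ext t; simp
  have e3 : outN + Nat.card N = Nat.card G := by
    rw [Nat.card_eq_fintype_card (α := G), Nat.card_eq_fintype_card (α := N),
      Fintype.card_subtype, ← Finset.card_univ (α := G), houtN, add_comm]
    exact Finset.card_filter_add_card_filter_not (s := Finset.univ) (fun t : G => t ∈ N)
  have e4 : singN + 1 = Nat.card Q := by
    rw [Nat.card_eq_fintype_card (α := Q), Fintype.card_subtype, hsingN]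
    have hsub : (Finset.univ.filter (fun t : G => t ∈ N ∧ q ∣ orderOf t))
        = (Finset.univ.filter (fun t : G => t ∈ Q)).erase 1 := by
      ext t
      simp only [Finset.mem_filter, Finset.mem_univ, true_and, Finset.mem_erase]
      constructor
      · rintro ⟨htN, hd⟩
        have htQ : t ∈ Q := by
          by_contra hnQ
          exact h1 t htN hnQ hd
        exact ⟨(dvd_orderOf_iff_ne_one hQ htQ).1 hd, htQ⟩
      · rintro ⟨hne, htQ⟩
        exact ⟨hQN htQ, (dvd_orderOf_iff_ne_one hQ htQ).2 hne⟩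
    rw [hsub, Finset.card_erase_of_mem (by simp [Q.one_mem])]
    have hpos : 0 < (Finset.univ.filter (fun t : G => t ∈ Q)).card :=
      Finset.card_pos.2 ⟨1, by simp [Q.one_mem]⟩
    omega
  have e5 : q * regO + Nat.card N = Nat.card G := by
    have hr : Nat.card {t : G // t ∉ N ∧ ¬ q ∣ orderOf t} = regO := by
      rw [Nat.card_eq_fintype_card, Fintype.card_subtype]
    rw [← hr]; exact hout
  have e6 : Nat.card {t : G // q ∣ orderOf t} = sing := by
    rw [Nat.card_eq_fintype_card, Fintype.card_subtype]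
  rw [e6, e1]
  -- arithmetic
  have hq1 : 1 ≤ q := hq.one_lt.le
  obtain ⟨q', rfl⟩ : ∃ q', q = q' + 1 := ⟨q - 1, by omega⟩
  simp only [Nat.add_sub_cancel]
  -- unknowns: singN, singO, regO, outN, |N|, |G|, |Q|
  have : outN = singO + regO := e2
  nlinarith [e3, e4, e5, e2]

end Cfsg.Agent.Lib.Helper49.PFQSing
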