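import Mathlib

set_option autoImplicit false

namespace Cfsg.Agent.Lib.Helper49.S1906

open Subgroup MulAction

/-- A finite `2`-group acts on a finite set, `f` is invariant with values of order at most 2:
the product of `f` over the set equals the product over the fixed points. -/
theorem prod_eq_prod_fixedPoints {P X A : Type*} [Group P] [MulAction P X] [Fintype X]
    [CommMonoid A] (hP : IsPGroup 2 P) (f : X → A) (hinv : ∀ (x : P) (c : X), f (x • c) = f c)
    (hsq : ∀ c, f c * f c = 1) [DecidablePred (· ∈ fixedPoints P X)] :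
    ∏ c, f c = ∏ c ∈ Finset.univ.filter (· ∈ fixedPoints P X), f c := by
  classical
  rw [← Finset.prod_filter_mul_prod_filter_not Finset.univ (· ∈ fixedPoints P X)]
  suffices h : ∏ c ∈ Finset.univ.filter (fun c => ¬ c ∈ fixedPoints P X), f c = 1 by
    rw [h, mul_one]
  rw [Finset.prod_comp (fun a => a) f]
  apply Finset.prod_eq_one
  intro a ha
  obtain ⟨c₀, -, rfl⟩ := Finset.mem_image.1 ha
  -- the exponent is even
  have heven : Even ((Finset.univ.filter (fun c => ¬ c ∈ fixedPoints P X)).filter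
      (fun c => f c = f c₀)).card := by
    let S : SubMulAction P X :=
      { carrier := {c | c ∉ fixedPoints P X ∧ f c = f c₀}
        smul_mem' := by
          rintro x c ⟨hc1, hc2⟩
          refine ⟨?_, by rw [hinv]; exact hc2⟩
          intro hfix
          apply hc1
          have h1 : x⁻¹ • (x • c) = x • c := hfix x⁻¹
          rw [inv_smul_smul] at h1
          rw [h1]; exact hfix }
    have hmod := hP.card_modEq_card_fixedPoints (p := 2) (α := S)
    have hempty : IsEmpty (fixedPoints P S) := by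
      constructor
      rintro ⟨⟨c, hc1, hc2⟩, hfix⟩
      apply hc1
      intro x
      have := hfix x
      exact congrArg Subtype.val this
    have h0 : Nat.card (fixedPoints P S) = 0 := Nat.card_of_isEmpty
    rw [h0] at hmod
    have hcard : Nat.card S = ((Finset.univ.filter (fun c => ¬ c ∈ fixedPoints P X)).filter
        (fun c => f c = f c₀)).card := by
      rw [Finset.filter_filter, ← Fintype.card_subtype, ← Nat.card_eq_fintype_card]
      rfl
    rw [← hcard]
    exact Nat.even_iff.2 hmod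
  obtain ⟨m, hm⟩ := heven
  rw [hm, ← two_mul, pow_mul, pow_two, hsq, one_pow]


/-- auxiliary form of **[T1]** for a `2`-subgroup of odd index -/
theorem transfer_central_involution_aux {G : Type*} [Group G] [Finite G] (PG : Subgroup G)
    (hP2 : IsPGroup 2 PG) (hidx : ¬ 2 ∣ PG.index)
    {A : Type*} [CommGroup A] (φ : ↥PG →* A) (u : G) (huP : u ∈ PG)
    (hu : u * u = 1) (huc : ∀ x ∈ PG, x * u = u * x)
    (hN : ∀ h ∈ Subgroup.normalizer (PG : Set G), h * u * h⁻¹ = u) :
    MonoidHom.transfer φ u = φ ⟨u, huP⟩ := by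
  classical
  have := PG.fintypeQuotientOfFiniteIndex
  -- the function `g`
  let g : G → A := fun t => if h : t⁻¹ * u * t ∈ PG then φ ⟨t⁻¹ * u * t, h⟩ else 1
  have hg_pos : ∀ (t : G) (h : t⁻¹ * u * t ∈ PG), g t = φ ⟨t⁻¹ * u * t, h⟩ := fun t h => by
    simp only [g, dif_pos h]
  have hg_neg : ∀ (t : G), t⁻¹ * u * t ∉ PG → g t = 1 := fun t h => by
    simp only [g, dif_neg h]
  have hconj : ∀ (t y : G), (t * y)⁻¹ * u * (t * y) = y⁻¹ * (t⁻¹ * u * t) * y := fun t y => by group
  have hg_right : ∀ (t y : G), y ∈ PG → g (t * y) = g t := by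
    intro t y hy
    by_cases h : t⁻¹ * u * t ∈ PG
    · have h' : (t * y)⁻¹ * u * (t * y) ∈ PG := by
        rw [hconj]; exact PG.mul_mem (PG.mul_mem (PG.inv_mem hy) h) hy
      rw [hg_pos _ h, hg_pos _ h']
      have : (⟨(t * y)⁻¹ * u * (t * y), h'⟩ : PG) =
          (⟨y, hy⟩ : PG)⁻¹ * ⟨t⁻¹ * u * t, h⟩ * ⟨y, hy⟩ := Subtype.ext (by
            rw [Subgroup.coe_mul, Subgroup.coe_mul, Subgroup.coe_inv]; exact hconj t y)
      rw [this, map_mul, map_mul, map_inv, mul_comm, ← mul_assoc, mul_inv_cancel, one_mul]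
    · have h' : (t * y)⁻¹ * u * (t * y) ∉ PG := by
        intro h'
        apply h
        rw [hconj] at h'
        have := PG.mul_mem (PG.mul_mem hy h') (PG.inv_mem hy)
        have e : y * (y⁻¹ * (t⁻¹ * u * t) * y) * y⁻¹ = t⁻¹ * u * t := by group
        rwa [e] at this
      rw [hg_neg _ h, hg_neg _ h']
  have hg_left : ∀ (x t : G), x ∈ PG → g (x * t) = g t := by
    intro x t hx
    have e : (x * t)⁻¹ * u * (x * t) = t⁻¹ * u * t := by
      have h1 : x⁻¹ * u * x = u := by rw [mul_assoc, ← huc x hx, inv_mul_cancel_left]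
      calc (x * t)⁻¹ * u * (x * t) = t⁻¹ * (x⁻¹ * u * x) * t := by group
        _ = t⁻¹ * u * t := by rw [h1]
    simp only [g, e]
  have hg_sq : ∀ t, g t * g t = 1 := by
    intro t
    by_cases h : t⁻¹ * u * t ∈ PG
    · rw [hg_pos _ h, ← map_mul]
      have : (⟨t⁻¹ * u * t, h⟩ : PG) * ⟨t⁻¹ * u * t, h⟩ = 1 := by
        apply Subtype.ext
        rw [Subgroup.coe_mul, Subgroup.coe_one]
        calc t⁻¹ * u * t * (t⁻¹ * u * t) = t⁻¹ * (u * u) * t := by group
          _ = 1 := by rw [hu]; group
      rw [this, map_one]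
    · rw [hg_neg _ h, one_mul]
  let f : G ⧸ PG → A := fun c => g c.out
  have hf_mk : ∀ t : G, f (t : G ⧸ PG) = g t := by
    intro t
    obtain ⟨y, hy⟩ := QuotientGroup.mk_out_eq_mul PG t
    show g (t : G ⧸ PG).out = g t
    rw [hy, hg_right _ _ y.2]
  have hfix_iff : ∀ t : G, u • (t : G ⧸ PG) = (t : G ⧸ PG) ↔ t⁻¹ * u * t ∈ PG := by
    intro t
    rw [MulAction.Quotient.smul_coe, smul_eq_mul, QuotientGroup.eq]
    have e : (u * t)⁻¹ * t = (t⁻¹ * u * t)⁻¹ := by group
    rw [e, inv_mem_iff]
  have hf_nonfix : ∀ c : G ⧸ PG, u • c ≠ c → f c = 1 := by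
    intro c hc
    apply hg_neg
    intro h
    apply hc
    have := (hfix_iff c.out).2 h
    rwa [QuotientGroup.out_eq'] at this
  have hinv : ∀ (x : PG) (c : G ⧸ PG), f (x • c) = f c := by
    intro x c
    obtain ⟨t, rfl⟩ := QuotientGroup.mk_surjective c
    show f ((x : G) • (t : G ⧸ PG)) = _
    rw [MulAction.Quotient.smul_coe, smul_eq_mul, hf_mk, hf_mk, hg_left _ _ x.2]
  have hsq : ∀ c, f c * f c = 1 := fun c => hg_sq _
  -- Step 1: the transfer is the product of `f`
  have h1 : MonoidHom.transfer φ u = ∏ c, f c := by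
    rw [MonoidHom.transfer_eq_prod_quotient_orbitRel_zpowers_quot]
    have hterm : ∀ (c : G ⧸ PG) (k : ℕ) (hk : c.out⁻¹ * u ^ k * c.out ∈ PG),
        k = Function.minimalPeriod (u • ·) c → φ ⟨c.out⁻¹ * u ^ k * c.out, hk⟩ = f c := by
      intro c k hk hkc
      by_cases hfix : u • c = c
      · have hk1 : k = 1 := by
          rw [hkc]; exact Function.minimalPeriod_eq_one_iff_isFixedPt.2 hfix
        subst hk1
        have h : c.out⁻¹ * u * c.out ∈ PG := by simpa using hk
        show _ = g c.out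
        rw [hg_pos _ h]
        congr 1
        apply Subtype.ext
        simp
      · have hper : Function.IsPeriodicPt (u • ·) 2 c := by
          show (u • ·)^[2] c = c
          simp only [Function.iterate_succ, Function.iterate_zero, Function.comp_apply, id_eq]
          rw [smul_smul, hu, one_smul]
        have hdvd := hper.minimalPeriod_dvd
        have hne1 : Function.minimalPeriod (u • ·) c ≠ 1 := fun h =>
          hfix (Function.minimalPeriod_eq_one_iff_isFixedPt.1 h)
        have hk2 : k = 2 := by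
          rw [hkc]
          rcases (Nat.dvd_prime Nat.prime_two).1 hdvd with h | h
          · exact absurd h hne1
          · exact h
        subst hk2
        rw [hf_nonfix c hfix]
        have : (⟨c.out⁻¹ * u ^ 2 * c.out, hk⟩ : PG) = 1 := by
          apply Subtype.ext
          show c.out⁻¹ * u ^ 2 * c.out = 1
          rw [pow_two, hu]; group
        rw [this, map_one]
    rw [Finset.prod_congr rfl (fun q _ => hterm q.out _ _ rfl)]
    -- now `∏ q, f q.out = ∏ c, f c`
    rw [← Finset.prod_image (s := Finset.univ)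
      (g := fun q : Quotient (orbitRel (zpowers u) (G ⧸ PG)) => q.out) (f := f)
      (fun a _ b _ h => Quotient.out_injective h)]
    apply Finset.prod_subset (Finset.subset_univ _)
    intro c _ hc
    apply hf_nonfix
    intro hfix
    apply hc
    rw [Finset.mem_image]
    refine ⟨⟦c⟧, Finset.mem_univ _, ?_⟩
    have h2 : (⟦c⟧ : Quotient (orbitRel (zpowers u) (G ⧸ PG))).out ∈ orbit (zpowers u) c :=
      Quotient.mk_out (s := orbitRel (zpowers u) (G ⧸ PG)) c
    obtain ⟨⟨z, hz⟩, hz'⟩ := h2
    rw [← hz']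
    obtain ⟨j, rfl⟩ := Subgroup.mem_zpowers_iff.mp hz
    show (u ^ j) • c = c
    have hstab : u ∈ MulAction.stabilizer G c := hfix
    exact (MulAction.stabilizer G c).zpow_mem hstab j
  -- Step 2
  have h2 := prod_eq_prod_fixedPoints (P := PG) (X := G ⧸ PG) hP2 f hinv hsq
  -- Step 3
  have h3 : ∀ c ∈ fixedPoints PG (G ⧸ PG), f c = φ ⟨u, huP⟩ := by
    intro c hc
    obtain ⟨t, rfl⟩ := QuotientGroup.mk_surjective c
    have htN : t ∈ Subgroup.normalizer (PG : Set G) :=
      Sylow.mem_fixedPoints_mul_left_cosets_iff_mem_normalizer.1 hc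
    have hconj' : t⁻¹ * u * t = u := by
      have := hN t⁻¹ (Subgroup.inv_mem _ htN)
      rwa [inv_inv] at this
    have h : t⁻¹ * u * t ∈ PG := by rw [hconj']; exact huP
    rw [hf_mk, hg_pos _ h]
    congr 1
    exact Subtype.ext hconj'
  -- Step 4
  rw [h1, h2, Finset.prod_congr rfl (fun c hc => h3 c (Finset.mem_filter.1 hc).2), Finset.prod_const]
  have hodd : Odd (Finset.univ.filter (· ∈ fixedPoints PG (G ⧸ PG))).card := by
    have hmod := hP2.card_modEq_card_fixedPoints (p := 2) (α := G ⧸ PG)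
    have hidx' : ¬ 2 ∣ Nat.card (G ⧸ PG) := hidx
    have hcard : Nat.card (fixedPoints PG (G ⧸ PG)) =
        (Finset.univ.filter (· ∈ fixedPoints PG (G ⧸ PG))).card := by
      rw [← Fintype.card_subtype, ← Nat.card_eq_fintype_card]
    rw [← hcard]
    rw [Nat.odd_iff]
    have h0 : Nat.card (G ⧸ PG) % 2 = Nat.card (fixedPoints PG (G ⧸ PG)) % 2 := hmod
    omega
  obtain ⟨m, hm⟩ := hodd
  have hφsq : φ ⟨u, huP⟩ * φ ⟨u, huP⟩ = 1 := by
    rw [← map_mul]
    have : (⟨u, huP⟩ : PG) * ⟨u, huP⟩ = 1 := Subtype.ext (by simpa using hu)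
    rw [this, map_one]
  rw [hm, pow_succ, pow_mul, pow_two, hφsq, one_pow, one_mul]

/-- **[T1]** transfer into a Sylow 2-subgroup evaluated at a central involution fixed by `N_G(P)` -/
theorem transfer_central_involution {G : Type*} [Group G] [Finite G] (P : Sylow 2 G)
    {A : Type*} [CommGroup A] (φ : ↥(P : Subgroup G) →* A) (u : G) (huP : u ∈ (P : Subgroup G))
    (hu : u * u = 1) (huc : ∀ x ∈ (P : Subgroup G), x * u = u * x)
    (hN : ∀ h ∈ Subgroup.normalizer ((P : Subgroup G) : Set G), h * u * h⁻¹ = u) :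
    MonoidHom.transfer φ u = φ ⟨u, huP⟩ :=
  transfer_central_involution_aux (P : Subgroup G) P.2 P.not_dvd_index φ u huP hu huc hN

end Cfsg.Agent.Lib.Helper49.S1906
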