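import Mathlib

set_option autoImplicit false

namespace Cfsg.Agent.Lib.Helper49.S1906

open Subgroup

/-- a finite nontrivial group of exponent 2 has a subgroup of index 2 -/
theorem exists_index_two_of_exponent_two {E : Type*} [Group E] [Finite E] [Nontrivial E]
    (hE : ∀ x : E, x * x = 1) : ∃ K : Subgroup E, K.index = 2 := by
  have hp : IsPGroup 2 E := fun x => ⟨1, by rw [pow_one, pow_two]; exact hE x⟩
  obtain ⟨k, hk⟩ := IsPGroup.iff_card.1 hp
  have hk0 : k ≠ 0 := by
    rintro rfl
    rw [pow_zero] at hk
    have : 1 < Nat.card E := Finite.one_lt_card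
    omega
  obtain ⟨k', rfl⟩ : ∃ k', k = k' + 1 := ⟨k - 1, by omega⟩
  obtain ⟨K, hK⟩ := Sylow.exists_subgroup_card_pow_prime (G := E) 2 (n := k')
    (by rw [hk]; exact pow_dvd_pow 2 (Nat.le_succ k'))
  refine ⟨K, ?_⟩
  have h1 := Subgroup.card_mul_index K
  rw [hK, hk, pow_succ] at h1
  exact Nat.eq_of_mul_eq_mul_left (pow_pos (by norm_num) k') h1

/-- **[T2]** in a finite group without subgroups of index 2, every homomorphism to an abelian
group kills the involutions -/
theorem hom_involution_eq_one {G : Type*} [Group G] [Finite G] (hG : ∀ H : Subgroup G, H.index ≠ 2)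
    {A : Type*} [CommGroup A] (ψ : G →* A) (u : G) (hu : u * u = 1) : ψ u = 1 := by
  by_contra hne
  -- B = range
  let B := ψ.range
  let ψ' : G →* B := ψ.rangeRestrict
  have hψ' : Function.Surjective ψ' := ψ.rangeRestrict_surjective
  have hBfin : Finite B := Finite.of_surjective ψ' hψ'
  let sq : B →* B := powMonoidHom 2
  have hnotinj : ¬ Function.Injective sq := by
    intro hinj
    have h1 : sq (ψ' u) = sq 1 := by
      simp only [sq, powMonoidHom_apply, one_pow]
      rw [← map_pow, pow_two, hu, map_one]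
    have h2 := hinj h1
    apply hne
    have h3 : ((ψ' u : B) : A) = ((1 : B) : A) := congrArg (fun b : B => (b : A)) h2
    rw [Subgroup.coe_one] at h3
    rw [← h3]
    exact (MonoidHom.coe_rangeRestrict ψ u).symm
  have hnotsurj : ¬ Function.Surjective sq := fun hs =>
    hnotinj (Finite.injective_iff_surjective.2 hs)
  have hrange : sq.range ≠ ⊤ := fun h => hnotsurj (MonoidHom.range_eq_top.1 h)
  -- E = B / B^2
  let E := B ⧸ sq.range
  have hEfin : Finite E := inferInstanceAs (Finite (B ⧸ sq.range))
  have : Nontrivial E := by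
    obtain ⟨b, hb⟩ : ∃ b : B, b ∉ sq.range := by
      by_contra hcon
      push Not at hcon
      exact hrange (eq_top_iff.mpr fun x _ => hcon x)
    exact ⟨⟨(b : E), 1, fun h => hb ((QuotientGroup.eq_one_iff b).mp h)⟩⟩
  have hE : ∀ x : E, x * x = 1 := by
    intro x
    obtain ⟨b, rfl⟩ := QuotientGroup.mk_surjective x
    rw [← QuotientGroup.mk_mul, QuotientGroup.eq_one_iff]
    exact ⟨b, by simp [sq, pow_two]⟩
  obtain ⟨K, hK⟩ := exists_index_two_of_exponent_two hE
  let π : G →* E := (QuotientGroup.mk' sq.range).comp ψ'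
  have hπ : Function.Surjective π := (QuotientGroup.mk'_surjective _).comp hψ'
  have := Subgroup.index_comap_of_surjective K hπ
  exact hG (K.comap π) (this.trans hK)

end Cfsg.Agent.Lib.Helper49.S1906
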