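import Mathlib
import Cfsg.Prelude.Def_HallClasses

set_option autoImplicit false

open Cfsg Equiv

namespace Cfsg.Agent.Lib.Helper49.S2534

/-- the subgroup of the permutations preserving the set `{a, b}` -/
def pairStab {β : Type*} [DecidableEq β] (a b : β) : Subgroup (Perm β) where
  carrier := {σ | (σ a = a ∧ σ b = b) ∨ (σ a = b ∧ σ b = a)}
  one_mem' := Or.inl ⟨rfl, rfl⟩
  mul_mem' := by
    rintro σ τ (⟨h1, h2⟩ | ⟨h1, h2⟩) (⟨h3, h4⟩ | ⟨h3, h4⟩)
    · left; simp [Perm.mul_apply, h1, h2, h3, h4]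
    · right; simp [Perm.mul_apply, h1, h2, h3, h4]
    · right; simp [Perm.mul_apply, h1, h2, h3, h4]
    · left; simp [Perm.mul_apply, h1, h2, h3, h4]
  inv_mem' := by
    rintro σ (⟨h1, h2⟩ | ⟨h1, h2⟩)
    · left; exact ⟨by rw [Perm.inv_eq_iff_eq, h1], by rw [Perm.inv_eq_iff_eq, h2]⟩
    · right; exact ⟨by rw [Perm.inv_eq_iff_eq, h2], by rw [Perm.inv_eq_iff_eq, h1]⟩

theorem mem_pairStab {β : Type*} [DecidableEq β] {a b : β} {σ : Perm β} :
    σ ∈ pairStab a b ↔ (σ a = a ∧ σ b = b) ∨ (σ a = b ∧ σ b = a) := Iff.rfl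

theorem sq_apply_of_mem_pairStab {β : Type*} [DecidableEq β] {a b : β} {σ : Perm β}
    (h : σ ∈ pairStab a b) : (σ ^ 2) a = a := by
  rw [pow_two, Perm.mul_apply]
  rcases h with ⟨h1, _⟩ | ⟨h1, h2⟩
  · rw [h1, h1]
  · rw [h1, h2]

/-- an element of `pairStab a b` in `Perm (Fin p)` does not have order `p` (`p` an odd prime) -/
theorem orderOf_ne_of_mem_pairStab {p : ℕ} [hp : Fact p.Prime] (hp2 : p ≠ 2) {a b : Fin p}
    {σ : Perm (Fin p)} (h : σ ∈ pairStab a b) : orderOf σ ≠ p := by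
  intro ho
  set τ := σ ^ 2 with hτ
  have hτp : τ ^ p ^ 1 = 1 := by
    have hσp : σ ^ p = 1 := by
      have := pow_orderOf_eq_one σ
      rwa [ho] at this
    rw [pow_one, hτ, ← pow_mul, mul_comm, pow_mul, hσp, one_pow]
  have hmod := Equiv.Perm.card_compl_support_modEq (p := p) (n := 1) hτp
  rw [Fintype.card_fin] at hmod
  have hdvd : p ∣ τ.supportᶜ.card := by
    have h0 : τ.supportᶜ.card % p = p % p := hmod
    rw [Nat.mod_self] at h0
    exact Nat.dvd_of_mod_eq_zero h0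
  have ha : a ∈ τ.supportᶜ := by
    rw [Finset.mem_compl, Perm.mem_support, not_not]
    exact sq_apply_of_mem_pairStab h
  have hpos : 0 < τ.supportᶜ.card := Finset.card_pos.2 ⟨a, ha⟩
  have hle : τ.supportᶜ.card ≤ p := by
    have := Finset.card_le_univ τ.supportᶜ
    rwa [Fintype.card_fin] at this
  have hcard : τ.supportᶜ.card = p := le_antisymm hle (Nat.le_of_dvd hpos hdvd)
  have huniv : τ.supportᶜ = Finset.univ := by
    apply Finset.eq_univ_of_card
    rw [hcard, Fintype.card_fin]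
  have hsupp : τ.support = ∅ := by
    rw [← Finset.compl_eq_univ_iff]
    exact huniv
  have hτ1 : τ = 1 := Perm.support_eq_empty_iff.1 hsupp
  have : orderOf σ ∣ 2 := orderOf_dvd_of_pow_eq_one hτ1
  rw [ho] at this
  exact hp2 ((Nat.prime_dvd_prime_iff_eq hp.out Nat.prime_two).1 this)

/-- three-cycle-like elements in `pairStab` -/
theorem swap_mul_swap_mem {β : Type*} [DecidableEq β] {a b z x y : β}
    (hza : z ≠ a) (hzb : z ≠ b) (hxa : x ≠ a) (hxb : x ≠ b) (hya : y ≠ a) (hyb : y ≠ b) :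
    swap z x * swap x y ∈ pairStab a b := by
  left
  constructor
  · rw [Perm.mul_apply, swap_apply_of_ne_of_ne hxa.symm hya.symm,
      swap_apply_of_ne_of_ne hza.symm hxa.symm]
  · rw [Perm.mul_apply, swap_apply_of_ne_of_ne hxb.symm hyb.symm,
      swap_apply_of_ne_of_ne hzb.symm hxb.symm]

theorem swap_mul_swap_apply {β : Type*} [DecidableEq β] {z x y : β} (hzx : z ≠ x) (hzy : z ≠ y) :
    (swap z x * swap x y) z = x := by
  rw [Perm.mul_apply, swap_apply_of_ne_of_ne hzx hzy, swap_apply_left]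

theorem sign_swap_mul_swap {β : Type*} [DecidableEq β] [Fintype β] {z x y : β} (hzx : z ≠ x)
    (hxy : x ≠ y) : Perm.sign (swap z x * swap x y) = 1 := by
  rw [map_mul, Perm.sign_swap hzx, Perm.sign_swap hxy]
  rfl


/-- `Kp`: the even permutations of `Fin n` preserving the set `{3, 4}` -/
def Kp (n : ℕ) (hn : 5 ≤ n) : Subgroup ↥(alternatingGroup (Fin n)) :=
  (pairStab (⟨3, by omega⟩ : Fin n) ⟨4, by omega⟩).subgroupOf (alternatingGroup (Fin n))

theorem prime_le_of_dvd_card_subgroup_alt {n : ℕ} (K : Subgroup ↥(alternatingGroup (Fin n))) {t : ℕ}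
    (ht : t.Prime) (hdvd : t ∣ Nat.card K) : t ≤ n := by
  have h1 : Nat.card K ∣ Nat.card ↥(alternatingGroup (Fin n)) := Subgroup.card_subgroup_dvd_card K
  have h2 : Nat.card ↥(alternatingGroup (Fin n)) ∣ Nat.card (Perm (Fin n)) :=
    Subgroup.card_subgroup_dvd_card _
  have h3 : Nat.card (Perm (Fin n)) = n.factorial := by
    rw [Nat.card_eq_fintype_card, Fintype.card_perm, Fintype.card_fin]
  rw [h3] at h2
  exact (Nat.Prime.dvd_factorial ht).1 (hdvd.trans (h1.trans h2))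

theorem Kp_isPiSubgroup (n : ℕ) (hn : 5 ≤ n) (π : Set ℕ)
    (hA3 : n.Prime ∧ ∀ r : ℕ, r.Prime → r ≤ n → (r ∈ π ↔ r < n)) : IsPiSubgroup π (Kp n hn) := by
  intro t ht hdvd
  have hle : t ≤ n := prime_le_of_dvd_card_subgroup_alt _ ht hdvd
  have hne : t ≠ n := by
    rintro rfl
    have : Fact t.Prime := ⟨ht⟩
    obtain ⟨x, hx⟩ := exists_prime_orderOf_dvd_card' (G := ↥(Kp t hn)) t hdvd
    have hmem : ((x : ↥(alternatingGroup (Fin t))) : Perm (Fin t)) ∈
        pairStab (⟨3, by omega⟩ : Fin t) ⟨4, by omega⟩ := Subgroup.mem_subgroupOf.1 x.2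
    have hord : orderOf ((x : ↥(alternatingGroup (Fin t))) : Perm (Fin t)) = t := by
      rw [Subgroup.orderOf_coe, Subgroup.orderOf_coe, hx]
    exact orderOf_ne_of_mem_pairStab (by omega) hmem hord
  exact (hA3.2 t ht hle).2 (lt_of_le_of_ne hle hne)

theorem Kp_no_fixed (n : ℕ) (hn : 5 ≤ n) (z : Fin n) :
    ∃ k ∈ Kp n hn, ((k : ↥(alternatingGroup (Fin n))) : Perm (Fin n)) z ≠ z := by
  classical
  set a : Fin n := ⟨3, by omega⟩ with ha
  set b : Fin n := ⟨4, by omega⟩ with hb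
  set e0 : Fin n := ⟨0, by omega⟩ with he0
  set e1 : Fin n := ⟨1, by omega⟩ with he1
  set e2 : Fin n := ⟨2, by omega⟩ with he2
  have hne : ∀ {i j : ℕ} (hi : i < n) (hj : j < n), i ≠ j → (⟨i, hi⟩ : Fin n) ≠ ⟨j, hj⟩ :=
    fun hi hj hij h => hij (Fin.mk.inj_iff.1 h)
  -- general construction
  have key : ∀ (x y : Fin n), z ≠ a → z ≠ b → x ≠ a → x ≠ b → y ≠ a → y ≠ b → z ≠ x → z ≠ y →
      x ≠ y → ∃ k ∈ Kp n hn, ((k : ↥(alternatingGroup (Fin n))) : Perm (Fin n)) z ≠ z := by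
    intro x y hza hzb hxa hxb hya hyb hzx hzy hxy
    have hs : swap z x * swap x y ∈ alternatingGroup (Fin n) :=
      Perm.mem_alternatingGroup.2 (sign_swap_mul_swap hzx hxy)
    refine ⟨⟨swap z x * swap x y, hs⟩, ?_, ?_⟩
    · exact Subgroup.mem_subgroupOf.2 (swap_mul_swap_mem hza hzb hxa hxb hya hyb)
    · show (swap z x * swap x y) z ≠ z
      rw [swap_mul_swap_apply hzx hzy]
      exact hzx.symm
  by_cases hza : z = a
  · -- swap a b * swap e0 e1
    have hab : a ≠ b := hne _ _ (by norm_num)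
    have h01 : e0 ≠ e1 := hne _ _ (by norm_num)
    have hs : swap a b * swap e0 e1 ∈ alternatingGroup (Fin n) := by
      rw [Perm.mem_alternatingGroup, map_mul, Perm.sign_swap hab, Perm.sign_swap h01]; rfl
    refine ⟨⟨swap a b * swap e0 e1, hs⟩, ?_, ?_⟩
    · apply Subgroup.mem_subgroupOf.2
      right
      have h0a : e0 ≠ a := hne _ _ (by norm_num)
      have h1a : e1 ≠ a := hne _ _ (by norm_num)
      have h0b : e0 ≠ b := hne _ _ (by norm_num)
      have h1b : e1 ≠ b := hne _ _ (by norm_num)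
      constructor
      · show (swap a b * swap e0 e1) a = b
        rw [Perm.mul_apply, swap_apply_of_ne_of_ne h0a.symm h1a.symm, swap_apply_left]
      · show (swap a b * swap e0 e1) b = a
        rw [Perm.mul_apply, swap_apply_of_ne_of_ne h0b.symm h1b.symm, swap_apply_right]
    · show (swap a b * swap e0 e1) z ≠ z
      have h0a : e0 ≠ a := hne _ _ (by norm_num)
      have h1a : e1 ≠ a := hne _ _ (by norm_num)
      rw [hza, Perm.mul_apply, swap_apply_of_ne_of_ne h0a.symm h1a.symm, swap_apply_left]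
      exact hab.symm
  by_cases hzb : z = b
  · have hab : a ≠ b := hne _ _ (by norm_num)
    have h01 : e0 ≠ e1 := hne _ _ (by norm_num)
    have hs : swap a b * swap e0 e1 ∈ alternatingGroup (Fin n) := by
      rw [Perm.mem_alternatingGroup, map_mul, Perm.sign_swap hab, Perm.sign_swap h01]; rfl
    have h0a : e0 ≠ a := hne _ _ (by norm_num)
    have h1a : e1 ≠ a := hne _ _ (by norm_num)
    have h0b : e0 ≠ b := hne _ _ (by norm_num)
    have h1b : e1 ≠ b := hne _ _ (by norm_num)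
    refine ⟨⟨swap a b * swap e0 e1, hs⟩, ?_, ?_⟩
    · apply Subgroup.mem_subgroupOf.2
      right
      constructor
      · show (swap a b * swap e0 e1) a = b
        rw [Perm.mul_apply, swap_apply_of_ne_of_ne h0a.symm h1a.symm, swap_apply_left]
      · show (swap a b * swap e0 e1) b = a
        rw [Perm.mul_apply, swap_apply_of_ne_of_ne h0b.symm h1b.symm, swap_apply_right]
    · show (swap a b * swap e0 e1) z ≠ z
      rw [hzb, Perm.mul_apply, swap_apply_of_ne_of_ne h0b.symm h1b.symm, swap_apply_right]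
      exact hab
  -- z ∉ {a, b}
  have h0a : e0 ≠ a := hne _ _ (by norm_num)
  have h1a : e1 ≠ a := hne _ _ (by norm_num)
  have h2a : e2 ≠ a := hne _ _ (by norm_num)
  have h0b : e0 ≠ b := hne _ _ (by norm_num)
  have h1b : e1 ≠ b := hne _ _ (by norm_num)
  have h2b : e2 ≠ b := hne _ _ (by norm_num)
  have h01 : e0 ≠ e1 := hne _ _ (by norm_num)
  have h02 : e0 ≠ e2 := hne _ _ (by norm_num)
  have h12 : e1 ≠ e2 := hne _ _ (by norm_num)
  by_cases hz0 : z = e0
  · exact key e1 e2 hza hzb h1a h1b h2a h2b (hz0 ▸ h01) (hz0 ▸ h02) h12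
  by_cases hz1 : z = e1
  · exact key e0 e2 hza hzb h0a h0b h2a h2b (hz1 ▸ h01.symm) (hz1 ▸ h12) h02
  exact key e0 e1 hza hzb h0a h0b h1a h1b hz0 hz1 h01

end Cfsg.Agent.Lib.Helper49.S2534
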