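import Mathlib
import Cfsg.Prelude.Def_HallClasses

set_option autoImplicit false

open Cfsg Equiv

namespace Cfsg.Agent.Lib.Helper49.S2534

/-- boolean equality test of two permutations of `Fin n` -/
def permEqB {n : ℕ} (σ τ : Perm (Fin n)) : Bool := (List.finRange n).all fun i => σ i == τ i

theorem permEqB_iff {n : ℕ} (σ τ : Perm (Fin n)) : permEqB σ τ = true ↔ σ = τ := by
  unfold permEqB
  rw [List.all_eq_true]
  constructor
  · intro h
    ext i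
    have := h i (List.mem_finRange i)
    simpa using congrArg Fin.val (by simpa using this)
  · rintro rfl i _
    simp

/-- boolean membership test -/
def memB {n : ℕ} (σ : Perm (Fin n)) (L : List (Perm (Fin n))) : Bool := L.any (permEqB σ)

theorem memB_iff {n : ℕ} (σ : Perm (Fin n)) (L : List (Perm (Fin n))) :
    memB σ L = true ↔ σ ∈ L := by
  unfold memB
  rw [List.any_eq_true]
  constructor
  · rintro ⟨x, hx, h⟩
    rw [(permEqB_iff σ x).1 h]; exact hx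
  · intro h
    exact ⟨σ, h, (permEqB_iff σ σ).2 rfl⟩

/-- a list of permutations closed under the group operations, as a subgroup -/
def listSubgroup {n : ℕ} (L : List (Perm (Fin n))) (h1 : memB 1 L = true)
    (hmul : (L.all fun x => L.all fun y => memB (x * y) L) = true)
    (hinv : (L.all fun x => memB x⁻¹ L) = true) : Subgroup (Perm (Fin n)) where
  carrier := {σ | σ ∈ L}
  one_mem' := (memB_iff 1 L).1 h1
  mul_mem' := by
    intro x y hx hy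
    rw [List.all_eq_true] at hmul
    have := hmul x hx
    rw [List.all_eq_true] at this
    exact (memB_iff _ L).1 (this y hy)
  inv_mem' := by
    intro x hx
    rw [List.all_eq_true] at hinv
    exact (memB_iff _ L).1 (hinv x hx)

theorem mem_listSubgroup {n : ℕ} (L : List (Perm (Fin n))) (h1 : memB 1 L = true)
    (hmul : (L.all fun x => L.all fun y => memB (x * y) L) = true)
    (hinv : (L.all fun x => memB x⁻¹ L) = true) (σ : Perm (Fin n)) :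
    σ ∈ listSubgroup L h1 hmul hinv ↔ σ ∈ L := Iff.rfl

/-- a subgroup of `Perm (Fin n)` of exponent dividing 6 gives a `π`-subgroup of `A_n` if `2, 3 ∈ π` -/
theorem isPiSubgroup_subgroupOf_of_pow_six {n : ℕ} (K : Subgroup (Perm (Fin n)))
    (h6 : ∀ x ∈ K, x ^ 6 = 1) (π : Set ℕ) (h2 : 2 ∈ π) (h3 : 3 ∈ π) :
    IsPiSubgroup π (K.subgroupOf (alternatingGroup (Fin n))) := by
  intro t ht hdvd
  have : Fact t.Prime := ⟨ht⟩
  obtain ⟨x, hx⟩ := exists_prime_orderOf_dvd_card'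
    (G := ↥(K.subgroupOf (alternatingGroup (Fin n)))) t hdvd
  have hmem : ((x : ↥(alternatingGroup (Fin n))) : Perm (Fin n)) ∈ K := Subgroup.mem_subgroupOf.1 x.2
  have hord : orderOf ((x : ↥(alternatingGroup (Fin n))) : Perm (Fin n)) = t := by
    rw [Subgroup.orderOf_coe, Subgroup.orderOf_coe, hx]
  have hd : t ∣ 6 := by
    rw [← hord]; exact orderOf_dvd_of_pow_eq_one (h6 _ hmem)
  have h6' : (6 : ℕ) = 2 * 3 := by norm_num
  rw [h6'] at hd
  rcases (Nat.Prime.dvd_mul ht).1 hd with h | h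
  · rw [(Nat.prime_dvd_prime_iff_eq ht Nat.prime_two).1 h]; exact h2
  · rw [(Nat.prime_dvd_prime_iff_eq ht Nat.prime_three).1 h]; exact h3

/-! ### degree 7 -/

/-- `(0 1 2)(3 4 5)` -/
def a7 : Perm (Fin 7) := ⟨![1, 2, 0, 4, 5, 3, 6], ![2, 0, 1, 5, 3, 4, 6], by decide, by decide⟩

/-- `(1 3)(2 4)` -/
def b7 : Perm (Fin 7) := ⟨![0, 3, 4, 1, 2, 5, 6], ![0, 3, 4, 1, 2, 5, 6], by decide, by decide⟩

/-- the twelve elements of `A_4` acting on six points (generated by `a7`, `b7`) -/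
def L7 : List (Perm (Fin 7)) :=
  [⟨![0, 1, 2, 3, 4, 5, 6], ![0, 1, 2, 3, 4, 5, 6], by decide, by decide⟩,
   ⟨![1, 2, 0, 4, 5, 3, 6], ![2, 0, 1, 5, 3, 4, 6], by decide, by decide⟩,
   ⟨![0, 3, 4, 1, 2, 5, 6], ![0, 3, 4, 1, 2, 5, 6], by decide, by decide⟩,
   ⟨![2, 0, 1, 5, 3, 4, 6], ![1, 2, 0, 4, 5, 3, 6], by decide, by decide⟩,
   ⟨![3, 4, 0, 2, 5, 1, 6], ![2, 5, 3, 0, 1, 4, 6], by decide, by decide⟩,
   ⟨![1, 4, 5, 2, 0, 3, 6], ![4, 0, 3, 5, 1, 2, 6], by decide, by decide⟩,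
   ⟨![4, 0, 3, 5, 1, 2, 6], ![1, 4, 5, 2, 0, 3, 6], by decide, by decide⟩,
   ⟨![4, 5, 1, 0, 3, 2, 6], ![3, 2, 5, 4, 0, 1, 6], by decide, by decide⟩,
   ⟨![2, 5, 3, 0, 1, 4, 6], ![3, 4, 0, 2, 5, 1, 6], by decide, by decide⟩,
   ⟨![3, 2, 5, 4, 0, 1, 6], ![4, 5, 1, 0, 3, 2, 6], by decide, by decide⟩,
   ⟨![5, 1, 4, 3, 2, 0, 6], ![5, 1, 4, 3, 2, 0, 6], by decide, by decide⟩,
   ⟨![5, 3, 2, 1, 4, 0, 6], ![5, 3, 2, 1, 4, 0, 6], by decide, by decide⟩]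

theorem L7_one : memB 1 L7 = true := by decide +kernel
theorem L7_mul : (L7.all fun x => L7.all fun y => memB (x * y) L7) = true := by decide +kernel
theorem L7_inv : (L7.all fun x => memB x⁻¹ L7) = true := by decide +kernel
theorem L7_exp : (L7.all fun x => permEqB (x * x * x * x * x * x) 1) = true := by decide +kernel
theorem a7_memB : memB a7 L7 = true := by decide +kernel
theorem b7_memB : memB b7 L7 = true := by decide +kernel

/-- `A_4` acting on six of the seven points -/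
def K7 : Subgroup (Perm (Fin 7)) := listSubgroup L7 L7_one L7_mul L7_inv

theorem K7_pow_six : ∀ x ∈ K7, x ^ 6 = 1 := by
  intro x hx
  have h := L7_exp
  rw [List.all_eq_true] at h
  have := (permEqB_iff _ _).1 (h x hx)
  rw [← this]
  simp only [pow_succ, pow_zero, one_mul]

theorem a7_mem : a7 ∈ K7 := (memB_iff _ _).1 a7_memB
theorem b7_mem : b7 ∈ K7 := (memB_iff _ _).1 b7_memB

theorem sign_a7 : Perm.sign a7 = 1 := by decide +kernel
theorem sign_b7 : Perm.sign b7 = 1 := by decide +kernel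

theorem no_invariant_three : ∀ t : Finset (Fin 7), t.card = 3 →
    ¬ ((∀ x ∈ t, a7 x ∈ t) ∧ (∀ x ∈ t, b7 x ∈ t)) := by decide +kernel

/-! ### degree 8 -/

/-- `(0 1 2)` -/
def a8 : Perm (Fin 8) := ⟨![1, 2, 0, 3, 4, 5, 6, 7], ![2, 0, 1, 3, 4, 5, 6, 7], by decide, by decide⟩

/-- `(3 4 5)` -/
def b8 : Perm (Fin 8) := ⟨![0, 1, 2, 4, 5, 3, 6, 7], ![0, 1, 2, 5, 3, 4, 6, 7], by decide, by decide⟩

/-- `(0 1)(6 7)` -/
def c8 : Perm (Fin 8) := ⟨![1, 0, 2, 3, 4, 5, 7, 6], ![1, 0, 2, 3, 4, 5, 7, 6], by decide, by decide⟩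

/-- the eighteen elements of the group generated by `a8`, `b8`, `c8` -/
def L8 : List (Perm (Fin 8)) :=
  [⟨![0, 1, 2, 3, 4, 5, 6, 7], ![0, 1, 2, 3, 4, 5, 6, 7], by decide, by decide⟩,
   ⟨![1, 2, 0, 3, 4, 5, 6, 7], ![2, 0, 1, 3, 4, 5, 6, 7], by decide, by decide⟩,
   ⟨![0, 1, 2, 4, 5, 3, 6, 7], ![0, 1, 2, 5, 3, 4, 6, 7], by decide, by decide⟩,
   ⟨![1, 0, 2, 3, 4, 5, 7, 6], ![1, 0, 2, 3, 4, 5, 7, 6], by decide, by decide⟩,
   ⟨![2, 0, 1, 3, 4, 5, 6, 7], ![1, 2, 0, 3, 4, 5, 6, 7], by decide, by decide⟩,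
   ⟨![1, 2, 0, 4, 5, 3, 6, 7], ![2, 0, 1, 5, 3, 4, 6, 7], by decide, by decide⟩,
   ⟨![0, 2, 1, 3, 4, 5, 7, 6], ![0, 2, 1, 3, 4, 5, 7, 6], by decide, by decide⟩,
   ⟨![0, 1, 2, 5, 3, 4, 6, 7], ![0, 1, 2, 4, 5, 3, 6, 7], by decide, by decide⟩,
   ⟨![1, 0, 2, 4, 5, 3, 7, 6], ![1, 0, 2, 5, 3, 4, 7, 6], by decide, by decide⟩,
   ⟨![2, 1, 0, 3, 4, 5, 7, 6], ![2, 1, 0, 3, 4, 5, 7, 6], by decide, by decide⟩,
   ⟨![2, 0, 1, 4, 5, 3, 6, 7], ![1, 2, 0, 5, 3, 4, 6, 7], by decide, by decide⟩,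
   ⟨![1, 2, 0, 5, 3, 4, 6, 7], ![2, 0, 1, 4, 5, 3, 6, 7], by decide, by decide⟩,
   ⟨![0, 2, 1, 4, 5, 3, 7, 6], ![0, 2, 1, 5, 3, 4, 7, 6], by decide, by decide⟩,
   ⟨![1, 0, 2, 5, 3, 4, 7, 6], ![1, 0, 2, 4, 5, 3, 7, 6], by decide, by decide⟩,
   ⟨![2, 1, 0, 4, 5, 3, 7, 6], ![2, 1, 0, 5, 3, 4, 7, 6], by decide, by decide⟩,
   ⟨![2, 0, 1, 5, 3, 4, 6, 7], ![1, 2, 0, 4, 5, 3, 6, 7], by decide, by decide⟩,
   ⟨![0, 2, 1, 5, 3, 4, 7, 6], ![0, 2, 1, 4, 5, 3, 7, 6], by decide, by decide⟩,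
   ⟨![2, 1, 0, 5, 3, 4, 7, 6], ![2, 1, 0, 4, 5, 3, 7, 6], by decide, by decide⟩]

theorem L8_one : memB 1 L8 = true := by decide +kernel
theorem L8_mul : (L8.all fun x => L8.all fun y => memB (x * y) L8) = true := by decide +kernel
theorem L8_inv : (L8.all fun x => memB x⁻¹ L8) = true := by decide +kernel
theorem L8_exp : (L8.all fun x => permEqB (x * x * x * x * x * x) 1) = true := by decide +kernel
theorem a8_memB : memB a8 L8 = true := by decide +kernel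
theorem b8_memB : memB b8 L8 = true := by decide +kernel
theorem c8_memB : memB c8 L8 = true := by decide +kernel

/-- `(S_3 × C_3)` acting with orbits `3, 3, 2` -/
def K8 : Subgroup (Perm (Fin 8)) := listSubgroup L8 L8_one L8_mul L8_inv

theorem K8_pow_six : ∀ x ∈ K8, x ^ 6 = 1 := by
  intro x hx
  have h := L8_exp
  rw [List.all_eq_true] at h
  have := (permEqB_iff _ _).1 (h x hx)
  rw [← this]
  simp only [pow_succ, pow_zero, one_mul]

theorem a8_mem : a8 ∈ K8 := (memB_iff _ _).1 a8_memB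
theorem b8_mem : b8 ∈ K8 := (memB_iff _ _).1 b8_memB
theorem c8_mem : c8 ∈ K8 := (memB_iff _ _).1 c8_memB

theorem sign_a8 : Perm.sign a8 = 1 := by decide +kernel
theorem sign_b8 : Perm.sign b8 = 1 := by decide +kernel
theorem sign_c8 : Perm.sign c8 = 1 := by decide +kernel

theorem no_invariant_partition : ∀ B : Finset (Fin 8), B.card = 4 →
    ¬ (((∀ x ∈ B, a8 x ∈ B) ∨ (∀ x ∈ B, a8 x ∉ B)) ∧ ((∀ x ∈ B, b8 x ∈ B) ∨ (∀ x ∈ B, b8 x ∉ B)) ∧
      ((∀ x ∈ B, c8 x ∈ B) ∨ (∀ x ∈ B, c8 x ∉ B))) := by decide +kernel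

end Cfsg.Agent.Lib.Helper49.S2534
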