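import Mathlib
import Cfsg.Prelude.Def_GeometricClasses
import Cfsg.Prelude.Def_ClassicalGeometry

/-!
# Monomial matrices (helper49; for BHRSU4-[E-SU4-DEC3])

`mono σ l` is the matrix with `e_v ↦ l v • e_{σ v}`.
-/

set_option autoImplicit false
set_option linter.unusedSectionVars false

namespace Cfsg.Agent.Lib.Helper49.Su4

open Cfsg Cfsg.Geo
open scoped Matrix

variable {ι : Type} [Fintype ι] [DecidableEq ι] {F : Type*} [Field F]

/-- the monomial matrix `e_v ↦ l v • e_{σ v}` -/
def mono (σ : Equiv.Perm ι) (l : ι → F) : Matrix ι ι F :=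
  Matrix.of fun u v => if u = σ v then l v else 0

theorem mono_apply (σ : Equiv.Perm ι) (l : ι → F) (u v : ι) :
    mono σ l u v = if u = σ v then l v else 0 := rfl

theorem mono_mul (σ τ : Equiv.Perm ι) (l k : ι → F) :
    mono σ l * mono τ k = mono (σ * τ) (fun v => l (τ v) * k v) := by
  ext u w
  rw [Matrix.mul_apply, Finset.sum_eq_single (τ w)]
  · simp only [mono_apply, Equiv.Perm.mul_apply, if_true]
    by_cases h : u = σ (τ w)
    · simp [h]
    · simp [h]
  · intro v _ hv
    simp [mono_apply, hv]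
  · intro h
    exact absurd (Finset.mem_univ _) h

theorem mono_one : mono (1 : Equiv.Perm ι) (fun _ => (1 : F)) = 1 := by
  ext u v
  rw [mono_apply, Matrix.one_apply, Equiv.Perm.one_apply]

theorem mono_one_eq_diagonal (l : ι → F) : mono (1 : Equiv.Perm ι) l = Matrix.diagonal l := by
  ext u v
  simp only [mono_apply, Equiv.Perm.one_apply, Matrix.diagonal_apply]
  by_cases h : u = v
  · subst h; simp
  · simp [h]

theorem mono_mulVec (σ : Equiv.Perm ι) (l : ι → F) (x : ι → F) (u : ι) :
    (mono σ l *ᵥ x) u = l (σ⁻¹ u) * x (σ⁻¹ u) := by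
  rw [Matrix.mulVec, dotProduct, Finset.sum_eq_single (σ⁻¹ u)]
  · simp [mono_apply]
  · intro v _ hv
    have : u ≠ σ v := by
      intro h
      apply hv
      rw [h]
      simp
    simp [mono_apply, this]
  · intro h
    exact absurd (Finset.mem_univ _) h

/-- the inverse data -/
def invData (σ : Equiv.Perm ι) (l : ι → F) : ι → F := fun v => (l (σ⁻¹ v))⁻¹

theorem mono_mul_inv (σ : Equiv.Perm ι) (l : ι → F) (hl : ∀ v, l v ≠ 0) :
    mono σ l * mono σ⁻¹ (invData σ l) = 1 := by
  rw [mono_mul, mul_inv_cancel, ← mono_one]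
  congr 1
  funext v
  simp [invData, hl]

theorem mono_inv_mul (σ : Equiv.Perm ι) (l : ι → F) (hl : ∀ v, l v ≠ 0) :
    mono σ⁻¹ (invData σ l) * mono σ l = 1 := by
  rw [mono_mul, inv_mul_cancel, ← mono_one]
  congr 1
  funext v
  simp [invData, hl]

/-- the determinant of a monomial matrix, up to sign -/
theorem det_mono_sq (σ : Equiv.Perm ι) (l : ι → F) : (mono σ l).det ^ 2 = (∏ v, l v) ^ 2 := by
  have h : mono σ l = (σ⁻¹).permMatrix F * Matrix.diagonal l := by
    ext u v
    rw [Matrix.mul_diagonal, mono_apply, Equiv.Perm.permMatrix, PEquiv.toMatrix_apply]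
    simp only [Equiv.toPEquiv_apply, Option.mem_def, Option.some.injEq]
    by_cases h : u = σ v
    · subst h; simp
    · have : σ.symm u ≠ v := by
        intro h'
        apply h
        rw [← h']
        simp
      simp [h, this]
  rw [h, Matrix.det_mul, Matrix.det_permutation, Matrix.det_diagonal, mul_pow]
  have : ((Equiv.Perm.sign σ⁻¹ : ℤˣ) : F) ^ 2 = 1 := by
    rcases Int.units_eq_one_or (Equiv.Perm.sign σ⁻¹) with h | h <;> simp [h]
  simp only [this, one_mul]

/-- a monomial matrix with coefficients of norm one preserves the hermitian form -/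
theorem hermForm_mono {n q : ℕ} (σ : Equiv.Perm (Fin n)) (l : Fin n → F) (hl : ∀ v, l v ^ (q + 1) = 1)
    (x y : Fin n → F) : hermForm n F q (mono σ l *ᵥ x) (mono σ l *ᵥ y) = hermForm n F q x y := by
  unfold hermForm
  simp only [mono_mulVec]
  rw [← Equiv.sum_comp σ]
  apply Finset.sum_congr rfl
  intro v _
  have h1 : σ⁻¹ (σ v) = v := by simp
  rw [h1]
  have := hl v
  rw [mul_pow]
  linear_combination (x v * y v ^ q) * this

/-- a monomial matrix with non-zero coefficients as an element of `GL` -/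
def monoUnit (σ : Equiv.Perm ι) (l : ι → F) (hl : ∀ v, l v ≠ 0) : GL ι F :=
  ⟨mono σ l, mono σ⁻¹ (invData σ l), mono_mul_inv σ l hl, mono_inv_mul σ l hl⟩

@[simp] theorem monoUnit_val (σ : Equiv.Perm ι) (l : ι → F) (hl : ∀ v, l v ≠ 0) :
    ((monoUnit σ l hl : GL ι F) : Matrix ι ι F) = mono σ l := rfl

theorem monoUnit_inv_val (σ : Equiv.Perm ι) (l : ι → F) (hl : ∀ v, l v ≠ 0) :
    (((monoUnit σ l hl)⁻¹ : GL ι F) : Matrix ι ι F) = mono σ⁻¹ (invData σ l) := rfl

theorem mul_mono_apply (A : Matrix ι ι F) (σ : Equiv.Perm ι) (l : ι → F) (u v : ι) :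
    (A * mono σ l) u v = A u (σ v) * l v := by
  rw [Matrix.mul_apply, Finset.sum_eq_single (σ v)]
  · simp [mono_apply]
  · intro t _ ht
    simp [mono_apply, ht]
  · intro h
    exact absurd (Finset.mem_univ _) h

/-- the hermitian form as a dot product -/
theorem hermForm_eq_dot {n q : ℕ} (x y : Fin n → F) :
    hermForm n F q x y = x ⬝ᵥ (fun i => y i ^ q) := rfl

theorem frob_mulVec (p : ℕ) [Fact p.Prime] [CharP F p] {n : ℕ} (M : Matrix (Fin n) (Fin n) F) (y : Fin n → F) :
    (fun i => (M *ᵥ y) i ^ p) = (M.map (· ^ p)) *ᵥ (fun i => y i ^ p) := by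
  funext i
  simp only [Matrix.mulVec, dotProduct, Matrix.map_apply]
  rw [sum_pow_char]
  simp only [mul_pow]

/-- a matrix with `Mᵀ * M^(p) = 1` preserves the hermitian form (`q = p` prime) -/
theorem hermForm_mulVec_of_unitary (p : ℕ) [Fact p.Prime] [CharP F p] {n : ℕ} (M : Matrix (Fin n) (Fin n) F)
    (hM : Mᵀ * M.map (· ^ p) = 1) (x y : Fin n → F) :
    hermForm n F p (M *ᵥ x) (M *ᵥ y) = hermForm n F p x y := by
  rw [hermForm_eq_dot, hermForm_eq_dot, frob_mulVec p, ← Matrix.vecMul_transpose, ← Matrix.dotProduct_mulVec,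
    Matrix.mulVec_mulVec, hM, Matrix.one_mulVec]

theorem herm_smul_smul' {n q : ℕ} (t : F) (x y : Fin n → F) :
    hermForm n F q (t • x) (t • y) = t ^ (q + 1) * hermForm n F q x y := by
  unfold hermForm
  rw [Finset.mul_sum]
  apply Finset.sum_congr rfl
  intro i _
  simp only [Pi.smul_apply, smul_eq_mul]
  ring

theorem herm_smul_left' {n q : ℕ} (t : F) (x y : Fin n → F) :
    hermForm n F q (t • x) y = t * hermForm n F q x y := by
  unfold hermForm
  rw [Finset.mul_sum]
  apply Finset.sum_congr rfl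
  intro i _
  simp only [Pi.smul_apply, smul_eq_mul]
  ring

end Cfsg.Agent.Lib.Helper49.Su4
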