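import Mathlib
import Cfsg.Prelude.Def_GeometricClasses
import Cfsg.Prelude.Def_ClassicalGeometry
import Cfsg.Agent.Lib.Helper49.Su4Mono

/-!
# The group `4 ∘ 2^(1+4)` of monomial `4 × 4` matrices (helper49; for BHRSU4-[E-SU4-DEC3])
-/

set_option autoImplicit false
set_option linter.unusedSectionVars false

namespace Cfsg.Agent.Lib.Helper49.Su4

open Cfsg Cfsg.Geo
open scoped Matrix

variable {F : Type*} [Field F]

theorem xor_xor_cancel : ∀ a v : Fin 4, (v ^^^ a) ^^^ a = v := by decide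

/-- translation by `a` in `(ℤ/2)²` -/
def xorPerm (a : Fin 4) : Equiv.Perm (Fin 4) where
  toFun v := v ^^^ a
  invFun v := v ^^^ a
  left_inv v := xor_xor_cancel a v
  right_inv v := xor_xor_cancel a v

@[simp] theorem xorPerm_apply (a v : Fin 4) : xorPerm a v = v ^^^ a := rfl

theorem xorPerm_mul : ∀ a a' : Fin 4, xorPerm a * xorPerm a' = xorPerm (a' ^^^ a) := by decide

theorem xorPerm_inv : ∀ a : Fin 4, (xorPerm a)⁻¹ = xorPerm a := by decide

theorem xorPerm_zero : xorPerm 0 = 1 := by decide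

theorem xorPerm_self_mul : ∀ a : Fin 4, xorPerm a * xorPerm a = 1 := by decide

/-- the translations are normalised by all permutations -/
theorem conj_xorPerm : ∀ (π : Equiv.Perm (Fin 4)) (a : Fin 4), ∃ a' : Fin 4,
    π * xorPerm a * π⁻¹ = xorPerm a' := by decide

/-- the coefficient functions of the group `R0` -/
def IsR0Coeff (κ : Fin 4 → F) : Prop :=
  (∀ v, κ v ^ 4 = 1) ∧ (∀ u v, κ u ^ 2 = κ v ^ 2) ∧ ∏ v, κ v = 1

theorem IsR0Coeff.ne_zero {κ : Fin 4 → F} (h : IsR0Coeff κ) (v : Fin 4) : κ v ≠ 0 := by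
  intro h0
  have := h.1 v
  rw [h0] at this
  simp at this

theorem isR0Coeff_one : IsR0Coeff (fun _ : Fin 4 => (1 : F)) :=
  ⟨fun _ => by simp, fun _ _ => rfl, by simp⟩

theorem IsR0Coeff.mul_comp {κ κ' : Fin 4 → F} (h : IsR0Coeff κ) (h' : IsR0Coeff κ') (a' : Fin 4) :
    IsR0Coeff (fun v => κ (xorPerm a' v) * κ' v) := by
  refine ⟨fun v => ?_, fun u v => ?_, ?_⟩
  · rw [mul_pow, h.1, h'.1, one_mul]
  · rw [mul_pow, mul_pow, h.2.1 _ 0, h'.2.1 _ 0, h.2.1 (xorPerm a' v) 0, h'.2.1 v 0]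
  · rw [Finset.prod_mul_distrib, Equiv.prod_comp (xorPerm a') κ, h.2.2, h'.2.2, one_mul]

theorem IsR0Coeff.invData {κ : Fin 4 → F} (h : IsR0Coeff κ) (a : Fin 4) :
    IsR0Coeff (invData (xorPerm a) κ) := by
  refine ⟨fun v => ?_, fun u v => ?_, ?_⟩
  · simp only [Su4.invData, inv_pow, h.1, inv_one]
  · simp only [Su4.invData, inv_pow]
    rw [h.2.1 _ 0, h.2.1 ((xorPerm a)⁻¹ v) 0]
  · simp only [Su4.invData]
    rw [Finset.prod_inv_distrib, Equiv.prod_comp (xorPerm a)⁻¹ κ, h.2.2, inv_one]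

/-- the matrices of `R0` -/
def R0set : Set (Matrix (Fin 4) (Fin 4) F) :=
  {M | ∃ (a : Fin 4) (κ : Fin 4 → F), IsR0Coeff κ ∧ M = mono (xorPerm a) κ}

/-- the group `R0 = 4 ∘ 2^(1+4)` (for `|F| = 9`) -/
def R0 (F : Type*) [Field F] : Subgroup (GL (Fin 4) F) where
  carrier := {g | (g : Matrix (Fin 4) (Fin 4) F) ∈ R0set}
  one_mem' := ⟨0, fun _ => 1, isR0Coeff_one, by rw [xorPerm_zero, mono_one]; rfl⟩
  mul_mem' := by
    rintro g g' ⟨a, κ, hκ, hg⟩ ⟨a', κ', hκ', hg'⟩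
    refine ⟨a' ^^^ a, _, hκ.mul_comp hκ' a', ?_⟩
    rw [Units.val_mul, hg, hg', mono_mul, xorPerm_mul]
  inv_mem' := by
    rintro g ⟨a, κ, hκ, hg⟩
    refine ⟨a, _, hκ.invData a, ?_⟩
    have h1 : (g : Matrix (Fin 4) (Fin 4) F) * mono (xorPerm a) (invData (xorPerm a) κ) = 1 := by
      rw [hg]
      have := mono_mul_inv (xorPerm a) κ hκ.ne_zero
      rwa [xorPerm_inv] at this
    exact Units.inv_eq_of_mul_eq_one_right h1

theorem mem_R0_iff (g : GL (Fin 4) F) : g ∈ R0 F ↔ (g : Matrix (Fin 4) (Fin 4) F) ∈ R0set := Iff.rfl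

/-- every element of `R0` has order dividing `8` -/
theorem pow_eight_of_mem_R0set {M : Matrix (Fin 4) (Fin 4) F} (hM : M ∈ R0set) : M ^ 8 = 1 := by
  obtain ⟨a, κ, hκ, rfl⟩ := hM
  have h2 : mono (xorPerm a) κ ^ 2 = Matrix.diagonal (fun v => κ (xorPerm a v) * κ v) := by
    rw [pow_two, mono_mul, xorPerm_self_mul, mono_one_eq_diagonal]
  have h8 : (8 : ℕ) = 2 * 4 := by norm_num
  rw [h8, pow_mul, h2, Matrix.diagonal_pow]
  rw [← Matrix.diagonal_one]
  congr 1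
  funext v
  simp only [Pi.pow_apply, mul_pow, hκ.1, one_mul, Pi.one_apply]

theorem isPGroup_R0 : IsPGroup 2 (R0 F) := by
  intro g
  refine ⟨3, ?_⟩
  apply Subtype.ext
  apply Units.ext
  have := pow_eight_of_mem_R0set g.2
  simpa using this

/-- `R0` consists of isometries of the hermitian form when `q + 1 = 4` -/
theorem R0_le_GU : R0 F ≤ GU 4 F 3 := by
  rintro g ⟨a, κ, hκ, hg⟩
  intro u v
  change hermForm 4 F 3 ((g : Matrix (Fin 4) (Fin 4) F) *ᵥ u) ((g : Matrix (Fin 4) (Fin 4) F) *ᵥ v) = _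
  rw [hg]
  exact hermForm_mono _ _ hκ.1 u v

end Cfsg.Agent.Lib.Helper49.Su4
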