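import Mathlib
import Cfsg.Prelude.Def_GeometricClasses
import Cfsg.Prelude.Def_ClassicalGeometry
import Cfsg.Agent.Lib.Helper49.Su4R0

/-!
# Characters of `(ℤ/2)²`, spanning, and the parametrisation of `R0` (helper49; BHRSU4-[E-SU4-DEC3])
-/

set_option autoImplicit false
set_option linter.unusedSectionVars false

namespace Cfsg.Agent.Lib.Helper49.Su4

open Cfsg Cfsg.Geo
open scoped Matrix

variable {F : Type*} [Field F]

/-- the dot product of two elements of `(ℤ/2)²` -/
def dotb (b v : Fin 4) : Bool := (b.val &&& v.val) == 1 || (b.val &&& v.val) == 2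

/-- the character `v ↦ (-1)^(b·v)` -/
def sg (b v : Fin 4) : F := if dotb b v then -1 else 1

theorem dotb_symm : ∀ b v : Fin 4, dotb b v = dotb v b := by decide

theorem dotb_xor_right : ∀ b v a : Fin 4, dotb b (v ^^^ a) = xor (dotb b v) (dotb b a) := by decide

theorem sg_symm (b v : Fin 4) : (sg b v : F) = sg v b := by
  unfold sg; rw [dotb_symm]

theorem sg_sq (b v : Fin 4) : (sg b v : F) ^ 2 = 1 := by
  unfold sg; split_ifs <;> ring

theorem sg_pow_four (b v : Fin 4) : (sg b v : F) ^ 4 = 1 := by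
  unfold sg; split_ifs <;> ring

theorem sg_cube (b v : Fin 4) : (sg b v : F) ^ 3 = sg b v := by
  unfold sg; split_ifs <;> ring

theorem sg_zero_left (v : Fin 4) : (sg 0 v : F) = 1 := by
  fin_cases v <;> simp [sg, dotb]

theorem sg_zero_right (v : Fin 4) : (sg v 0 : F) = 1 := by
  rw [sg_symm, sg_zero_left]

theorem sg_xor_right (b v a : Fin 4) : (sg b (v ^^^ a) : F) = sg b v * sg b a := by
  unfold sg
  rw [dotb_xor_right]
  cases dotb b v <;> cases dotb b a <;> simp

theorem sg_xor_left (b c v : Fin 4) : (sg (b ^^^ c) v : F) = sg b v * sg c v := by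
  rw [sg_symm, sg_xor_right, sg_symm v b, sg_symm v c]

theorem sum_sg (h3 : (3 : F) = 0) (t : Fin 4) : ∑ v, (sg t v : F) = if t = 0 then 1 else 0 := by
  rw [Fin.sum_univ_four]
  fin_cases t <;> simp [sg, dotb]
  linear_combination h3

theorem prod_sg (b : Fin 4) : ∏ v, (sg b v : F) = 1 := by
  rw [Fin.prod_univ_four]
  fin_cases b <;> simp [sg, dotb]

theorem xor_eq_zero_iff : ∀ u w : Fin 4, u ^^^ w = 0 ↔ u = w := by decide

theorem xor_cancel_mid : ∀ u w : Fin 4, w ^^^ (u ^^^ w) = u := by decide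

theorem isR0Coeff_sg (c : F) (hc : c ^ 4 = 1) (b : Fin 4) : IsR0Coeff (fun v => c * sg b v) := by
  refine ⟨fun v => ?_, fun u v => ?_, ?_⟩
  · rw [mul_pow, hc, sg_pow_four, one_mul]
  · rw [mul_pow, mul_pow, sg_sq, sg_sq]
  · rw [Finset.prod_mul_distrib, prod_sg, mul_one, Finset.prod_const]
    simpa using hc

/-- the parametrisation of the coefficient functions -/
theorem IsR0Coeff.exists_sg (h2 : (2 : F) ≠ 0) {κ : Fin 4 → F} (h : IsR0Coeff κ) :
    ∃ (c : F) (b : Fin 4), c ^ 4 = 1 ∧ κ = fun v => c * sg b v := by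
  have hpm : ∀ v, κ v = κ 0 ∨ κ v = - κ 0 := by
    intro v
    have := h.2.1 v 0
    have h' : (κ v - κ 0) * (κ v + κ 0) = 0 := by linear_combination this
    rcases mul_eq_zero.mp h' with h1 | h1
    · left; linear_combination h1
    · right; linear_combination h1
  have hc := h.1 0
  have hprod := h.2.2
  rw [Fin.prod_univ_four] at hprod
  have hneg : ¬ (-(κ 0 ^ 4) = 1) := by
    rw [hc]
    intro h'
    apply h2
    linear_combination -h'
  refine ⟨κ 0, ?_⟩
  rcases hpm 1 with h1 | h1 <;> rcases hpm 2 with h2' | h2' <;> rcases hpm 3 with h3' | h3'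
  · refine ⟨0, hc, ?_⟩
    funext v; fin_cases v <;> simp [sg, dotb, h1, h2', h3']
  · exfalso; apply hneg; rw [h1, h2', h3'] at hprod; linear_combination hprod
  · exfalso; apply hneg; rw [h1, h2', h3'] at hprod; linear_combination hprod
  · refine ⟨2, hc, ?_⟩
    funext v; fin_cases v <;> simp [sg, dotb, h1, h2', h3']
  · exfalso; apply hneg; rw [h1, h2', h3'] at hprod; linear_combination hprod
  · refine ⟨1, hc, ?_⟩
    funext v; fin_cases v <;> simp [sg, dotb, h1, h2', h3']
  · refine ⟨3, hc, ?_⟩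
    funext v; fin_cases v <;> simp [sg, dotb, h1, h2', h3']
  · exfalso; apply hneg; rw [h1, h2', h3'] at hprod; linear_combination hprod

end Cfsg.Agent.Lib.Helper49.Su4
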