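import Mathlib
import Cfsg.Prelude.Def_GeometricClasses
import Cfsg.Prelude.Def_ClassicalGeometry
import Cfsg.Agent.Lib.Helper49.Su4Sg

/-!
# Spanning and normalisation of `R0` (helper49; BHRSU4-[E-SU4-DEC3])
-/

set_option autoImplicit false
set_option linter.unusedSectionVars false

namespace Cfsg.Agent.Lib.Helper49.Su4

open Cfsg Cfsg.Geo
open scoped Matrix

variable {F : Type*} [Field F]

theorem sum_sg_mul (h3 : (3 : F) = 0) (w c : Fin 4) :
    ∑ b, (sg b w : F) * sg b c = if w = c then 1 else 0 := by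
  have : ∀ b, (sg b w : F) * sg b c = sg (w ^^^ c) b := by
    intro b
    rw [← sg_xor_right, sg_symm]
  simp only [this]
  rw [sum_sg h3]
  simp only [xor_eq_zero_iff]

/-- the unit `X^a Z^b` of `R0` -/
def pauli (a b : Fin 4) : GL (Fin 4) F :=
  monoUnit (xorPerm a) (fun v => (1 : F) * sg b v) (isR0Coeff_sg 1 (one_pow 4) b).ne_zero

theorem pauli_mem (a b : Fin 4) : (pauli a b : GL (Fin 4) F) ∈ R0 F :=
  ⟨a, _, isR0Coeff_sg 1 (one_pow 4) b, rfl⟩

theorem single_mem_span (h3 : (3 : F) = 0) (u w : Fin 4) :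
    Matrix.single u w (1 : F) ∈ Submodule.span F (matrixSet (R0 F)) := by
  have key : Matrix.single u w (1 : F) =
      ∑ b, (sg b w : F) • ((pauli (u ^^^ w) b : GL (Fin 4) F) : Matrix (Fin 4) (Fin 4) F) := by
    ext r c
    rw [Matrix.sum_apply]
    simp only [Matrix.smul_apply, pauli, monoUnit_val, mono_apply, xorPerm_apply, smul_eq_mul,
      Matrix.single_apply, one_mul]
    by_cases hr : r = c ^^^ (u ^^^ w)
    · simp only [hr, if_true]
      rw [sum_sg_mul h3]
      by_cases hwc : w = c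
      · subst hwc
        rw [xor_cancel_mid]
        simp
      · simp [hwc]
    · have : ¬ (u = r ∧ w = c) := by
        rintro ⟨h1, h2⟩
        apply hr
        rw [← h1, ← h2, xor_cancel_mid]
      simp [hr, this]
  rw [key]
  refine Submodule.sum_mem _ fun b _ => Submodule.smul_mem _ _ (Submodule.subset_span ?_)
  exact ⟨_, pauli_mem _ b, rfl⟩

theorem span_R0 (h3 : (3 : F) = 0) : Submodule.span F (matrixSet (R0 F)) = ⊤ := by
  rw [eq_top_iff]
  intro M _
  rw [Matrix.matrix_eq_sum_single M]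
  refine Submodule.sum_mem _ fun u _ => Submodule.sum_mem _ fun w _ => ?_
  have : Matrix.single u w (M u w) = M u w • Matrix.single u w (1 : F) := by
    rw [Matrix.smul_single, smul_eq_mul, mul_one]
  rw [this]
  exact Submodule.smul_mem _ _ (single_mem_span h3 u w)

theorem IsR0Coeff.comp_perm {κ : Fin 4 → F} (h : IsR0Coeff κ) (π : Equiv.Perm (Fin 4)) :
    IsR0Coeff (fun v => κ (π v)) :=
  ⟨fun v => h.1 _, fun u v => h.2.1 _ _, by rw [Equiv.prod_comp π κ, h.2.2]⟩

theorem xor_table : ∀ a w : Fin 4,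
    w ^^^ a = ![![0, 1, 2, 3], ![1, 0, 3, 2], ![2, 3, 0, 1], ![3, 2, 1, 0]] a w := by decide

/-- pair products of signs with total product one do not depend on the pair -/
theorem pair_const (h2 : (2 : F) ≠ 0) (m : Fin 4 → F) (hm : ∀ k, m k ^ 2 = 1)
    (hp : m 0 * m 1 * m 2 * m 3 = 1) (a w w' : Fin 4) :
    m (w ^^^ a) * m w = m (w' ^^^ a) * m w' := by
  have hm' : ∀ k, m k = 1 ∨ m k = -1 := fun k => (by
    have h' : (m k - 1) * (m k + 1) = 0 := by linear_combination hm k
    rcases mul_eq_zero.mp h' with h1 | h1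
    · left; linear_combination h1
    · right; linear_combination h1)
  have hneg : (-1 : F) ≠ 1 := by
    intro h
    apply h2
    linear_combination -h
  rcases hm' 0 with h0 | h0 <;> rcases hm' 1 with h1 | h1 <;> rcases hm' 2 with h2' | h2' <;>
    rcases hm' 3 with h3' | h3' <;> rw [h0, h1, h2', h3'] at hp <;>
    first
    | (exfalso; apply hneg; linear_combination hp)
    | (rw [xor_table a w, xor_table a w']
       fin_cases a <;> fin_cases w <;> fin_cases w' <;> simp [h0, h1, h2', h3'])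

/-- monomial matrices with coefficients of norm one and determinant `±1` normalise `R0` -/
theorem mono_conj_mem_R0set (h2 : (2 : F) ≠ 0) (π : Equiv.Perm (Fin 4)) (l : Fin 4 → F)
    (hl : ∀ v, l v ^ 4 = 1) (hdet : (∏ v, l v) ^ 2 = 1) {M : Matrix (Fin 4) (Fin 4) F} (hM : M ∈ R0set) :
    mono π l * M * mono π⁻¹ (invData π l) ∈ R0set := by
  obtain ⟨a, κ, hκ, rfl⟩ := hM
  obtain ⟨a', ha'⟩ := conj_xorPerm π a
  have hl0 : ∀ v, l v ≠ 0 := by
    intro v h0
    have := hl v
    rw [h0] at this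
    simp at this
  set m : Fin 4 → F := fun k => l k ^ 2 with hm
  have hmsq : ∀ k, m k ^ 2 = 1 := by
    intro k
    rw [hm]
    show (l k ^ 2) ^ 2 = 1
    rw [← pow_mul]
    exact hl k
  have hmprod : m 0 * m 1 * m 2 * m 3 = 1 := by
    rw [Fin.prod_univ_four] at hdet
    rw [hm]
    show l 0 ^ 2 * l 1 ^ 2 * l 2 ^ 2 * l 3 ^ 2 = 1
    linear_combination hdet
  have hinvsq : ∀ k, ((l k)⁻¹) ^ 2 = m k := by
    intro k
    have h4 := hl k
    have h0 := hl0 k
    rw [hm]
    show ((l k)⁻¹) ^ 2 = l k ^ 2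
    field_simp
    linear_combination -h4
  have hf : IsR0Coeff (fun w => l (xorPerm a w) * κ w * (l w)⁻¹) := by
    refine ⟨fun v => ?_, fun u v => ?_, ?_⟩
    · rw [mul_pow, mul_pow, hl, hκ.1, inv_pow, hl]
      simp
    · rw [mul_pow, mul_pow, mul_pow, mul_pow, hinvsq, hinvsq, hκ.2.1 u 0, hκ.2.1 v 0]
      have := pair_const h2 m hmsq hmprod a u v
      simp only [xorPerm_apply]
      have e1 : l (u ^^^ a) ^ 2 = m (u ^^^ a) := rfl
      have e2 : l (v ^^^ a) ^ 2 = m (v ^^^ a) := rfl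
      rw [e1, e2]
      linear_combination (κ 0 ^ 2) * this
    · rw [Finset.prod_mul_distrib, Finset.prod_mul_distrib, Equiv.prod_comp (xorPerm a) l, hκ.2.2,
        Finset.prod_inv_distrib, mul_one]
      apply mul_inv_cancel₀
      intro h0
      rw [h0] at hdet
      simp at hdet
  refine ⟨a', _, hf.comp_perm π⁻¹, ?_⟩
  rw [mono_mul, mono_mul, ha']
  rfl

end Cfsg.Agent.Lib.Helper49.Su4
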