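import Mathlib
import Cfsg.Prelude.Def_GeometricClasses
import Cfsg.Prelude.Def_ClassicalGeometry
import Cfsg.Agent.Lib.Helper49.Su4Norm

/-!
# The Hadamard matrix normalises `R0` (helper49; BHRSU4-[E-SU4-DEC3])
-/

set_option autoImplicit false
set_option linter.unusedSectionVars false

namespace Cfsg.Agent.Lib.Helper49.Su4

open Cfsg Cfsg.Geo
open scoped Matrix

variable {F : Type*} [Field F]

/-- the character table of `(ℤ/2)²` -/
def W4 (F : Type*) [Field F] : Matrix (Fin 4) (Fin 4) F := Matrix.of fun u v => sg u v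

theorem W4_apply (u v : Fin 4) : W4 F u v = sg u v := rfl

theorem W4_transpose : (W4 F)ᵀ = W4 F := by
  ext u v
  rw [Matrix.transpose_apply, W4_apply, W4_apply, sg_symm]

theorem W4_map_cube : (W4 F).map (· ^ 3) = W4 F := by
  ext u v
  rw [Matrix.map_apply, W4_apply, sg_cube]

theorem W4_mul_W4 (h3 : (3 : F) = 0) : W4 F * W4 F = 1 := by
  ext u w
  rw [Matrix.mul_apply, Matrix.one_apply]
  simp only [W4_apply]
  have : ∀ v, (sg u v : F) * sg v w = sg v u * sg v w := fun v => by rw [sg_symm]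
  simp only [this]
  rw [sum_sg_mul h3]

theorem xor3_eq_zero_iff : ∀ u b w : Fin 4, (u ^^^ b) ^^^ w = 0 ↔ u = w ^^^ b := by decide

theorem W4_conj (h3 : (3 : F) = 0) (a b : Fin 4) (c : F) :
    W4 F * mono (xorPerm a) (fun v => c * sg b v) * W4 F =
      mono (xorPerm b) (fun w => c * sg a (w ^^^ b)) := by
  ext u w
  rw [Matrix.mul_apply]
  simp only [mul_mono_apply, W4_apply, xorPerm_apply, mono_apply]
  have : ∀ v, (sg u (v ^^^ a) : F) * (c * sg b v) * sg v w = (c * sg u a) * sg ((u ^^^ b) ^^^ w) v := by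
    intro v
    rw [sg_xor_right, sg_xor_left, sg_xor_left, sg_symm v w]
    ring
  simp only [this]
  rw [← Finset.mul_sum, sum_sg h3]
  simp only [xor3_eq_zero_iff]
  by_cases h : u = w ^^^ b
  · simp only [h, if_true, mul_one]
    rw [sg_symm]
  · simp [h]

theorem W4_conj_mem_R0set (h2 : (2 : F) ≠ 0) (h3 : (3 : F) = 0) {M : Matrix (Fin 4) (Fin 4) F}
    (hM : M ∈ R0set) : W4 F * M * W4 F ∈ R0set := by
  obtain ⟨a, κ, hκ, rfl⟩ := hM
  obtain ⟨c, b, hc, rfl⟩ := hκ.exists_sg h2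
  rw [W4_conj h3]
  exact ⟨b, _, (isR0Coeff_sg c hc a).comp_perm (xorPerm b), rfl⟩

theorem W4_eq : W4 F = !![1, 1, 1, 1; 1, -1, 1, -1; 1, 1, -1, -1; 1, -1, -1, 1] := by
  ext u v
  fin_cases u <;> fin_cases v <;> simp [W4_apply, sg, dotb]

theorem det_W4 (h3 : (3 : F) = 0) : (W4 F).det = 1 := by
  rw [W4_eq, Matrix.det_succ_row_zero]
  simp [Fin.sum_univ_succ, Matrix.det_fin_three, Fin.succAbove]
  linear_combination (5 : F) * h3

end Cfsg.Agent.Lib.Helper49.Su4
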