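import Mathlib
import Cfsg.Prelude.Def_GeometricClasses
import Cfsg.Prelude.Def_ClassicalGeometry
import Cfsg.Agent.Lib.Helper49.Su4Had

/-!
# Orthonormal frames for the hermitian form over `F_9` (helper49; BHRSU4-[E-SU4-DEC3])
-/

set_option autoImplicit false
set_option linter.unusedSectionVars false

namespace Cfsg.Agent.Lib.Helper49.Su4

open Cfsg Cfsg.Geo
open scoped Matrix

variable {F : Type*} [Field F] [Fintype F]

theorem three_eq_zero9 (hF : Fintype.card F = 3 ^ 2) : (3 : F) = 0 := by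
  have h := FiniteField.cast_card_eq_zero F
  rw [hF] at h
  have h9 : (3 : F) ^ 2 = 0 := by exact_mod_cast h
  exact pow_eq_zero_iff (two_ne_zero) |>.mp h9

theorem two_ne_zero9 (hF : Fintype.card F = 3 ^ 2) : (2 : F) ≠ 0 := by
  intro h
  have h3 := three_eq_zero9 hF
  have : (1 : F) = 0 := by linear_combination h3 - h
  exact one_ne_zero this

theorem charP9 (hF : Fintype.card F = 3 ^ 2) : CharP F 3 :=
  (CharP.charP_iff_prime_eq_zero Nat.prime_three).mpr (three_eq_zero9 hF)

theorem pow_nine (hF : Fintype.card F = 3 ^ 2) (x : F) : x ^ 9 = x := by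
  have := FiniteField.pow_card x
  rw [hF] at this
  simpa using this

theorem exists_pow_four_eq_neg_one (hF : Fintype.card F = 3 ^ 2) : ∃ μ : F, μ ^ 4 = -1 := by
  classical
  obtain ⟨g, hg⟩ := IsCyclic.exists_generator (α := Fˣ)
  have hord : orderOf g = 8 := by
    rw [orderOf_eq_card_of_forall_mem_zpowers hg, Nat.card_eq_fintype_card, Fintype.card_units, hF]
    norm_num
  have h8 : (g : F) ^ 8 = 1 := by
    have := pow_orderOf_eq_one g
    rw [hord] at this
    have h' := congrArg (fun u : Fˣ => (u : F)) this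
    simpa using h'
  have hsq : ((g : F) ^ 4 - 1) * ((g : F) ^ 4 + 1) = 0 := by linear_combination h8
  rcases mul_eq_zero.mp hsq with h | h
  · exfalso
    have h4 : g ^ 4 = 1 := by
      apply Units.ext
      push_cast
      linear_combination h
    have := orderOf_dvd_of_pow_eq_one h4
    rw [hord] at this
    omega
  · exact ⟨g, by linear_combination h⟩

theorem herm_smul_smul (t : F) (x y : Fin 4 → F) :
    hermForm 4 F 3 (t • x) (t • y) = t ^ 4 * hermForm 4 F 3 x y := by
  unfold hermForm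
  rw [Finset.mul_sum]
  apply Finset.sum_congr rfl
  intro i _
  simp only [Pi.smul_apply, smul_eq_mul]
  ring

theorem herm_smul_left (t : F) (x y : Fin 4 → F) :
    hermForm 4 F 3 (t • x) y = t * hermForm 4 F 3 x y := by
  unfold hermForm
  rw [Finset.mul_sum]
  apply Finset.sum_congr rfl
  intro i _
  simp only [Pi.smul_apply, smul_eq_mul]
  ring

/-- the norm of a vector lies in the prime field -/
theorem herm_self_cube (hF : Fintype.card F = 3 ^ 2) (x : Fin 4 → F) :
    hermForm 4 F 3 x x ^ 3 = hermForm 4 F 3 x x := by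
  have : CharP F 3 := charP9 hF
  have : Fact (Nat.Prime 3) := ⟨Nat.prime_three⟩
  unfold hermForm
  rw [sum_pow_char]
  apply Finset.sum_congr rfl
  intro i _
  have := pow_nine hF (x i)
  calc (x i * x i ^ 3) ^ 3 = x i ^ 9 * x i ^ 3 := by ring
    _ = x i * x i ^ 3 := by rw [this]

/-- a non-degenerate point contains a vector of norm one spanning it -/
theorem exists_unit_vector (hF : Fintype.card F = 3 ^ 2) (W : Submodule F (Fin 4 → F))
    (hW : Module.finrank F W = 1) (hnd : IsNondegenerateOn (hermForm 4 F 3) W) :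
    ∃ v ∈ W, hermForm 4 F 3 v v = 1 ∧ ∀ w ∈ W, ∃ c : F, w = c • v := by
  obtain ⟨⟨w0, hw0W⟩, hw0ne, hw0span⟩ := finrank_eq_one_iff'.mp hW
  have hw0ne' : w0 ≠ 0 := fun h => hw0ne (Subtype.ext h)
  have hspan : ∀ w ∈ W, ∃ c : F, w = c • w0 := by
    intro w hw
    obtain ⟨c, hc⟩ := hw0span ⟨w, hw⟩
    exact ⟨c, by have := congrArg Subtype.val hc; simpa using this.symm⟩
  set a := hermForm 4 F 3 w0 w0 with ha
  have ha0 : a ≠ 0 := by
    obtain ⟨⟨x, hxW, hx⟩, _⟩ := hnd w0 hw0W hw0ne'
    obtain ⟨c, rfl⟩ := hspan x hxW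
    rw [herm_smul_left] at hx
    exact fun h => hx (by rw [← ha, h, mul_zero])
  have ha3 : a ^ 3 = a := herm_self_cube hF w0
  have hapm : a = 1 ∨ a = -1 := by
    have h' : a * ((a - 1) * (a + 1)) = 0 := by linear_combination ha3
    rcases mul_eq_zero.mp h' with h | h
    · exact absurd h ha0
    · rcases mul_eq_zero.mp h with h | h
      · left; linear_combination h
      · right; linear_combination h
  obtain ⟨μ, hμ⟩ := exists_pow_four_eq_neg_one hF
  obtain ⟨t, ht⟩ : ∃ t : F, t ^ 4 * a = 1 := by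
    rcases hapm with h | h
    · exact ⟨1, by rw [h]; ring⟩
    · exact ⟨μ, by rw [h, hμ]; ring⟩
  have ht0 : t ≠ 0 := by
    intro h
    rw [h] at ht
    simp at ht
  refine ⟨t • w0, W.smul_mem t hw0W, by rw [herm_smul_smul, ← ha, ht], ?_⟩
  intro w hw
  obtain ⟨c, rfl⟩ := hspan w hw
  exact ⟨c * t⁻¹, by rw [smul_smul, mul_assoc, inv_mul_cancel₀ ht0, mul_one]⟩

end Cfsg.Agent.Lib.Helper49.Su4
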