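import Mathlib
import Cfsg.Prelude.Def_GeometricClasses
import Cfsg.Prelude.Def_ClassicalGeometry
import Cfsg.Agent.Lib.Helper37.BHRSU.Defs
import Cfsg.Agent.Lib.Helper25.BhrsuP6Exact
import Cfsg.Agent.Lib.Helper49.U92AbsIrrSpan
import Cfsg.Agent.Lib.Helper49.Su4Frame

/-!
# BHRSU4-[E-SU4-DEC3] (helper49, hedge): the stabiliser in `SU_4(3)` of an orthogonal frame is not maximal
-/

set_option autoImplicit false
set_option linter.unusedSectionVars false

namespace Cfsg.Agent.Lib.Helper49.Su4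

open Cfsg Cfsg.Geo Cfsg.Agent.Lib.Helper37.BHRSU
open scoped MatrixGroups Matrix

variable {F : Type*} [Field F] [Fintype F]

theorem GU_le_similarityGroup : GU 4 F 3 ≤ similarityGroup (hermForm 4 F 3) := by
  intro g hg
  exact ⟨1, fun u v => by rw [Units.val_one, one_mul]; exact hg u v⟩

/-- the Hadamard matrix as a unit (`|F| = 9`) -/
def W4u (h3 : (3 : F) = 0) : GL (Fin 4) F := ⟨W4 F, W4 F, W4_mul_W4 h3, W4_mul_W4 h3⟩

theorem W4u_mem_GU (h3 : (3 : F) = 0) [CharP F 3] : W4u h3 ∈ GU 4 F 3 := by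
  intro u v
  apply hermForm_mulVec_of_unitary 3
  show (W4 F)ᵀ * (W4 F).map (· ^ 3) = 1
  rw [W4_transpose, W4_map_cube, W4_mul_W4 h3]

theorem su4_dec3_core (hF : Fintype.card F = 3 ^ 2)
    (D : Fin 4 → Submodule F (Fin 4 → F)) (hD : IsNondegenerateMDecomposition (hermForm 4 F 3) 1 D) :
    ∃ K : Subgroup (GL (Fin 4) F),
      decompositionStabilizer D ⊓ (GU 4 F 3 ⊓ specialLinear (Fin 4) F) < K ∧
        K < GU 4 F 3 ⊓ specialLinear (Fin 4) F := by
  classical
  have h3 := three_eq_zero9 hF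
  have h2 := two_ne_zero9 hF
  have hchar : CharP F 3 := charP9 hF
  -- the orthonormal frame
  have hex : ∀ i, ∃ v ∈ D i, hermForm 4 F 3 v v = 1 ∧ ∀ w ∈ D i, ∃ c : F, w = c • v :=
    fun i => exists_unit_vector hF (D i) (hD.decomp.finrank_eq i) (hD.nondegenerate i)
  choose v hvD hv1 hvspan using hex
  have horth : ∀ i j, i ≠ j → hermForm 4 F 3 (v i) (v j) = 0 :=
    fun i j hij => hD.orthogonal i j hij _ (hvD i) _ (hvD j)
  set P : Matrix (Fin 4) (Fin 4) F := Matrix.of fun r c => v c r with hP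
  have hPapp : ∀ r c, P r c = v c r := fun r c => rfl
  have hPunit : Pᵀ * P.map (· ^ 3) = 1 := by
    ext c c'
    rw [Matrix.mul_apply]
    simp only [Matrix.transpose_apply, Matrix.map_apply, hPapp]
    have : ∑ r, v c r * v c' r ^ 3 = hermForm 4 F 3 (v c) (v c') := rfl
    rw [this, Matrix.one_apply]
    by_cases h : c = c'
    · subst h; rw [hv1]; simp
    · rw [horth c c' h]; simp [h]
  have hdetP : P.det ≠ 0 := by
    have : P.det * (P.map (· ^ 3)).det = 1 := by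
      rw [← Matrix.det_transpose P, ← Matrix.det_mul, hPunit, Matrix.det_one]
    exact left_ne_zero_of_mul_eq_one this
  set Pu : GL (Fin 4) F := Matrix.GeneralLinearGroup.mkOfDetNeZero P hdetP with hPu
  have hPuval : (Pu : Matrix (Fin 4) (Fin 4) F) = P := rfl
  have hPuGU : Pu ∈ GU 4 F 3 := fun u w => hermForm_mulVec_of_unitary 3 P hPunit u w
  have hPP' : ((Pu⁻¹ : GL (Fin 4) F) : Matrix (Fin 4) (Fin 4) F) * P = 1 := by
    rw [← hPuval, ← Units.val_mul, inv_mul_cancel, Units.val_one]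
  -- the group
  set R : Subgroup (GL (Fin 4) F) := (R0 F).map (MulAut.conj Pu).toMonoidHom with hR
  have hconj : ∀ (g g' : GL (Fin 4) F), g * Pu = Pu * g' → (∀ r0 ∈ R0 F, g' * r0 * g'⁻¹ ∈ R0 F) →
      ∀ r ∈ R, g * r * g⁻¹ ∈ R := by
    rintro g g' hgg' hnorm _ ⟨r0, hr0, rfl⟩
    refine ⟨g' * r0 * g'⁻¹, hnorm r0 hr0, ?_⟩
    have hg : g = Pu * g' * Pu⁻¹ := by rw [← hgg']; group
    subst hg
    show Pu * (g' * r0 * g'⁻¹) * Pu⁻¹ = Pu * g' * Pu⁻¹ * (Pu * r0 * Pu⁻¹) * (Pu * g' * Pu⁻¹)⁻¹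
    group
  have hmemN : ∀ g : GL (Fin 4) F, (∀ r ∈ R, g * r * g⁻¹ ∈ R) → (∀ r ∈ R, g⁻¹ * r * g ∈ R) →
      g ∈ subgroupNormalizer R := by
    intro g h1 h2'
    unfold subgroupNormalizer
    rw [Subgroup.mem_normalizer_iff]
    intro x
    constructor
    · exact h1 x
    · intro hx
      have := h2' _ hx
      simpa [mul_assoc] using this
  -- the stabiliser of the frame normalises `R`
  have hstab : ∀ g ∈ decompositionStabilizer D ⊓ (GU 4 F 3 ⊓ specialLinear (Fin 4) F),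
      ∀ r ∈ R, g * r * g⁻¹ ∈ R := by
    rintro g ⟨⟨σ, hσ⟩, hgGU, hgSL⟩
    have hgv : ∀ c, ∃ l : F, (g : Matrix (Fin 4) (Fin 4) F) *ᵥ v c = l • v (σ c) := by
      intro c
      have hmem : (g : Matrix (Fin 4) (Fin 4) F) *ᵥ v c ∈ D (σ c) := by
        rw [← hσ c]
        exact ⟨v c, hvD c, by rw [Matrix.toLin'_apply]⟩
      exact hvspan (σ c) _ hmem
    choose l hl using hgv
    have hl4 : ∀ c, l c ^ 4 = 1 := by
      intro c
      have h1 := hgGU (v c) (v c)
      change hermForm 4 F 3 ((g : Matrix (Fin 4) (Fin 4) F) *ᵥ v c)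
        ((g : Matrix (Fin 4) (Fin 4) F) *ᵥ v c) = _ at h1
      rw [hl c, herm_smul_smul, hv1, hv1, mul_one] at h1
      exact h1
    have hl0 : ∀ c, l c ≠ 0 := by
      intro c h0
      have := hl4 c
      rw [h0] at this
      simp at this
    have hgP : (g : Matrix (Fin 4) (Fin 4) F) * P = P * mono σ l := by
      ext r c
      rw [mul_mono_apply, hPapp]
      have : ((g : Matrix (Fin 4) (Fin 4) F) * P) r c = ((g : Matrix (Fin 4) (Fin 4) F) *ᵥ v c) r := by
        rw [Matrix.mul_apply, Matrix.mulVec, dotProduct]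
        simp only [hPapp]
      rw [this, hl c, Pi.smul_apply, smul_eq_mul, mul_comm]
    have hdetg : (g : Matrix (Fin 4) (Fin 4) F).det = 1 := by
      have : Matrix.GeneralLinearGroup.det g = 1 := hgSL
      have h' := congrArg (fun u : Fˣ => (u : F)) this
      simpa using h'
    have hdetm : (mono σ l).det = 1 := by
      have := congrArg Matrix.det hgP
      rw [Matrix.det_mul, Matrix.det_mul, hdetg, one_mul] at this
      exact (mul_left_cancel₀ hdetP (by rw [mul_one]; exact this)).symm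
    have hprod : (∏ c, l c) ^ 2 = 1 := by
      rw [← det_mono_sq σ l, hdetm, one_pow]
    set g' : GL (Fin 4) F := monoUnit σ l hl0 with hg'
    have hgg' : g * Pu = Pu * g' := by
      apply Units.ext
      rw [Units.val_mul, Units.val_mul, hPuval, hg', monoUnit_val]
      exact hgP
    apply hconj g g' hgg'
    intro r0 hr0
    show ((g' * r0 * g'⁻¹ : GL (Fin 4) F) : Matrix (Fin 4) (Fin 4) F) ∈ R0set
    rw [Units.val_mul, Units.val_mul, hg', monoUnit_val, monoUnit_inv_val]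
    exact mono_conj_mem_R0set h2 σ l hl4 hprod hr0
  -- the Hadamard element
  set g1 : GL (Fin 4) F := Pu * W4u h3 * Pu⁻¹ with hg1
  have hWinv : (W4u h3)⁻¹ = W4u h3 := rfl
  have hg1inv : g1⁻¹ = g1 := by
    rw [hg1, mul_inv_rev, mul_inv_rev, inv_inv, hWinv, mul_assoc]
  have hg1norm : ∀ r ∈ R, g1 * r * g1⁻¹ ∈ R := by
    apply hconj g1 (W4u h3) (by rw [hg1]; group)
    intro r0 hr0
    show ((W4u h3 * r0 * (W4u h3)⁻¹ : GL (Fin 4) F) : Matrix (Fin 4) (Fin 4) F) ∈ R0set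
    rw [hWinv, Units.val_mul, Units.val_mul]
    exact W4_conj_mem_R0set h2 h3 hr0
  have hg1N : g1 ∈ subgroupNormalizer R := by
    apply hmemN g1 hg1norm
    intro r hr
    have := hg1norm r hr
    rwa [hg1inv] at this ⊢
  have hg1GU : g1 ∈ GU 4 F 3 :=
    (GU 4 F 3).mul_mem ((GU 4 F 3).mul_mem hPuGU (W4u_mem_GU h3)) ((GU 4 F 3).inv_mem hPuGU)
  have hg1SL : g1 ∈ specialLinear (Fin 4) F := by
    show Matrix.GeneralLinearGroup.det g1 = 1
    rw [hg1, map_mul, map_mul, map_inv, mul_comm, ← mul_assoc, inv_mul_cancel, one_mul]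
    apply Units.ext
    show (W4 F).det = 1
    exact det_W4 h3
  have hg1not : g1 ∉ decompositionStabilizer D := by
    rintro ⟨σ, hσ⟩
    have hmem : (g1 : Matrix (Fin 4) (Fin 4) F) *ᵥ v 0 ∈ D (σ 0) := by
      rw [← hσ 0]
      exact ⟨v 0, hvD 0, by rw [Matrix.toLin'_apply]⟩
    obtain ⟨c, hc⟩ := hvspan (σ 0) _ hmem
    have hv0 : v 0 = P *ᵥ Pi.single 0 1 := by
      funext r
      rw [Matrix.mulVec_single_one]
      rfl
    have hvσ : c • v (σ 0) = P *ᵥ (c • Pi.single (σ 0) 1) := by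
      funext r
      rw [Matrix.mulVec_smul, Matrix.mulVec_single_one]
      rfl
    have hg1val : (g1 : Matrix (Fin 4) (Fin 4) F) = P * W4 F * ((Pu⁻¹ : GL (Fin 4) F) : Matrix (Fin 4) (Fin 4) F) := by
      rw [hg1, Units.val_mul, Units.val_mul]
      rfl
    rw [hv0, hvσ, hg1val, Matrix.mulVec_mulVec, Matrix.mul_assoc, hPP', Matrix.mul_one,
      ← Matrix.mulVec_mulVec] at hc
    have hPinj : ∀ x y : Fin 4 → F, P *ᵥ x = P *ᵥ y → x = y := by
      intro x y hxy
      have h' := congrArg (fun z => ((Pu⁻¹ : GL (Fin 4) F) : Matrix (Fin 4) (Fin 4) F) *ᵥ z) hxy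
      simp only [Matrix.mulVec_mulVec, hPP', Matrix.one_mulVec] at h'
      exact h'
    have hinj := hPinj _ _ hc
    -- evaluate at an index different from `σ 0`
    obtain ⟨j, hj⟩ : ∃ j : Fin 4, j ≠ σ 0 := by
      by_cases h : σ 0 = 0
      · exact ⟨1, by rw [h]; decide⟩
      · exact ⟨0, fun h' => h h'.symm⟩
    have := congrFun hinj j
    rw [Matrix.mulVec_single_one] at this
    simp only [Pi.smul_apply, Pi.single_apply, hj, if_false, smul_eq_mul, mul_zero] at this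
    have hW : (W4 F).col 0 j = 1 := by
      show W4 F j 0 = 1
      rw [W4_apply, sg_zero_right]
    rw [hW] at this
    exact one_ne_zero this
  -- assembly
  refine ⟨subgroupNormalizer R ⊓ (GU 4 F 3 ⊓ specialLinear (Fin 4) F), ?_, ?_⟩
  · refine lt_of_le_of_ne ?_ ?_
    · intro g hg
      refine ⟨?_, hg.2⟩
      apply hmemN g (hstab g hg)
      intro r hr
      have := hstab g⁻¹ (Subgroup.inv_mem _ hg) r hr
      rwa [inv_inv] at this
    · intro heq
      apply hg1not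
      have : g1 ∈ subgroupNormalizer R ⊓ (GU 4 F 3 ⊓ specialLinear (Fin 4) F) := ⟨hg1N, hg1GU, hg1SL⟩
      rw [← heq] at this
      exact this.1
  · refine lt_of_le_of_ne inf_le_right ?_
    intro heq
    have hle : SUg 4 F 3 ≤ subgroupNormalizer R := by
      show GU 4 F 3 ⊓ specialLinear (Fin 4) F ≤ subgroupNormalizer R
      rw [← heq]
      exact inf_le_left
    refine not_SUg_le_subgroupNormalizer (q := 3) hF (le_refl 4) 2 Nat.prime_two R ?_ ?_ ?_ hle
    · exact isPGroup_R0.map _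
    · rintro _ ⟨r0, hr0, rfl⟩
      apply GU_le_similarityGroup
      exact (GU 4 F 3).mul_mem ((GU 4 F 3).mul_mem hPuGU (R0_le_GU hr0)) ((GU 4 F 3).inv_mem hPuGU)
    · apply Cfsg.Agent.Lib.Helper99.U92.absIrred_of_span_eq_top
      rw [eq_top_iff]
      intro N _
      let Φ : Matrix (Fin 4) (Fin 4) F →ₗ[F] Matrix (Fin 4) (Fin 4) F :=
        (LinearMap.mulLeft F P) ∘ₗ
          (LinearMap.mulRight F ((Pu⁻¹ : GL (Fin 4) F) : Matrix (Fin 4) (Fin 4) F))
      have hΦ : ∀ M, Φ M = P * (M * ((Pu⁻¹ : GL (Fin 4) F) : Matrix (Fin 4) (Fin 4) F)) := fun M => rfl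
      have hPP : P * ((Pu⁻¹ : GL (Fin 4) F) : Matrix (Fin 4) (Fin 4) F) = 1 := by
        rw [← hPuval, ← Units.val_mul, mul_inv_cancel, Units.val_one]
      have hN : N = Φ (((Pu⁻¹ : GL (Fin 4) F) : Matrix (Fin 4) (Fin 4) F) * N * P) := by
        rw [hΦ]
        rw [Matrix.mul_assoc, Matrix.mul_assoc, hPP, Matrix.mul_one, ← Matrix.mul_assoc, hPP, Matrix.one_mul]
      rw [hN]
      have hM0 : ((Pu⁻¹ : GL (Fin 4) F) : Matrix (Fin 4) (Fin 4) F) * N * P ∈
          Submodule.span F (matrixSet (R0 F)) := by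
        rw [span_R0 h3]; trivial
      have hmap : Submodule.map Φ (Submodule.span F (matrixSet (R0 F))) ≤ Submodule.span F (matrixSet R) := by
        rw [Submodule.map_span]
        apply Submodule.span_mono
        rintro _ ⟨_, ⟨r0, hr0, rfl⟩, rfl⟩
        refine ⟨Pu * r0 * Pu⁻¹, ⟨r0, hr0, rfl⟩, ?_⟩
        show ((Pu * r0 * Pu⁻¹ : GL (Fin 4) F) : Matrix (Fin 4) (Fin 4) F) = Φ (r0 : Matrix (Fin 4) (Fin 4) F)
        rw [hΦ, Units.val_mul, Units.val_mul, hPuval, Matrix.mul_assoc]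
      exact hmap ⟨_, hM0, rfl⟩

end Cfsg.Agent.Lib.Helper49.Su4
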