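import Mathlib
import Cfsg.Agent.Lib.Helper56.F4
import Cfsg.Agent.Lib.Helper86.BHRSU6.Defs

/-!
# Brute force over `F_4^6`: the transvection with centre `(1,…,1)` preserves the Mitchell root points mod 2
(helper49; BHRSU6-[E-SU6-DEC6], hedge).  Kernel evaluation of a decidable statement (about two minutes).
-/

set_option autoImplicit false

namespace Cfsg.Agent.Lib.Helper49.Su6

open Cfsg.Agent.Lib.Helper86.BHRSU6 Cfsg.Agent.Lib.Helper56

instance decInR6 (v : Fin 6 → F4) : Decidable (InR6 v) := by unfold InR6; infer_instance

set_option maxRecDepth 100000 in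
theorem brute_F4 : ∀ a b c d e f : F4, InR6 ![a, b, c, d, e, f] →
    InR6 ![a + (a + b + c + d + e + f), b + (a + b + c + d + e + f), c + (a + b + c + d + e + f),
      d + (a + b + c + d + e + f), e + (a + b + c + d + e + f), f + (a + b + c + d + e + f)] := by
  decide +kernel

end Cfsg.Agent.Lib.Helper49.Su6
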