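import Mathlib
import Cfsg.Prelude.Def_GeometricClasses
import Cfsg.Prelude.Def_ClassicalGeometry
import Cfsg.Agent.Lib.Helper49.Su4Mono

/-!
# Orthonormal frames for `hermForm n F p` and the stabiliser of the corresponding decomposition (helper49)

General in `n` and the prime `p = q`; used for BHRSU4-[E-SU4-DEC3] and BHRSU6-[E-SU6-DEC6].
-/

set_option autoImplicit false
set_option linter.unusedSectionVars false

namespace Cfsg.Agent.Lib.Helper49.Su4

open Cfsg Cfsg.Geo
open scoped MatrixGroups Matrix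

variable {F : Type*} [Field F] {n p : ℕ}

/-- the matrix with columns `v c` -/
def colMat (v : Fin n → Fin n → F) : Matrix (Fin n) (Fin n) F := Matrix.of fun r c => v c r

theorem colMat_apply (v : Fin n → Fin n → F) (r c : Fin n) : colMat v r c = v c r := rfl

theorem colMat_mulVec_single (v : Fin n → Fin n → F) (c : Fin n) (a : F) :
    colMat v *ᵥ (a • Pi.single c 1) = a • v c := by
  funext r
  rw [Matrix.mulVec_smul, Matrix.mulVec_single_one]
  rfl

theorem colMat_unitary [Fact p.Prime] [CharP F p] (v : Fin n → Fin n → F)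
    (hv1 : ∀ i, hermForm n F p (v i) (v i) = 1)
    (horth : ∀ i j, i ≠ j → hermForm n F p (v i) (v j) = 0) :
    (colMat v)ᵀ * (colMat v).map (· ^ p) = 1 := by
  ext c c'
  rw [Matrix.mul_apply]
  simp only [Matrix.transpose_apply, Matrix.map_apply, colMat_apply]
  have : ∑ r, v c r * v c' r ^ p = hermForm n F p (v c) (v c') := rfl
  rw [this, Matrix.one_apply]
  by_cases h : c = c'
  · subst h; rw [hv1]; simp
  · rw [horth c c' h]; simp [h]

/-- an orthonormal frame gives a unitary matrix -/
theorem exists_frame_unit [Fact p.Prime] [CharP F p] (v : Fin n → Fin n → F)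
    (hv1 : ∀ i, hermForm n F p (v i) (v i) = 1)
    (horth : ∀ i j, i ≠ j → hermForm n F p (v i) (v j) = 0) :
    ∃ Pu : GL (Fin n) F, (Pu : Matrix (Fin n) (Fin n) F) = colMat v ∧ Pu ∈ GU n F p ∧
      (colMat v).det ≠ 0 := by
  have hU := colMat_unitary (p := p) v hv1 horth
  have hdet : (colMat v).det ≠ 0 := by
    have : (colMat v).det * ((colMat v).map (· ^ p)).det = 1 := by
      rw [← Matrix.det_transpose (colMat v), ← Matrix.det_mul, hU, Matrix.det_one]
    exact left_ne_zero_of_mul_eq_one this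
  refine ⟨Matrix.GeneralLinearGroup.mkOfDetNeZero (colMat v) hdet, rfl, ?_, hdet⟩
  intro u w
  exact hermForm_mulVec_of_unitary p (colMat v) hU u w

/-- an element of the stabiliser of the decomposition into the points `⟨v c⟩` is monomial in the frame -/
theorem stab_mul_colMat (D : Fin n → Submodule F (Fin n → F)) (v : Fin n → Fin n → F)
    (hvD : ∀ i, v i ∈ D i) (hvspan : ∀ i, ∀ w ∈ D i, ∃ c : F, w = c • v i)
    (g : GL (Fin n) F) (hg : g ∈ decompositionStabilizer D) :
    ∃ (σ : Equiv.Perm (Fin n)) (l : Fin n → F),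
      (g : Matrix (Fin n) (Fin n) F) * colMat v = colMat v * mono σ l ∧
      ∀ c, (g : Matrix (Fin n) (Fin n) F) *ᵥ v c = l c • v (σ c) := by
  obtain ⟨σ, hσ⟩ := hg
  have hgv : ∀ c, ∃ l : F, (g : Matrix (Fin n) (Fin n) F) *ᵥ v c = l • v (σ c) := by
    intro c
    have hmem : (g : Matrix (Fin n) (Fin n) F) *ᵥ v c ∈ D (σ c) := by
      rw [← hσ c]
      exact ⟨v c, hvD c, by rw [Matrix.toLin'_apply]⟩
    exact hvspan (σ c) _ hmem
  choose l hl using hgv
  refine ⟨σ, l, ?_, hl⟩
  ext r c
  rw [mul_mono_apply, colMat_apply]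
  have : ((g : Matrix (Fin n) (Fin n) F) * colMat v) r c = ((g : Matrix (Fin n) (Fin n) F) *ᵥ v c) r := by
    rw [Matrix.mul_apply, Matrix.mulVec, dotProduct]
    simp only [colMat_apply]
  rw [this, hl c, Pi.smul_apply, smul_eq_mul, mul_comm]

/-- the coefficients of a unitary element of the stabiliser have norm one -/
theorem stab_coeff_norm (v : Fin n → Fin n → F) (hv1 : ∀ i, hermForm n F p (v i) (v i) = 1)
    (g : GL (Fin n) F) (hgGU : g ∈ GU n F p) (σ : Equiv.Perm (Fin n)) (l : Fin n → F)
    (hl : ∀ c, (g : Matrix (Fin n) (Fin n) F) *ᵥ v c = l c • v (σ c)) (c : Fin n) :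
    l c ^ (p + 1) = 1 := by
  have h1 := hgGU (v c) (v c)
  change hermForm n F p ((g : Matrix (Fin n) (Fin n) F) *ᵥ v c)
    ((g : Matrix (Fin n) (Fin n) F) *ᵥ v c) = _ at h1
  rw [hl c, herm_smul_smul', hv1, hv1, mul_one] at h1
  exact h1

/-- the determinant of the monomial matrix of an element of determinant one -/
theorem det_mono_of_stab (v : Fin n → Fin n → F) (hdet : (colMat v).det ≠ 0)
    (g : GL (Fin n) F) (hgSL : g ∈ specialLinear (Fin n) F) (σ : Equiv.Perm (Fin n)) (l : Fin n → F)
    (hgP : (g : Matrix (Fin n) (Fin n) F) * colMat v = colMat v * mono σ l) :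
    (mono σ l).det = 1 := by
  have hdetg : (g : Matrix (Fin n) (Fin n) F).det = 1 := by
    have : Matrix.GeneralLinearGroup.det g = 1 := hgSL
    have h' := congrArg (fun u : Fˣ => (u : F)) this
    simpa using h'
  have := congrArg Matrix.det hgP
  rw [Matrix.det_mul, Matrix.det_mul, hdetg, one_mul] at this
  exact (mul_left_cancel₀ hdet (by rw [mul_one]; exact this)).symm

/-- conjugation into a frame -/
theorem mem_map_conj_of_mul_eq {G : Type*} [Group G] (L : Subgroup G) (P g g' : G) (h : g * P = P * g')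
    (hg' : g' ∈ L) : g ∈ L.map (MulAut.conj P).toMonoidHom := by
  refine ⟨g', hg', ?_⟩
  show P * g' * P⁻¹ = g
  rw [← h]
  group

theorem of_mem_map_conj {G : Type*} [Group G] (L : Subgroup G) (P g' : G)
    (h : P * g' * P⁻¹ ∈ L.map (MulAut.conj P).toMonoidHom) : g' ∈ L := by
  obtain ⟨x, hx, hxe⟩ := h
  have : P * x * P⁻¹ = P * g' * P⁻¹ := hxe
  have hx' : x = g' := by
    have h1 := congrArg (fun y => P⁻¹ * y * P) this
    simpa [mul_assoc] using h1
  rwa [← hx']

end Cfsg.Agent.Lib.Helper49.Su4
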