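import Mathlib
import Cfsg.Prelude.Def_GeometricClasses
import Cfsg.Prelude.Def_ClassicalGeometry
import Cfsg.Agent.Lib.Helper56.F4
import Cfsg.Agent.Lib.Helper86.BHRSU6.Defs
import Cfsg.Agent.Lib.Helper49.UFrame
import Cfsg.Agent.Lib.Helper49.Su6Brute

/-!
# The stabiliser of the Mitchell root points mod 2 (helper49; BHRSU6-[E-SU6-DEC6], hedge)
-/

set_option autoImplicit false
set_option linter.unusedSectionVars false

namespace Cfsg.Agent.Lib.Helper49.Su6

open Cfsg Cfsg.Geo Cfsg.Agent.Lib.Helper49.Su4 Cfsg.Agent.Lib.Helper86.BHRSU6 Cfsg.Agent.Lib.Helper56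
open scoped MatrixGroups Matrix

variable {F : Type*} [Field F]

/-- `InR6` is invariant under field isomorphisms -/
theorem inR6_map {F' : Type*} [Field F'] (e : F ≃+* F') (u : Fin 6 → F) :
    InR6 (fun k => e (u k)) ↔ InR6 u := by
  unfold InR6
  have h0 : ∀ x : F, e x ≠ 0 ↔ x ≠ 0 := fun x => by
    rw [Ne, Ne, EmbeddingLike.map_eq_zero_iff]
  have h0' : ∀ x : F, e x = 0 ↔ x = 0 := fun x => EmbeddingLike.map_eq_zero_iff
  have hprod : (∏ i, e (u i) = 1) ↔ (∏ i, u i = 1) := by
    rw [← map_prod]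
    exact EmbeddingLike.map_eq_one_iff
  simp only [h0, h0', hprod]

theorem vec6_eta {α : Type*} (w : Fin 6 → α) : w = ![w 0, w 1, w 2, w 3, w 4, w 5] := by
  funext k
  fin_cases k <;> rfl

/-- the transvection with centre `(1,…,1)` preserves the root points -/
theorem inR6_add_sum [Fintype F] (hF : Fintype.card F = 4) (v : Fin 6 → F) (hv : InR6 v) :
    InR6 (fun k => v k + ∑ i, v i) := by
  let e : F ≃+* F4 := FiniteField.ringEquivOfCardEq (hF.trans F4.card.symm)
  have h1 : InR6 (fun k => e (v k)) := (inR6_map e v).mpr hv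
  rw [vec6_eta (fun k => e (v k))] at h1
  have h2 := brute_F4 _ _ _ _ _ _ h1
  rw [← inR6_map e]
  rw [vec6_eta (fun k => e (v k + ∑ i, v i))]
  simp only [map_add, Fin.sum_univ_six]
  exact h2

/-! ### the field with four elements -/

theorem two_eq_zero4 [Fintype F] (hF : Fintype.card F = 4) : (2 : F) = 0 := by
  have h := FiniteField.cast_card_eq_zero F
  rw [hF] at h
  have h4 : (2 : F) ^ 2 = 0 := by
    have : ((4 : ℕ) : F) = 0 := h
    push_cast at this
    linear_combination this
  exact pow_eq_zero_iff (two_ne_zero) |>.mp h4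

theorem charP4 [Fintype F] (hF : Fintype.card F = 4) : CharP F 2 :=
  (CharP.charP_iff_prime_eq_zero Nat.prime_two).mpr (two_eq_zero4 hF)

theorem pow_three4 [Fintype F] (hF : Fintype.card F = 4) {x : F} (hx : x ≠ 0) : x ^ 3 = 1 := by
  have := FiniteField.pow_card_sub_one_eq_one x hx
  rwa [hF] at this

/-- in characteristic two, squares determine the element -/
theorem eq_of_sq_eq_sq (h2 : (2 : F) = 0) {x y : F} (h : x ^ 2 = y ^ 2) : x = y := by
  have : (x - y) ^ 2 = 0 := by linear_combination h + (y ^ 2 - x * y) * h2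
  have := pow_eq_zero_iff (two_ne_zero) |>.mp this
  linear_combination this

/-! ### the stabiliser of the root points -/

/-- the stabiliser of the root points -/
def L0 (F : Type*) [Field F] : Subgroup (GL (Fin 6) F) where
  carrier := {g | ∀ v, InR6 ((g : Matrix (Fin 6) (Fin 6) F) *ᵥ v) ↔ InR6 v}
  one_mem' := fun v => by simp
  mul_mem' := by
    intro a b ha hb v
    rw [Units.val_mul, ← Matrix.mulVec_mulVec, ha, hb]
  inv_mem' := by
    intro a ha v
    rw [← ha, Matrix.mulVec_mulVec, ← Units.val_mul, mul_inv_cancel, Units.val_one, Matrix.one_mulVec]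

theorem mem_L0_iff (g : GL (Fin 6) F) :
    g ∈ L0 F ↔ ∀ v, InR6 ((g : Matrix (Fin 6) (Fin 6) F) *ᵥ v) ↔ InR6 v := Iff.rfl

/-- membership in `L0` from one direction for `g` and its inverse -/
theorem mem_L0_of_forall (g : GL (Fin 6) F)
    (h1 : ∀ v, InR6 v → InR6 ((g : Matrix (Fin 6) (Fin 6) F) *ᵥ v))
    (h2 : ∀ v, InR6 v → InR6 (((g⁻¹ : GL (Fin 6) F) : Matrix (Fin 6) (Fin 6) F) *ᵥ v)) : g ∈ L0 F := by
  intro v
  constructor
  · intro h
    have := h2 _ h
    rwa [Matrix.mulVec_mulVec, ← Units.val_mul, inv_mul_cancel, Units.val_one, Matrix.one_mulVec] at this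
  · exact h1 v

/-- monomial matrices of coefficient product one preserve the root points -/
theorem inR6_mono (σ : Equiv.Perm (Fin 6)) (l : Fin 6 → F) (hl : ∀ k, l k ≠ 0) (hprod : ∏ k, l k = 1)
    (v : Fin 6 → F) (hv : InR6 v) : InR6 (mono σ l *ᵥ v) := by
  rcases hv with ⟨i, j, hij, hi, hj, hk⟩ | ⟨hall, hp⟩
  · left
    refine ⟨σ i, σ j, fun h => hij (σ.injective h), ?_, ?_, ?_⟩
    · rw [mono_mulVec]
      have h1 : σ⁻¹ (σ i) = i := by simp
      rw [h1]
      exact mul_ne_zero (hl i) hi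
    · rw [mono_mulVec]
      have h1 : σ⁻¹ (σ j) = j := by simp
      rw [h1]
      exact mul_ne_zero (hl j) hj
    · intro k hki hkj
      rw [mono_mulVec, hk (σ⁻¹ k), mul_zero]
      · intro h
        apply hki
        rw [← h]
        simp
      · intro h
        apply hkj
        rw [← h]
        simp
  · right
    refine ⟨fun u => ?_, ?_⟩
    · rw [mono_mulVec]
      exact mul_ne_zero (hl _) (hall _)
    · simp only [mono_mulVec]
      rw [Finset.prod_mul_distrib, Equiv.prod_comp σ⁻¹ l, Equiv.prod_comp σ⁻¹ v, hprod, hp, one_mul]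

theorem monoUnit_mem_L0 (σ : Equiv.Perm (Fin 6)) (l : Fin 6 → F) (hl : ∀ k, l k ≠ 0)
    (hprod : ∏ k, l k = 1) : monoUnit σ l hl ∈ L0 F := by
  apply mem_L0_of_forall
  · intro v hv
    rw [monoUnit_val]
    exact inR6_mono σ l hl hprod v hv
  · intro v hv
    rw [monoUnit_inv_val]
    apply inR6_mono σ⁻¹ (invData σ l) _ _ v hv
    · intro k
      exact inv_ne_zero (hl _)
    · simp only [invData]
      rw [Finset.prod_inv_distrib, Equiv.prod_comp σ⁻¹ l, hprod, inv_one]

/-! ### unitary transvections with `0/1` centres -/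

/-- the transvection `x ↦ x + (c · x) c` -/
def tv (c : Fin 6 → F) : Matrix (Fin 6) (Fin 6) F := 1 + Matrix.of fun i j => c i * c j

theorem tv_mulVec (c v : Fin 6 → F) : tv c *ᵥ v = v + (c ⬝ᵥ v) • c := by
  funext i
  simp only [tv, Matrix.add_mulVec, Matrix.one_mulVec, Pi.add_apply, Pi.smul_apply, smul_eq_mul]
  congr 1
  simp only [Matrix.mulVec, dotProduct, Matrix.of_apply]
  rw [Finset.sum_mul]
  apply Finset.sum_congr rfl
  intro j _
  ring

theorem tv_mul_self (h2 : (2 : F) = 0) (c : Fin 6 → F) (hcc : c ⬝ᵥ c = 0) : tv c * tv c = 1 := by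
  apply Matrix.toLin'.injective
  apply LinearMap.ext
  intro v
  rw [Matrix.toLin'_mul, LinearMap.comp_apply, Matrix.toLin'_apply, Matrix.toLin'_apply, Matrix.toLin'_one,
    LinearMap.id_apply, tv_mulVec, tv_mulVec, dotProduct_add, dotProduct_smul, hcc]
  funext i
  simp only [Pi.add_apply, Pi.smul_apply, smul_eq_mul, mul_zero, add_zero]
  linear_combination (c ⬝ᵥ v * c i) * h2

theorem tv_transpose (c : Fin 6 → F) : (tv c)ᵀ = tv c := by
  ext i j
  simp only [tv, Matrix.transpose_apply, Matrix.add_apply, Matrix.one_apply, Matrix.of_apply]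
  by_cases h : i = j
  · subst h; rfl
  · rw [if_neg h, if_neg (fun h' => h h'.symm), mul_comm]

theorem tv_map_sq (h2 : (2 : F) = 0) (c : Fin 6 → F) (hc : ∀ k, c k ^ 2 = c k) :
    (tv c).map (· ^ 2) = tv c := by
  ext i j
  simp only [tv, Matrix.map_apply, Matrix.add_apply, Matrix.one_apply, Matrix.of_apply]
  have hi := hc i
  have hj := hc j
  by_cases h : i = j
  · rw [if_pos h]
    linear_combination (c i * c j) * h2 + (c j) * hi + (c i ^ 2) * hj - hi * 0 + 0 * hj
  · rw [if_neg h]
    linear_combination (c j) * hi + (c i ^ 2) * hj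

end Cfsg.Agent.Lib.Helper49.Su6
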