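import Mathlib
import Cfsg.Prelude.Def_GeometricClasses
import Cfsg.Prelude.Def_ClassicalGeometry
import Cfsg.Agent.Lib.Helper37.BHRSU.Defs
import Cfsg.Agent.Lib.Helper86.BHRSU6.Defs
import Cfsg.Agent.Lib.Helper49.Su6R6

/-!
# BHRSU6-[E-SU6-DEC6] (helper49, spare copy in own namespace; helper86 landed the exact leaf first):
the stabiliser in `SU_6(2)` of an orthogonal frame is not maximal (`su6_dec6_core`)
-/

set_option autoImplicit false
set_option linter.unusedSectionVars false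

namespace Cfsg.Agent.Lib.Helper49.Su6

open Cfsg Cfsg.Geo Cfsg.Agent.Lib.Helper49.Su4 Cfsg.Agent.Lib.Helper86.BHRSU6 Cfsg.Agent.Lib.Helper37.BHRSU
open scoped MatrixGroups Matrix

variable {F : Type*} [Field F]

/-- a unitary transvection as a unit -/
def tvUnit (h2 : (2 : F) = 0) (c : Fin 6 → F) (hcc : c ⬝ᵥ c = 0) : GL (Fin 6) F :=
  ⟨tv c, tv c, tv_mul_self h2 c hcc, tv_mul_self h2 c hcc⟩

theorem tvUnit_mem_GU [CharP F 2] (h2 : (2 : F) = 0) (c : Fin 6 → F) (hcc : c ⬝ᵥ c = 0)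
    (hc : ∀ k, c k ^ 2 = c k) : tvUnit h2 c hcc ∈ GU 6 F 2 := by
  intro u v
  apply hermForm_mulVec_of_unitary 2
  show (tv c)ᵀ * (tv c).map (· ^ 2) = 1
  rw [tv_transpose, tv_map_sq h2 c hc, tv_mul_self h2 c hcc]

theorem tvUnit_mem_SL (h2 : (2 : F) = 0) (c : Fin 6 → F) (hcc : c ⬝ᵥ c = 0) :
    tvUnit h2 c hcc ∈ specialLinear (Fin 6) F := by
  unfold specialLinear
  rw [MonoidHom.mem_ker]
  apply Units.ext
  have hv : ((tvUnit h2 c hcc : GL (Fin 6) F) : Matrix (Fin 6) (Fin 6) F) = tv c := rfl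
  rw [Matrix.GeneralLinearGroup.val_det_apply, hv, Units.val_one]
  have h := congrArg Matrix.det (tv_mul_self h2 c hcc)
  rw [Matrix.det_mul, Matrix.det_one] at h
  exact eq_of_sq_eq_sq h2 (by rw [one_pow, pow_two]; exact h)

/-- the all-ones vector -/
def jvec : Fin 6 → F := fun _ => 1

theorem jvec_dot (h2 : (2 : F) = 0) : (jvec : Fin 6 → F) ⬝ᵥ jvec = 0 := by
  simp only [dotProduct, jvec, mul_one, Finset.sum_const, Finset.card_univ, Fintype.card_fin]
  rw [nsmul_eq_mul, mul_one]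
  push_cast
  linear_combination (3 : F) * h2

theorem tvUnit_jvec_mem_L0 [Fintype F] (hF : Fintype.card F = 4) (h2 : (2 : F) = 0) :
    tvUnit h2 (jvec : Fin 6 → F) (jvec_dot h2) ∈ L0 F := by
  have key : ∀ v : Fin 6 → F, InR6 v → InR6 (tv (jvec : Fin 6 → F) *ᵥ v) := by
    intro v hv
    have : tv (jvec : Fin 6 → F) *ᵥ v = fun k => v k + ∑ i, v i := by
      rw [tv_mulVec]
      funext k
      simp [jvec, dotProduct]
    rw [this]
    exact inR6_add_sum hF v hv
  exact mem_L0_of_forall _ key key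

/-- the centre `e₀ + e₁ + e₂ + e₃` -/
def cvec : Fin 6 → F := ![1, 1, 1, 1, 0, 0]

theorem cvec_dot (h2 : (2 : F) = 0) : (cvec : Fin 6 → F) ⬝ᵥ cvec = 0 := by
  simp only [dotProduct, cvec, Fin.sum_univ_six]
  simp
  linear_combination (2 : F) * h2

theorem cvec_sq (k : Fin 6) : (cvec : Fin 6 → F) k ^ 2 = cvec k := by
  fin_cases k <;> simp [cvec]

theorem tvUnit_cvec_not_mem_L0 (h2 : (2 : F) = 0) :
    tvUnit h2 (cvec : Fin 6 → F) (cvec_dot h2) ∉ L0 F := by
  intro h
  have hv : InR6 (![1, 0, 0, 0, 1, 0] : Fin 6 → F) := by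
    left
    refine ⟨0, 4, by decide, by simp, by simp, ?_⟩
    intro k hk0 hk4
    fin_cases k <;> simp_all
  have h1 := (h _).mpr hv
  have hcomp : ((tvUnit h2 (cvec : Fin 6 → F) (cvec_dot h2) : GL (Fin 6) F) : Matrix (Fin 6) (Fin 6) F) *ᵥ
      (![1, 0, 0, 0, 1, 0] : Fin 6 → F) = ![0, 1, 1, 1, 1, 0] := by
    show tv cvec *ᵥ _ = _
    rw [tv_mulVec]
    funext k
    fin_cases k <;> simp [cvec, dotProduct, Fin.sum_univ_six]
    linear_combination h2
  rw [hcomp] at h1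
  rcases h1 with ⟨i, j, hij, hi, hj, hk⟩ | ⟨hall, _⟩
  · have e1 : (1 : Fin 6) = i ∨ (1 : Fin 6) = j := by
      by_contra hne
      push Not at hne
      have := hk 1 hne.1 hne.2
      simp at this
    have e2 : (2 : Fin 6) = i ∨ (2 : Fin 6) = j := by
      by_contra hne
      push Not at hne
      have := hk 2 hne.1 hne.2
      simp at this
    have e3 : (3 : Fin 6) = i ∨ (3 : Fin 6) = j := by
      by_contra hne
      push Not at hne
      have := hk 3 hne.1 hne.2
      simp at this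
    rcases e1 with e1 | e1 <;> rcases e2 with e2 | e2 <;> rcases e3 with e3 | e3 <;>
      (subst_vars; simp_all)
  · exact hall 0 (by simp)

/-- a non-degenerate point contains a vector of norm one spanning it (`q = 2`) -/
theorem exists_unit_vector2 [Fintype F] (hF : Fintype.card F = 4) (W : Submodule F (Fin 6 → F))
    (hW : Module.finrank F W = 1) (hnd : IsNondegenerateOn (hermForm 6 F 2) W) :
    ∃ v ∈ W, hermForm 6 F 2 v v = 1 ∧ ∀ w ∈ W, ∃ c : F, w = c • v := by
  have h2 := two_eq_zero4 hF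
  have : CharP F 2 := charP4 hF
  obtain ⟨⟨w0, hw0W⟩, hw0ne, hw0span⟩ := finrank_eq_one_iff'.mp hW
  have hw0ne' : w0 ≠ 0 := fun h => hw0ne (Subtype.ext h)
  have hspan : ∀ w ∈ W, ∃ c : F, w = c • w0 := by
    intro w hw
    obtain ⟨c, hc⟩ := hw0span ⟨w, hw⟩
    exact ⟨c, by have := congrArg Subtype.val hc; simpa using this.symm⟩
  set a := hermForm 6 F 2 w0 w0 with ha
  have ha0 : a ≠ 0 := by
    obtain ⟨⟨x, hxW, hx⟩, _⟩ := hnd w0 hw0W hw0ne'
    obtain ⟨c, rfl⟩ := hspan x hxW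
    rw [herm_smul_left'] at hx
    exact fun h => hx (by rw [← ha, h, mul_zero])
  have ha2 : a ^ 2 = a := by
    rw [ha]
    unfold hermForm
    rw [sum_pow_char]
    apply Finset.sum_congr rfl
    intro i _
    by_cases hi : w0 i = 0
    · rw [hi]; ring
    · have := pow_three4 hF hi
      calc (w0 i * w0 i ^ 2) ^ 2 = (w0 i ^ 3) ^ 2 := by ring
        _ = w0 i ^ 3 := by rw [this]; ring
        _ = w0 i * w0 i ^ 2 := by ring
  have ha1 : a = 1 := by
    have h' : a * (a - 1) = 0 := by linear_combination ha2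
    rcases mul_eq_zero.mp h' with h | h
    · exact absurd h ha0
    · linear_combination h
  exact ⟨w0, hw0W, ha1, hspan⟩

theorem su6_dec6_core [Fintype F] (hF : Fintype.card F = 4)
    (D : Fin 6 → Submodule F (Fin 6 → F)) (hD : IsNondegenerateMDecomposition (hermForm 6 F 2) 1 D) :
    ∃ K : Subgroup (GL (Fin 6) F),
      decompositionStabilizer D ⊓ (GU 6 F 2 ⊓ specialLinear (Fin 6) F) < K ∧
        K < GU 6 F 2 ⊓ specialLinear (Fin 6) F := by
  classical
  have h2 := two_eq_zero4 hF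
  have hchar : CharP F 2 := charP4 hF
  have hex : ∀ i, ∃ v ∈ D i, hermForm 6 F 2 v v = 1 ∧ ∀ w ∈ D i, ∃ c : F, w = c • v :=
    fun i => exists_unit_vector2 hF (D i) (hD.decomp.finrank_eq i) (hD.nondegenerate i)
  choose v hvD hv1 hvspan using hex
  have horth : ∀ i j, i ≠ j → hermForm 6 F 2 (v i) (v j) = 0 :=
    fun i j hij => hD.orthogonal i j hij _ (hvD i) _ (hvD j)
  obtain ⟨Pu, hPuval, hPuGU, hdetP⟩ := exists_frame_unit (p := 2) v hv1 horth
  have hPP' : ((Pu⁻¹ : GL (Fin 6) F) : Matrix (Fin 6) (Fin 6) F) * colMat v = 1 := by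
    rw [← hPuval, ← Units.val_mul, inv_mul_cancel, Units.val_one]
  have hSLn : (specialLinear (Fin 6) F).Normal := by
    unfold specialLinear
    exact MonoidHom.normal_ker _
  -- the stabiliser of the frame lies in the conjugate of `L0`
  have hstab : ∀ g ∈ decompositionStabilizer D ⊓ (GU 6 F 2 ⊓ specialLinear (Fin 6) F),
      g ∈ (L0 F).map (MulAut.conj Pu).toMonoidHom := by
    rintro g ⟨hgD, hgGU, hgSL⟩
    obtain ⟨σ, l, hgP, hl⟩ := stab_mul_colMat D v hvD hvspan g hgD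
    have hl3 : ∀ c, l c ^ 3 = 1 := fun c => stab_coeff_norm (p := 2) v hv1 g hgGU σ l hl c
    have hl0 : ∀ c, l c ≠ 0 := by
      intro c h0
      have := hl3 c
      rw [h0] at this
      simp at this
    have hdetm : (mono σ l).det = 1 := det_mono_of_stab v hdetP g hgSL σ l hgP
    have hprod : ∏ c, l c = 1 := by
      have := det_mono_sq σ l
      rw [hdetm] at this
      exact (eq_of_sq_eq_sq h2 this).symm
    apply mem_map_conj_of_mul_eq (L0 F) Pu g (monoUnit σ l hl0) _ (monoUnit_mem_L0 σ l hl0 hprod)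
    apply Units.ext
    rw [Units.val_mul, Units.val_mul, hPuval, monoUnit_val]
    exact hgP
  -- the transvection with centre `(1,…,1)`
  set T : GL (Fin 6) F := tvUnit h2 jvec (jvec_dot h2) with hT
  set g1 : GL (Fin 6) F := Pu * T * Pu⁻¹ with hg1
  have hg1map : g1 ∈ (L0 F).map (MulAut.conj Pu).toMonoidHom :=
    ⟨T, tvUnit_jvec_mem_L0 hF h2, rfl⟩
  have hg1GU : g1 ∈ GU 6 F 2 :=
    (GU 6 F 2).mul_mem ((GU 6 F 2).mul_mem hPuGU
      (tvUnit_mem_GU h2 jvec (jvec_dot h2) (fun k => by simp [jvec]))) ((GU 6 F 2).inv_mem hPuGU)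
  have hg1SL : g1 ∈ specialLinear (Fin 6) F :=
    hSLn.conj_mem _ (tvUnit_mem_SL h2 jvec (jvec_dot h2)) Pu
  have hg1not : g1 ∉ decompositionStabilizer D := by
    intro hmem
    obtain ⟨σ, l, hgP, -⟩ := stab_mul_colMat D v hvD hvspan g1 hmem
    have hg1val : (g1 : Matrix (Fin 6) (Fin 6) F) * colMat v = colMat v * tv jvec := by
      rw [hg1, Units.val_mul, Units.val_mul, Matrix.mul_assoc, hPP', Matrix.mul_one, hPuval]
      rfl
    rw [hg1val] at hgP
    have hTm : tv (jvec : Fin 6 → F) = mono σ l := by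
      have := congrArg (fun M => ((Pu⁻¹ : GL (Fin 6) F) : Matrix (Fin 6) (Fin 6) F) * M) hgP
      simpa only [← Matrix.mul_assoc, hPP', Matrix.one_mul] using this
    have e1 := congrFun (congrFun hTm 1) 0
    have e2 := congrFun (congrFun hTm 2) 0
    simp only [tv, jvec, Matrix.add_apply, Matrix.one_apply, Matrix.of_apply, mono_apply] at e1 e2
    have h1 : (1 : Fin 6) = σ 0 := by
      by_contra hne
      rw [if_neg hne] at e1
      simp at e1
    have h2' : (2 : Fin 6) = σ 0 := by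
      by_contra hne
      rw [if_neg hne] at e2
      simp at e2
    have : (1 : Fin 6) = 2 := h1.trans h2'.symm
    exact absurd this (by decide)
  -- the transvection with centre `e₀ + e₁ + e₂ + e₃`
  set T' : GL (Fin 6) F := tvUnit h2 cvec (cvec_dot h2) with hT'
  set g2 : GL (Fin 6) F := Pu * T' * Pu⁻¹ with hg2
  have hg2GU : g2 ∈ GU 6 F 2 :=
    (GU 6 F 2).mul_mem ((GU 6 F 2).mul_mem hPuGU
      (tvUnit_mem_GU h2 cvec (cvec_dot h2) cvec_sq)) ((GU 6 F 2).inv_mem hPuGU)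
  have hg2SL : g2 ∈ specialLinear (Fin 6) F :=
    hSLn.conj_mem _ (tvUnit_mem_SL h2 cvec (cvec_dot h2)) Pu
  refine ⟨(L0 F).map (MulAut.conj Pu).toMonoidHom ⊓ (GU 6 F 2 ⊓ specialLinear (Fin 6) F), ?_, ?_⟩
  · refine lt_of_le_of_ne (fun g hg => ⟨hstab g hg, hg.2⟩) ?_
    intro heq
    apply hg1not
    have : g1 ∈ (L0 F).map (MulAut.conj Pu).toMonoidHom ⊓ (GU 6 F 2 ⊓ specialLinear (Fin 6) F) :=
      ⟨hg1map, hg1GU, hg1SL⟩
    rw [← heq] at this
    exact this.1
  · refine lt_of_le_of_ne inf_le_right ?_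
    intro heq
    have : g2 ∈ (L0 F).map (MulAut.conj Pu).toMonoidHom ⊓ (GU 6 F 2 ⊓ specialLinear (Fin 6) F) := by
      rw [heq]
      exact ⟨hg2GU, hg2SL⟩
    exact tvUnit_cvec_not_mem_L0 h2 (of_mem_map_conj (L0 F) Pu T' this.1)

end Cfsg.Agent.Lib.Helper49.Su6
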