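import Mathlib
import Cfsg.Agent.Lib.Helper49.SubnormalJoin1
import Cfsg.Agent.Lib.Helper9.Subnormal

set_option autoImplicit false

/-!
Sylow subgroups of joins of subnormal subgroups, part 2 (helper49): transport of the join
property to subnormal subgroups and quotients, finite joins.
-/

namespace Cfsg.Agent.Lib.Helper49

open Cfsg.Agent.Lib.Helper33

universe u

/-- The join property for a group `G`: for every Sylow `p`-subgroup `S` and subnormal `A₁`, `A₂`,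
`⟨A₁, A₂⟩ ∩ S ≤ ⟨A₁ ∩ S, A₂ ∩ S⟩`. -/
def JoinProp (p : ℕ) (G : Type u) [Group G] : Prop :=
  ∀ (S : Sylow p G) (A₁ A₂ : Subgroup G), A₁.IsSubnormal → A₂.IsSubnormal →
    (A₁ ⊔ A₂) ⊓ (S : Subgroup G) ≤ (A₁ ⊓ S) ⊔ (A₂ ⊓ S)

variable {G : Type u} [Group G] {p : ℕ}

/-- Transport of the join property from a subnormal subgroup `J`. -/
theorem joinProp_rel [Fact p.Prime] [Finite G] (S : Sylow p G) {J : Subgroup G}
    (hJ : J.IsSubnormal) (hT : JoinProp p ↥J) {A₁ A₂ : Subgroup G} (h₁ : A₁ ≤ J) (h₂ : A₂ ≤ J)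
    (hA₁ : A₁.IsSubnormal) (hA₂ : A₂.IsSubnormal) :
    (A₁ ⊔ A₂) ⊓ (S : Subgroup G) ≤ (A₁ ⊓ S) ⊔ (A₂ ⊓ S) := by
  obtain ⟨Q, hQ⟩ := exists_sylow_eq_subgroupOf_of_isSubnormal S hJ
  have key := hT Q (A₁.subgroupOf J) (A₂.subgroupOf J) hA₁.subgroupOf hA₂.subgroupOf
  intro x hx
  have hxJ : x ∈ J := (sup_le h₁ h₂) hx.1
  have hx' : (⟨x, hxJ⟩ : J) ∈ (A₁.subgroupOf J ⊔ A₂.subgroupOf J) ⊓ (Q : Subgroup J) := by
    refine ⟨?_, ?_⟩
    · rw [← Subgroup.subgroupOf_sup h₁ h₂]; exact hx.1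
    · rw [hQ]; exact hx.2
  have h3 := key hx'
  have h4 : x ∈ ((A₁.subgroupOf J ⊓ Q) ⊔ (A₂.subgroupOf J ⊓ Q)).map J.subtype :=
    ⟨⟨x, hxJ⟩, h3, rfl⟩
  rw [Subgroup.map_sup] at h4
  have hle : ∀ A : Subgroup G, (A.subgroupOf J ⊓ Q).map J.subtype ≤ A ⊓ (S : Subgroup G) := by
    intro A
    rintro _ ⟨y, hy, rfl⟩
    have h5 : y ∈ (S : Subgroup G).subgroupOf J := hQ ▸ hy.2
    exact ⟨hy.1, h5⟩
  exact (sup_le_sup (hle A₁) (hle A₂)) h4

/-- Finite joins from binary joins. -/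
theorem finset_sup_inf_le [Finite G] (S : Subgroup G) {J : Subgroup G}
    (hbin : ∀ B₁ B₂ : Subgroup G, B₁ ≤ J → B₂ ≤ J → B₁.IsSubnormal → B₂.IsSubnormal →
      (B₁ ⊔ B₂) ⊓ S ≤ (B₁ ⊓ S) ⊔ (B₂ ⊓ S))
    {ι : Type*} (A : ι → Subgroup G) (hA : ∀ i, A i ≤ J) (hsn : ∀ i, (A i).IsSubnormal)
    (s : Finset ι) :
    (s.sup A).IsSubnormal ∧ s.sup A ≤ J ∧ (s.sup A) ⊓ S ≤ s.sup (fun i => A i ⊓ S) := by
  classical
  induction s using Finset.induction_on with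
  | empty =>
    refine ⟨?_, ?_, ?_⟩
    · rw [Finset.sup_empty]; exact Subgroup.IsSubnormal.bot
    · rw [Finset.sup_empty]; exact bot_le
    · rw [Finset.sup_empty, Finset.sup_empty]; exact inf_le_left
  | insert i s hi ih =>
    obtain ⟨h1, h2, h3⟩ := ih
    rw [Finset.sup_insert, Finset.sup_insert]
    refine ⟨Cfsg.Agent.Lib.Helper9.isSubnormal_sup _ G rfl _ _ (hsn i) h1, sup_le (hA i) h2, ?_⟩
    exact (hbin _ _ (hA i) h2 (hsn i) h1).trans (sup_le_sup le_rfl h3)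

/-- The join property of a quotient gives the join property modulo the normal subgroup. -/
theorem le_sup_of_joinProp_quotient [Fact p.Prime] [Finite G] (S : Sylow p G) (N : Subgroup G)
    [hN : N.Normal] (hT : JoinProp p (G ⧸ N)) {A₁ A₂ : Subgroup G} (hA₁ : A₁.IsSubnormal)
    (hA₂ : A₂.IsSubnormal) :
    (A₁ ⊔ A₂) ⊓ (S : Subgroup G) ≤ ((A₁ ⊓ S) ⊔ (A₂ ⊓ S)) ⊔ N := by
  have hsurj := QuotientGroup.mk'_surjective N
  have key := hT (S.mapSurjective hsurj) (A₁.map (QuotientGroup.mk' N))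
    (A₂.map (QuotientGroup.mk' N)) (hA₁.map hsurj) (hA₂.map hsurj)
  rw [Sylow.coe_mapSurjective] at key
  have himg : ∀ A : Subgroup G, A.IsSubnormal →
      A.map (QuotientGroup.mk' N) ⊓ (S : Subgroup G).map (QuotientGroup.mk' N) ≤
        (A ⊓ S).map (QuotientGroup.mk' N) := by
    intro A hA xbar hx
    obtain ⟨⟨a, ha, hax⟩, ⟨s, hs, hsx⟩⟩ := hx
    have hNm : a⁻¹ * s ∈ N := by
      rw [← QuotientGroup.eq_one_iff, ← QuotientGroup.mk'_apply, map_mul, map_inv, hax, hsx,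
        inv_mul_cancel]
    have hsNA : s ∈ (N ⊔ A) ⊓ (S : Subgroup G) := by
      refine ⟨?_, hs⟩
      have e : s = a * (a⁻¹ * s) := by group
      rw [e]
      exact Subgroup.mul_mem _ (Subgroup.mem_sup_right ha) (Subgroup.mem_sup_left hNm)
    rw [sup_inf_eq_of_le_normalizer S.isPGroup' (sylIn_inf_of_isSubnormal S hN.isSubnormal)
      (sylIn_inf_of_isSubnormal S hA)
      (by rw [Subgroup.normalizer_eq_top]; exact le_top)] at hsNA
    have h1 : (QuotientGroup.mk' N) s ∈ ((N ⊓ S) ⊔ (A ⊓ S)).map (QuotientGroup.mk' N) :=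
      Subgroup.mem_map_of_mem _ hsNA
    rw [Subgroup.map_sup] at h1
    have hbot : (N ⊓ (S : Subgroup G)).map (QuotientGroup.mk' N) = ⊥ := by
      rw [eq_bot_iff]
      rintro _ ⟨n, hn, rfl⟩
      rw [Subgroup.mem_bot, QuotientGroup.mk'_apply]
      exact (QuotientGroup.eq_one_iff n).mpr hn.1
    rw [hbot, bot_sup_eq] at h1
    rw [← hsx]; exact h1
  intro x hx
  have h1 : (QuotientGroup.mk' N) x ∈ (A₁.map (QuotientGroup.mk' N) ⊔ A₂.map (QuotientGroup.mk' N)) ⊓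
      (S : Subgroup G).map (QuotientGroup.mk' N) := by
    refine ⟨?_, Subgroup.mem_map_of_mem _ hx.2⟩
    rw [← Subgroup.map_sup]; exact Subgroup.mem_map_of_mem _ hx.1
  have h2 := key h1
  have h3 : (QuotientGroup.mk' N) x ∈ ((A₁ ⊓ S) ⊔ (A₂ ⊓ S)).map (QuotientGroup.mk' N) := by
    rw [Subgroup.map_sup]
    exact (sup_le_sup (himg A₁ hA₁) (himg A₂ hA₂)) h2
  have h4 : x ∈ (((A₁ ⊓ S) ⊔ (A₂ ⊓ S)).map (QuotientGroup.mk' N)).comap (QuotientGroup.mk' N) := h3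
  rw [Subgroup.comap_map_eq, QuotientGroup.ker_mk'] at h4
  exact h4

end Cfsg.Agent.Lib.Helper49
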