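import Mathlib
import Cfsg.Agent.Lib.Helper49.SubnormalJoin2
import Cfsg.Agent.Lib.Helper47.Subnormal
import Cfsg.Agent.Lib.Helper34.PResidual

set_option autoImplicit false

/-!
Sylow subgroups of joins of subnormal subgroups, part 3 (helper49): the two main reduction steps.
-/

namespace Cfsg.Agent.Lib.Helper49

open Cfsg.Agent.Lib.Helper33 Cfsg.Agent.Lib.Helper47
open scoped commutatorElement

universe u

variable {G : Type u} [Group G] {p : ℕ}

/-- Decomposition `A = P O^p(A)` for a Sylow `p`-subgroup `P` of `A`. -/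
theorem exists_mul_of_mem_of_sylIn [Fact p.Prime] [Finite G] {A P : Subgroup G}
    (hP : SylIn p P A) {a : G} (ha : a ∈ A) : ∃ s ∈ P, ∃ b ∈ opOf p A, a = s * b := by
  have hQ : ¬ p ∣ (P.subgroupOf A).index := hP.not_dvd
  have h1 := Cfsg.Agent.Lib.Helper34.pResidual_sup_eq_top p (P.subgroupOf A) hQ
  have hn := Cfsg.Agent.Lib.Helper34.pResidual_normal p ↥A
  have h2 : (⟨a, ha⟩ : A) ∈ P.subgroupOf A ⊔ Cfsg.pResidual p ↥A := by
    rw [sup_comm, h1]; trivial
  rw [Subgroup.mem_sup_of_normal_right] at h2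
  obtain ⟨y, hy, z, hz, hyz⟩ := h2
  refine ⟨y, hy, z, ⟨z, hz, rfl⟩, ?_⟩
  have := congrArg Subtype.val hyz
  simpa using this.symm

/-- **Reduction step when `A₁` is not `p`-perfect.** -/
theorem le_of_not_pPerfect [Fact p.Prime] [Finite G] (S : Sylow p G) {A₁ A₂ : Subgroup G}
    (hA₁ : A₁.IsSubnormal) (hA₂ : A₂.IsSubnormal) (htop : A₁ ⊔ A₂ = ⊤) (hA₂top : A₂ ≠ ⊤)
    (hinner : (opOf p A₁ ⊔ A₂) ⊓ (S : Subgroup G) ≤ (opOf p A₁ ⊓ S) ⊔ (A₂ ⊓ S))
    (hrel : ∀ J : Subgroup G, J.Normal → J ≠ ⊤ → ∀ B₁ B₂ : Subgroup G, B₁ ≤ J → B₂ ≤ J →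
      B₁.IsSubnormal → B₂.IsSubnormal →
        (B₁ ⊔ B₂) ⊓ (S : Subgroup G) ≤ (B₁ ⊓ S) ⊔ (B₂ ⊓ S)) :
    (S : Subgroup G) ≤ (A₁ ⊓ S) ⊔ (A₂ ⊓ S) := by
  classical
  have hfin : Fintype A₁ := Fintype.ofFinite _
  -- the normal closure of `A₂`
  have hA₂N : A₂ ≤ ⨆ a : A₁, cj (a : G) A₂ := by
    have h1 := le_iSup (fun a : A₁ => cj (a : G) A₂) 1
    have h2 : cj ((1 : A₁) : G) A₂ = A₂ := by rw [Subgroup.coe_one, cj_one]
    rwa [h2] at h1
  have hcjN : ∀ x ∈ A₁, cj x (⨆ a : A₁, cj (a : G) A₂) ≤ ⨆ a : A₁, cj (a : G) A₂ := by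
    intro x hx
    rw [cj_def, Subgroup.map_iSup]
    apply iSup_le
    intro a
    rw [← cj_def, ← cj_mul]
    exact le_iSup (fun a : A₁ => cj (a : G) A₂) ⟨x * a, Subgroup.mul_mem _ hx a.2⟩
  have hA₁N : A₁ ≤ Subgroup.normalizer ((⨆ a : A₁, cj (a : G) A₂ : Subgroup G) : Set G) := by
    intro x hx
    rw [mem_normalizer_iff_cj_eq]
    apply le_antisymm (hcjN x hx)
    have := hcjN x⁻¹ (Subgroup.inv_mem _ hx)
    rwa [cj_le_iff, inv_inv] at this
  have hN₂n : (⨆ a : A₁, cj (a : G) A₂ : Subgroup G).Normal := by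
    rw [← Subgroup.normalizer_eq_top_iff, eq_top_iff, ← htop]
    exact sup_le hA₁N (hA₂N.trans Subgroup.le_normalizer)
  have hN₂top : (⨆ a : A₁, cj (a : G) A₂ : Subgroup G) ≠ ⊤ := by
    obtain ⟨K, hKn, hAK, hKtop⟩ := hA₂.exists_normal_and_le_and_lt_top_of_ne hA₂top
    intro h
    have hle : (⨆ a : A₁, cj (a : G) A₂ : Subgroup G) ≤ K := by
      apply iSup_le
      intro a
      have h1 := cj_mono (g := (a : G)) hAK
      have hK : cj (a : G) K = K :=
        cj_eq_self_of_mem_normalizer (by rw [Subgroup.normalizer_eq_top]; trivial)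
      rwa [hK] at h1
    rw [h] at hle
    exact hKtop.ne (top_le_iff.mp hle)
  -- finite joins inside the normal closure
  have hmulti := finset_sup_inf_le (S : Subgroup G) (hrel _ hN₂n hN₂top)
    (fun a : A₁ => cj (a : G) A₂) (fun a => le_iSup (fun a : A₁ => cj (a : G) A₂) a)
    (fun a => by rw [cj_def]; exact hA₂.map (MulEquiv.surjective _)) Finset.univ
  rw [Finset.sup_univ_eq_iSup, Finset.sup_univ_eq_iSup] at hmulti
  obtain ⟨-, -, hN₂S⟩ := hmulti
  -- each term lies in `S₀`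
  have hterm : ∀ a : A₁, cj (a : G) A₂ ⊓ (S : Subgroup G) ≤ (A₁ ⊓ S) ⊔ (A₂ ⊓ S) := by
    intro a
    obtain ⟨s, hs, b, hb, hab⟩ :=
      exists_mul_of_mem_of_sylIn (sylIn_inf_of_isSubnormal S hA₁) a.2
    rw [hab, cj_mul, cj_inf_of_mem hs.2]
    have h1 : cj b A₂ ≤ opOf p A₁ ⊔ A₂ := cj_le_of_mem le_sup_right (Subgroup.mem_sup_left hb)
    have h2 : cj b A₂ ⊓ (S : Subgroup G) ≤ (A₁ ⊓ S) ⊔ (A₂ ⊓ S) := by
      refine le_trans (inf_le_inf_right _ h1) (hinner.trans ?_)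
      exact sup_le_sup (inf_le_inf_right _ (opOf_le p A₁)) le_rfl
    exact cj_le_of_mem h2 (Subgroup.mem_sup_left hs)
  have hN₂S₀ : (⨆ a : A₁, cj (a : G) A₂ : Subgroup G) ⊓ (S : Subgroup G) ≤
      (A₁ ⊓ S) ⊔ (A₂ ⊓ S) := hN₂S.trans (iSup_le hterm)
  -- counting
  have hcount := sup_inf_eq_of_le_normalizer S.isPGroup'
    (sylIn_inf_of_isSubnormal S hN₂n.isSubnormal) (sylIn_inf_of_isSubnormal S hA₁)
    (by rw [Subgroup.normalizer_eq_top]; exact le_top)
  have htop' : (⨆ a : A₁, cj (a : G) A₂ : Subgroup G) ⊔ A₁ = ⊤ := by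
    rw [eq_top_iff, ← htop]
    exact sup_le le_sup_right (hA₂N.trans le_sup_left)
  rw [htop', top_inf_eq] at hcount
  exact hcount.le.trans (sup_le hN₂S₀ le_sup_left)

theorem commutatorElement_mul_center_left {z : G} (hz : z ∈ Subgroup.center G) (s t : G) :
    ⁅s * z, t⁆ = ⁅s, t⁆ := by
  have h1 : ∀ g : G, g * z = z * g := fun g => Subgroup.mem_center_iff.mp hz g
  rw [commutatorElement_def, commutatorElement_def, mul_inv_rev]
  calc s * z * t * (z⁻¹ * s⁻¹) * t⁻¹ = s * (z * t) * z⁻¹ * s⁻¹ * t⁻¹ := by group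
    _ = s * (t * z) * z⁻¹ * s⁻¹ * t⁻¹ := by rw [h1 t]
    _ = s * t * s⁻¹ * t⁻¹ := by group

theorem commutatorElement_mul_center_right {z : G} (hz : z ∈ Subgroup.center G) (s t : G) :
    ⁅s, t * z⁆ = ⁅s, t⁆ := by
  have h1 : ∀ g : G, g * z = z * g := fun g => Subgroup.mem_center_iff.mp hz g
  rw [commutatorElement_def, commutatorElement_def, mul_inv_rev]
  calc s * (t * z) * s⁻¹ * (z⁻¹ * t⁻¹) = s * t * (z * s⁻¹) * z⁻¹ * t⁻¹ := by group
    _ = s * t * (s⁻¹ * z) * z⁻¹ * t⁻¹ := by rw [h1 s⁻¹]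
    _ = s * t * s⁻¹ * t⁻¹ := by group

/-- **Transfer lemma.** In a finite group generated by its `p'`-elements, a central `p`-element
`z` of a Sylow `p`-subgroup `S` lies in every subgroup of `S` containing the commutators of `S`. -/
theorem mem_of_mem_center_of_pResidual_eq_top [Fact p.Prime] [Finite G] (S : Sylow p G)
    (hgen : Cfsg.pResidual p G = ⊤) {S₀ : Subgroup G}
    (hcomm : ∀ x ∈ (S : Subgroup G), ∀ y ∈ (S : Subgroup G), ⁅x, y⁆ ∈ S₀)
    {z : G} (hzS : z ∈ (S : Subgroup G)) (hzc : z ∈ Subgroup.center G) : z ∈ S₀ := by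
  have hpG : IsPGroup p (Abelianization ↥(S : Subgroup G)) :=
    S.isPGroup'.to_quotient (commutator ↥(S : Subgroup G))
  -- the transfer is trivial
  have htriv : ∀ g : G, MonoidHom.transfer
      (Abelianization.of : ↥(S : Subgroup G) →* Abelianization ↥(S : Subgroup G)) g = 1 := by
    intro g
    have hg : g ∈ (MonoidHom.transfer
        (Abelianization.of : ↥(S : Subgroup G) →* Abelianization ↥(S : Subgroup G))).ker := by
      have hle : Cfsg.pResidual p G ≤ (MonoidHom.transfer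
          (Abelianization.of : ↥(S : Subgroup G) →* Abelianization ↥(S : Subgroup G))).ker := by
        unfold Cfsg.pResidual
        rw [Subgroup.closure_le]
        intro x hx
        rw [SetLike.mem_coe, MonoidHom.mem_ker]
        obtain ⟨k, hk⟩ := (IsPGroup.iff_orderOf.mp hpG) (MonoidHom.transfer
          (Abelianization.of : ↥(S : Subgroup G) →* Abelianization ↥(S : Subgroup G)) x)
        have hd : orderOf (MonoidHom.transfer
          (Abelianization.of : ↥(S : Subgroup G) →* Abelianization ↥(S : Subgroup G)) x) ∣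
            orderOf x := orderOf_map_dvd _ x
        rw [hk] at hd
        have hcop : Nat.Coprime (p ^ k) p := Nat.Coprime.coprime_dvd_left hd hx
        have hk0 : k = 0 := by
          by_contra hk0
          have : p ∣ p ^ k := dvd_pow_self p hk0
          have h1 : p ∣ Nat.gcd (p ^ k) p := Nat.dvd_gcd this dvd_rfl
          rw [hcop] at h1
          exact (Fact.out : p.Prime).one_lt.ne' (Nat.dvd_one.mp h1)
        rw [hk0, pow_zero, orderOf_eq_one_iff] at hk
        exact hk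
      rw [hgen] at hle
      exact hle (Subgroup.mem_top g)
    exact MonoidHom.mem_ker.mp hg
  -- evaluate on `z`
  have key : ∀ (k : ℕ) (g₀ : G), g₀⁻¹ * z ^ k * g₀ ∈ (S : Subgroup G) →
      g₀⁻¹ * z ^ k * g₀ = z ^ k := by
    intro k g₀ _
    have hc : z ^ k ∈ Subgroup.center G := Subgroup.pow_mem _ hzc k
    have := Subgroup.mem_center_iff.mp hc g₀
    rw [mul_assoc, ← this, ← mul_assoc, inv_mul_cancel, one_mul]
  have h1 := MonoidHom.transfer_eq_pow
    (Abelianization.of : ↥(S : Subgroup G) →* Abelianization ↥(S : Subgroup G)) z key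
  rw [htriv z] at h1
  have h2 : (⟨z ^ (S : Subgroup G).index, MonoidHom.transfer_eq_pow_aux z key⟩ :
      ↥(S : Subgroup G)) ∈ commutator ↥(S : Subgroup G) := by
    rw [← QuotientGroup.eq_one_iff]
    exact h1.symm
  have h3 : commutator ↥(S : Subgroup G) ≤ S₀.subgroupOf (S : Subgroup G) := by
    rw [commutator_def, Subgroup.commutator_le]
    intro x _ y _
    rw [Subgroup.mem_subgroupOf]
    exact hcomm x x.2 y y.2
  have h4 : z ^ (S : Subgroup G).index ∈ S₀ := h3 h2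
  -- `z` is a power of `z ^ index`
  obtain ⟨k, hk⟩ := (IsPGroup.iff_orderOf.mp S.isPGroup') ⟨z, hzS⟩
  rw [Subgroup.orderOf_mk] at hk
  have hcop : Nat.Coprime (S : Subgroup G).index (orderOf z) := by
    rw [hk]
    exact Nat.Coprime.pow_right k
      ((Nat.Prime.coprime_iff_not_dvd (Fact.out : p.Prime)).mpr S.not_dvd_index).symm
  obtain ⟨m, hm⟩ := exists_pow_eq_self_of_coprime hcop
  rw [← hm]
  exact Subgroup.pow_mem _ h4 m

end Cfsg.Agent.Lib.Helper49
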