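import Mathlib
import Cfsg.Agent.Lib.Helper49.SubnormalJoin3

set_option autoImplicit false

/-!
Sylow subgroups of joins of subnormal subgroups, part 4 (helper49): the `p`-perfect case and the
main induction.  Main result: `sylow_inf_sup_of_isSubnormal`.
-/

namespace Cfsg.Agent.Lib.Helper49

open Cfsg.Agent.Lib.Helper33 Cfsg.Agent.Lib.Helper47
open scoped commutatorElement

universe u

variable {G : Type u} [Group G] {p : ℕ}

theorem cj_sup_inf_le_aux {A B N : Subgroup G} [hN : N.Normal]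
    (hNA : N ≤ Subgroup.normalizer (A : Set G)) {x : G} (hx : x ∈ A) :
    cj x ((A ⊓ N) ⊔ (B ⊓ N)) ≤ (A ⊓ N) ⊔ (B ⊓ N) := by
  rw [cj_sup]
  apply sup_le
  · refine le_trans ?_ le_sup_left
    intro z hz
    rw [mem_cj] at hz
    have e : z = x * (x⁻¹ * z * x) * x⁻¹ := by group
    rw [e]
    exact ⟨Subgroup.mul_mem _ (Subgroup.mul_mem _ hx hz.1) (Subgroup.inv_mem _ hx),
      hN.conj_mem _ hz.2 x⟩
  · intro z hz
    rw [mem_cj] at hz
    set y := x⁻¹ * z * x with hy
    have e : z = (x * y * x⁻¹ * y⁻¹) * y := by rw [hy]; group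
    rw [e]
    refine Subgroup.mul_mem _ (Subgroup.mem_sup_left ⟨?_, ?_⟩) (Subgroup.mem_sup_right hz)
    · have h1 : y * x⁻¹ * y⁻¹ ∈ A :=
        (Subgroup.mem_normalizer_iff.mp (hNA hz.2) x⁻¹).mp (Subgroup.inv_mem _ hx)
      have e2 : x * y * x⁻¹ * y⁻¹ = x * (y * x⁻¹ * y⁻¹) := by group
      rw [e2]
      exact Subgroup.mul_mem _ hx h1
    · exact Subgroup.mul_mem _ (hN.conj_mem _ hz.2 x) (Subgroup.inv_mem _ hz.2)

/-- **The `p`-perfect case.** -/
theorem le_of_pPerfect [Fact p.Prime] [Finite G] (S : Sylow p G) {A₁ A₂ : Subgroup G}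
    (hA₁ : A₁.IsSubnormal) (hA₂ : A₂.IsSubnormal) (htop : A₁ ⊔ A₂ = ⊤)
    (hp₁ : opOf p A₁ = A₁) (hp₂ : opOf p A₂ = A₂)
    (hquot : ∀ N : Subgroup G, N.Normal → N ≠ ⊥ →
      (S : Subgroup G) ≤ ((A₁ ⊓ S) ⊔ (A₂ ⊓ S)) ⊔ N) :
    (S : Subgroup G) ≤ (A₁ ⊓ S) ⊔ (A₂ ⊓ S) := by
  rcases subsingleton_or_nontrivial G with hs | hnt
  · intro x _
    rw [Subsingleton.elim x 1]
    exact Subgroup.one_mem _
  obtain ⟨N, hN, -⟩ :=
    Cfsg.Agent.Lib.Helper9.exists_isMinNormal_le (⊤ : Subgroup G) inferInstance top_ne_bot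
  have hNA₁ := Cfsg.Agent.Lib.Helper9.isMinNormal_le_normalizer_of_isSubnormal _ G rfl A₁ hA₁ N hN
  have hNA₂ := Cfsg.Agent.Lib.Helper9.isMinNormal_le_normalizer_of_isSubnormal _ G rfl A₂ hA₂ N hN
  obtain ⟨hNn, hNne, hNmin⟩ := hN
  have hSN := hquot N hNn hNne
  have hS₀S : (A₁ ⊓ (S : Subgroup G)) ⊔ (A₂ ⊓ S) ≤ (S : Subgroup G) :=
    sup_le inf_le_right inf_le_right
  -- it suffices to show `N ⊓ S ≤ S₀`
  suffices hkey : N ⊓ (S : Subgroup G) ≤ (A₁ ⊓ S) ⊔ (A₂ ⊓ S) by
    intro x hx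
    have h1 := hSN hx
    rw [Subgroup.mem_sup_of_normal_right] at h1
    obtain ⟨y, hy, z, hz, rfl⟩ := h1
    have hzS : z ∈ (S : Subgroup G) := by
      have e : z = y⁻¹ * (y * z) := by group
      rw [e]
      exact Subgroup.mul_mem _ (Subgroup.inv_mem _ (hS₀S hy)) hx
    exact Subgroup.mul_mem _ hy (hkey ⟨hz, hzS⟩)
  -- `N₀ = (A₁ ∩ N)(A₂ ∩ N)` is normal in `G`
  have hn₁ : A₁ ≤ Subgroup.normalizer (((A₁ ⊓ N) ⊔ (A₂ ⊓ N) : Subgroup G) : Set G) := by
    intro x hx
    rw [mem_normalizer_iff_cj_eq]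
    apply le_antisymm (cj_sup_inf_le_aux hNA₁ hx)
    have := cj_sup_inf_le_aux (B := A₂) hNA₁ (Subgroup.inv_mem _ hx)
    rwa [cj_le_iff, inv_inv] at this
  have hn₂ : A₂ ≤ Subgroup.normalizer (((A₁ ⊓ N) ⊔ (A₂ ⊓ N) : Subgroup G) : Set G) := by
    intro x hx
    rw [mem_normalizer_iff_cj_eq, sup_comm (A₁ ⊓ N)]
    apply le_antisymm (cj_sup_inf_le_aux hNA₂ hx)
    have := cj_sup_inf_le_aux (B := A₁) hNA₂ (Subgroup.inv_mem _ hx)
    rwa [cj_le_iff, inv_inv] at this
  have hN₀n : ((A₁ ⊓ N) ⊔ (A₂ ⊓ N)).Normal := by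
    rw [← Subgroup.normalizer_eq_top_iff, eq_top_iff, ← htop]
    exact sup_le hn₁ hn₂
  rcases hNmin _ hN₀n (sup_le inf_le_right inf_le_right) with h0 | h0
  · -- `N` is central
    rw [sup_eq_bot_iff] at h0
    obtain ⟨h01, h02⟩ := h0
    have hcent : ∀ (A : Subgroup G), A ⊓ N = ⊥ → N ≤ Subgroup.normalizer (A : Set G) →
        ∀ n ∈ N, A ≤ Subgroup.centralizer ({n} : Set G) := by
      intro A hAN hNA n hn a ha
      rw [Subgroup.mem_centralizer_iff]
      intro y hy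
      rw [Set.mem_singleton_iff] at hy
      rw [hy]
      have h1 : n * a⁻¹ * n⁻¹ ∈ A :=
        (Subgroup.mem_normalizer_iff.mp (hNA hn) a⁻¹).mp (Subgroup.inv_mem _ ha)
      have h2 : a * n * a⁻¹ * n⁻¹ ∈ A ⊓ N := by
        refine ⟨?_, ?_⟩
        · have e : a * n * a⁻¹ * n⁻¹ = a * (n * a⁻¹ * n⁻¹) := by group
          rw [e]; exact Subgroup.mul_mem _ ha h1
        · exact Subgroup.mul_mem _ (hNn.conj_mem _ hn a) (Subgroup.inv_mem _ hn)
      rw [hAN, Subgroup.mem_bot] at h2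
      have e : n * a = (a * n * a⁻¹ * n⁻¹)⁻¹ * (a * n) := by group
      rw [e, h2, inv_one, one_mul]
    have hNc : N ≤ Subgroup.center G := by
      intro n hn
      have h1 : (⊤ : Subgroup G) ≤ Subgroup.centralizer ({n} : Set G) := by
        rw [← htop]
        exact sup_le (hcent A₁ h01 hNA₁ n hn) (hcent A₂ h02 hNA₂ n hn)
      rw [Subgroup.mem_center_iff]
      intro g
      have := Subgroup.mem_centralizer_iff.mp (h1 (Subgroup.mem_top g)) n (Set.mem_singleton n)
      exact this.symm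
    -- `G` is generated by its `p'`-elements
    have hgen : Cfsg.pResidual p G = ⊤ := by
      rw [eq_top_iff, ← htop]
      have hle : ∀ A : Subgroup G, opOf p A = A → A ≤ Cfsg.pResidual p G := by
        intro A hA
        rw [← hA, opOf_le_iff]
        intro x _ hx
        exact Subgroup.subset_closure hx
      exact sup_le (hle A₁ hp₁) (hle A₂ hp₂)
    -- commutators of `S` lie in `S₀`
    have hcomm : ∀ x ∈ (S : Subgroup G), ∀ y ∈ (S : Subgroup G),
        ⁅x, y⁆ ∈ (A₁ ⊓ (S : Subgroup G)) ⊔ (A₂ ⊓ S) := by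
      intro x hx y hy
      have h1 := hSN hx
      have h2 := hSN hy
      rw [Subgroup.mem_sup_of_normal_right] at h1 h2
      obtain ⟨s, hs, n, hn, rfl⟩ := h1
      obtain ⟨t, ht, m, hm, rfl⟩ := h2
      rw [commutatorElement_mul_center_left (hNc hn), commutatorElement_mul_center_right (hNc hm)]
      exact Subgroup.commutator_mem_commutator hs ht |> fun h =>
        (Subgroup.commutator_le.mpr (fun a ha b hb => by
          rw [commutatorElement_def]
          exact Subgroup.mul_mem _ (Subgroup.mul_mem _ (Subgroup.mul_mem _ ha hb)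
            (Subgroup.inv_mem _ ha)) (Subgroup.inv_mem _ hb))) h
    intro z hz
    exact mem_of_mem_center_of_pResidual_eq_top S hgen hcomm hz.2 (hNc hz.1)
  · -- `N = (A₁ ∩ N)(A₂ ∩ N)`
    have hYX : A₂ ⊓ N ≤ Subgroup.normalizer ((A₁ ⊓ N : Subgroup G) : Set G) := by
      refine le_trans ?_ (normalizer_inf_le_normalizer_inf A₁ N)
      exact le_inf (inf_le_right.trans hNA₁) (inf_le_right.trans Subgroup.le_normalizer)
    have hc := sup_inf_eq_of_le_normalizer S.isPGroup'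
      (sylIn_inf_of_isSubnormal S (hA₁.inf hNn.isSubnormal))
      (sylIn_inf_of_isSubnormal S (hA₂.inf hNn.isSubnormal)) hYX
    rw [h0] at hc
    rw [hc]
    exact sup_le_sup (inf_le_inf_right _ inf_le_left) (inf_le_inf_right _ inf_le_left)

theorem card_lt_of_ne_top [Finite G] {J : Subgroup G} (h : J ≠ ⊤) : Nat.card J < Nat.card G := by
  rw [← Subgroup.card_top (G := G)]
  exact card_lt_card_of_lt (lt_top_iff_ne_top.mpr h)

theorem card_quotient_lt [Finite G] {N : Subgroup G} [N.Normal] (h : N ≠ ⊥) :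
    Nat.card (G ⧸ N) < Nat.card G := by
  rw [Subgroup.card_eq_card_quotient_mul_card_subgroup N]
  have h1 : 1 < Nat.card N := (Subgroup.one_lt_card_iff_ne_bot N).mpr h
  have h2 : 0 < Nat.card (G ⧸ N) := Nat.card_pos
  nlinarith

theorem opOf_isSubnormal {A : Subgroup G} (hA : A.IsSubnormal) : (opOf p A).IsSubnormal := by
  refine Subgroup.IsSubnormal.step _ _ (opOf_le p A) hA ?_
  have h1 : (opOf p A).subgroupOf A = Cfsg.pResidual p ↥A := by
    unfold opOf Subgroup.subgroupOf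
    exact Subgroup.comap_map_eq_self_of_injective (Subgroup.subtype_injective _) _
  rw [h1]
  exact Cfsg.Agent.Lib.Helper34.pResidual_normal p ↥A

/-- The join property holds in every finite group. -/
theorem joinProp_all (p : ℕ) [Fact p.Prime] : ∀ (n : ℕ) (G : Type u) [Group G] [Finite G],
    Nat.card G = n → JoinProp p G := by
  intro n
  induction n using Nat.strong_induction_on with
  | _ n ih =>
    intro G _ _ hcard S
    have inner : ∀ m : ℕ, ∀ A₁ A₂ : Subgroup G, Nat.card A₁ + Nat.card A₂ = m →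
        A₁.IsSubnormal → A₂.IsSubnormal →
          (A₁ ⊔ A₂) ⊓ (S : Subgroup G) ≤ (A₁ ⊓ S) ⊔ (A₂ ⊓ S) := by
      intro m
      induction m using Nat.strong_induction_on with
      | _ m ihm =>
        intro A₁ A₂ hm hA₁ hA₂
        have hrelsn : ∀ J : Subgroup G, J.IsSubnormal → J ≠ ⊤ → ∀ B₁ B₂ : Subgroup G,
            B₁ ≤ J → B₂ ≤ J → B₁.IsSubnormal → B₂.IsSubnormal →
              (B₁ ⊔ B₂) ⊓ (S : Subgroup G) ≤ (B₁ ⊓ S) ⊔ (B₂ ⊓ S) := by
          intro J hJ hJtop B₁ B₂ h₁ h₂ hB₁ hB₂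
          exact joinProp_rel S hJ (ih _ (hcard ▸ card_lt_of_ne_top hJtop) ↥J rfl) h₁ h₂ hB₁ hB₂
        by_cases h1 : A₁ = ⊤
        · subst h1
          rw [top_sup_eq, top_inf_eq]
          exact le_sup_left
        by_cases h2 : A₂ = ⊤
        · subst h2
          rw [sup_top_eq, top_inf_eq]
          exact le_sup_right
        by_cases hJ : A₁ ⊔ A₂ = ⊤
        · rw [hJ, top_inf_eq]
          by_cases hp₁ : opOf p A₁ = A₁
          · by_cases hp₂ : opOf p A₂ = A₂
            · apply le_of_pPerfect S hA₁ hA₂ hJ hp₁ hp₂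
              intro N hNn hNne
              have := hNn
              have h3 := le_sup_of_joinProp_quotient S N
                (ih _ (hcard ▸ card_quotient_lt hNne) (G ⧸ N) rfl) hA₁ hA₂
              rwa [hJ, top_inf_eq] at h3
            · have hlt : opOf p A₂ < A₂ := lt_of_le_of_ne (opOf_le p A₂) hp₂
              have hc := card_lt_card_of_lt hlt
              have hinner := ihm (Nat.card (opOf p A₂) + Nat.card A₁) (by omega) (opOf p A₂) A₁ rfl
                (opOf_isSubnormal hA₂) hA₁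
              have h3 := le_of_not_pPerfect S hA₂ hA₁ (by rw [sup_comm]; exact hJ) h1 hinner
                (fun J hJn hJtop => hrelsn J hJn.isSubnormal hJtop)
              rwa [sup_comm] at h3
          · have hlt : opOf p A₁ < A₁ := lt_of_le_of_ne (opOf_le p A₁) hp₁
            have hc := card_lt_card_of_lt hlt
            have hinner := ihm (Nat.card (opOf p A₁) + Nat.card A₂) (by omega) (opOf p A₁) A₂ rfl
              (opOf_isSubnormal hA₁) hA₂
            exact le_of_not_pPerfect S hA₁ hA₂ hJ h2 hinner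
              (fun J hJn hJtop => hrelsn J hJn.isSubnormal hJtop)
        · exact hrelsn (A₁ ⊔ A₂) (Cfsg.Agent.Lib.Helper9.isSubnormal_sup _ G rfl _ _ hA₁ hA₂) hJ
            A₁ A₂ le_sup_left le_sup_right hA₁ hA₂
    intro A₁ A₂ hA₁ hA₂
    exact inner _ A₁ A₂ rfl hA₁ hA₂

/-- **Sylow subgroups of joins of subnormal subgroups.** -/
theorem sylow_inf_sup_of_isSubnormal {G : Type u} [Group G] [Finite G] {p : ℕ} [Fact p.Prime]
    (S : Sylow p G) (A₁ A₂ : Subgroup G) (h₁ : A₁.IsSubnormal) (h₂ : A₂.IsSubnormal) :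
    (A₁ ⊔ A₂) ⊓ (S : Subgroup G) = (A₁ ⊓ S) ⊔ (A₂ ⊓ S) :=
  le_antisymm (joinProp_all p _ G rfl S A₁ A₂ h₁ h₂)
    (sup_le (inf_le_inf_right _ le_sup_left) (inf_le_inf_right _ le_sup_right))

end Cfsg.Agent.Lib.Helper49
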