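import Mathlib
import Cfsg.Agent.Lib.Helper71.SylAltDefs
import Cfsg.Agent.Lib.Helper3.SylAltWRA
import Cfsg.Agent.Lib.Helper3.SylAltWRB

/-!
# S2221 module [NICE-BASIC] (helper49, for helper71)

`nice_card_set`, `nice_suppOn`, `nice_card`, `nice_isPGroup`: induction on `a`.
-/

set_option autoImplicit false

namespace Cfsg.Agent.Lib.Helper49.SylAlt

open Equiv Cfsg.Agent.Lib.Helper71.SylAlt Cfsg.Agent.Lib.Helper3.SylAlt

variable {α : Type*} [DecidableEq α] [Fintype α]

theorem nice_card_set {a : ℕ} {W : Subgroup (Perm α)} {Y : Finset α} (h : Nice a W Y) :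
    Y.card = 2 ^ a := by
  induction a generalizing W Y with
  | zero =>
    obtain ⟨-, y, rfl⟩ := nice_zero_iff.mp h
    simp
  | succ a ih =>
    obtain ⟨W₁, Y₁, σ, hN, hS, -, rfl⟩ := nice_succ_iff.mp h
    rw [swap_card hS, ih hN, pow_succ]
    ring

theorem nice_suppOn {a : ℕ} {W : Subgroup (Perm α)} {Y : Finset α} (h : Nice a W Y) :
    SuppOn W Y := by
  induction a generalizing W Y with
  | zero =>
    obtain ⟨rfl, -⟩ := nice_zero_iff.mp h
    intro g hg x _
    rw [Subgroup.mem_bot.mp hg]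
    rfl
  | succ a ih =>
    obtain ⟨W₁, Y₁, σ, hN, hS, rfl, rfl⟩ := nice_succ_iff.mp h
    exact suppOn_wr hS (ih hN)

theorem nice_card {a : ℕ} {W : Subgroup (Perm α)} {Y : Finset α} (h : Nice a W Y) :
    Nat.card W = 2 ^ (2 ^ a - 1) := by
  induction a generalizing W Y with
  | zero =>
    obtain ⟨rfl, -⟩ := nice_zero_iff.mp h
    simp
  | succ a ih =>
    obtain ⟨W₁, Y₁, σ, hN, hS, rfl, rfl⟩ := nice_succ_iff.mp h
    have hne : Y₁.Nonempty := by
      rw [← Finset.card_pos, nice_card_set hN]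
      positivity
    rw [card_wr hS hne (nice_suppOn hN), ih hN, ← pow_mul, ← pow_succ']
    congr 1
    have h1 : 1 ≤ 2 ^ a := Nat.one_le_two_pow
    rw [pow_succ]
    omega

theorem nice_isPGroup {a : ℕ} {W : Subgroup (Perm α)} {Y : Finset α} (h : Nice a W Y) :
    IsPGroup 2 ↥W := by
  have : Fact (Nat.Prime 2) := ⟨Nat.prime_two⟩
  exact IsPGroup.of_card (nice_card h)

end Cfsg.Agent.Lib.Helper49.SylAlt
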