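import Mathlib
import Cfsg.Agent.Lib.Helper71.SylAltDefs
import Cfsg.Agent.Lib.Helper50.SylAltSupp
import Cfsg.Agent.Lib.Helper3.SylAltWRA
import Cfsg.Agent.Lib.Helper3.SylAltWRB
import Cfsg.Agent.Lib.Helper49.SylAltNiceBasic

/-!
# S2221 module [NICE-EVCENTER] (helper49, for helper71)

An even element of a `Nice a W Y` (`a ≥ 3`) commuting with all even elements of `W` is central in `W`.
-/

set_option autoImplicit false

namespace Cfsg.Agent.Lib.Helper49.SylAlt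

open Equiv Cfsg.Agent.Lib.Helper71.SylAlt Cfsg.Agent.Lib.Helper50.SylAlt Cfsg.Agent.Lib.Helper3.SylAlt

variable {α : Type*} [DecidableEq α] [Fintype α]

theorem sign_conj' (σ b : Perm α) : Perm.sign (σ * b * σ⁻¹) = Perm.sign b := by
  rw [Perm.sign_mul, Perm.sign_mul, Perm.sign_inv, mul_comm, ← mul_assoc]
  have : Perm.sign σ * Perm.sign σ = 1 := Int.units_mul_self _
  rw [this, one_mul]

/-- a `Nice a W Y` with `a ≥ 1` contains an odd permutation (own copy of [NICE-ODD], to be independent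
of the landing order) -/
theorem exists_odd_of_nice {a : ℕ} {W : Subgroup (Perm α)} {Y : Finset α} (h : Nice a W Y)
    (ha : 1 ≤ a) : ∃ t ∈ W, Perm.sign t = -1 := by
  induction a generalizing W Y with
  | zero => omega
  | succ a ih =>
    obtain ⟨W₁, Y₁, σ, hN, hS, rfl, rfl⟩ := nice_succ_iff.mp h
    rcases Nat.eq_zero_or_pos a with h0 | hpos
    · subst h0
      refine ⟨σ, swap_mem_wr W₁ σ, ?_⟩
      rw [swap_sign hS, nice_card_set hN]
      simp
    · obtain ⟨t, ht, hts⟩ := ih hN hpos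
      exact ⟨t, le_wr W₁ σ ht, hts⟩

/-- a `Nice a W Y` with `a ≥ 2` contains a nontrivial even permutation (the top swap) -/
theorem exists_even_of_nice {a : ℕ} {W : Subgroup (Perm α)} {Y : Finset α} (h : Nice a W Y)
    (ha : 2 ≤ a) : ∃ x ∈ W, x ≠ 1 ∧ Perm.sign x = 1 := by
  obtain ⟨a', rfl⟩ : ∃ a', a = a' + 1 := ⟨a - 1, by omega⟩
  obtain ⟨W₁, Y₁, σ, hN, hS, rfl, rfl⟩ := nice_succ_iff.mp h
  have hne : Y₁.Nonempty := by
    rw [← Finset.card_pos, nice_card_set hN]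
    positivity
  refine ⟨σ, swap_mem_wr W₁ σ, ?_, ?_⟩
  · intro h1
    obtain ⟨y, hy⟩ := hne
    apply hS.2.1 y hy
    rw [h1]
    exact hy
  · rw [swap_sign hS, nice_card_set hN]
    obtain ⟨b, rfl⟩ : ∃ b, a' = b + 1 := ⟨a' - 1, by omega⟩
    rw [pow_succ, pow_mul]
    simp

theorem nice_evcenter {a : ℕ} {W : Subgroup (Perm α)} {Y : Finset α} (h : Nice a W Y) (ha : 3 ≤ a) :
    ∀ c ∈ W, Perm.sign c = 1 → (∀ g ∈ W, Perm.sign g = 1 → g * c = c * g) →
      ∀ g ∈ W, g * c = c * g := by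
  obtain ⟨a', rfl⟩ : ∃ a', a = a' + 1 := ⟨a - 1, by omega⟩
  have ha' : 2 ≤ a' := by omega
  obtain ⟨W₁, Y₁, σ, hN, hS, rfl, rfl⟩ := nice_succ_iff.mp h
  have hW₁ : SuppOn W₁ Y₁ := nice_suppOn hN
  have hne : Y₁.Nonempty := by
    rw [← Finset.card_pos, nice_card_set hN]
    positivity
  have hσinv : σ⁻¹ = σ := swap_inv hS
  have hσσ : σ * σ = 1 := hS.1
  -- `σ` is even
  have hσsign : Perm.sign σ = 1 := by
    rw [swap_sign hS, nice_card_set hN]
    obtain ⟨b, rfl⟩ : ∃ b, a' = b + 1 := ⟨a' - 1, by omega⟩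
    rw [pow_succ, pow_mul]
    simp
  -- an odd element and a nontrivial even element of `W₁`
  obtain ⟨t₀, ht₀, ht₀s⟩ := exists_odd_of_nice hN (by omega : 1 ≤ a')
  obtain ⟨x₀, hx₀, hx₀1, hx₀s'⟩ := exists_even_of_nice hN ha'
  -- `W₁` commutes with `σ W₁ σ⁻¹`
  have hcomm : ∀ x ∈ W₁, ∀ y ∈ W₁, x * (σ * y * σ⁻¹) = (σ * y * σ⁻¹) * x := by
    intro x hx y hy
    exact commute_of_disjoint hW₁ (suppOn_map_conj σ hW₁) (swap_disjoint hS) x hx (σ * y * σ⁻¹)
      ⟨y, hy, rfl⟩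
  have hcm : ∀ x y : Perm α, σ * (x * y) * σ⁻¹ = (σ * x * σ⁻¹) * (σ * y * σ⁻¹) := by
    intro x y
    group
  have hinW : ∀ x ∈ W₁, x ∈ wr W₁ σ := fun x hx => le_wr W₁ σ hx
  have hinW' : ∀ x ∈ W₁, σ * x * σ⁻¹ ∈ wr W₁ σ := fun x hx => conj_le_wr W₁ σ ⟨x, hx, rfl⟩
  have hσW : σ ∈ wr W₁ σ := swap_mem_wr W₁ σ
  intro c hc hcs hcev
  obtain ⟨u, hu, v, hv, hcuv | hcuv⟩ := (mem_wr_iff hS hW₁ c).mp hc
  · -- `c = u * (σ v σ⁻¹)`
    -- `u` and `v` are central in `W₁`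
    have hodd : ∀ t ∈ W₁, Perm.sign t = -1 → (t * u = u * t ∧ t * v = v * t) := by
      intro t ht hts
      constructor
      · have hg : t * (σ * t₀ * σ⁻¹) ∈ wr W₁ σ := Subgroup.mul_mem _ (hinW t ht) (hinW' t₀ ht₀)
        have hgs : Perm.sign (t * (σ * t₀ * σ⁻¹)) = 1 := by
          rw [Perm.sign_mul, sign_conj', hts, ht₀s]; simp
        have h1 := hcev _ hg hgs
        rw [hcuv] at h1
        have h2 : (t * u) * (σ * (t₀ * v) * σ⁻¹) = (u * t) * (σ * (v * t₀) * σ⁻¹) := by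
          rw [hcm, hcm]
          calc t * u * (σ * t₀ * σ⁻¹ * (σ * v * σ⁻¹))
              = t * (u * (σ * t₀ * σ⁻¹)) * (σ * v * σ⁻¹) := by simp only [mul_assoc]
            _ = t * ((σ * t₀ * σ⁻¹) * u) * (σ * v * σ⁻¹) := by rw [hcomm u hu t₀ ht₀]
            _ = t * (σ * t₀ * σ⁻¹) * (u * (σ * v * σ⁻¹)) := by simp only [mul_assoc]
            _ = u * (σ * v * σ⁻¹) * (t * (σ * t₀ * σ⁻¹)) := h1
            _ = u * ((σ * v * σ⁻¹) * t) * (σ * t₀ * σ⁻¹) := by simp only [mul_assoc]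
            _ = u * (t * (σ * v * σ⁻¹)) * (σ * t₀ * σ⁻¹) := by rw [hcomm t ht v hv]
            _ = u * t * (σ * v * σ⁻¹ * (σ * t₀ * σ⁻¹)) := by simp only [mul_assoc]
        exact ((wr_normal_form_unique hS hne hW₁ (W₁.mul_mem ht hu) (W₁.mul_mem ht₀ hv)
          (W₁.mul_mem hu ht) (W₁.mul_mem hv ht₀)).1 h2).1
      · have hg : t₀ * (σ * t * σ⁻¹) ∈ wr W₁ σ := Subgroup.mul_mem _ (hinW t₀ ht₀) (hinW' t ht)
        have hgs : Perm.sign (t₀ * (σ * t * σ⁻¹)) = 1 := by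
          rw [Perm.sign_mul, sign_conj', hts, ht₀s]; simp
        have h1 := hcev _ hg hgs
        rw [hcuv] at h1
        have h2 : (t₀ * u) * (σ * (t * v) * σ⁻¹) = (u * t₀) * (σ * (v * t) * σ⁻¹) := by
          rw [hcm, hcm]
          calc t₀ * u * (σ * t * σ⁻¹ * (σ * v * σ⁻¹))
              = t₀ * (u * (σ * t * σ⁻¹)) * (σ * v * σ⁻¹) := by simp only [mul_assoc]
            _ = t₀ * ((σ * t * σ⁻¹) * u) * (σ * v * σ⁻¹) := by rw [hcomm u hu t ht]
            _ = t₀ * (σ * t * σ⁻¹) * (u * (σ * v * σ⁻¹)) := by simp only [mul_assoc]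
            _ = u * (σ * v * σ⁻¹) * (t₀ * (σ * t * σ⁻¹)) := h1
            _ = u * ((σ * v * σ⁻¹) * t₀) * (σ * t * σ⁻¹) := by simp only [mul_assoc]
            _ = u * (t₀ * (σ * v * σ⁻¹)) * (σ * t * σ⁻¹) := by rw [hcomm t₀ ht₀ v hv]
            _ = u * t₀ * (σ * v * σ⁻¹ * (σ * t * σ⁻¹)) := by simp only [mul_assoc]
        exact ((wr_normal_form_unique hS hne hW₁ (W₁.mul_mem ht₀ hu) (W₁.mul_mem ht hv)
          (W₁.mul_mem hu ht₀) (W₁.mul_mem hv ht)).1 h2).2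
    have hev : ∀ t ∈ W₁, Perm.sign t = 1 → (t * u = u * t ∧ t * v = v * t) := by
      intro t ht hts
      constructor
      · have h1 := hcev t (hinW t ht) hts
        rw [hcuv] at h1
        have h2 : (t * u) * (σ * v * σ⁻¹) = (u * t) * (σ * v * σ⁻¹) := by
          calc t * u * (σ * v * σ⁻¹) = t * (u * (σ * v * σ⁻¹)) := by simp only [mul_assoc]
            _ = u * (σ * v * σ⁻¹) * t := h1
            _ = u * ((σ * v * σ⁻¹) * t) := by simp only [mul_assoc]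
            _ = u * (t * (σ * v * σ⁻¹)) := by rw [hcomm t ht v hv]
            _ = u * t * (σ * v * σ⁻¹) := by simp only [mul_assoc]
        exact mul_right_cancel h2
      · have hgs : Perm.sign (σ * t * σ⁻¹) = 1 := by rw [sign_conj', hts]
        have h1 := hcev _ (hinW' t ht) hgs
        rw [hcuv] at h1
        have h2 : u * (σ * (t * v) * σ⁻¹) = u * (σ * (v * t) * σ⁻¹) := by
          rw [hcm, hcm]
          calc u * (σ * t * σ⁻¹ * (σ * v * σ⁻¹))
              = (u * (σ * t * σ⁻¹)) * (σ * v * σ⁻¹) := by simp only [mul_assoc]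
            _ = ((σ * t * σ⁻¹) * u) * (σ * v * σ⁻¹) := by rw [hcomm u hu t ht]
            _ = (σ * t * σ⁻¹) * (u * (σ * v * σ⁻¹)) := by simp only [mul_assoc]
            _ = u * (σ * v * σ⁻¹) * (σ * t * σ⁻¹) := h1
            _ = u * (σ * v * σ⁻¹ * (σ * t * σ⁻¹)) := by simp only [mul_assoc]
        have h3 := mul_left_cancel h2
        have h4 : σ * (t * v) = σ * (v * t) := mul_right_cancel h3
        exact mul_left_cancel h4
    have hall : ∀ t ∈ W₁, (t * u = u * t ∧ t * v = v * t) := by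
      intro t ht
      rcases Int.units_eq_one_or (Perm.sign t) with hs | hs
      · exact hev t ht hs
      · exact hodd t ht hs
    -- `c` commutes with `W₁`, `σ W₁ σ⁻¹` and `σ`
    have hc1 : ∀ t ∈ W₁, t * c = c * t := by
      intro t ht
      rw [hcuv]
      calc t * (u * (σ * v * σ⁻¹)) = (t * u) * (σ * v * σ⁻¹) := by simp only [mul_assoc]
        _ = (u * t) * (σ * v * σ⁻¹) := by rw [(hall t ht).1]
        _ = u * (t * (σ * v * σ⁻¹)) := by simp only [mul_assoc]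
        _ = u * ((σ * v * σ⁻¹) * t) := by rw [hcomm t ht v hv]
        _ = u * (σ * v * σ⁻¹) * t := by simp only [mul_assoc]
    have hc2 : ∀ t ∈ W₁, (σ * t * σ⁻¹) * c = c * (σ * t * σ⁻¹) := by
      intro t ht
      rw [hcuv]
      calc (σ * t * σ⁻¹) * (u * (σ * v * σ⁻¹))
          = ((σ * t * σ⁻¹) * u) * (σ * v * σ⁻¹) := by simp only [mul_assoc]
        _ = (u * (σ * t * σ⁻¹)) * (σ * v * σ⁻¹) := by rw [hcomm u hu t ht]
        _ = u * ((σ * t * σ⁻¹) * (σ * v * σ⁻¹)) := by simp only [mul_assoc]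
        _ = u * (σ * (t * v) * σ⁻¹) := by rw [hcm]
        _ = u * (σ * (v * t) * σ⁻¹) := by rw [(hall t ht).2]
        _ = u * ((σ * v * σ⁻¹) * (σ * t * σ⁻¹)) := by rw [hcm]
        _ = u * (σ * v * σ⁻¹) * (σ * t * σ⁻¹) := by simp only [mul_assoc]
    have hc3 : σ * c = c * σ := hcev σ hσW hσsign
    intro g hg
    obtain ⟨u', hu', v', hv', hg' | hg'⟩ := (mem_wr_iff hS hW₁ g).mp hg
    · rw [hg']
      calc u' * (σ * v' * σ⁻¹) * c = u' * ((σ * v' * σ⁻¹) * c) := by simp only [mul_assoc]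
        _ = u' * (c * (σ * v' * σ⁻¹)) := by rw [hc2 v' hv']
        _ = (u' * c) * (σ * v' * σ⁻¹) := by simp only [mul_assoc]
        _ = (c * u') * (σ * v' * σ⁻¹) := by rw [hc1 u' hu']
        _ = c * (u' * (σ * v' * σ⁻¹)) := by simp only [mul_assoc]
    · rw [hg']
      calc u' * (σ * v' * σ⁻¹) * σ * c = u' * ((σ * v' * σ⁻¹) * (σ * c)) := by simp only [mul_assoc]
        _ = u' * ((σ * v' * σ⁻¹) * (c * σ)) := by rw [hc3]
        _ = u' * (((σ * v' * σ⁻¹) * c) * σ) := by simp only [mul_assoc]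
        _ = u' * ((c * (σ * v' * σ⁻¹)) * σ) := by rw [hc2 v' hv']
        _ = (u' * c) * ((σ * v' * σ⁻¹) * σ) := by simp only [mul_assoc]
        _ = (c * u') * ((σ * v' * σ⁻¹) * σ) := by rw [hc1 u' hu']
        _ = c * (u' * (σ * v' * σ⁻¹) * σ) := by simp only [mul_assoc]
  · -- `c = u * (σ v σ⁻¹) * σ` is impossible
    exfalso
    apply hx₀1
    have h1 := hcev x₀ (hinW x₀ hx₀) hx₀s'
    rw [hcuv] at h1
    have h2 : (x₀ * u) * (σ * v * σ⁻¹) * σ = u * (σ * (v * x₀) * σ⁻¹) * σ := by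
      rw [hcm]
      calc x₀ * u * (σ * v * σ⁻¹) * σ = x₀ * (u * (σ * v * σ⁻¹) * σ) := by simp only [mul_assoc]
        _ = u * (σ * v * σ⁻¹) * σ * x₀ := h1
        _ = u * (σ * v * σ⁻¹ * (σ * x₀ * σ⁻¹)) * σ := by
            rw [hσinv]
            simp only [mul_assoc]
            rw [hσσ, mul_one]
    have h3 := ((wr_normal_form_unique hS hne hW₁ (W₁.mul_mem hx₀ hu) hv hu
      (W₁.mul_mem hv hx₀)).2.1 h2).2
    have : v * 1 = v * x₀ := by rw [mul_one]; exact h3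
    exact (mul_left_cancel this).symm

end Cfsg.Agent.Lib.Helper49.SylAlt
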