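import Cfsg.Prelude.Def_SylowChains
import Cfsg.Agent.Lib.Helper49.SylowMembers

/-!
# Helper49 library: control of Sylow intersections as an inductive chain relation

`SChain p 𝓕 D S T`: the Sylow `p`-subgroups `S` and `T` are joined by a chain as in
`Cfsg.ControlsSylowIntersections`, every link containing `D`.
-/

set_option autoImplicit false

namespace Cfsg.Agent.Lib.Helper49

open Cfsg.Agent.Lib.Helper33

variable {G : Type*} [Group G]

/-- Chains of Sylow subgroups linked through members of `𝓕`, every link containing `D`. -/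
inductive SChain (p : ℕ) (𝓕 : Set (Subgroup G)) (D : Subgroup G) : Sylow p G → Sylow p G → Prop
  | refl (S : Sylow p G) : SChain p 𝓕 D S S
  | tail {S T U : Sylow p G} (X : Subgroup G) (x : G) (h : SChain p 𝓕 D S T)
      (hT : X ∈ Cfsg.sylowMembers p 𝓕 (T : Subgroup G)) (hU : X ∈ Cfsg.sylowMembers p 𝓕 (U : Subgroup G))
      (hx : x ∈ X) (hconj : Cfsg.subgroupConjRight x (U : Subgroup G) = (T : Subgroup G))
      (hD : D ≤ (U : Subgroup G) ⊓ X) : SChain p 𝓕 D S U

theorem SChain.mono {p : ℕ} {𝓕 : Set (Subgroup G)} {D D' : Subgroup G} (hD : D' ≤ D) {S T : Sylow p G}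
    (h : SChain p 𝓕 D S T) : SChain p 𝓕 D' S T := by
  induction h with
  | refl => exact SChain.refl _
  | tail X x _ hT hU hx hconj hD' ih => exact SChain.tail X x ih hT hU hx hconj (hD.trans hD')

theorem SChain.mono_family {p : ℕ} {𝓕 𝓕' : Set (Subgroup G)} (h𝓕 : 𝓕 ⊆ 𝓕') {D : Subgroup G} {S T : Sylow p G}
    (h : SChain p 𝓕 D S T) : SChain p 𝓕' D S T := by
  induction h with
  | refl => exact SChain.refl _
  | tail X x _ hT hU hx hconj hD' ih =>
    exact SChain.tail X x ih ⟨h𝓕 hT.1, hT.2⟩ ⟨h𝓕 hU.1, hU.2⟩ hx hconj hD'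

theorem SChain.trans {p : ℕ} {𝓕 : Set (Subgroup G)} {D : Subgroup G} {S T U : Sylow p G}
    (h₁ : SChain p 𝓕 D S T) (h₂ : SChain p 𝓕 D T U) : SChain p 𝓕 D S U := by
  induction h₂ with
  | refl => exact h₁
  | tail X x _ hT hU hx hconj hD' ih => exact SChain.tail X x ih hT hU hx hconj hD'

/-- The data of `Cfsg.ControlsSylowIntersections` extracted from a chain. -/
theorem SChain.exists_data {p : ℕ} {𝓕 : Set (Subgroup G)} {D : Subgroup G} {S T : Sylow p G}
    (h : SChain p 𝓕 D S T) :
    ∃ (n : ℕ) (c : Fin (n + 1) → Sylow p G) (X : Fin n → Subgroup G) (x : Fin n → G),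
      c 0 = S ∧ c (Fin.last n) = T ∧
      ∀ i : Fin n,
        X i ∈ Cfsg.sylowMembers p 𝓕 (c i.castSucc : Subgroup G) ∧
        X i ∈ Cfsg.sylowMembers p 𝓕 (c i.succ : Subgroup G) ∧
        x i ∈ X i ∧ Cfsg.subgroupConjRight (x i) (c i.succ : Subgroup G) = (c i.castSucc : Subgroup G) ∧
        D ≤ (c i.succ : Subgroup G) ⊓ X i := by
  induction h with
  | refl => exact ⟨0, fun _ => S, Fin.elim0, Fin.elim0, rfl, rfl, fun i => i.elim0⟩
  | @tail T U X₀ x₀ _ hT hU hx hconj hD ih =>
    obtain ⟨n, c, X, x, h0, hlast, hch⟩ := ih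
    refine ⟨n + 1, Fin.snoc (α := fun _ => Sylow p G) c U, Fin.snoc (α := fun _ => Subgroup G) X X₀,
      Fin.snoc (α := fun _ => G) x x₀, ?_, ?_, ?_⟩
    · have : (0 : Fin (n + 1 + 1)) = Fin.castSucc (0 : Fin (n + 1)) := rfl
      rw [this, Fin.snoc_castSucc]
      exact h0
    · exact Fin.snoc_last (α := fun _ => Sylow p G) _ _
    · intro i
      refine Fin.lastCases ?_ (fun j => ?_) i
      · rw [Fin.snoc_last (α := fun _ => Subgroup G), Fin.snoc_last (α := fun _ => G),
          Fin.snoc_castSucc (α := fun _ => Sylow p G), Fin.succ_last,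
          Fin.snoc_last (α := fun _ => Sylow p G), hlast]
        exact ⟨hT, hU, hx, hconj, hD⟩
      · rw [Fin.snoc_castSucc (α := fun _ => Subgroup G), Fin.snoc_castSucc (α := fun _ => G),
          Fin.snoc_castSucc (α := fun _ => Sylow p G), Fin.succ_castSucc,
          Fin.snoc_castSucc (α := fun _ => Sylow p G)]
        exact hch j

/-- Control of Sylow intersections in terms of chains. -/
theorem controlsSylowIntersections_iff {p : ℕ} {𝓕 : Set (Subgroup G)} :
    Cfsg.ControlsSylowIntersections p 𝓕 ↔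
      ∀ S T : Sylow p G, S ≠ T → (S : Subgroup G) ⊓ (T : Subgroup G) ≠ ⊥ →
        SChain p 𝓕 ((S : Subgroup G) ⊓ (T : Subgroup G)) S T := by
  constructor
  · intro h S T hne hint
    obtain ⟨n, c, X, x, h0, hlast, hch⟩ := h S T hne hint
    have hall : ∀ k (hk : k < n + 1), SChain p 𝓕 ((S : Subgroup G) ⊓ (T : Subgroup G)) S (c ⟨k, hk⟩) := by
      intro k
      induction k with
      | zero =>
        intro hk
        have : (⟨0, hk⟩ : Fin (n + 1)) = 0 := rfl
        rw [this, h0]
        exact SChain.refl S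
      | succ k ih =>
        intro hk
        have hk' : k < n := by omega
        obtain ⟨hX1, hX2, hxX, hconj, hD⟩ := hch ⟨k, hk'⟩
        have e1 : (Fin.castSucc (⟨k, hk'⟩ : Fin n)) = ⟨k, by omega⟩ := rfl
        have e2 : (Fin.succ (⟨k, hk'⟩ : Fin n)) = ⟨k + 1, hk⟩ := rfl
        rw [e1] at hX1 hconj
        rw [e2] at hX2 hconj hD
        exact SChain.tail _ _ (ih (by omega)) hX1 hX2 hxX hconj hD
    have := hall n (by omega)
    have e3 : (⟨n, by omega⟩ : Fin (n + 1)) = Fin.last n := rfl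
    rw [e3, hlast] at this
    exact this
  · intro h S T hne hint
    exact (h S T hne hint).exists_data

end Cfsg.Agent.Lib.Helper49
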