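/-
helper49 library (project SZCH, module [I-W] + the local normaliser lemma): the involution `w` of `Sz F m`,
`B ∩ B^w = K`, `G = B ∪ BwB`, where `B = N(Q)` is the stabiliser of `∞`.
-/
import Mathlib
import Cfsg.Agent.Lib.Helper6.SzSylow
import Cfsg.Agent.Lib.Helper6.SzTI
import Cfsg.Agent.Lib.Helper6.SzTorus
import Cfsg.Agent.Lib.Helper6.SzGen

set_option autoImplicit false
set_option linter.unusedSectionVars false

namespace Cfsg.Agent.Lib.Helper49.SzCh

open Cfsg Matrix Cfsg.Agent.Lib.Helper6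

variable {F : Type*} [Field F] [Fintype F] [CharP F 2] {m : ℕ} (hσ : SgSq (F := F) m)

/-- `H(k)` conjugates `Q` into `Q`. -/
theorem szH_conj_mem (k : Fˣ) (n : Sz F m) (hn : n ∈ szTsub hσ) :
    (szHsubHom hσ k) * n * (szHsubHom hσ k)⁻¹ ∈ szTsub hσ := by
  obtain ⟨a, b, hab⟩ := hn
  refine ⟨(k : F) * a, (k : F) * sg m (k : F) * b, ?_⟩
  rw [Subgroup.coe_mul, Subgroup.coe_mul, Subgroup.coe_inv, hab]
  show szH m k * szT m a b * (szH m k)⁻¹ = _
  rw [szH_mul_szT hσ, mul_inv_cancel_right]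

/-- `H(k)` normalises `Q`. -/
theorem szH_mem_normalizer (k : Fˣ) :
    szHsubHom hσ k ∈ Subgroup.normalizer (szTsub hσ : Set (Sz F m)) := by
  rw [Subgroup.mem_normalizer_iff]
  intro n
  constructor
  · exact szH_conj_mem hσ k n
  · intro h
    have := szH_conj_mem hσ k⁻¹ _ h
    rw [map_inv, inv_inv] at this
    have e : (szHsubHom hσ k)⁻¹ * ((szHsubHom hσ k) * n * (szHsubHom hσ k)⁻¹) * (szHsubHom hσ k) = n := by
      group
    rwa [e] at this

/-- `N(Q)` is the stabiliser of `∞` (local version of SZCH-[I-B] `mem_normalizer_szTsub_iff`). -/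
theorem mem_normalizer_iff_fix_inf (hm : 1 ≤ m) (hF : Fintype.card F = 2 ^ (2 * m + 1)) (g : Sz F m) :
    g ∈ Subgroup.normalizer (szTsub hσ : Set (Sz F m)) ↔
      (g : SpecialLinearGroup (Fin 4) F) • suzukiPointInfinity F = suzukiPointInfinity F := by
  constructor
  · intro hg
    rw [Subgroup.mem_normalizer_iff] at hg
    have h1 : t0 hσ 1 ∈ szTsub hσ := t0_mem_szTsub hσ 1
    obtain ⟨c, d, hcd⟩ := (hg _).1 h1
    rw [Subgroup.coe_mul, Subgroup.coe_mul, Subgroup.coe_inv] at hcd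
    refine fix_inf_of_conj_szT hσ g.2 (a := 0) (b := 1) (by simp) hcd
  · intro hg
    obtain ⟨a, b, k, hgk⟩ := exists_eq_szT_mul_szH hm hF g.2 hg
    have e : g = (⟨szT m a b, szT_mem hσ a b⟩ : Sz F m) * szHsubHom hσ k := Subtype.ext hgk
    rw [e]
    apply Subgroup.mul_mem
    · exact Subgroup.le_normalizer (⟨a, b, rfl⟩ : (⟨szT m a b, szT_mem hσ a b⟩ : Sz F m) ∈ szTsub hσ)
    · exact szH_mem_normalizer hσ k

/-! ## SZCH-[I-W] -/

theorem szW_mul_self : (szW : SpecialLinearGroup (Fin 4) F) * szW = 1 := by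
  apply Subtype.ext
  show (szWmat : Matrix (Fin 4) (Fin 4) F) * szWmat = 1
  ext i j
  rw [Matrix.mul_apply, Fin.sum_univ_four]
  fin_cases i <;> fin_cases j <;> simp [szWmat]

theorem inst_w_sq : (⟨szW, szW_mem hσ⟩ : Sz F m) * ⟨szW, szW_mem hσ⟩ = 1 :=
  Subtype.ext szW_mul_self

theorem w_inv : (⟨szW, szW_mem hσ⟩ : Sz F m)⁻¹ = ⟨szW, szW_mem hσ⟩ :=
  inv_eq_of_mul_eq_one_left (inst_w_sq hσ)

theorem szW_conj_szH (k : Fˣ) :
    (szW : SpecialLinearGroup (Fin 4) F) * szH m k * szW = szH m k⁻¹ := by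
  apply Subtype.ext
  show (szWmat : Matrix (Fin 4) (Fin 4) F) * szHmat m k * szWmat = szHmat m k⁻¹
  ext i j
  rw [Matrix.mul_apply, Fin.sum_univ_four]
  simp only [Matrix.mul_apply, Fin.sum_univ_four]
  fin_cases i <;> fin_cases j <;> simp [szWmat, szHmat]

theorem inst_w_inv : ∀ k ∈ szHsub hσ,
    (⟨szW, szW_mem hσ⟩ : Sz F m) * k * (⟨szW, szW_mem hσ⟩ : Sz F m)⁻¹ = k⁻¹ := by
  rintro _ ⟨κ, rfl⟩
  rw [w_inv hσ, ← map_inv]
  exact Subtype.ext (szW_conj_szH κ)

theorem inst_w_not (hm : 1 ≤ m) (hF : Fintype.card F = 2 ^ (2 * m + 1)) :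
    (⟨szW, szW_mem hσ⟩ : Sz F m) ∉ Subgroup.normalizer (szTsub hσ : Set (Sz F m)) := by
  rw [mem_normalizer_iff_fix_inf hσ hm hF]
  show (szW : SpecialLinearGroup (Fin 4) F) • suzukiPointInfinity F ≠ suzukiPointInfinity F
  rw [szW_smul_infPt]
  exact szZero_ne_inf'

theorem inst_inter_conj (hm : 1 ≤ m) (hF : Fintype.card F = 2 ^ (2 * m + 1)) :
    ∀ b ∈ Subgroup.normalizer (szTsub hσ : Set (Sz F m)),
      (⟨szW, szW_mem hσ⟩ : Sz F m) * b * (⟨szW, szW_mem hσ⟩ : Sz F m)⁻¹ ∈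
        Subgroup.normalizer (szTsub hσ : Set (Sz F m)) → b ∈ szHsub hσ := by
  intro b hb hwb
  rw [mem_normalizer_iff_fix_inf hσ hm hF] at hb hwb
  rw [w_inv hσ] at hwb
  have h0 : (b : SpecialLinearGroup (Fin 4) F) • suzukiPointZero F = suzukiPointZero F := by
    have h1 : (szW : SpecialLinearGroup (Fin 4) F) •
        ((b : SpecialLinearGroup (Fin 4) F) • ((szW : SpecialLinearGroup (Fin 4) F) • suzukiPointInfinity F)) =
        suzukiPointInfinity F := by
      rw [← mul_smul, ← mul_smul]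
      exact hwb
    rw [szW_smul_infPt] at h1
    have h2 : (b : SpecialLinearGroup (Fin 4) F) • suzukiPointZero F =
        (szW : SpecialLinearGroup (Fin 4) F) • suzukiPointInfinity F := by
      rw [← h1, ← mul_smul, szW_mul_self, one_smul]
    rw [h2, szW_smul_infPt]
  obtain ⟨k, hk⟩ := eq_szH_of_fix hm hF b.2 hb h0
  exact ⟨k, Subtype.ext hk.symm⟩

theorem inst_bruhat (hm : 1 ≤ m) (hF : Fintype.card F = 2 ^ (2 * m + 1)) :
    ∀ g : Sz F m, g ∈ Subgroup.normalizer (szTsub hσ : Set (Sz F m)) ∨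
      ∃ b ∈ Subgroup.normalizer (szTsub hσ : Set (Sz F m)),
        ∃ b' ∈ Subgroup.normalizer (szTsub hσ : Set (Sz F m)),
          g = b * (⟨szW, szW_mem hσ⟩ : Sz F m) * b' := by
  intro g
  have hmem : (g : SpecialLinearGroup (Fin 4) F) • suzukiPointInfinity F ∈ suzukiOvoid F m :=
    sz_smul_mem g.2 (szInf_mem m)
  rcases (mem_suzukiOvoid_iff m _).1 hmem with h | ⟨x, y, h⟩
  · left
    exact (mem_normalizer_iff_fix_inf hσ hm hF g).2 h
  · right
    set t : Sz F m := ⟨szT m x y, szT_mem hσ x y⟩ with ht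
    set w : Sz F m := ⟨szW, szW_mem hσ⟩ with hw
    have htQ : t ∈ szTsub hσ := ⟨x, y, rfl⟩
    have htw : ((t * w : Sz F m) : SpecialLinearGroup (Fin 4) F) • suzukiPointInfinity F = szPt m x y := by
      show (szT m x y * szW) • suzukiPointInfinity F = szPt m x y
      rw [mul_smul, szW_smul_infPt, ← szPt_zero (m := m), szT_smul_pt hσ]
      simp
    refine ⟨t, Subgroup.le_normalizer htQ, (t * w)⁻¹ * g, ?_, by group⟩
    rw [mem_normalizer_iff_fix_inf hσ hm hF]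
    rw [Subgroup.coe_mul, Subgroup.coe_inv, mul_smul, h, ← htw, inv_smul_smul]

end Cfsg.Agent.Lib.Helper49.SzCh
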