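/-
helper49 library (project SZCH, module [I-K]): the torus `K` of `Sz F m` is abelian, `C(k) = K` for `1 ≠ k ∈ K`,
`|N(K)| = 2 (q - 1)`.
-/
import Mathlib
import Cfsg.Agent.Lib.Helper6.SzSylow
import Cfsg.Agent.Lib.Helper6.SzTI
import Cfsg.Agent.Lib.Helper6.SzTorus
import Cfsg.Agent.Lib.Helper6.SzGen
import Cfsg.Agent.S0327
import Cfsg.Agent.Lib.Helper49.SzChIW

set_option autoImplicit false
set_option linter.unusedSectionVars false

namespace Cfsg.Agent.Lib.Helper49.SzCh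

open Cfsg Matrix Cfsg.Agent.Lib.Helper6

variable {F : Type*} [Field F] [Fintype F] [CharP F 2] {m : ℕ} (hσ : SgSq (F := F) m)

theorem inst_K_comm : ∀ a ∈ szHsub hσ, ∀ b ∈ szHsub hσ, a * b = b * a := by
  rintro _ ⟨x, rfl⟩ _ ⟨y, rfl⟩
  rw [← map_mul, ← map_mul, mul_comm]

/-- a point of the ovoid fixed by a nontrivial element of `K` is `∞` or `0` -/
theorem fix_of_szH (hm : 1 ≤ m) (hF : Fintype.card F = 2 ^ (2 * m + 1)) (κ : Fˣ) (hκ : κ ≠ 1)
    (P : Projectivization F (Fin 4 → F)) (hP : P ∈ suzukiOvoid F m) (hfix : szH m κ • P = P) :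
    P = suzukiPointInfinity F ∨ P = suzukiPointZero F := by
  have hσ : SgSq (F := F) m := sgSq_of_card m hF
  rcases (mem_suzukiOvoid_iff m _).1 hP with h | ⟨x, y, h⟩
  · exact Or.inl h
  · right
    by_cases hxy : x = 0 ∧ y = 0
    · rw [h, hxy.1, hxy.2, szPt_zero]
    · exfalso
      rw [h] at hfix
      have := Cfsg.Agent.S0327.eq_one_of_fix_three hm hF (szH_mem hσ κ) (szH_smul_infPt κ)
        (szH_smul_zeroPt κ) hxy hfix
      rw [← szH_one (m := m)] at this
      exact hκ (szH_injective this)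

/-- an element of `Sz F m` preserving `{∞, 0}` lies in `K ∪ wK` -/
theorem mem_K_or_of_perm (hm : 1 ≤ m) (hF : Fintype.card F = 2 ^ (2 * m + 1)) (g : Sz F m)
    (h1 : (g : SpecialLinearGroup (Fin 4) F) • suzukiPointInfinity F = suzukiPointInfinity F ∨
      (g : SpecialLinearGroup (Fin 4) F) • suzukiPointInfinity F = suzukiPointZero F)
    (h2 : (g : SpecialLinearGroup (Fin 4) F) • suzukiPointZero F = suzukiPointInfinity F ∨
      (g : SpecialLinearGroup (Fin 4) F) • suzukiPointZero F = suzukiPointZero F) :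
    g ∈ szHsub hσ ∨ ∃ k ∈ szHsub hσ, g = (⟨szW, szW_mem hσ⟩ : Sz F m) * k := by
  have hne : (g : SpecialLinearGroup (Fin 4) F) • suzukiPointInfinity F ≠
      (g : SpecialLinearGroup (Fin 4) F) • suzukiPointZero F := by
    intro h
    exact szZero_ne_inf' (smul_left_cancel _ h).symm
  rcases h1 with h1 | h1
  · rcases h2 with h2 | h2
    · exact absurd (h1.trans h2.symm) hne
    · left
      obtain ⟨k, hk⟩ := eq_szH_of_fix hm hF g.2 h1 h2
      exact ⟨k, Subtype.ext hk.symm⟩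
  · rcases h2 with h2 | h2
    · right
      set w : Sz F m := ⟨szW, szW_mem hσ⟩ with hw
      have hwg : ((w * g : Sz F m) : SpecialLinearGroup (Fin 4) F) = szW * (g : SpecialLinearGroup (Fin 4) F) := rfl
      have e1 : ((w * g : Sz F m) : SpecialLinearGroup (Fin 4) F) • suzukiPointInfinity F = suzukiPointInfinity F := by
        rw [hwg, mul_smul, h1, szW_smul_zeroPt]
      have e2 : ((w * g : Sz F m) : SpecialLinearGroup (Fin 4) F) • suzukiPointZero F = suzukiPointZero F := by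
        rw [hwg, mul_smul, h2, szW_smul_infPt]
      obtain ⟨k, hk⟩ := eq_szH_of_fix hm hF (w * g).2 e1 e2
      refine ⟨szHsubHom hσ k, ⟨k, rfl⟩, ?_⟩
      have e3 : w * g = szHsubHom hσ k := Subtype.ext hk
      rw [← e3, ← mul_assoc, inst_w_sq hσ, one_mul]
    · exact absurd (h1.trans h2.symm) hne

/-- if `g k g⁻¹ = k'` with `k, k' ∈ K` nontrivial then `g` preserves `{∞, 0}` -/
theorem perm_of_conj (hm : 1 ≤ m) (hF : Fintype.card F = 2 ^ (2 * m + 1)) (g : Sz F m) (κ κ' : Fˣ)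
    (hκ' : κ' ≠ 1) (h : g * szHsubHom hσ κ * g⁻¹ = szHsubHom hσ κ') :
    g ∈ szHsub hσ ∨ ∃ k ∈ szHsub hσ, g = (⟨szW, szW_mem hσ⟩ : Sz F m) * k := by
  have hc : (g : SpecialLinearGroup (Fin 4) F) * szH m κ = szH m κ' * (g : SpecialLinearGroup (Fin 4) F) := by
    have h' : g * szHsubHom hσ κ = szHsubHom hσ κ' * g := by rw [← h]; group
    exact congrArg Subtype.val h'
  have key : ∀ P, P ∈ suzukiOvoid F m → szH m κ • P = P →
      (g : SpecialLinearGroup (Fin 4) F) • P = suzukiPointInfinity F ∨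
      (g : SpecialLinearGroup (Fin 4) F) • P = suzukiPointZero F := by
    intro P hP hfix
    apply fix_of_szH hm hF κ' hκ' _ (sz_smul_mem g.2 hP)
    rw [← mul_smul, ← hc, mul_smul, hfix]
  apply mem_K_or_of_perm hσ hm hF g (key _ (szInf_mem m) (szH_smul_infPt κ))
  have := key (suzukiPointZero F) (by rw [← szPt_zero (m := m)]; exact szPt_mem m 0 0) (szH_smul_zeroPt κ)
  exact this

theorem inst_cent_K (hm : 1 ≤ m) (hF : Fintype.card F = 2 ^ (2 * m + 1)) :
    ∀ k ∈ szHsub hσ, k ≠ 1 → Subgroup.centralizer ({k} : Set (Sz F m)) = szHsub hσ := by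
  rintro _ ⟨κ, rfl⟩ hk1
  have hκ : κ ≠ 1 := by
    rintro rfl
    exact hk1 (map_one _)
  apply le_antisymm
  · intro g hg
    rw [Subgroup.mem_centralizer_singleton_iff] at hg
    have hconj : g * szHsubHom hσ κ * g⁻¹ = szHsubHom hσ κ := by rw [hg, mul_inv_cancel_right]
    rcases perm_of_conj hσ hm hF g κ κ hκ hconj with h | ⟨k', ⟨κ'', rfl⟩, rfl⟩
    · exact h
    · exfalso
      -- `g = w k'` inverts `k`
      set w : Sz F m := ⟨szW, szW_mem hσ⟩ with hw
      have h1 : w * szHsubHom hσ κ'' * szHsubHom hσ κ * (w * szHsubHom hσ κ'')⁻¹ = (szHsubHom hσ κ)⁻¹ := by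
        have e : w * szHsubHom hσ κ'' * szHsubHom hσ κ * (w * szHsubHom hσ κ'')⁻¹ =
            w * (szHsubHom hσ κ'' * szHsubHom hσ κ * (szHsubHom hσ κ'')⁻¹) * w⁻¹ := by group
        rw [e, ← map_mul, ← map_inv, ← map_mul, mul_comm κ'' κ, mul_inv_cancel_right]
        exact inst_w_inv hσ _ ⟨κ, rfl⟩
      rw [hconj, ← map_inv] at h1
      have h2 : κ = κ⁻¹ := szHsubHom_injective hσ h1
      have h3 : (κ : F) * (κ : F) = 1 := by
        have : κ * κ = 1 := by nth_rewrite 2 [h2]; exact mul_inv_cancel κ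
        have := congrArg (fun u : Fˣ => (u : F)) this
        simpa using this
      have h4 : ((κ : F) - 1) * ((κ : F) - 1) = 0 := by
        have h2' : (2 : F) = 0 := CharTwo.two_eq_zero
        linear_combination h3 + (1 - (κ : F)) * h2'
      have h5 : (κ : F) = 1 := by
        rcases mul_self_eq_zero.mp h4 with h
        exact sub_eq_zero.mp h
      exact hκ (Units.ext h5)
  · intro g hg
    rw [Subgroup.mem_centralizer_singleton_iff]
    exact inst_K_comm hσ _ hg _ ⟨κ, rfl⟩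

theorem w_not_mem_K : (⟨szW, szW_mem hσ⟩ : Sz F m) ∉ szHsub hσ := by
  rintro ⟨κ, hκ⟩
  have h1 : szH m κ = (szW : SpecialLinearGroup (Fin 4) F) := congrArg Subtype.val hκ
  have h2 := szH_smul_infPt (F := F) (m := m) κ
  rw [h1, szW_smul_infPt] at h2
  exact szZero_ne_inf' h2

theorem w_mem_normalizer_K :
    (⟨szW, szW_mem hσ⟩ : Sz F m) ∈ Subgroup.normalizer (szHsub hσ : Set (Sz F m)) := by
  rw [Subgroup.mem_normalizer_iff]
  intro h
  constructor
  · intro hh
    rw [inst_w_inv hσ h hh]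
    exact Subgroup.inv_mem _ hh
  · intro hh
    have h1 := inst_w_inv hσ _ hh
    have e : (⟨szW, szW_mem hσ⟩ : Sz F m) * ((⟨szW, szW_mem hσ⟩ : Sz F m) * h * (⟨szW, szW_mem hσ⟩ : Sz F m)⁻¹) *
        (⟨szW, szW_mem hσ⟩ : Sz F m)⁻¹ = h := by
      rw [w_inv hσ]
      have := inst_w_sq hσ
      calc (⟨szW, szW_mem hσ⟩ : Sz F m) * ((⟨szW, szW_mem hσ⟩ : Sz F m) * h * ⟨szW, szW_mem hσ⟩) * ⟨szW, szW_mem hσ⟩
          = ((⟨szW, szW_mem hσ⟩ : Sz F m) * ⟨szW, szW_mem hσ⟩) * h * ((⟨szW, szW_mem hσ⟩ : Sz F m) * ⟨szW, szW_mem hσ⟩) := by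
            group
        _ = h := by rw [this, one_mul, mul_one]
    rw [e] at h1
    have := Subgroup.inv_mem _ hh
    rw [← h1] at this
    simpa using this

theorem mem_normalizer_K (hm : 1 ≤ m) (hF : Fintype.card F = 2 ^ (2 * m + 1)) (g : Sz F m)
    (hg : g ∈ Subgroup.normalizer (szHsub hσ : Set (Sz F m))) :
    g ∈ szHsub hσ ∨ ∃ k ∈ szHsub hσ, g = (⟨szW, szW_mem hσ⟩ : Sz F m) * k := by
  classical
  have hcard : 1 < Fintype.card Fˣ := by
    rw [Fintype.card_units, hF]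
    have : 2 ^ 3 ≤ 2 ^ (2 * m + 1) := Nat.pow_le_pow_right (by norm_num) (by omega)
    omega
  obtain ⟨κ, hκ⟩ := Fintype.exists_ne_of_one_lt_card hcard (1 : Fˣ)
  rw [Subgroup.mem_normalizer_iff] at hg
  obtain ⟨κ', hκ'⟩ := (hg _).1 (⟨κ, rfl⟩ : szHsubHom hσ κ ∈ szHsub hσ)
  have hκ'1 : κ' ≠ 1 := by
    rintro rfl
    rw [map_one] at hκ'
    have h1 : szHsubHom hσ κ = 1 := by
      have := congrArg (fun x => g⁻¹ * x * g) hκ'.symm
      simpa [mul_assoc] using this
    rw [← map_one (szHsubHom hσ)] at h1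
    exact hκ (szHsubHom_injective hσ h1)
  exact perm_of_conj hσ hm hF g κ κ' hκ'1 hκ'.symm

theorem inst_card_norm_K (hm : 1 ≤ m) (hF : Fintype.card F = 2 ^ (2 * m + 1)) :
    Nat.card ↥(Subgroup.normalizer (szHsub hσ : Set (Sz F m))) = 2 * (2 ^ (2 * m + 1) - 1) := by
  set N : Subgroup (Sz F m) := Subgroup.normalizer (szHsub hσ : Set (Sz F m)) with hN
  have hKN : szHsub hσ ≤ N := Subgroup.le_normalizer
  set w : Sz F m := ⟨szW, szW_mem hσ⟩ with hw
  have hwN : w ∈ N := w_mem_normalizer_K hσ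
  have hidx : ((szHsub hσ).subgroupOf N).index = 2 := by
    rw [Subgroup.index_eq_two_iff]
    refine ⟨⟨w, hwN⟩, ?_⟩
    rintro ⟨b, hb⟩
    simp only [Subgroup.mem_subgroupOf, Subgroup.coe_mul]
    rcases mem_normalizer_K hσ hm hF b hb with h | ⟨k, hk, rfl⟩
    · right
      refine ⟨h, fun h' => ?_⟩
      apply w_not_mem_K hσ
      have := Subgroup.mul_mem _ (Subgroup.inv_mem _ h) h'
      simpa using this
    · left
      refine ⟨?_, fun h' => ?_⟩
      · have := inst_w_inv hσ k hk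
        rw [w_inv hσ] at this
        show w * k * w ∈ szHsub hσ
        rw [this]
        exact Subgroup.inv_mem _ hk
      · apply w_not_mem_K hσ
        have := Subgroup.mul_mem _ h' (Subgroup.inv_mem _ hk)
        simpa using this
  have h1 := Subgroup.card_mul_index ((szHsub hσ).subgroupOf N)
  rw [hidx, Nat.card_congr (Subgroup.subgroupOfEquivOfLe hKN).toEquiv, card_szHsub,
    Nat.card_eq_fintype_card, hF] at h1
  rw [← h1, mul_comm]

end Cfsg.Agent.Lib.Helper49.SzCh
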