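import Mathlib
import Cfsg.Agent.S4456
import Cfsg.Agent.S0887
import Cfsg.Agent.Lib.Helper80.TwoDeg2

/-!
# S4460 module [PCOMP] (helper49, for helper80): the non-coprime case of "three character degrees"

`three_deg_of_prime_dvd_of` is the assembly of the non-coprime case, stated against the
statements of the modules [MAB], [TAK3], [QUOT] (as hypotheses specialised to `G`), so that it
does not depend on where they land.  See `Cfsg/Agent/Lib/Helper80/ThreeDeg/SPINE.md`.
-/

set_option autoImplicit false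

namespace Cfsg.Agent.Lib.Helper49.ThreeDeg

open Cfsg
open scoped commutatorElement

universe u

/-- transport of an inclusion of derived series along a subgroup -/
theorem derivedSeries_succ_le_map {G : Type u} [Group G] (H : Subgroup G) (i j : ℕ)
    (h : derivedSeries G j ≤ (derivedSeries H i).map H.subtype) :
    derivedSeries G (j + 1) ≤ (derivedSeries H (i + 1)).map H.subtype := by
  rw [derivedSeries_succ, derivedSeries_succ, Subgroup.map_commutator]
  exact Subgroup.commutator_mono h h

theorem commutator_eq_map_derivedSeries_one {G : Type u} [Group G] (H : Subgroup G) :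
    (⁅H, H⁆ : Subgroup G) = (derivedSeries H 1).map H.subtype := by
  rw [derivedSeries_one, commutator_def, Subgroup.map_commutator, ← MonoidHom.range_eq_map,
    Subgroup.range_subtype]

theorem derivedSeries_one_eq_bot_of_comm {K : Type u} [Group K]
    (hcomm : ∀ a b : K, a * b = b * a) : derivedSeries K 1 = ⊥ := by
  rw [eq_bot_iff, derivedSeries_one, commutator_def, Subgroup.commutator_le]
  intro a _ b _
  rw [Subgroup.mem_bot, commutatorElement_eq_one_iff_mul_comm]
  exact hcomm a b

/-- character degrees inside `{1, e}` force `K'' = 1` (all cases of Isaacs 12.6) -/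
theorem derivedSeries_two_eq_bot_of_cd_sub {K : Type u} [Group K] [Fintype K] (e : ℕ)
    (hcd : ∀ θ : IrrCharacter K, charDegree (θ : K → ℂ) = 1 ∨ charDegree (θ : K → ℂ) = e) :
    derivedSeries K 2 = ⊥ := by
  by_cases h : (∃ θ : IrrCharacter K, charDegree (θ : K → ℂ) = e) ∧ e ≠ 1
  · have h1 := Helper80.derivedSeries_two_eq_bot_of_two_degrees e hcd h.1 h.2
    rw [eq_bot_iff, derivedSeries_succ, derivedSeries_one, Subgroup.commutator_le]
    intro a ha b hb
    rw [Subgroup.mem_bot, commutatorElement_eq_one_iff_mul_comm]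
    exact h1 a ha b hb
  · have hall : ∀ θ : IrrCharacter K, charDegree (θ : K → ℂ) = 1 := by
      intro θ
      rcases hcd θ with h1 | h1
      · exact h1
      · by_contra hne
        exact h ⟨⟨θ, h1⟩, fun he => hne (h1.trans he)⟩
    have hcomm := Helper80.commutative_of_forall_charDegree_eq_one hall
    have h1 := derivedSeries_one_eq_bot_of_comm hcomm
    exact le_bot_iff.mp (h1 ▸ derivedSeries_antitone K (by norm_num : 1 ≤ 2))

variable {G : Type u} [Group G] [Fintype G]

/-- degrees of the irreducible characters of a normal `p`-complement (Isaacs 11.29) -/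
theorem charDegree_pcompl (p : ℕ) (hp : p.Prime) (H : Subgroup G) [H.Normal] [Fintype H]
    (hcop : (Nat.card H).Coprime p) (k : ℕ) (hidx : H.index = p ^ k)
    {χ : G → ℂ} (hχ : IsIrrCharacter G χ) {θ : H → ℂ} (hθ : IsIrrCharacter H θ)
    (hover : classInner (fun n : H => χ n) θ ≠ 0) :
    charDegree θ = ordCompl[p] (charDegree χ) := by
  obtain ⟨hd, hq⟩ := Cfsg.Agent.S0887.result H χ hχ θ hθ hover (charDegree χ) (charDegree θ)
    (Helper78.IsCharacter.apply_one_eq_charDegree (Helper78.IsIrrCharacter.isCharacter hχ))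
    (Helper78.IsCharacter.apply_one_eq_charDegree (Helper78.IsIrrCharacter.isCharacter hθ))
  rw [hidx] at hq
  obtain ⟨j, -, hj⟩ := (Nat.dvd_prime_pow hp).mp hq
  have h2 : charDegree χ = p ^ j * charDegree θ := by
    have := Nat.div_mul_cancel hd
    rw [hj] at this
    exact this.symm
  have h3 : ¬ p ∣ charDegree θ := by
    intro h
    have h4 : charDegree θ ∣ Nat.card H := Helper79.irr_charDegree_dvd_card ⟨θ, hθ⟩
    have h5 : p ∣ Nat.card H := h.trans h4
    have h6 := Nat.Coprime.eq_one_of_dvd hcop.symm h5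
    exact hp.one_lt.ne' h6
  rw [h2, Nat.ordCompl_pow_mul_of_not_dvd j hp h3]

/-- **[PCOMP]**, against the module statements. -/
theorem three_deg_of_prime_dvd_of
    (hMAB : ∀ (p : ℕ), p.Prime → ∀ (A : Subgroup G) [A.Normal],
      (∀ a ∈ A, ∀ b ∈ A, a * b = b * a) → ∀ k : ℕ, A.index = p ^ k →
      ∀ χ : G → ℂ, IsIrrCharacter G χ →
        ∃ (H : Subgroup G) (lam : H →* ℂˣ), χ = indFun H (fun h => (lam h : ℂ)))
    (hTAK : (∀ χ : G → ℂ, IsIrrCharacter G χ →
        ∃ (H : Subgroup G) (lam : H →* ℂˣ), χ = indFun H (fun h => (lam h : ℂ))) →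
      ∀ m n : ℕ, (∀ χ : IrrCharacter G, charDegree (χ : G → ℂ) = 1 ∨
        charDegree (χ : G → ℂ) = m ∨ charDegree (χ : G → ℂ) = n) → derivedSeries G 3 = ⊥)
    (hQ1 : ∀ (H : Subgroup G) [H.Normal] (χ : IrrCharacter G),
      (∀ x ∈ ⁅H, H⁆, (χ : G → ℂ) x = (χ : G → ℂ) 1) → charDegree (χ : G → ℂ) ∣ H.index)
    (hQ2 : ∀ (N : Subgroup G) [N.Normal],
      (∀ χ : IrrCharacter G, (∀ x ∈ N, (χ : G → ℂ) x = (χ : G → ℂ) 1) →
        charDegree (χ : G → ℂ) = 1) → commutator G ≤ N)
    (hQ3 : ∀ (N : Subgroup G) [N.Normal] (e : ℕ),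
      (∀ χ : IrrCharacter G, (∀ x ∈ N, (χ : G → ℂ) x = (χ : G → ℂ) 1) →
        charDegree (χ : G → ℂ) = 1 ∨ charDegree (χ : G → ℂ) = e) → derivedSeries G 2 ≤ N)
    (m n p : ℕ) (hp : p.Prime) (hpm : p ∣ m) (hpn : p ∣ n)
    (hcd : ∀ χ : IrrCharacter G, charDegree (χ : G → ℂ) = 1 ∨
      charDegree (χ : G → ℂ) = m ∨ charDegree (χ : G → ℂ) = n)
    (ih : ∀ H : Subgroup G, H ≠ ⊤ → ∀ m' n' : ℕ,
      (∀ θ : IrrCharacter H, charDegree (θ : H → ℂ) = 1 ∨
        charDegree (θ : H → ℂ) = m' ∨ charDegree (θ : H → ℂ) = n') →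
      derivedSeries H 3 = ⊥) :
    derivedSeries G 3 = ⊥ := by
  classical
  obtain ⟨H, hHn, hcop, k, hidx⟩ := Cfsg.Agent.S4456.result (G := G) p hp (by
    intro χ hne
    rcases hcd χ with h | h | h
    · exact absurd h hne
    · rw [h]; exact hpm
    · rw [h]; exact hpn)
  have := hHn
  by_cases hHtop : H = ⊤
  · -- `|G|` is prime to `p`: all characters are linear
    have hGcop : (Nat.card G).Coprime p := by
      rw [hHtop, Subgroup.card_top] at hcop
      exact hcop
    have hnot : ∀ χ : IrrCharacter G, ¬ p ∣ charDegree (χ : G → ℂ) := by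
      intro χ h
      have h5 : p ∣ Nat.card G := h.trans (Helper79.irr_charDegree_dvd_card χ)
      exact hp.one_lt.ne' (Nat.Coprime.eq_one_of_dvd hGcop.symm h5)
    have hall : ∀ χ : IrrCharacter G, charDegree (χ : G → ℂ) = 1 := by
      intro χ
      rcases hcd χ with h | h | h
      · exact h
      · exact absurd (h ▸ hpm) (hnot χ)
      · exact absurd (h ▸ hpn) (hnot χ)
    have h1 := derivedSeries_one_eq_bot_of_comm
      (Helper80.commutative_of_forall_charDegree_eq_one hall)
    exact le_bot_iff.mp (h1 ▸ derivedSeries_antitone G (by norm_num : 1 ≤ 3))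
  · let _ : Fintype H := Fintype.ofFinite H
    -- character degrees of `H`
    have hdegH : ∀ θ : IrrCharacter H, ∃ χ : IrrCharacter G,
        charDegree (θ : H → ℂ) = ordCompl[p] (charDegree (χ : G → ℂ)) := by
      intro θ
      obtain ⟨χ, hχ, hover⟩ := Helper80.exists_irr_over' H θ.2
      exact ⟨⟨χ, hχ⟩, charDegree_pcompl p hp H hcop k hidx hχ θ.2 hover⟩
    have hcdH : ∀ θ : IrrCharacter H, charDegree (θ : H → ℂ) = 1 ∨
        charDegree (θ : H → ℂ) = ordCompl[p] m ∨ charDegree (θ : H → ℂ) = ordCompl[p] n := by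
      intro θ
      obtain ⟨χ, h1⟩ := hdegH θ
      rcases hcd χ with h | h | h
      · left; rw [h1, h]; simp
      · right; left; rw [h1, h]
      · right; right; rw [h1, h]
    have hHH := commutator_eq_map_derivedSeries_one H
    -- characters trivial on `[H,H]` have `p`-power degree
    have hpow : ∀ χ : IrrCharacter G, (∀ x ∈ ⁅H, H⁆, (χ : G → ℂ) x = (χ : G → ℂ) 1) →
        ∃ j : ℕ, charDegree (χ : G → ℂ) = p ^ j := by
      intro χ hker
      have h1 := hQ1 H χ hker
      rw [hidx] at h1
      obtain ⟨j, -, hj⟩ := (Nat.dvd_prime_pow hp).mp h1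
      exact ⟨j, hj⟩
    -- the mixed case
    have key : ∀ e d : ℕ, (∃ a : ℕ, e = p ^ a) → ¬ (∃ b : ℕ, d = p ^ b) →
        (∀ χ : IrrCharacter G, charDegree (χ : G → ℂ) = 1 ∨
          charDegree (χ : G → ℂ) = e ∨ charDegree (χ : G → ℂ) = d) →
        (∀ θ : IrrCharacter H, charDegree (θ : H → ℂ) = 1 ∨
          charDegree (θ : H → ℂ) = ordCompl[p] e ∨ charDegree (θ : H → ℂ) = ordCompl[p] d) →
        derivedSeries G 3 = ⊥ := by
      intro e d he hd hcd' hcdH'
      obtain ⟨a, rfl⟩ := he
      have h2 : derivedSeries G 2 ≤ ⁅H, H⁆ := by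
        apply hQ3 ⁅H, H⁆ (p ^ a)
        intro χ hker
        obtain ⟨j, hj⟩ := hpow χ hker
        rcases hcd' χ with h | h | h
        · exact Or.inl h
        · exact Or.inr h
        · exact absurd ⟨j, h ▸ hj⟩ hd
      rw [hHH] at h2
      have h3 := derivedSeries_succ_le_map H 1 2 h2
      have h4 : derivedSeries H 2 = ⊥ := by
        apply derivedSeries_two_eq_bot_of_cd_sub (ordCompl[p] d)
        intro θ
        rcases hcdH' θ with h | h | h
        · exact Or.inl h
        · left; rw [h, Nat.ordCompl_self_pow hp]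
        · exact Or.inr h
      rw [h4, Subgroup.map_bot] at h3
      exact le_bot_iff.mp h3
    by_cases hm : ∃ a : ℕ, m = p ^ a
    · by_cases hn : ∃ b : ℕ, n = p ^ b
      · -- both `p`-powers: `H` abelian, `G` an M-group
        obtain ⟨a, rfl⟩ := hm
        obtain ⟨b, rfl⟩ := hn
        have hall : ∀ θ : IrrCharacter H, charDegree (θ : H → ℂ) = 1 := by
          intro θ
          rcases hcdH θ with h | h | h
          · exact h
          · rw [h, Nat.ordCompl_self_pow hp]
          · rw [h, Nat.ordCompl_self_pow hp]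
        have hcomm := Helper80.commutative_of_forall_charDegree_eq_one hall
        have hab : ∀ a ∈ H, ∀ b ∈ H, a * b = b * a := by
          intro x hx y hy
          have := hcomm ⟨x, hx⟩ ⟨y, hy⟩
          exact congrArg Subtype.val this
        exact hTAK (hMAB p hp H hab k hidx) _ _ hcd
      · exact key m n hm hn hcd hcdH
    · by_cases hn : ∃ b : ℕ, n = p ^ b
      · refine key n m hn hm (fun χ => ?_) (fun θ => ?_)
        · rcases hcd χ with h | h | h
          · exact Or.inl h
          · exact Or.inr (Or.inr h)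
          · exact Or.inr (Or.inl h)
        · rcases hcdH θ with h | h | h
          · exact Or.inl h
          · exact Or.inr (Or.inr h)
          · exact Or.inr (Or.inl h)
      · -- neither a `p`-power
        have h1 : commutator G ≤ ⁅H, H⁆ := by
          apply hQ2 ⁅H, H⁆
          intro χ hker
          obtain ⟨j, hj⟩ := hpow χ hker
          rcases hcd χ with h | h | h
          · exact h
          · exact absurd ⟨j, h ▸ hj⟩ hm
          · exact absurd ⟨j, h ▸ hj⟩ hn
        rw [← derivedSeries_one, hHH] at h1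
        have h3 := derivedSeries_succ_le_map H 2 2 (derivedSeries_succ_le_map H 1 1 h1)
        rw [ih H hHtop _ _ hcdH, Subgroup.map_bot] at h3
        exact le_bot_iff.mp h3

end Cfsg.Agent.Lib.Helper49.ThreeDeg
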