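import Mathlib
import Cfsg.Agent.Lib.Helper49.ThreeDegPComp
import Cfsg.Agent.Lib.Helper26.ThreeDegTak3
import Cfsg.Agent.Lib.Helper26.ThreeDegQuot
import Cfsg.Agent.Lib.Helper96.ThreeDegMAB

/-!
# S4460 module [PCOMP] (helper49, for helper80): exact SPINE statement `three_deg_of_prime_dvd`
-/

set_option autoImplicit false

namespace Cfsg.Agent.Lib.Helper49.ThreeDeg

open Cfsg

universe u

/-- **[PCOMP]**: the non-coprime case of "three character degrees imply `G''' = 1`". -/
theorem three_deg_of_prime_dvd {G : Type u} [Group G] [Fintype G] (m n p : ℕ) (hp : p.Prime)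
    (hpm : p ∣ m) (hpn : p ∣ n)
    (hcd : ∀ χ : IrrCharacter G, charDegree (χ : G → ℂ) = 1 ∨
      charDegree (χ : G → ℂ) = m ∨ charDegree (χ : G → ℂ) = n)
    (ih : ∀ H : Subgroup G, H ≠ ⊤ → ∀ m' n' : ℕ,
      (∀ θ : IrrCharacter H, charDegree (θ : H → ℂ) = 1 ∨
        charDegree (θ : H → ℂ) = m' ∨ charDegree (θ : H → ℂ) = n') →
      derivedSeries H 3 = ⊥) :
    derivedSeries G 3 = ⊥ :=
  three_deg_of_prime_dvd_of
    (fun p hp A _ hA k hidx χ hχ =>
      Helper96.ThreeDeg.monomial_of_abelian_normal_of_index_prime_pow p hp A hA k hidx χ hχ)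
    (fun hM m n hcd => Helper26.ThreeDeg.derivedSeries_three_eq_bot_of_monomial hM m n hcd)
    (fun H _ χ h => Helper26.ThreeDeg.charDegree_dvd_index_of_trivial_on_commutator H χ h)
    (fun N _ h => Helper26.ThreeDeg.commutator_le_of_forall_linear N h)
    (fun N _ e h => Helper26.ThreeDeg.derivedSeries_two_le_of_forall_two_degrees N e h)
    m n p hp hpm hpn hcd ih

end Cfsg.Agent.Lib.Helper49.ThreeDeg
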