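import Mathlib
import Cfsg.Prelude.Def_GeometricClasses
import Cfsg.Agent.Lib.Helper15.AschSlotNormLib
import Cfsg.Agent.Lib.Helper15.AschUPure

/-!
# General lemmas on pure tensors `PT` (helper49; for BHRSP-[E-SP8-TW3])

trace, scalars, multilinearity, cancellation, spanning.
-/

set_option autoImplicit false
set_option linter.unusedSectionVars false

namespace Cfsg.Agent.Lib.Helper49.Tw3

open Cfsg Cfsg.Geo Cfsg.Agent.Lib.Helper15.AschSlotNorm
open scoped Matrix

variable {F : Type*} [Field F] {k d : ℕ}

theorem PT_apply (as : Fin k → Matrix (Fin d) (Fin d) F) (x y : Fin k → Fin d) :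
    PT as x y = ∏ i, as i (x i) (y i) := rfl

theorem trace_PT (as : Fin k → Matrix (Fin d) (Fin d) F) : (PT as).trace = ∏ i, (as i).trace := by
  unfold Matrix.trace
  simp only [Matrix.diag_apply, PT_apply]
  rw [Finset.prod_univ_sum]
  simp only [Fintype.piFinset_univ]

theorem PT_smul (c : Fin k → F) (as : Fin k → Matrix (Fin d) (Fin d) F) :
    PT (fun i => c i • as i) = (∏ i, c i) • PT as := by
  ext x y
  simp only [PT_apply, Matrix.smul_apply, smul_eq_mul, Finset.prod_mul_distrib]

theorem PT_update_apply (as : Fin k → Matrix (Fin d) (Fin d) F) (i : Fin k) (a : Matrix (Fin d) (Fin d) F)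
    (x y : Fin k → Fin d) :
    PT (Function.update as i a) x y = a (x i) (y i) * ∏ j ∈ Finset.univ \ {i}, as j (x j) (y j) := by
  rw [PT_apply]
  have : ∀ j, (Function.update as i a j) (x j) (y j) =
      Function.update (fun j => as j (x j) (y j)) i (a (x i) (y i)) j := by
    intro j
    by_cases hj : j = i
    · subst hj; simp
    · simp [Function.update_of_ne hj]
  simp only [this]
  exact Finset.prod_update_of_mem (Finset.mem_univ i) _ _

theorem PT_update_add (as : Fin k → Matrix (Fin d) (Fin d) F) (i : Fin k) (a b : Matrix (Fin d) (Fin d) F) :
    PT (Function.update as i (a + b)) = PT (Function.update as i a) + PT (Function.update as i b) := by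
  ext x y
  rw [Matrix.add_apply, PT_update_apply, PT_update_apply, PT_update_apply, Matrix.add_apply, add_mul]

theorem PT_update_smul (as : Fin k → Matrix (Fin d) (Fin d) F) (i : Fin k) (c : F) (a : Matrix (Fin d) (Fin d) F) :
    PT (Function.update as i (c • a)) = c • PT (Function.update as i a) := by
  ext x y
  rw [Matrix.smul_apply, PT_update_apply, PT_update_apply, Matrix.smul_apply, smul_eq_mul, smul_eq_mul, mul_assoc]

theorem PT_update_zero (as : Fin k → Matrix (Fin d) (Fin d) F) (i : Fin k) :
    PT (Function.update as i 0) = 0 := by
  ext x y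
  rw [PT_update_apply, Matrix.zero_apply, Matrix.zero_apply, zero_mul]

/-- cancellation of one slot -/
theorem PT_update_cancel (as : Fin k → Matrix (Fin d) (Fin d) F) (i : Fin k) (a b : Matrix (Fin d) (Fin d) F)
    (p q : Fin k → Fin d) (h : ∀ j, j ≠ i → as j (p j) (q j) ≠ 0)
    (heq : PT (Function.update as i a) = PT (Function.update as i b)) : a = b := by
  ext r s
  have h1 := congrFun (congrFun heq (Function.update p i r)) (Function.update q i s)
  rw [PT_update_apply, PT_update_apply] at h1
  simp only [Function.update_self] at h1
  have hne : ∏ j ∈ Finset.univ \ {i}, as j (Function.update p i r j) (Function.update q i s j) ≠ 0 := by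
    rw [Finset.prod_ne_zero_iff]
    intro j hj
    have hji : j ≠ i := by
      simpa using hj
    rw [Function.update_of_ne hji, Function.update_of_ne hji]
    exact h j hji
  exact mul_right_cancel₀ hne h1

/-- if the base set spans all `d × d` matrices, the pure tensors of its members span everything -/
theorem span_PT_eq_top (Q : Set (Matrix (Fin d) (Fin d) F)) (hQ : Submodule.span F Q = ⊤) :
    Submodule.span F {M : Matrix (Fin k → Fin d) (Fin k → Fin d) F | ∃ qs : Fin k → Matrix (Fin d) (Fin d) F,
      (∀ i, qs i ∈ Q) ∧ M = PT qs} = ⊤ := by
  classical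
  set S := Submodule.span F {M : Matrix (Fin k → Fin d) (Fin k → Fin d) F |
    ∃ qs : Fin k → Matrix (Fin d) (Fin d) F, (∀ i, qs i ∈ Q) ∧ M = PT qs} with hS
  -- all pure tensors lie in the span: induction on the set of slots not yet in `Q`
  have key : ∀ s : Finset (Fin k), ∀ as : Fin k → Matrix (Fin d) (Fin d) F,
      (∀ i, i ∉ s → as i ∈ Q) → PT as ∈ S := by
    intro s
    induction s using Finset.induction_on with
    | empty =>
      intro as h
      exact Submodule.subset_span ⟨as, fun i => h i (Finset.notMem_empty i), rfl⟩
    | insert i s hi ih =>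
      intro as h
      have hmem : as i ∈ Submodule.span F Q := by rw [hQ]; trivial
      have hupd : as = Function.update as i (as i) := (Function.update_eq_self i as).symm
      rw [hupd]
      generalize as i = a at hmem
      induction hmem using Submodule.span_induction with
      | mem x hx =>
        apply ih
        intro j hj
        by_cases hji : j = i
        · subst hji; simpa using hx
        · rw [Function.update_of_ne hji]
          exact h j (by simp [hji, hj])
      | zero =>
        rw [PT_update_zero]
        exact S.zero_mem
      | add x y _ _ hx hy =>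
        rw [PT_update_add]
        exact S.add_mem hx hy
      | smul c x _ hx =>
        rw [PT_update_smul]
        exact S.smul_mem c hx
  rw [eq_top_iff]
  intro M _
  -- `M` is a combination of matrix units, each a pure tensor
  have hM : M = ∑ x, ∑ y, M x y • Matrix.single x y (1 : F) := by
    ext x' y'
    simp only [Matrix.sum_apply, Matrix.smul_apply, Matrix.single_apply, smul_eq_mul]
    rw [Finset.sum_eq_single x']
    · rw [Finset.sum_eq_single y']
      · simp
      · intro y _ hy
        simp [hy]
      · simp
    · intro x _ hx
      apply Finset.sum_eq_zero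
      intro y _
      simp [hx]
    · simp
  rw [hM]
  refine S.sum_mem (fun x _ => S.sum_mem (fun y _ => S.smul_mem _ ?_))
  rw [single_eq_PT]
  exact key Finset.univ _ (fun i hi => absurd (Finset.mem_univ i) hi)

end Cfsg.Agent.Lib.Helper49.Tw3
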