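import Mathlib
import Cfsg.Prelude.Def_GeometricClasses
import Cfsg.Agent.Lib.Helper94.BHRSP.Sp4Model
import Cfsg.Agent.Lib.Helper94.BHRSP.Sp4Kit
import Cfsg.Agent.Lib.Helper11.BhrSp4R0Irr
import Cfsg.Agent.Lib.Helper54.U92TwsNF
import Cfsg.Agent.Lib.Helper25.U92PM
import Cfsg.Agent.Lib.Helper49.BhrSp4R0Minus
import Cfsg.Agent.Lib.Helper49.Tw3PT

/-!
# The group `2_-^(1+6) = Q_8 ⊗ Q_8 ⊗ Q_8` inside `GL (Fin 3 → Fin 2) F`, `|F| = 3` (helper49, for BHRSP-[E-SP8-TW3])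

`R8set = {PT qs | qs i ∈ Q_8}`: a group of exponent 4, spanning all matrices, normalised by the whole standard
tensor wreath group, with trace `0` off `± 1`.
-/

set_option autoImplicit false
set_option linter.unusedSectionVars false

namespace Cfsg.Agent.Lib.Helper49.Tw3

open Cfsg Cfsg.Geo Cfsg.Agent.Lib.Helper15.AschSlotNorm Cfsg.Agent.Lib.Helper15.AschUPure
open Cfsg.Agent.Lib.Helper94.BHRSP Cfsg.Agent.Lib.Helper94.BHRSP.Sp4
open Cfsg.Agent.Lib.Helper49.BhrSp4R0Minus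
open scoped MatrixGroups Matrix

variable {F : Type*} [Field F] [Fintype F]

/-- the index type of the tensor cube -/
abbrev I8 : Type := Fin 3 → Fin 2

/-- the 128 matrices `q₁ ⊗ q₂ ⊗ q₃`, `q_i ∈ Q_8` -/
def R8set : Set (Matrix I8 I8 F) :=
  {M | ∃ qs : Fin 3 → Matrix (Fin 2) (Fin 2) F, (∀ i, IsQ8Mat (qs i)) ∧ M = PT qs}

theorem isQ8Mat_one : IsQ8Mat (1 : Matrix (Fin 2) (Fin 2) F) := Or.inl rfl

theorem isQ8Mat_neg_one : IsQ8Mat (-1 : Matrix (Fin 2) (Fin 2) F) := Or.inr (Or.inl rfl)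

theorem one_mem_R8set : (1 : Matrix I8 I8 F) ∈ R8set :=
  ⟨fun _ => 1, fun _ => isQ8Mat_one, PT_one.symm⟩

theorem PT_pm (c : Fin 3 → F) : PT (fun i => c i • (1 : Matrix (Fin 2) (Fin 2) F)) = (∏ i, c i) • (1 : Matrix I8 I8 F) := by
  rw [PT_smul, PT_one]

theorem neg_one_mem_R8set : (-1 : Matrix I8 I8 F) ∈ R8set := by
  refine ⟨fun i => (if i = 0 then (-1 : F) else 1) • (1 : Matrix (Fin 2) (Fin 2) F), fun i => ?_, ?_⟩
  · by_cases hi : i = 0
    · simp only [hi, if_true, neg_one_smul]; exact isQ8Mat_neg_one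
    · simp only [hi, if_false, one_smul]; exact isQ8Mat_one
  · rw [PT_pm]
    simp [Fin.prod_univ_three]

theorem mul_mem_R8set (h3 : (3 : F) = 0) {M M' : Matrix I8 I8 F} (hM : M ∈ R8set) (hM' : M' ∈ R8set) :
    M * M' ∈ R8set := by
  obtain ⟨qs, hqs, rfl⟩ := hM
  obtain ⟨qs', hqs', rfl⟩ := hM'
  exact ⟨fun i => qs i * qs' i, fun i => isQ8Mat_mul h3 _ _ (hqs i) (hqs' i), PT_mul qs qs'⟩

theorem neg_mem_R8set (h3 : (3 : F) = 0) {M : Matrix I8 I8 F} (hM : M ∈ R8set) : -M ∈ R8set := by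
  have := mul_mem_R8set h3 neg_one_mem_R8set hM
  simpa using this

/-- the square of an element is `± 1` -/
theorem sq_of_mem_R8set (h3 : (3 : F) = 0) {M : Matrix I8 I8 F} (hM : M ∈ R8set) : M * M = 1 ∨ M * M = -1 := by
  obtain ⟨qs, hqs, rfl⟩ := hM
  rw [PT_mul]
  have hc : ∀ i, ∃ c : F, (c = 1 ∨ c = -1) ∧ qs i * qs i = c • (1 : Matrix (Fin 2) (Fin 2) F) := by
    intro i
    rcases isQ8Mat_sq h3 _ (hqs i) with h | h
    · exact ⟨1, Or.inl rfl, by rw [h, one_smul]⟩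
    · exact ⟨-1, Or.inr rfl, by rw [h, neg_one_smul]⟩
  choose c hc1 hc2 using hc
  have : (fun i => qs i * qs i) = fun i => c i • (1 : Matrix (Fin 2) (Fin 2) F) := funext hc2
  rw [this, PT_pm, Fin.prod_univ_three]
  rcases hc1 0 with h0 | h0 <;> rcases hc1 1 with h1 | h1 <;> rcases hc1 2 with h2 | h2 <;>
    rw [h0, h1, h2] <;> simp

theorem pow_four_of_mem_R8set (h3 : (3 : F) = 0) {M : Matrix I8 I8 F} (hM : M ∈ R8set) : M * M * (M * M) = 1 := by
  rcases sq_of_mem_R8set h3 hM with h | h <;> rw [h] <;> simp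

/-- the subgroup of `GL` with underlying set `R8set` -/
theorem exists_R8 (h3 : (3 : F) = 0) :
    ∃ R : Subgroup (GL I8 F), ∀ g : GL I8 F, g ∈ R ↔ (g : Matrix I8 I8 F) ∈ R8set := by
  refine ⟨{ carrier := {g | (g : Matrix I8 I8 F) ∈ R8set}
            mul_mem' := fun {a b} ha hb => ?_
            one_mem' := ?_
            inv_mem' := fun {a} ha => ?_ }, fun g => Iff.rfl⟩
  · show ((a * b : GL I8 F) : Matrix I8 I8 F) ∈ R8set
    rw [Units.val_mul]
    exact mul_mem_R8set h3 ha hb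
  · show ((1 : GL I8 F) : Matrix I8 I8 F) ∈ R8set
    rw [Units.val_one]
    exact one_mem_R8set
  · show ((a⁻¹ : GL I8 F) : Matrix I8 I8 F) ∈ R8set
    have ha' : (a : Matrix I8 I8 F) ∈ R8set := ha
    have h4 : a * a * (a * a) = 1 := by
      apply Units.ext
      simp only [Units.val_mul, Units.val_one]
      exact pow_four_of_mem_R8set h3 ha'
    have hinv : a⁻¹ = a * a * a := by
      rw [inv_eq_iff_eq_inv, eq_comm, inv_eq_iff_mul_eq_one]
      rw [← h4]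
      group
    rw [hinv, Units.val_mul, Units.val_mul]
    exact mul_mem_R8set h3 (mul_mem_R8set h3 ha' ha') ha'

/-- elements other than `± 1` have trace `0` -/
theorem trace_of_mem_R8set {M : Matrix I8 I8 F} (hM : M ∈ R8set) (h1 : M ≠ 1) (h2 : M ≠ -1) : M.trace = 0 := by
  obtain ⟨qs, hqs, rfl⟩ := hM
  rw [trace_PT]
  by_cases hall : ∀ i, qs i = 1 ∨ qs i = -1
  · exfalso
    have hc : ∀ i, ∃ c : F, (c = 1 ∨ c = -1) ∧ qs i = c • (1 : Matrix (Fin 2) (Fin 2) F) := by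
      intro i
      rcases hall i with h | h
      · exact ⟨1, Or.inl rfl, by rw [h, one_smul]⟩
      · exact ⟨-1, Or.inr rfl, by rw [h, neg_one_smul]⟩
    choose c hc1 hc2 using hc
    have : qs = fun i => c i • (1 : Matrix (Fin 2) (Fin 2) F) := funext hc2
    rw [this, PT_pm, Fin.prod_univ_three] at h1 h2
    rcases hc1 0 with e0 | e0 <;> rcases hc1 1 with e1 | e1 <;> rcases hc1 2 with e2 | e2 <;>
      rw [e0, e1, e2] at h1 h2 <;> simp at h1 h2
  · push Not at hall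
    obtain ⟨i, hi1, hi2⟩ := hall
    rcases trace_of_isQ8Mat _ (hqs i) with h | h | h
    · exact absurd h hi1
    · exact absurd h hi2
    · exact Finset.prod_eq_zero (Finset.mem_univ i) h

/-- `Q_8` spans the `2 × 2` matrices -/
theorem span_Q8 (h3 : (3 : F) = 0) :
    Submodule.span F {M : Matrix (Fin 2) (Fin 2) F | IsQ8Mat M} = ⊤ := by
  rw [eq_top_iff]
  intro a _
  rw [Cfsg.Agent.Lib.Helper11.BhrSp4R0Irr.decompQ h3 a]
  have m1 : (1 : Matrix (Fin 2) (Fin 2) F) ∈ {M : Matrix (Fin 2) (Fin 2) F | IsQ8Mat M} := isQ8Mat_one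
  have mA : (A2 : Matrix (Fin 2) (Fin 2) F) ∈ {M : Matrix (Fin 2) (Fin 2) F | IsQ8Mat M} :=
    Or.inr (Or.inr (Or.inl rfl))
  have mB : (B2 : Matrix (Fin 2) (Fin 2) F) ∈ {M : Matrix (Fin 2) (Fin 2) F | IsQ8Mat M} :=
    Or.inr (Or.inr (Or.inr (Or.inr (Or.inl rfl))))
  have mC : (A2 : Matrix (Fin 2) (Fin 2) F) * B2 ∈ {M : Matrix (Fin 2) (Fin 2) F | IsQ8Mat M} :=
    isQ8Mat_mul h3 _ _ mA mB
  refine Submodule.add_mem _ (Submodule.add_mem _ (Submodule.add_mem _ ?_ ?_) ?_) ?_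
  · exact Submodule.smul_mem _ _ (Submodule.subset_span m1)
  · exact Submodule.smul_mem _ _ (Submodule.subset_span mA)
  · exact Submodule.smul_mem _ _ (Submodule.subset_span mB)
  · exact Submodule.smul_mem _ _ (Submodule.subset_span mC)

theorem span_R8set (h3 : (3 : F) = 0) : Submodule.span F (R8set : Set (Matrix I8 I8 F)) = ⊤ :=
  span_PT_eq_top (k := 3) {M : Matrix (Fin 2) (Fin 2) F | IsQ8Mat M} (span_Q8 h3)

end Cfsg.Agent.Lib.Helper49.Tw3
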