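import Mathlib
import Cfsg.Prelude.Def_GeometricClasses
import Cfsg.Agent.Lib.Helper49.Tw3Group

/-!
# `R8set` is normalised by the standard tensor wreath group and consists of isometries of the tensor cube of any
alternating form on `F²` (helper49, for BHRSP-[E-SP8-TW3])
-/

set_option autoImplicit false
set_option linter.unusedSectionVars false

namespace Cfsg.Agent.Lib.Helper49.Tw3

open Cfsg Cfsg.Geo Cfsg.Agent.Lib.Helper15.AschSlotNorm Cfsg.Agent.Lib.Helper15.AschUPure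
open Cfsg.Agent.Lib.Helper94.BHRSP Cfsg.Agent.Lib.Helper94.BHRSP.Sp4
open Cfsg.Agent.Lib.Helper49.BhrSp4R0Minus
open scoped MatrixGroups Matrix

variable {F : Type*} [Field F] [Fintype F]

/-- `Q_8` is invariant under conjugation by `GL_2(3)` -/
theorem isQ8Mat_conj (hq : Fintype.card F = 3) (a : GL (Fin 2) F) {M : Matrix (Fin 2) (Fin 2) F} (hM : IsQ8Mat M) :
    IsQ8Mat ((a : Matrix (Fin 2) (Fin 2) F) * M * ((a⁻¹ : GL (Fin 2) F) : Matrix (Fin 2) (Fin 2) F)) := by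
  have h3 := three_eq_zero hq
  have haa : (a : Matrix (Fin 2) (Fin 2) F) * ((a⁻¹ : GL (Fin 2) F) : Matrix (Fin 2) (Fin 2) F) = 1 := by
    rw [← Units.val_mul, mul_inv_cancel, Units.val_one]
  have haa' : ((a⁻¹ : GL (Fin 2) F) : Matrix (Fin 2) (Fin 2) F) * (a : Matrix (Fin 2) (Fin 2) F) = 1 := by
    rw [← Units.val_mul, inv_mul_cancel, Units.val_one]
  rcases trace_of_isQ8Mat _ hM with h | h | h
  · rw [h, Matrix.mul_one, haa]; exact isQ8Mat_one
  · rw [h, Matrix.mul_neg, Matrix.mul_one, Matrix.neg_mul, haa]; exact isQ8Mat_neg_one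
  · apply isQ8Mat_of_det_trace hq
    · rw [Matrix.det_mul, Matrix.det_mul, det_of_isQ8Mat h3 M hM, mul_one, ← Matrix.det_mul, haa, Matrix.det_one]
    · rw [Matrix.trace_mul_cycle, haa', Matrix.one_mul, h]

/-- conjugation by the standard tensor wreath group preserves `R8set` -/
theorem conj_mem_R8set (hq : Fintype.card F = 3) (g : GL I8 F) (hg : g ∈ tensorWreathStandard 2 3 F)
    {M : Matrix I8 I8 F} (hM : M ∈ R8set) :
    (g : Matrix I8 I8 F) * M * ((g⁻¹ : GL I8 F) : Matrix I8 I8 F) ∈ R8set := by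
  obtain ⟨C, τ, hgC⟩ := Cfsg.Agent.Lib.Helper99.U92.exists_PT_mul_PM g hg
  obtain ⟨qs, hqs, rfl⟩ := hM
  set N : Matrix I8 I8 F := PM τ⁻¹ * PT (fun i => (((C i)⁻¹ : GL (Fin 2) F) : Matrix (Fin 2) (Fin 2) F)) with hN
  have hPM : (PM τ : Matrix I8 I8 F) * PM τ⁻¹ = 1 := by rw [PM_mul, mul_inv_cancel, PM_one]
  have hCC : PT (fun i => (C i : Matrix (Fin 2) (Fin 2) F)) *
      PT (fun i => (((C i)⁻¹ : GL (Fin 2) F) : Matrix (Fin 2) (Fin 2) F)) = 1 := by
    rw [PT_mul, ← PT_one]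
    congr 1
    funext i
    rw [← Units.val_mul, mul_inv_cancel, Units.val_one]
  have hgN : (g : Matrix I8 I8 F) * N = 1 := by
    rw [hgC, hN]
    calc PT (fun i => (C i : Matrix (Fin 2) (Fin 2) F)) * PM τ *
          (PM τ⁻¹ * PT (fun i => (((C i)⁻¹ : GL (Fin 2) F) : Matrix (Fin 2) (Fin 2) F)))
        = PT (fun i => (C i : Matrix (Fin 2) (Fin 2) F)) * (PM τ * PM τ⁻¹) *
          PT (fun i => (((C i)⁻¹ : GL (Fin 2) F) : Matrix (Fin 2) (Fin 2) F)) := by
          simp only [Matrix.mul_assoc]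
      _ = 1 := by rw [hPM, Matrix.mul_one, hCC]
  have hginv : ((g⁻¹ : GL I8 F) : Matrix I8 I8 F) = N := by
    calc ((g⁻¹ : GL I8 F) : Matrix I8 I8 F) = ((g⁻¹ : GL I8 F) : Matrix I8 I8 F) * ((g : Matrix I8 I8 F) * N) := by
          rw [hgN, Matrix.mul_one]
      _ = N := by rw [← Matrix.mul_assoc, ← Units.val_mul, inv_mul_cancel, Units.val_one, Matrix.one_mul]
  refine ⟨fun i => (C i : Matrix (Fin 2) (Fin 2) F) * qs (τ.symm i) *
    (((C i)⁻¹ : GL (Fin 2) F) : Matrix (Fin 2) (Fin 2) F), fun i => isQ8Mat_conj hq (C i) (hqs _), ?_⟩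
  rw [hginv, hgC, hN]
  calc PT (fun i => (C i : Matrix (Fin 2) (Fin 2) F)) * PM τ * PT qs *
        (PM τ⁻¹ * PT (fun i => (((C i)⁻¹ : GL (Fin 2) F) : Matrix (Fin 2) (Fin 2) F)))
      = PT (fun i => (C i : Matrix (Fin 2) (Fin 2) F)) * (PM τ * PT qs) * PM τ⁻¹ *
        PT (fun i => (((C i)⁻¹ : GL (Fin 2) F) : Matrix (Fin 2) (Fin 2) F)) := by
        simp only [Matrix.mul_assoc]
    _ = PT (fun i => (C i : Matrix (Fin 2) (Fin 2) F)) * PT (fun i => qs (τ.symm i)) * (PM τ * PM τ⁻¹) *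
        PT (fun i => (((C i)⁻¹ : GL (Fin 2) F) : Matrix (Fin 2) (Fin 2) F)) := by
        rw [Cfsg.Agent.Lib.Helper99.U92.PM_mul_PT]
        simp only [Matrix.mul_assoc]
    _ = _ := by
        rw [hPM, Matrix.mul_one, PT_mul, PT_mul]

/-- the tensor cube of a `2 × 2` matrix `G` -/
def cube (G : Matrix (Fin 2) (Fin 2) F) : Matrix I8 I8 F := PT (fun _ : Fin 3 => G)

/-- a `2 × 2` matrix of determinant `1` preserves every alternating `2 × 2` Gram matrix -/
theorem transpose_mul_alt_mul (G : Matrix (Fin 2) (Fin 2) F) (h00 : G 0 0 = 0) (h11 : G 1 1 = 0)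
    (h01 : G 0 1 = - G 1 0) (a : Matrix (Fin 2) (Fin 2) F) (ha : a.det = 1) : aᵀ * G * a = G := by
  rw [Matrix.det_fin_two] at ha
  ext i j
  fin_cases i <;> fin_cases j <;>
    simp [Matrix.mul_apply, Fin.sum_univ_two, h00, h11, h01]
  · ring
  · linear_combination (-(G 1 0)) * ha
  · linear_combination (G 1 0) * ha
  · ring

/-- elements of `R8set` preserve the tensor cube of an alternating Gram matrix -/
theorem transpose_mul_cube_mul (h3 : (3 : F) = 0) (G : Matrix (Fin 2) (Fin 2) F) (h00 : G 0 0 = 0) (h11 : G 1 1 = 0)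
    (h01 : G 0 1 = - G 1 0) {M : Matrix I8 I8 F} (hM : M ∈ R8set) : Mᵀ * cube G * M = cube G := by
  obtain ⟨qs, hqs, rfl⟩ := hM
  unfold cube
  rw [PT_transpose, PT_mul, PT_mul]
  congr 1
  funext i
  exact transpose_mul_alt_mul G h00 h11 h01 (qs i) (det_of_isQ8Mat h3 _ (hqs i))

end Cfsg.Agent.Lib.Helper49.Tw3
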