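import Mathlib
import Cfsg.Prelude.Def_GeometricClasses
import Cfsg.Agent.Lib.Helper49.Tw3Norm

/-!
# `2_-^(1+6) = Q_8 ⊗ Q_8 ⊗ Q_8` is of symplectic type (helper49, for BHRSP-[E-SP8-TW3])
-/

set_option autoImplicit false
set_option linter.unusedSectionVars false

namespace Cfsg.Agent.Lib.Helper49.Tw3

open Cfsg Cfsg.Geo Cfsg.Agent.Lib.Helper15.AschSlotNorm Cfsg.Agent.Lib.Helper15.AschUPure
open Cfsg.Agent.Lib.Helper94.BHRSP Cfsg.Agent.Lib.Helper94.BHRSP.Sp4
open Cfsg.Agent.Lib.Helper49.BhrSp4R0Minus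
open scoped MatrixGroups Matrix

variable {F : Type*} [Field F] [Fintype F]

/-- An element that conjugates a finite subgroup into itself induces an automorphism of it. -/
theorem exists_conj_aut' {G : Type*} [Group G] [Finite G] (R : Subgroup G) (g : G)
    (h : ∀ x ∈ R, g * x * g⁻¹ ∈ R) :
    ∃ φ : R ≃* R, ∀ x : R, ((φ x : R) : G) = g * (x : G) * g⁻¹ := by
  let f : R →* R :=
    { toFun := fun x => ⟨g * (x : G) * g⁻¹, h x x.2⟩
      map_one' := by apply Subtype.ext; simp
      map_mul' := fun x y => by apply Subtype.ext; simp [mul_assoc] }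
  have hinj : Function.Injective f := by
    intro x y hxy
    have := congrArg Subtype.val hxy
    simp only [f, MonoidHom.coe_mk, OneHom.coe_mk] at this
    apply Subtype.ext
    have h2 : g⁻¹ * (g * (x : G) * g⁻¹) * g = g⁻¹ * (g * (y : G) * g⁻¹) * g := by rw [this]
    simpa [mul_assoc] using h2
  have hbij : Function.Bijective f := (Finite.injective_iff_bijective).mp hinj
  exact ⟨MulEquiv.ofBijective f hbij, fun x => rfl⟩

/-- the element of order 3 of `SL_2(3)` cycling `A2 → B2 → C2 → A2` -/
def cM : Matrix (Fin 2) (Fin 2) F := !![0, 1; -1, -1]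
def cI : Matrix (Fin 2) (Fin 2) F := !![-1, -1; 1, 0]

theorem cM_mul_cI : (cM : Matrix (Fin 2) (Fin 2) F) * cI = 1 := by
  unfold cM cI
  ext i j
  fin_cases i <;> fin_cases j <;> simp [Matrix.mul_apply, Fin.sum_univ_two]

theorem cI_mul_cM : (cI : Matrix (Fin 2) (Fin 2) F) * cM = 1 := by
  unfold cM cI
  ext i j
  fin_cases i <;> fin_cases j <;> simp [Matrix.mul_apply, Fin.sum_univ_two]

def cGL : GL (Fin 2) F := ⟨cM, cI, cM_mul_cI, cI_mul_cM⟩

theorem cM_A2 (h3 : (3 : F) = 0) : (cM : Matrix (Fin 2) (Fin 2) F) * A2 * cI = B2 := by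
  unfold cM cI A2 B2
  ext i j
  fin_cases i <;> fin_cases j <;> simp [Matrix.mul_apply, Fin.sum_univ_two] <;> grind

theorem cM_B2 (h3 : (3 : F) = 0) : (cM : Matrix (Fin 2) (Fin 2) F) * B2 * cI = C2 := by
  unfold cM cI B2 C2
  ext i j
  fin_cases i <;> fin_cases j <;> simp [Matrix.mul_apply, Fin.sum_univ_two] <;> grind

theorem cM_C2 (h3 : (3 : F) = 0) : (cM : Matrix (Fin 2) (Fin 2) F) * C2 * cI = A2 := by
  unfold cM cI C2 A2
  ext i j
  fin_cases i <;> fin_cases j <;> simp [Matrix.mul_apply, Fin.sum_univ_two] <;> grind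

theorem false_of_eq_neg (h2 : (2 : F) ≠ 0) {M : Matrix (Fin 2) (Fin 2) F} (i j : Fin 2) (hij : M i j ≠ 0)
    (h : M = -M) : False := by
  have := congrFun (congrFun h i) j
  rw [Matrix.neg_apply] at this
  apply hij
  have h' : (2 : F) * M i j = 0 := by linear_combination this
  rcases mul_eq_zero.mp h' with h0 | h0
  · exact absurd h0 h2
  · exact h0

/-- an element of `Q_8` commuting with its conjugate under `cM` is `± 1` -/
theorem eq_pm_one_of_commute_conj (h3 : (3 : F) = 0) (h2 : (2 : F) ≠ 0) {q : Matrix (Fin 2) (Fin 2) F}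
    (hq : IsQ8Mat q) (hc : q * (cM * q * cI) = cM * q * cI * q) : q = 1 ∨ q = -1 := by
  have hA : (A2 : Matrix (Fin 2) (Fin 2) F) 0 1 ≠ 0 := by unfold A2; simp
  have hB : (B2 : Matrix (Fin 2) (Fin 2) F) 0 0 ≠ 0 := by unfold B2; simp
  have hC : (C2 : Matrix (Fin 2) (Fin 2) F) 0 0 ≠ 0 := by unfold C2; simp
  rcases hq with rfl | rfl | rfl | rfl | rfl | rfl | rfl | rfl
  · exact Or.inl rfl
  · exact Or.inr rfl
  · exfalso
    rw [cM_A2 h3, A2_mul_B2, B2_mul_A2] at hc
    exact false_of_eq_neg h2 0 0 hC hc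
  · exfalso
    simp only [Matrix.mul_neg, Matrix.neg_mul, neg_neg] at hc
    rw [cM_A2 h3, A2_mul_B2, B2_mul_A2] at hc
    exact false_of_eq_neg h2 0 0 hC hc
  · exfalso
    rw [cM_B2 h3, B2_mul_C2 h3, C2_mul_B2 h3] at hc
    exact false_of_eq_neg h2 0 1 hA hc
  · exfalso
    simp only [Matrix.mul_neg, Matrix.neg_mul, neg_neg] at hc
    rw [cM_B2 h3, B2_mul_C2 h3, C2_mul_B2 h3] at hc
    exact false_of_eq_neg h2 0 1 hA hc
  · exfalso
    rw [cM_C2 h3, C2_mul_A2, A2_mul_C2] at hc
    exact false_of_eq_neg h2 0 0 hB hc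
  · exfalso
    simp only [Matrix.mul_neg, Matrix.neg_mul, neg_neg] at hc
    rw [cM_C2 h3, C2_mul_A2, A2_mul_C2] at hc
    exact false_of_eq_neg h2 0 0 hB hc

/-- conjugation by a pure tensor of invertible matrices preserves `R8set` -/
theorem ptGL_conj_mem_R8set (hq : Fintype.card F = 3) (u : Fin 3 → GL (Fin 2) F)
    {qs : Fin 3 → Matrix (Fin 2) (Fin 2) F} (hqs : ∀ i, IsQ8Mat (qs i)) :
    ((ptGL u : GL I8 F) : Matrix I8 I8 F) * PT qs * (((ptGL u)⁻¹ : GL I8 F) : Matrix I8 I8 F) =
      PT (fun j => (u j : Matrix (Fin 2) (Fin 2) F) * qs j * (((u j)⁻¹ : GL (Fin 2) F) : Matrix (Fin 2) (Fin 2) F)) := by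
  show PT (fun i => (u i : Matrix (Fin 2) (Fin 2) F)) * PT qs *
    PT (fun i => (((u i)⁻¹ : GL (Fin 2) F) : Matrix (Fin 2) (Fin 2) F)) = _
  rw [PT_mul, PT_mul]

/-- every characteristic abelian subgroup of `R = 2_-^(1+6)` is cyclic -/
theorem cyclic_of_characteristic_R8 (hq : Fintype.card F = 3) (R : Subgroup (GL I8 F))
    (hR : ∀ g : GL I8 F, g ∈ R ↔ (g : Matrix I8 I8 F) ∈ R8set)
    (A : Subgroup R) (hA : A.Characteristic) (hAc : IsMulCommutative A) : IsCyclic A := by
  classical
  have h3 := three_eq_zero hq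
  have h2 := two_ne_zero3 hq
  let u : Fin 3 → Fin 3 → GL (Fin 2) F := fun i => Function.update (fun _ => (1 : GL (Fin 2) F)) i cGL
  let g : Fin 3 → GL I8 F := fun i => ptGL (u i)
  have hconj : ∀ i, ∀ x ∈ R, g i * x * (g i)⁻¹ ∈ R := by
    intro i x hx
    rw [hR] at hx ⊢
    obtain ⟨qs, hqs, hxq⟩ := hx
    rw [Units.val_mul, Units.val_mul, hxq, ptGL_conj_mem_R8set hq (u i) hqs]
    exact ⟨_, fun j => isQ8Mat_conj hq (u i j) (hqs j), rfl⟩
  have hφ : ∀ i, ∃ φ : R ≃* R, ∀ x : R, ((φ x : R) : GL I8 F) = g i * (x : GL I8 F) * (g i)⁻¹ :=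
    fun i => exists_conj_aut' R (g i) (hconj i)
  choose φ hφ using hφ
  have hinv : ∀ ψ : R ≃* R, ∀ x ∈ A, ψ x ∈ A := by
    intro ψ x hx
    have := hA.fixed ψ
    rw [← this] at hx
    exact hx
  -- every element of `A` is `± 1`
  have hscal : ∀ x : R, x ∈ A → ∃ c : F, ((x : GL I8 F) : Matrix I8 I8 F) = c • 1 := by
    intro x hx
    obtain ⟨qs, hqs, hxq⟩ := (hR x).mp x.2
    have hpm : ∀ i, qs i = 1 ∨ qs i = -1 := by
      intro i
      have hc : x * φ i x = φ i x * x := by
        have := hAc.is_comm.comm ⟨x, hx⟩ ⟨φ i x, hinv (φ i) x hx⟩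
        exact congrArg Subtype.val this
      have hv : (((φ i x : R) : GL I8 F) : Matrix I8 I8 F) =
          PT (Function.update qs i (cM * qs i * cI)) := by
        rw [hφ, Units.val_mul, Units.val_mul, hxq, ptGL_conj_mem_R8set hq (u i) hqs]
        congr 1
        funext j
        by_cases hj : j = i
        · subst hj
          simp only [u, Function.update_self]
          rfl
        · simp only [u, Function.update_of_ne hj, Units.val_one, inv_one, Matrix.one_mul, Matrix.mul_one]
      have e : PT (Function.update (fun j => qs j * qs j) i (qs i * (cM * qs i * cI))) =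
          PT (Function.update (fun j => qs j * qs j) i (cM * qs i * cI * qs i)) := by
        have := congrArg (fun y : R => ((y : GL I8 F) : Matrix I8 I8 F)) hc
        simp only [Subgroup.coe_mul, Units.val_mul] at this
        rw [hv, hxq, PT_mul, PT_mul] at this
        have e1 : (fun j => qs j * Function.update qs i (cM * qs i * cI) j) =
            Function.update (fun j => qs j * qs j) i (qs i * (cM * qs i * cI)) := by
          funext j
          by_cases hj : j = i
          · subst hj; simp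
          · simp [Function.update_of_ne hj]
        have e2 : (fun j => Function.update qs i (cM * qs i * cI) j * qs j) =
            Function.update (fun j => qs j * qs j) i (cM * qs i * cI * qs i) := by
          funext j
          by_cases hj : j = i
          · subst hj; simp
          · simp [Function.update_of_ne hj]
        rw [e1, e2] at this
        exact this
      have k := PT_update_cancel (fun j => qs j * qs j) i _ _ (fun _ => 0) (fun _ => 0) (by
        intro j _
        rcases isQ8Mat_sq h3 _ (hqs j) with h | h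
        · rw [h]; simp
        · rw [h]; simp) e
      exact eq_pm_one_of_commute_conj h3 h2 (hqs i) k
    have hc : ∀ i, ∃ c : F, qs i = c • (1 : Matrix (Fin 2) (Fin 2) F) := by
      intro i
      rcases hpm i with h | h
      · exact ⟨1, by rw [h, one_smul]⟩
      · exact ⟨-1, by rw [h, neg_one_smul]⟩
    choose c hc using hc
    have : qs = fun i => c i • (1 : Matrix (Fin 2) (Fin 2) F) := funext hc
    refine ⟨∏ i, c i, ?_⟩
    rw [hxq, this, PT_pm]
  -- embed `A` in the multiplicative monoid of `F`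
  let i₀ : I8 := fun _ => 0
  have hentry : ∀ x : R, x ∈ A → ((x : GL I8 F) : Matrix I8 I8 F) =
      (((x : GL I8 F) : Matrix I8 I8 F) i₀ i₀) • 1 := by
    intro x hx
    obtain ⟨c, hc⟩ := hscal x hx
    rw [hc]
    simp
  let ψ : A →* F :=
    { toFun := fun x => (((x : R) : GL I8 F) : Matrix I8 I8 F) i₀ i₀
      map_one' := by simp
      map_mul' := fun x y => by
        show (((((x * y : A) : R) : GL I8 F)) : Matrix I8 I8 F) i₀ i₀ = _
        rw [Subgroup.coe_mul, Subgroup.coe_mul, Units.val_mul, hentry x x.2, hentry y y.2]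
        simp [mul_comm] }
  have hψ : Function.Injective ψ := by
    intro x y hxy
    apply Subtype.ext
    apply Subtype.ext
    apply Units.ext
    rw [hentry x x.2, hentry y y.2]
    show (ψ x) • (1 : Matrix I8 I8 F) = (ψ y) • 1
    rw [hxy]
  exact isCyclic_of_injective_ringHom ψ hψ

/-- `R = 2_-^(1+6)` is a 2-group of symplectic type and exponent 4 -/
theorem isSymplecticTypeGroup_R8 (hq : Fintype.card F = 3) (R : Subgroup (GL I8 F))
    (hR : ∀ g : GL I8 F, g ∈ R ↔ (g : Matrix I8 I8 F) ∈ R8set) : IsSymplecticTypeGroup 2 R := by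
  classical
  have h3 := three_eq_zero hq
  have h2 := two_ne_zero3 hq
  have hfour : ∀ x : R, x ^ 4 = 1 := by
    intro x
    apply Subtype.ext
    apply Units.ext
    rw [Subgroup.coe_pow, Units.val_pow_eq_pow_val, Subgroup.coe_one, Units.val_one]
    have := pow_four_of_mem_R8set h3 ((hR x).mp x.2)
    rw [show (4 : ℕ) = 2 + 2 by norm_num, pow_add, pow_two]
    exact this
  refine ⟨Nat.prime_two, ?_, fun A hA hAc => cyclic_of_characteristic_R8 hq R hR A hA hAc, ?_⟩
  · intro x
    exact ⟨2, by norm_num; exact hfour x⟩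
  · -- exponent 4
    have hdvd : Monoid.exponent R ∣ 4 := Monoid.exponent_dvd_of_forall_pow_eq_one hfour
    -- an element of order 4
    set qs : Fin 3 → Matrix (Fin 2) (Fin 2) F := Function.update (fun _ => 1) 0 A2 with hqs
    have hqsQ : ∀ i, IsQ8Mat (qs i) := by
      intro i
      by_cases hi : i = 0
      · subst hi; rw [hqs, Function.update_self]; exact Or.inr (Or.inr (Or.inl rfl))
      · rw [hqs, Function.update_of_ne hi]; exact isQ8Mat_one
    have hmem : PT qs ∈ (R8set : Set (Matrix I8 I8 F)) := ⟨qs, hqsQ, rfl⟩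
    have hsq : PT qs * PT qs = -1 := by
      rw [PT_mul]
      have : (fun i => qs i * qs i) =
          fun i => (if i = 0 then (-1 : F) else 1) • (1 : Matrix (Fin 2) (Fin 2) F) := by
        funext i
        by_cases hi : i = 0
        · subst hi
          rw [hqs, Function.update_self, A2_mul_A2]
          simp
        · rw [hqs, Function.update_of_ne hi]
          simp [hi]
      rw [this, PT_pm]
      simp
    set g : GL I8 F := ⟨PT qs, -PT qs, by rw [Matrix.mul_neg, hsq, neg_neg], by rw [Matrix.neg_mul, hsq, neg_neg]⟩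
      with hg
    have hgR : g ∈ R := (hR g).mpr hmem
    have hne : (⟨g, hgR⟩ : R) ^ 2 ≠ 1 := by
      intro h
      have h' := congrArg (fun y : R => ((y : GL I8 F) : Matrix I8 I8 F)) h
      simp only [Subgroup.coe_pow, Units.val_pow_eq_pow_val, Subgroup.coe_one, Units.val_one] at h'
      rw [pow_two] at h'
      have h'' : PT qs * PT qs = (1 : Matrix I8 I8 F) := h'
      rw [hsq] at h''
      have h4 := congrFun (congrFun h'' (fun _ => 0)) (fun _ => 0)
      rw [Matrix.neg_apply, Matrix.one_apply_eq] at h4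
      apply h2
      linear_combination -h4
    have hnd : ¬ Monoid.exponent R ∣ 2 := by
      intro hd
      exact hne (Monoid.exponent_dvd_iff_forall_pow_eq_one.mp hd _)
    have h4 : Monoid.exponent R = 4 := by
      have hle : Monoid.exponent R ≤ 4 := Nat.le_of_dvd (by norm_num) hdvd
      have hpos : Monoid.exponent R ≠ 0 := by
        intro h0
        rw [h0] at hdvd
        norm_num at hdvd
      interval_cases hE : Monoid.exponent R
      · exact absurd rfl hpos
      · exact absurd (one_dvd 2) hnd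
      · exact absurd (dvd_refl 2) hnd
      · norm_num at hdvd
      · rfl
    rw [h4]
    rfl

end Cfsg.Agent.Lib.Helper49.Tw3
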