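import Mathlib
import Cfsg.Prelude.Def_GeometricClasses
import Cfsg.Agent.Lib.Helper94.BHRSP.Kit
import Cfsg.Agent.Lib.Helper99.SympTypeCardGen
import Cfsg.Agent.Lib.Helper49.U92AbsIrrSpan
import Cfsg.Agent.Lib.Helper49.U92Transport
import Cfsg.Agent.Lib.Helper49.MinusTypeCore
import Cfsg.Agent.Lib.Helper49.Tw3Symp

/-!
# BHRSP-[E-SP8-TW3] (helper49): `Sp_2(3) ≀ S_3 ≤ N(2_-^(1+6))` in `Sp_8(3)`, with all the class-6 data
-/

set_option autoImplicit false
set_option linter.unusedSectionVars false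

namespace Cfsg.Agent.Lib.Helper49.Tw3

open Cfsg Cfsg.Geo Cfsg.Agent.Lib.Helper15.AschSlotNorm Cfsg.Agent.Lib.Helper15.AschUPure
open Cfsg.Agent.Lib.Helper94.BHRSP Cfsg.Agent.Lib.Helper94.BHRSP.Sp4
open Cfsg.Agent.Lib.Helper49.BhrSp4R0Minus
open scoped MatrixGroups Matrix

variable {F : Type*} [Field F] [Fintype F]

/-- the index type of `Sp_8` -/
abbrev K8 : Type := Fin 4 ⊕ Fin 4

/-- an element of `R8set` is invertible -/
theorem exists_unit_of_mem_R8set (h3 : (3 : F) = 0) {M : Matrix I8 I8 F} (hM : M ∈ R8set) :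
    ∃ g : GL I8 F, (g : Matrix I8 I8 F) = M := by
  have h4 := pow_four_of_mem_R8set h3 hM
  refine ⟨⟨M, M * M * M, ?_, ?_⟩, rfl⟩
  · rw [← h4]; simp only [Matrix.mul_assoc]
  · rw [← h4]; simp only [Matrix.mul_assoc]

/-- transport of "no elementary abelian subgroup of order `N`" along an isomorphism -/
theorem minusType_transport' {G₁ G₂ : Type*} [Group G₁] [Group G₂] (ψ : G₁ ≃* G₂) (N : ℕ)
    (h : ∀ A : Subgroup G₁, IsMulCommutative A → (∀ x ∈ A, x * x = 1) → Nat.card A < N) :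
    ∀ A : Subgroup G₂, IsMulCommutative A → (∀ x ∈ A, x * x = 1) → Nat.card A < N := by
  intro A hcomm hsq
  let α : A ≃* A.map ψ.symm.toMonoidHom := ψ.symm.subgroupMap A
  have h1 := h (A.map ψ.symm.toMonoidHom)
    (Cfsg.Agent.Lib.Helper49.U92Transport.isMulCommutative_of_mulEquiv' α hcomm) (by
    rintro _ ⟨x, hx, rfl⟩
    have := hsq x hx
    change ψ.symm x * ψ.symm x = 1
    rw [← map_mul, this, map_one])
  rwa [Nat.card_congr α.toEquiv]

/-- the Gram matrix of a symplectic form on `F²` is alternating -/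
theorem gram_alt {f : (Fin 2 → F) → (Fin 2 → F) → F} (hf : IsSymplecticForm f) :
    gramMatrix f 0 0 = 0 ∧ gramMatrix f 1 1 = 0 ∧ gramMatrix f 0 1 = - gramMatrix f 1 0 :=
  ⟨hf.alternating _, hf.alternating _, hf.skew _ _⟩

/-- the tensor-power form in matrix language -/
theorem tensorPower_sum_eq (G : Matrix (Fin 2) (Fin 2) F) (x y : I8 → F) :
    ∑ a, ∑ b, x a * (∏ i, G (a i) (b i)) * id (y b) = x ⬝ᵥ (cube G *ᵥ y) := by
  simp only [dotProduct, Matrix.mulVec, cube, PT_apply, id, Finset.mul_sum, mul_assoc]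

theorem card_I8 : Fintype.card I8 = 8 := by
  simp

theorem card_K8 : Fintype.card K8 = 8 := by
  simp

theorem dot_conj {ι : Type*} [Fintype ι] (g J : Matrix ι ι F) (x y : ι → F) :
    (g *ᵥ x) ⬝ᵥ (J *ᵥ (g *ᵥ y)) = x ⬝ᵥ ((gᵀ * J * g) *ᵥ y) := by
  rw [← Matrix.vecMul_transpose, ← Matrix.dotProduct_mulVec, Matrix.mulVec_mulVec, Matrix.mulVec_mulVec,
    Matrix.mul_assoc]

theorem card_scalars_three (hq : Fintype.card F = 3) {κ : Type} [Fintype κ] [DecidableEq κ] [Nonempty κ] :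
    Nat.card (scalars κ F) = 2 := by
  classical
  unfold scalars
  obtain ⟨k0⟩ := ‹Nonempty κ›
  have hinj : Function.Injective
      (Units.map (Matrix.scalar κ : F →+* Matrix κ κ F).toMonoidHom) := by
    intro a b hab
    have h1 := congrArg (fun g : (Matrix κ κ F)ˣ => (g : Matrix κ κ F)) hab
    have h2 := congrFun (congrFun h1 k0) k0
    simp [Matrix.scalar_apply] at h2
    exact Units.ext h2
  rw [← Nat.card_congr (MonoidHom.ofInjective hinj).toEquiv, Nat.card_units, Nat.card_eq_fintype_card, hq]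

/-- the main construction, with the transport isomorphism made explicit -/
theorem tw3_core (hq : Fintype.card F = 3) (e' : K8 ≃ I8) (P' : GL K8 F)
    (f₁' : (Fin 2 → F) → (Fin 2 → F) → F) (hf₁' : IsSymplecticForm f₁')
    (hT : IsTensorPowerFormStructure id (sympForm 4 F) f₁' e' P') :
    ∃ R : Subgroup (GL K8 F), IsSymplecticTypeGroup 2 R ∧
      ActsAbsolutelyIrreducibly (matrixSet R) ∧ R ≤ similarityGroup (sympForm 4 F) ∧ Nat.card R = 128 ∧
      Nat.card (Subgroup.center R) = 2 ∧ IsOfMinusType 3 R ∧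
      tensorWreathSubgroup 2 3 e' P' ≤ subgroupNormalizer R := by
  classical
  have h3 : (3 : F) = 0 := three_eq_zero hq
  have h2 : (2 : F) ≠ 0 := two_ne_zero3 hq
  obtain ⟨R, hR⟩ := exists_R8 (F := F) h3
  obtain ⟨c, hc0, hc⟩ := hT
  set G₁ : Matrix (Fin 2) (Fin 2) F := gramMatrix f₁' with hG₁
  obtain ⟨g00, g11, g01⟩ := gram_alt hf₁'
  -- the form in the tensor frame
  have hform : ∀ x y : I8 → F,
      sympForm 4 F ((P' : Matrix K8 K8 F) *ᵥ (x ∘ e')) ((P' : Matrix K8 K8 F) *ᵥ (y ∘ e')) =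
        c * (x ⬝ᵥ (cube G₁ *ᵥ y)) := by
    intro x y
    rw [hc x y, tensorPower_sum_eq]
  -- the transport isomorphism
  let ψ : GL I8 F ≃* GL K8 F := (glReindex e'.symm).trans (MulAut.conj P')
  have hψ : ∀ g : GL I8 F, ψ g = P' * glReindex e'.symm g * P'⁻¹ := fun g => rfl
  have hψval : ∀ g : GL I8 F, ((ψ g : GL K8 F) : Matrix K8 K8 F) =
      (P' : Matrix K8 K8 F) * (g : Matrix I8 I8 F).submatrix e' e' * ((P'⁻¹ : GL K8 F) : Matrix K8 K8 F) := by
    intro g
    rw [hψ, Units.val_mul, Units.val_mul]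
    rfl
  have hPP : (P' : Matrix K8 K8 F) * ((P'⁻¹ : GL K8 F) : Matrix K8 K8 F) = 1 := by
    rw [← Units.val_mul, mul_inv_cancel, Units.val_one]
  have hPP' : ((P'⁻¹ : GL K8 F) : Matrix K8 K8 F) * (P' : Matrix K8 K8 F) = 1 := by
    rw [← Units.val_mul, inv_mul_cancel, Units.val_one]
  set R' : Subgroup (GL K8 F) := R.map ψ.toMonoidHom with hR'
  have hmemR' : ∀ g ∈ R, ψ g ∈ R' := fun g hg => ⟨g, hg, rfl⟩
  -- symplectic type
  have hsymp : IsSymplecticTypeGroup 2 R' :=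
    Cfsg.Agent.Lib.Helper99.U92.isSymplecticTypeGroup_map ψ 2 R (isSymplecticTypeGroup_R8 hq R hR)
  -- absolute irreducibility
  have habs : ActsAbsolutelyIrreducibly (matrixSet R') := by
    apply Cfsg.Agent.Lib.Helper99.U92.absIrred_of_span_eq_top
    rw [eq_top_iff]
    intro N _
    let Φ : Matrix I8 I8 F →ₗ[F] Matrix K8 K8 F :=
      (LinearMap.mulLeft F (P' : Matrix K8 K8 F)) ∘ₗ
        (LinearMap.mulRight F ((P'⁻¹ : GL K8 F) : Matrix K8 K8 F)) ∘ₗ
        (Matrix.reindexLinearEquiv F F e'.symm e'.symm).toLinearMap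
    have hΦ : ∀ M, Φ M = (P' : Matrix K8 K8 F) *
        (Matrix.reindex e'.symm e'.symm M * ((P'⁻¹ : GL K8 F) : Matrix K8 K8 F)) := fun M => rfl
    set M₀ : Matrix I8 I8 F := Matrix.reindex e' e'
      (((P'⁻¹ : GL K8 F) : Matrix K8 K8 F) * N * (P' : Matrix K8 K8 F)) with hM₀
    have hN : N = Φ M₀ := by
      rw [hΦ, hM₀]
      simp only [Matrix.reindex_apply, Matrix.submatrix_submatrix, Equiv.symm_symm,
        Equiv.symm_comp_self, Matrix.submatrix_id_id]
      calc N = ((P' : Matrix K8 K8 F) * ((P'⁻¹ : GL K8 F) : Matrix K8 K8 F)) * N *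
            ((P' : Matrix K8 K8 F) * ((P'⁻¹ : GL K8 F) : Matrix K8 K8 F)) := by
            rw [hPP, one_mul, mul_one]
        _ = _ := by simp only [mul_assoc]
    have hM₀mem : M₀ ∈ Submodule.span F (R8set : Set (Matrix I8 I8 F)) := by
      rw [span_R8set h3]; trivial
    have hle : (Submodule.span F (R8set : Set (Matrix I8 I8 F))).map Φ ≤ Submodule.span F (matrixSet R') := by
      rw [Submodule.map_span]
      apply Submodule.span_mono
      rintro _ ⟨M, hM, rfl⟩
      obtain ⟨g, hg⟩ := exists_unit_of_mem_R8set h3 hM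
      have hgR : g ∈ R := (hR g).mpr (by rw [hg]; exact hM)
      refine ⟨ψ g, hmemR' g hgR, ?_⟩
      show ((ψ g : GL K8 F) : Matrix K8 K8 F) = Φ M
      rw [hΦ, hψval, hg, Matrix.mul_assoc]
      rfl
    rw [hN]
    exact hle ⟨M₀, hM₀mem, rfl⟩
  -- the elements of `R'` are isometries
  have hiso : ∀ g ∈ R, ∀ u v : K8 → F,
      sympForm 4 F (((ψ g : GL K8 F) : Matrix K8 K8 F) *ᵥ u) (((ψ g : GL K8 F) : Matrix K8 K8 F) *ᵥ v) =
        sympForm 4 F u v := by
    intro g hg u v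
    have hgM := (hR g).mp hg
    have key : ∀ w : K8 → F, ∃ x : I8 → F, (P' : Matrix K8 K8 F) *ᵥ (x ∘ e') = w ∧
        ((ψ g : GL K8 F) : Matrix K8 K8 F) *ᵥ w = (P' : Matrix K8 K8 F) *ᵥ (((g : Matrix I8 I8 F) *ᵥ x) ∘ e') := by
      intro w
      refine ⟨(((P'⁻¹ : GL K8 F) : Matrix K8 K8 F) *ᵥ w) ∘ e'.symm, ?_, ?_⟩
      · have : ((((P'⁻¹ : GL K8 F) : Matrix K8 K8 F) *ᵥ w) ∘ e'.symm) ∘ e' =
            ((P'⁻¹ : GL K8 F) : Matrix K8 K8 F) *ᵥ w := by
          funext k; simp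
        rw [this, Matrix.mulVec_mulVec, hPP, Matrix.one_mulVec]
      · rw [hψval, ← Matrix.mulVec_mulVec, ← Matrix.mulVec_mulVec]
        congr 1
        rw [Matrix.submatrix_mulVec_equiv]
    obtain ⟨x, hx1, hx2⟩ := key u
    obtain ⟨y, hy1, hy2⟩ := key v
    rw [hx2, hy2, hform, dot_conj, transpose_mul_cube_mul h3 G₁ g00 g11 g01 hgM, ← hform, hx1, hy1]
  have hsim : R' ≤ similarityGroup (sympForm 4 F) := by
    rintro _ ⟨g, hg, rfl⟩
    refine ⟨1, fun u v => ?_⟩
    rw [Units.val_one, one_mul]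
    exact hiso g hg u v
  -- the scalars `± 1` lie in `R'`
  have hscal : scalars K8 F ≤ R' := by
    intro z hz
    obtain ⟨d, hd⟩ := (mem_scalars_iff z).mp hz
    rcases eq_zero_or_one_or_neg_one hq (d : F) with h0 | h1 | h1
    · exact absurd h0 d.ne_zero
    · have : z = 1 := by
        apply Units.ext
        rw [hd, h1, one_smul, Units.val_one]
      rw [this]
      exact R'.one_mem
    · obtain ⟨g, hg⟩ := exists_unit_of_mem_R8set h3 (neg_one_mem_R8set (F := F))
      have hgR : g ∈ R := (hR g).mpr (by rw [hg]; exact neg_one_mem_R8set)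
      have : z = ψ g := by
        apply Units.ext
        rw [hd, h1, hψval, hg]
        have : (-1 : Matrix I8 I8 F).submatrix e' e' = -1 := by
          ext a b
          simp [Matrix.one_apply]
        rw [this, Matrix.mul_neg, Matrix.mul_one, Matrix.neg_mul, hPP, neg_one_smul]
      rw [this]
      exact hmemR' g hgR
  have hZ : Nat.card (Subgroup.center R') = 2 := by
    rw [Cfsg.Agent.Lib.Helper99.SympTypeCard.card_center_eq_card_inf_scalars_gen R' habs,
      inf_eq_right.mpr hscal]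
    exact card_scalars_three hq
  have hcard : Nat.card R' = 128 := by
    rw [Cfsg.Agent.Lib.Helper99.SympTypeCard.card_eq_of_isSymplecticTypeGroup_gen 2 R' hsymp habs, hZ, card_K8]
    norm_num
  -- every vector is `P' (x ∘ e')`
  have hsurj : ∀ w : K8 → F, ∃ x : I8 → F, (P' : Matrix K8 K8 F) *ᵥ (x ∘ e') = w := by
    intro w
    refine ⟨(((P'⁻¹ : GL K8 F) : Matrix K8 K8 F) *ᵥ w) ∘ e'.symm, ?_⟩
    have : ((((P'⁻¹ : GL K8 F) : Matrix K8 K8 F) *ᵥ w) ∘ e'.symm) ∘ e' =
        ((P'⁻¹ : GL K8 F) : Matrix K8 K8 F) *ᵥ w := by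
      funext k; simp
    rw [this, Matrix.mulVec_mulVec, hPP, Matrix.one_mulVec]
  -- minus type, on the tensor level
  have hminusR : IsOfMinusType 3 R := by
    refine Cfsg.Agent.Lib.Helper49.MinusType.isOfMinusType_three_of_trace h2 card_I8 (cube G₁) ?_ ?_ R ?_ ?_
    · -- the Gram matrix of the cube is invertible
      have hdet : (cube G₁).det ≠ 0 := by
        rw [← Matrix.separatingLeft_iff_det_ne_zero, Matrix.separatingLeft_def]
        intro v hv
        have hv0 : (P' : Matrix K8 K8 F) *ᵥ (v ∘ e') = 0 := by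
          by_contra hne
          obtain ⟨z, hz⟩ := exists_sympForm_ne_zero _ hne
          obtain ⟨y, hy⟩ := hsurj z
          apply hz
          rw [← hy, hform, hv y, mul_zero]
        have hv1 : v ∘ e' = 0 := by
          have := congrArg (fun t => ((P'⁻¹ : GL K8 F) : Matrix K8 K8 F) *ᵥ t) hv0
          simpa [Matrix.mulVec_mulVec, hPP'] using this
        funext a
        have := congrFun hv1 (e'.symm a)
        simpa using this
      exact isUnit_iff_ne_zero.mpr hdet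
    · intro u
      have := hform u u
      rw [sympForm_self] at this
      rcases mul_eq_zero.mp this.symm with h | h
      · exact absurd h hc0
      · exact h
    · intro g hg
      exact transpose_mul_cube_mul h3 G₁ g00 g11 g01 ((hR g).mp hg)
    · intro g hg h1 h2'
      exact trace_of_mem_R8set ((hR g).mp hg) h1 h2'
  have hminus : IsOfMinusType 3 R' :=
    minusType_transport' (R.equivMapOfInjective ψ.toMonoidHom ψ.injective) (2 ^ (3 + 1)) hminusR
  -- the tensor wreath group normalises `R'`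
  have hconj : ∀ t ∈ tensorWreathStandard 2 3 F, ∀ x ∈ R', ψ t * x * (ψ t)⁻¹ ∈ R' := by
    rintro t ht _ ⟨r, hr, rfl⟩
    have hmem : t * r * t⁻¹ ∈ R := by
      rw [hR, Units.val_mul, Units.val_mul]
      exact conj_mem_R8set hq t ht ((hR r).mp hr)
    have : ψ t * ψ.toMonoidHom r * (ψ t)⁻¹ = ψ (t * r * t⁻¹) := by
      rw [map_mul, map_mul, map_inv]
      rfl
    rw [this]
    exact hmemR' _ hmem
  refine ⟨R', hsymp, habs, hsim, hcard, hZ, hminus, ?_⟩
  intro h hh
  unfold tensorWreathSubgroup at hh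
  obtain ⟨h1, ⟨t, ht, rfl⟩, rfl⟩ := hh
  have hψt : (MulAut.conj P').toMonoidHom ((glReindex e'.symm).toMonoidHom t) = ψ t := rfl
  rw [hψt]
  unfold subgroupNormalizer
  rw [Subgroup.mem_normalizer_iff]
  intro x
  constructor
  · intro hx
    exact hconj t ht x hx
  · intro hx
    have := hconj t⁻¹ ((tensorWreathStandard 2 3 F).inv_mem ht) _ hx
    rw [map_inv] at this
    simpa [mul_assoc] using this

end Cfsg.Agent.Lib.Helper49.Tw3

namespace Cfsg.Agent.Lib.Helper94.BHRSP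

open Cfsg Cfsg.Geo
open scoped MatrixGroups Matrix Kronecker

variable {F : Type*} [Field F] [Fintype F]

/-- **[E-SP8-TW3]** `|F| = 3`: the tensor-induced `Sp_2(3) ≀ S_3` in `Sp_8(3)` normalises `Q_8 ⊗ Q_8 ⊗ Q_8 ≅ 2_-^(1+6)`
(with all the class-6 data). -/
theorem tensor_wreath_sp8_card_three (hq : Fintype.card F = 3) (e' : (Fin 4 ⊕ Fin 4) ≃ (Fin 3 → Fin 2)) (P' : GL (Fin 4 ⊕ Fin 4) F)
    (f₁' : (Fin 2 → F) → (Fin 2 → F) → F) (hf₁' : IsSymplecticForm f₁')
    (hT : IsTensorPowerFormStructure id (sympForm 4 F) f₁' e' P') :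
    ∃ R : Subgroup (GL (Fin 4 ⊕ Fin 4) F), IsSymplecticTypeGroup 2 R ∧
      ActsAbsolutelyIrreducibly (matrixSet R) ∧ R ≤ similarityGroup (sympForm 4 F) ∧ Nat.card R = 128 ∧
      Nat.card (Subgroup.center R) = 2 ∧ IsOfMinusType 3 R ∧
      tensorWreathSubgroup 2 3 e' P' ⊓ spGL 4 F ≤ subgroupNormalizer R ⊓ spGL 4 F := by
  obtain ⟨R, h1, h2, h3, h4, h5, h6, h7⟩ := Cfsg.Agent.Lib.Helper49.Tw3.tw3_core hq e' P' f₁' hf₁' hT
  exact ⟨R, h1, h2, h3, h4, h5, h6, inf_le_inf_right _ h7⟩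

end Cfsg.Agent.Lib.Helper94.BHRSP
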