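/-
helper49 library (S2279, module [END], hedge): a subgroup of `SL_{m+4}(F)` containing the Jordan block `J` and
all the transvections `tv (s • e_last) (e₀ Jʷ)`, `w ≤ m + 2`, is everything.
-/
import Mathlib
import Cfsg.Agent.Lib.Helper39.RankOne
import Cfsg.Agent.Lib.Helper39.JordanMat
import Cfsg.Agent.Lib.Helper39.JordanGen
import Cfsg.Agent.Lib.Helper5.SLGen
import Cfsg.Agent.Lib.Helper53.TwoReg.Defs
import Cfsg.Agent.Lib.Helper53.TwoReg.Mats1

set_option autoImplicit false
set_option linter.unusedSectionVars false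

namespace Cfsg.Agent.Lib.Helper49.TwoRegEnd

open Matrix Cfsg.Agent.Lib.Helper39.RankOne Cfsg.Agent.Lib.Helper39.JordanMat
  Cfsg.Agent.Lib.Helper39.JordanGen Cfsg.Agent.Lib.Helper53.TwoReg

variable {F : Type*} [Field F]

/-- row `k` of `Jmat` -/
theorem single_vecMul_Jmat_row {n : ℕ} (k k' : Fin n) (hk : k'.val = k.val + 1) (c : F) :
    Pi.single k c ᵥ* (Jmat n : Matrix (Fin n) (Fin n) F) = Pi.single k c + Pi.single k' c := by
  ext j
  rw [Matrix.single_vecMul, Pi.smul_apply, Pi.add_apply]
  simp only [Matrix.row_apply, Jmat_apply, Pi.single_apply, smul_eq_mul]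
  by_cases h1 : j = k
  · subst h1
    have : j ≠ k' := fun h => by rw [← h] at hk; omega
    simp [this]
  · by_cases h2 : j = k'
    · subst h2
      have h1' : k ≠ j := fun h => h1 h.symm
      simp [h1, hk, h1']
    · have : ¬ j.val = k.val + 1 := fun h => h2 (Fin.ext (by omega))
      have h1' : k ≠ j := fun h => h1 h.symm
      simp [h1, h2, this, h1']

theorem Jpow_mul_Jinvpow (n w : ℕ) :
    (Jmat n : Matrix (Fin n) (Fin n) F) ^ w * (Jinv n) ^ w = 1 := by
  have hc : Commute (Jmat n : Matrix (Fin n) (Fin n) F) (Jinv n) := by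
    unfold Commute SemiconjBy
    rw [Jmat_mul_Jinv, Jinv_mul_Jmat]
  rw [← hc.mul_pow, Jmat_mul_Jinv, one_pow]

theorem InH_pow {n : ℕ} {H : Subgroup (SpecialLinearGroup (Fin n) F)} {M : Matrix (Fin n) (Fin n) F}
    (h : InH H M) (w : ℕ) : InH H (M ^ w) := by
  induction w with
  | zero => rw [pow_zero]; exact InH.one H
  | succ w ih => rw [pow_succ]; exact ih.mul h

/-- the last column of `J ^ w` -/
theorem Jpow_mulVec_eLast (m w : ℕ) (i : Fin (m + 4)) :
    ((Jmat (m + 4) : Matrix (Fin (m + 4)) (Fin (m + 4)) F) ^ w *ᵥ eLast m) i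
      = ((w.choose (m + 3 - i.val) : ℕ) : F) := by
  unfold eLast
  rw [Matrix.mulVec_single_one]
  show ((Jmat (m + 4) : Matrix (Fin (m + 4)) (Fin (m + 4)) F) ^ w) i (Fin.last (m + 3)) = _
  rw [Jmat_pow_apply]
  have : i.val ≤ (Fin.last (m + 3)).val := by have := i.isLt; simp; omega
  rw [if_pos this]
  simp

section main

variable (m : ℕ) (H : Subgroup (SpecialLinearGroup (Fin (m + 4)) F))
  (hJ : InH H (Jmat (m + 4) : Matrix (Fin (m + 4)) (Fin (m + 4)) F))
  (hall : ∀ w, w + 2 ≤ m + 4 → ∀ s : F, InH H (tv (s • avec m 0) (acov m w)))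

include hJ hall

/-- (D1a) conjugating by `J ^ w` -/
theorem col_mem (w : ℕ) (hw : w + 2 ≤ m + 4) (s : F) :
    InH H (tv (s • ((Jmat (m + 4) : Matrix (Fin (m + 4)) (Fin (m + 4)) F) ^ w *ᵥ eLast m)) (eZero m)) := by
  have h0 := hall w hw s
  have h1 := (InH_pow hJ w).conj (Jpow_mul_Jinvpow (m + 4) w) h0
  have e1 : acov m w ᵥ* (Jinv (m + 4) : Matrix (Fin (m + 4)) (Fin (m + 4)) F) ^ w = eZero m := by
    unfold acov
    rw [Matrix.vecMul_vecMul, Jpow_mul_Jinvpow, Matrix.vecMul_one]
  have e2 : (avec m 0 : Fin (m + 4) → F) = eLast m := by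
    unfold avec
    rw [pow_zero, Matrix.one_mulVec]
  rw [e1, e2, Matrix.mulVec_smul] at h1
  exact h1

/-- (D1b) triangular induction -/
theorem D_zero_aux (r : ℕ) (hr : r + 2 ≤ m + 4) (x : Fin (m + 4) → F)
    (hx : ∀ i : Fin (m + 4), i.val + r < m + 3 → x i = 0) : InH H (tv x (eZero m)) := by
  induction r generalizing x with
  | zero =>
    have h := col_mem m H hJ hall 0 hr (x (Fin.last (m + 3)))
    have e : (x (Fin.last (m + 3))) • ((Jmat (m + 4) : Matrix (Fin (m + 4)) (Fin (m + 4)) F) ^ 0 *ᵥ eLast m) = x := by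
      rw [pow_zero, Matrix.one_mulVec]
      ext i
      unfold eLast
      simp only [Pi.smul_apply, Pi.single_apply, smul_eq_mul]
      by_cases hi : i = Fin.last (m + 3)
      · subst hi; simp
      · rw [if_neg hi, mul_zero]
        symm
        apply hx
        have : i.val ≠ m + 3 := fun h => hi (Fin.ext (by simpa using h))
        have := i.isLt
        omega
    rwa [e] at h
  | succ r ih =>
    have hi0 : m + 2 - r < m + 4 := by omega
    set i0 : Fin (m + 4) := ⟨m + 2 - r, hi0⟩ with hi0def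
    set v : Fin (m + 4) → F := (Jmat (m + 4) : Matrix (Fin (m + 4)) (Fin (m + 4)) F) ^ (r + 1) *ᵥ eLast m with hv
    have hvi : ∀ i : Fin (m + 4), v i = (((r + 1).choose (m + 3 - i.val) : ℕ) : F) := fun i =>
      Jpow_mulVec_eLast m (r + 1) i
    have h1 := col_mem m H hJ hall (r + 1) hr (x i0)
    set y : Fin (m + 4) → F := x - (x i0) • v with hy
    have hy0 : ∀ i : Fin (m + 4), i.val + r < m + 3 → y i = 0 := by
      intro i hi
      rw [hy, Pi.sub_apply, Pi.smul_apply, smul_eq_mul, hvi]
      by_cases hii : i = i0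
      · subst hii
        have : m + 3 - (i0 : Fin (m + 4)).val = r + 1 := by simp [hi0def]; omega
        rw [this, Nat.choose_self]
        simp
      · have hne : i.val ≠ m + 2 - r := fun h => hii (Fin.ext (by simpa [hi0def] using h))
        have hlt : i.val + (r + 1) < m + 3 := by omega
        rw [hx i hlt, Nat.choose_eq_zero_of_lt (by omega)]
        simp
    have h2 := ih (by omega) y hy0
    have hz : eZero m ⬝ᵥ y = 0 := by
      unfold eZero
      rw [single_one_dot]
      apply hy0
      simp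
      omega
    have h3 := h1.mul h2
    rw [tv_mul_tv _ _ _ hz] at h3
    have e : (x i0) • v + y = x := by rw [hy]; abel
    rwa [e] at h3

/-- (D1) the full transvection group with covector `e₀` -/
theorem D_zero (x : Fin (m + 4) → F) (hx : x 0 = 0) : InH H (tv x (Pi.single 0 1)) := by
  have := D_zero_aux m H hJ hall (m + 2) (by omega) x (by
    intro i hi
    have : i = 0 := Fin.ext (by rw [Fin.val_zero]; omega)
    rw [this, hx])
  exact this

/-- (D2) the full transvection group with covector `e_j`, for every `j` -/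
theorem D_all (j : Fin (m + 4)) (a : Fin (m + 4) → F) (ha : a j = 0) : InH H (tv a (Pi.single j 1)) := by
  have hJJ' : (Jmat (m + 4) : Matrix (Fin (m + 4)) (Fin (m + 4)) F) * Jinv (m + 4) = 1 := Jmat_mul_Jinv _
  have hJ'J : (Jinv (m + 4) : Matrix (Fin (m + 4)) (Fin (m + 4)) F) * Jmat (m + 4) = 1 := Jinv_mul_Jmat _
  have hJ' : InH H (Jinv (m + 4) : Matrix (Fin (m + 4)) (Fin (m + 4)) F) := hJ.of_mul_eq_one hJJ'
  have main : ∀ k : ℕ, ∀ j : Fin (m + 4), j.val = k → ∀ a : Fin (m + 4) → F, a j = 0 →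
      InH H (tv a (Pi.single j 1)) := by
    intro k
    induction k with
    | zero =>
      intro j hj a ha
      have : j = 0 := Fin.ext (by simpa using hj)
      subst this
      exact D_zero m H hJ hall a ha
    | succ k ih =>
      intro j' hj' a ha
      have hjn : k < m + 4 := by have := j'.isLt; omega
      set j : Fin (m + 4) := ⟨k, hjn⟩ with hj
      have hjj' : j ≠ j' := by intro h; have := congrArg Fin.val h; simp [hj] at this; omega
      have ihD := ih j rfl
      set δ : Fin (m + 4) → F := Pi.single j 1 + Pi.single j' 1 with hδ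
      have hrow : Pi.single j (1 : F) ᵥ* (Jmat (m + 4) : Matrix (Fin (m + 4)) (Fin (m + 4)) F) = δ :=
        single_vecMul_Jmat_row j j' (by simp [hj, hj']) 1
      -- (i) the transvection group with covector δ
      have hPδ : ∀ b : Fin (m + 4) → F, δ ⬝ᵥ b = 0 → InH H (tv b δ) := by
        intro b hb
        have h0 : ((Jmat (m + 4) : Matrix (Fin (m + 4)) (Fin (m + 4)) F) *ᵥ b) j = 0 := by
          rw [← single_one_dot j ((Jmat (m + 4) : Matrix (Fin (m + 4)) (Fin (m + 4)) F) *ᵥ b),
            Matrix.dotProduct_mulVec, hrow, hb]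
        have h1 := ihD ((Jmat (m + 4) : Matrix (Fin (m + 4)) (Fin (m + 4)) F) *ᵥ b) h0
        have h2 := hJ'.conj hJ'J h1
        rwa [Matrix.mulVec_mulVec, hJ'J, Matrix.one_mulVec, hrow] at h2
      -- (ii) move δ to e_{j'}
      set w : Fin (m + 4) → F := Pi.single j' 1 with hw
      have hwj : w j = 0 := Pi.single_eq_of_ne hjj' _
      have hwj' : w j' = 1 := Pi.single_eq_same _ _
      have hjw : Pi.single j (1 : F) ⬝ᵥ w = 0 := by rw [single_one_dot, hwj]
      have hg' : InH H (tv w (Pi.single j 1)) := ihD w hwj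
      have hgg : tv w (Pi.single j (1 : F)) * tv (-w) (Pi.single j 1) = 1 := tv_mul_tv_neg _ _ hjw
      have hδw : δ ⬝ᵥ w = 1 := by
        rw [hδ, add_dotProduct, single_one_dot, single_one_dot, hwj, hwj', zero_add]
      have hδtv : δ ᵥ* tv (-w) (Pi.single j 1) = Pi.single j' 1 := by
        rw [vecMul_tv, dotProduct_neg, hδw, hδ]
        ext i
        simp only [Pi.add_apply, Pi.smul_apply, smul_eq_mul]
        ring
      set b' : Fin (m + 4) → F := tv (-w) (Pi.single j 1) *ᵥ a with hb'
      have hb'eq : b' = a + (a j) • (-w) := by rw [hb', tv_mulVec, single_one_dot]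
      have hδb' : δ ⬝ᵥ b' = 0 := by
        rw [hb'eq, hδ, add_dotProduct, single_one_dot, single_one_dot]
        simp only [Pi.add_apply, Pi.smul_apply, Pi.neg_apply, smul_eq_mul, hwj', hwj, ha]
        ring
      have h3 := hPδ b' hδb'
      have h4 := hg'.conj hgg h3
      rwa [hδtv, hb', Matrix.mulVec_mulVec, hgg, Matrix.one_mulVec] at h4
  exact main j.val j rfl a ha

/-- S2279-[END] -/
theorem eq_top_of_all : H = ⊤ := by
  have hD := D_all m H hJ hall
  rw [eq_top_iff, ← Cfsg.Agent.Lib.Helper5.closure_transvection_eq_top, Subgroup.closure_le]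
  rintro g ⟨i, j, hij, c, rfl⟩
  apply InH.mem
  rw [SpecialLinearGroup.transvection_coe, one_add_single_eq_tv]
  exact hD j _ (Pi.single_eq_of_ne (Ne.symm hij) _)

end main

end Cfsg.Agent.Lib.Helper49.TwoRegEnd
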