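import Mathlib
import Cfsg.Prelude.Def_GeometricClasses
import Cfsg.Agent.Lib.Helper99.AschDefs
import Cfsg.Agent.Lib.Helper99.U92.Defs
import Cfsg.Agent.Lib.Helper21.U92R9Group
import Cfsg.Agent.Lib.Helper49.U92R3Fourier

/-!
# U92-[SYMPTYPE], `_of` form (helper49 hedge, for helper99's U92 sub-sheet)

`R = 3^{1+4}` (underlying set `R9set ω`) is a 3-group of symplectic type and exponent 3, GIVEN the conclusion of
[R9-SYMP] (`cyclic_of_characteristic_R9`) as a hypothesis.
-/

set_option autoImplicit false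
set_option linter.unusedSectionVars false

namespace Cfsg.Agent.Lib.Helper49.U92SympType

open Cfsg Cfsg.Geo Cfsg.Agent.Lib.Helper70.AschU Cfsg.Agent.Lib.Helper99.U92
open Cfsg.Agent.Lib.Helper49.U92R3Fourier
open scoped MatrixGroups Matrix

variable {F : Type*} [Field F] [Fintype F] {σ : F ≃+* F} {ω : F}

theorem pow_three_eq_one_of_mem (hω : ω ^ 2 + ω + 1 = 0) (R : Subgroup (GL I9 F))
    (hR : ∀ g : GL I9 F, g ∈ R ↔ (g : Matrix I9 I9 F) ∈ R9set ω) (g : R) : g ^ 3 = 1 := by
  apply Subtype.ext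
  apply Units.ext
  rw [Subgroup.coe_pow, Units.val_pow_eq_pow_val, Subgroup.coe_one, Units.val_one]
  exact pow_three_of_mem_R9set hω ((hR g.1).mp g.2)

/-- the scalar `ω` as an element of `GL` -/
noncomputable def omegaGL (ω : F) (hω : ω ^ 2 + ω + 1 = 0) : GL I9 F :=
  ⟨ω • 1, ω ^ 2 • 1, by
    rw [Matrix.smul_mul, Matrix.one_mul, smul_smul, ← pow_succ', omega_cube hω, one_smul], by
    rw [Matrix.smul_mul, Matrix.one_mul, smul_smul, ← pow_succ, omega_cube hω, one_smul]⟩

theorem exponent_R9 (hσ : UCtx σ 2) (hω : ω ^ 2 + ω + 1 = 0) (R : Subgroup (GL I9 F))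
    (hR : ∀ g : GL I9 F, g ∈ R ↔ (g : Matrix I9 I9 F) ∈ R9set ω) : Monoid.exponent R = 3 := by
  have hdvd : Monoid.exponent R ∣ 3 :=
    Monoid.exponent_dvd_of_forall_pow_eq_one (pow_three_eq_one_of_mem hω R hR)
  rcases (Nat.dvd_prime Nat.prime_three).mp hdvd with h1 | h3
  · exfalso
    have hsub : Subsingleton R := Monoid.exp_eq_one_iff.mp h1
    have hmem : omegaGL ω hω ∈ R := by
      rw [hR]
      have := smul_one_mem_R9set (ω := ω) 1
      rw [pow_one] at this
      exact this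
    have heq : (⟨omegaGL ω hω, hmem⟩ : R) = 1 := Subsingleton.elim _ _
    have h2 : ((omegaGL ω hω : GL I9 F) : Matrix I9 I9 F) = 1 := by
      have := congrArg (fun g : R => ((g : GL I9 F) : Matrix I9 I9 F)) heq
      simpa using this
    have h3 : ω = 1 := by
      have := congrFun (congrFun h2 (fun _ => 0)) (fun _ => 0)
      simpa [omegaGL] using this
    exact omega_ne_one' (two_eq_zero_of_card hσ.card) hω h3
  · exact h3

/-- U92-[SYMPTYPE] with the conclusion of [R9-SYMP] as a hypothesis. -/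
theorem isSymplecticTypeGroup_R9_of (hσ : UCtx σ 2) (hω : ω ^ 2 + ω + 1 = 0) (R : Subgroup (GL I9 F))
    (hR : ∀ g : GL I9 F, g ∈ R ↔ (g : Matrix I9 I9 F) ∈ R9set ω)
    (hsymp : ∀ A : Subgroup R, A.Characteristic → IsMulCommutative A → IsCyclic A) :
    IsSymplecticTypeGroup 3 R := by
  refine ⟨Nat.prime_three, ?_, hsymp, ?_⟩
  · intro g
    exact ⟨1, by rw [pow_one]; exact pow_three_eq_one_of_mem hω R hR g⟩
  · rw [exponent_R9 hσ hω R hR]
    rfl

end Cfsg.Agent.Lib.Helper49.U92SympType
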